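import Cfsg.Agent.H24.ClassCount
import Cfsg.Agent.H23.Elem
import Cfsg.Agent.H3.Transfer
import Cfsg.Agent.H2.Coprime
import Cfsg.Agent.H4.Basic

/-! Groups with many classes of `2`-elements are `2`-nilpotent. -/

set_option autoImplicit false

namespace H24
open Subgroup Pointwise Cfsg
open scoped commutatorElement

variable {G : Type*} [Group G] [Finite G]

theorem exists_local_of_not_hasNPC {p : ℕ} [hp : Fact p.Prime] (P : Sylow p G)
    (h : ¬ HasNormalPComplement p G) : ∃ T : Subgroup G, T ≤ P ∧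
      (P : Subgroup G) ⊓ centralizer (T : Set G) ≤ T ∧
      ∃ g ∈ normalizer (T : Set G), g ∉ centralizer (T : Set G) ∧ (orderOf g).Coprime p := by
  obtain ⟨T, hT, hS, g, hg, hgc, q, k, hq, hqp, hk⟩ := H3.exists_of_not_hasNPC P h
  have h1 := hS.inf_normal' (centralizer_le_normalizer _) (H1.normalizer_le_normalizer_centralizer T)
  obtain ⟨c, hc, n, hn, hcn⟩ := h1.frattini (H1.normalizer_le_normalizer_centralizer T hg)
  replace hc := inv_mem hc
  rw [← inv_mul_eq_iff_eq_mul] at hcn
  rw [← hcn] at hn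
  generalize c⁻¹ = c at hc hn
  have hco : (orderOf g).Coprime p := hk ▸ ((Nat.coprime_primes hq hp.out).mpr hqp).pow_left k
  obtain ⟨b, hb, hb1, hb2⟩ := H3.exists_coprime_same_action (y := c * g) hg hco fun a ha => by
    have := hc _ (H1.conj_mem_of_mem_normalizer hg ha)
    calc c * g * a * (c * g)⁻¹ = c * (g * a * g⁻¹) * c⁻¹ := by group
      _ = _ := by rw [← this]; group
  refine ⟨T ⊔ ((P : Subgroup G) ⊓ normalizer (T : Set G) ⊓ centralizer (T : Set G)),
    sup_le hT (inf_le_left.trans inf_le_left), fun x hx => mem_sup_right ?_, b, ?_, fun h => hgc ?_, hb1⟩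
  · have := H1.centralizer_anti le_sup_left hx.2
    exact ⟨⟨hx.1, centralizer_le_normalizer _ this⟩, this⟩
  · exact H1.le_normalizer_sup
      (zpowers_le.mpr (mul_mem (centralizer_le_normalizer _ hc) hg)) (zpowers_le.mpr hn) hb
  · intro a ha
    have h2 := h a (mem_sup_left ha)
    rw [eq_comm, ← mul_inv_eq_iff_eq_mul, ← hb2 a ha, ← h2]
    group

theorem classes_le_add (T C : Subgroup G) (hCT : C ≤ T) {q : ℕ}
    (h : ∀ x ∈ (T : Set G) \ C, q ≤ {y ∈ (T : Set G) \ C | ConjClasses.mk y = ConjClasses.mk x}.ncard) :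
    q * (ConjClasses.mk '' (T : Set G)).ncard + Nat.card C ≤ q * Nat.card C + Nat.card T := by
  have h3 := H23.mul_ncard_image_le ConjClasses.mk ((T : Set G) \ C) (Set.toFinite _) q h
  have h5 : (ConjClasses.mk '' (T : Set G)).ncard ≤
      (ConjClasses.mk '' ((T : Set G) \ C)).ncard + Nat.card C := by
    rw [← Set.diff_union_of_subset (SetLike.coe_subset_coe.mpr hCT), Set.image_union]
    refine (Set.ncard_union_le _ _).trans ?_
    rw [Set.diff_union_of_subset (SetLike.coe_subset_coe.mpr hCT)]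
    exact Nat.add_le_add_left (Set.ncard_image_le (Set.toFinite _)) _
  have h6 := Set.ncard_diff_add_ncard_of_subset (SetLike.coe_subset_coe.mpr hCT)
  change _ + Nat.card C = Nat.card T at h6
  nlinarith [Nat.mul_le_mul_left q h5]

theorem classes_le_of_normalizer {T : Subgroup G} {b : G} (hb : b ∈ normalizer (T : Set G)) {q : ℕ}
    (hq : ∀ j, 0 < j → j < q → j.Coprime (orderOf b)) :
    q * (ConjClasses.mk '' (T : Set G)).ncard + Nat.card (T ⊓ centralizer {b} : Subgroup G) ≤
      q * Nat.card (T ⊓ centralizer {b} : Subgroup G) + Nat.card T := by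
  refine classes_le_add T _ inf_le_left fun x hx => ?_
  have h1 : ∀ i j : ℕ, i < j → j < q → b ^ i * x * (b ^ i)⁻¹ ≠ b ^ j * x * (b ^ j)⁻¹ := by
    intro i j hij hj h
    obtain ⟨k, rfl⟩ := Nat.exists_eq_add_of_lt hij
    have h5 : b ^ (k + 1) ∈ centralizer ({x} : Set G) := mem_cent_iff_conj.mpr (by
      rw [add_assoc, pow_add] at h
      calc _ = (b ^ i)⁻¹ * (b ^ i * b ^ (k + 1) * x * (b ^ i * b ^ (k + 1))⁻¹) * b ^ i := by group
        _ = x := by rw [← h]; group)
    exact hx.2 ⟨hx.1, mem_cent_comm.mp (zpowers_le.mpr h5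
      (mem_zpowers_pow_iff.mpr (hq _ k.succ_pos (by omega))))⟩
  have h2 : Set.InjOn (fun i : ℕ => b ^ i * x * (b ^ i)⁻¹) (Finset.range q : Set ℕ) := by
    intro i hi j hj h
    rw [Finset.coe_range, Set.mem_Iio] at hi hj
    rcases lt_trichotomy i j with h3 | h3 | h3
    · exact absurd h (h1 i j h3 hj)
    · exact h3
    · exact absurd h.symm (h1 j i h3 hi)
  have h3 := h2.ncard_image
  rw [Set.ncard_coe_finset, Finset.card_range] at h3
  rw [← h3]
  refine Set.ncard_le_ncard ?_
  rintro _ ⟨i, -, rfl⟩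
  have : b ^ i ∈ normalizer ((T ⊓ centralizer {b} : Subgroup G) : Set G) :=
    H1.le_normalizer_inf (zpowers_le.mpr hb) (zpowers_le.mpr (le_normalizer (self_mem_cent b)))
      (npow_mem_zpowers b i)
  exact ⟨⟨H1.conj_mem_of_mem_normalizer (pow_mem hb i) hx.1,
    fun h => hx.2 ((mem_normalizer_iff.mp this x).mpr h)⟩,
    ConjClasses.mk_eq_mk_iff_isConj.mpr (isConj_iff.mpr ⟨_, rfl⟩).symm⟩

theorem coprime_of_lt_three {n : ℕ} (h : n.Coprime 2) : ∀ j, 0 < j → j < 3 → j.Coprime n := by
  intro j h1 h2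
  interval_cases j
  · simp
  · exact h.symm

theorem mul_card_le_of_lt {r : ℕ} [Fact r.Prime] {C T : Subgroup G} (hT : IsPGroup r T)
    (h : C < T) : r * Nat.card C ≤ Nat.card T := by
  have := H4.card_mul_le_of_lt hT (M := C.subgroupOf T) (N := ⊤)
    (lt_top_iff_ne_top.mpr fun h1 => h.not_ge (subgroupOf_eq_top.mp h1))
  rwa [H1.card_subgroupOf_of_le h.le, card_top, mul_comm] at this

theorem two_mul_classes_le_of_odd_prime {r : ℕ} [hr : Fact r.Prime] (hr2 : r ≠ 2) {T : Subgroup G}
    (hT : IsPGroup r T) {b : G} (hb : b ∈ normalizer (T : Set G)) (hb' : b ∉ centralizer (T : Set G))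
    (ho : (orderOf b).Coprime 2) (ho' : (orderOf b).Coprime r) :
    2 * (ConjClasses.mk '' (T : Set G)).ncard ≤ Nat.card T := by
  have h1 := mul_card_le_of_lt hT (C := T ⊓ centralizer {b})
    (inf_lt_left.mpr fun h => hb' fun x hx => mem_cent.mp (h hx))
  by_cases h3 : r = 3
  · subst h3
    have := classes_le_of_normalizer hb (q := 5) fun j h1 h2 => by
      interval_cases j
      · simp
      · exact ho.symm
      · exact ho'.symm
      · exact ho.symm.pow_left 2
    omega
  · have := classes_le_of_normalizer hb (coprime_of_lt_three ho)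
    have h4 := Nat.mul_le_mul_right (Nat.card (T ⊓ centralizer {b} : Subgroup G))
      (hr.out.five_le_of_ne_two_of_ne_three hr2 h3)
    omega

theorem two_mul_classes_le_of_not_comm {r : ℕ} [hr : Fact r.Prime] (hr2 : r ≠ 2) {T : Subgroup G}
    (hT : IsPGroup r T) (h : ¬ T ≤ centralizer (T : Set G)) :
    2 * (ConjClasses.mk '' (T : Set G)).ncard ≤ Nat.card T := by
  have hr3 : 3 ≤ r := by have := hr.out.two_le; omega
  obtain ⟨a, ha, ha'⟩ := SetLike.not_le_iff_exists.mp h
  have h1 := mul_card_le_of_lt hT (C := T ⊓ centralizer {a})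
    (inf_lt_left.mpr fun h => ha' fun x hx => mem_cent.mp (h hx))
  have h2 := mul_card_le_of_lt (hT.to_inf_left (K := centralizer {a}))
    (C := T ⊓ centralizer (T : Set G)) (lt_of_le_of_ne (fun x hx => ⟨hx.1, mem_cent.mpr (hx.2 a ha).symm⟩)
      fun h => ha' (h.ge ⟨ha, self_mem_cent a⟩).2)
  have h3 := classes_le_add T (T ⊓ centralizer (T : Set G)) inf_le_left (q := 3) fun x hx => by
    have h4 := card_conj_orbit T x
    have h5 := mul_card_le_of_lt hT (C := centralizer {x} ⊓ T)
      (inf_lt_right.mpr fun h => hx.2 ⟨hx.1, fun y hy => mem_cent.mp (h hy)⟩)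
    rw [← H1.relIndex_mul_card (inf_le_right : centralizer {x} ⊓ T ≤ T), inf_relIndex_right,
      ← h4] at h5
    refine hr3.trans ((Nat.le_of_mul_le_mul_right h5 Nat.card_pos).trans
      (Set.ncard_le_ncard (s := {y : G | ∃ g ∈ T, g * x * g⁻¹ = y}) ?_))
    rintro _ ⟨g, hg, rfl⟩
    have : g ∈ normalizer ((T ⊓ centralizer (T : Set G) : Subgroup G) : Set G) :=
      H1.le_normalizer_inf le_normalizer (H1.le_normalizer_centralizer le_normalizer) hg
    exact ⟨⟨mul_mem (mul_mem hg hx.1) (inv_mem hg),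
      fun h => hx.2 ((mem_normalizer_iff.mp this x).mpr h)⟩,
      ConjClasses.mk_eq_mk_iff_isConj.mpr (isConj_iff.mpr ⟨_, rfl⟩).symm⟩
  nlinarith

theorem two_mul_classes_le_of_odd {T : Subgroup G} (hT : IsPGroup 2 T) {b : G}
    (hb : b ∈ normalizer (T : Set G)) (hb' : b ∉ centralizer (T : Set G))
    (ho : (orderOf b).Coprime 2) : 2 * (ConjClasses.mk '' (T : Set G)).ncard ≤ Nat.card T := by
  set C := T ⊓ centralizer {b} with hC
  have hCT : C ≤ T := inf_le_left
  have hmem : ∀ x ∈ T, ∀ a ∈ zpowers b, a * x * a⁻¹ ∈ C ↔ x ∈ C := fun x hx a ha => by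
    have : a ∈ normalizer (C : Set G) := H1.le_normalizer_inf (zpowers_le.mpr hb)
      (zpowers_le.mpr (le_normalizer (self_mem_cent b))) ha
    exact (mem_normalizer_iff.mp this x).symm
  have h4 : 4 * Nat.card C ≤ Nat.card T := by
    obtain ⟨k, hk⟩ := (hT.to_subgroup ⊤).of_equiv topEquiv |>.index (C.subgroupOf T)
    rw [← H1.relIndex_mul_card hCT]
    refine Nat.mul_le_mul_right _ ?_
    change C.relIndex T = _ at hk
    rcases k with _ | _ | k
    · exact absurd (fun x hx => (mem_cent.mp (relIndex_eq_one.mp hk hx).2)) hb'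
    · exfalso
      apply hb'
      refine H2.le_centralizer_of_stable (A := zpowers b) (N := C) ?_ ?_ ?_ (mem_zpowers b)
      · rw [Nat.card_zpowers]
        exact H2.coprime_card_of_isPGroup (hT.to_le hCT) ho
      · exact zpowers_le.mpr fun x hx => mem_cent.mp hx.2
      · rw [commutator_le]
        intro x hx a ha
        have h1 := H1.conj_mem_of_mem_normalizer (zpowers_le.mpr hb ha) (T.inv_mem hx)
        have := (mul_mem_iff_of_index_two (H := C.subgroupOf T) hk (a := ⟨x, hx⟩) (b := ⟨_, h1⟩)).mpr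
          (by simp only [mem_subgroupOf]; rw [hmem _ (T.inv_mem hx) a ha, inv_mem_iff])
        simpa [mem_subgroupOf, commutatorElement_def, mul_assoc] using this
    · rw [hk, pow_add, pow_add]
      have := Nat.one_le_two_pow (n := k)
      omega
  have h3 := classes_le_of_normalizer hb (coprime_of_lt_three ho)
  rw [← hC] at h3
  omega

theorem two_mul_kq_le (P : Sylow 2 G) (h : ¬ HasNormalPComplement 2 G) :
    2 * H23.kq G (fun n => ∃ k, n = 2 ^ k) ≤ Nat.card P := by
  obtain ⟨T, hT, hZ, b, hb, hb', ho⟩ := exists_local_of_not_hasNPC P h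
  have h1 := two_mul_classes_le_of_odd (P.isPGroup'.to_le hT) hb hb' ho
  rw [H23.kq_pow_eq P]
  set U := {x ∈ ((P : Subgroup G) : Set G) | ConjClasses.mk x ∉ ConjClasses.mk '' (T : Set G)}
  have h2 := H23.two_mul_ncard_image_le ConjClasses.mk U (Set.toFinite _) fun x hx => by
    by_contra h3
    push Not at h3
    refine hx.2 ⟨x, ?_, rfl⟩
    refine hZ ⟨hx.1, fun s hs => ?_⟩
    have h4 : ConjClasses.mk (s * x * s⁻¹) = ConjClasses.mk x :=
      ConjClasses.mk_eq_mk_iff_isConj.mpr (isConj_iff.mpr ⟨s, rfl⟩).symm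
    by_contra h5
    exact h3 _ ⟨mul_mem (mul_mem (hT hs) hx.1) (inv_mem (hT hs)), h4 ▸ hx.2⟩
      (fun h => h5 (mul_inv_eq_iff_eq_mul.mp h)) h4
  have h3 : (ConjClasses.mk '' ((P : Subgroup G) : Set G)).ncard ≤
      (ConjClasses.mk '' U).ncard + (ConjClasses.mk '' (T : Set G)).ncard := by
    refine le_trans (Set.ncard_le_ncard ?_) (Set.ncard_union_le _ _)
    rintro _ ⟨x, hx, rfl⟩
    by_cases h4 : ConjClasses.mk x ∈ ConjClasses.mk '' (T : Set G)
    · exact Or.inr h4
    · exact Or.inl ⟨x, ⟨hx, h4⟩, rfl⟩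
  have h4 : U.ncard ≤ (((P : Subgroup G) : Set G) \ T).ncard :=
    Set.ncard_le_ncard fun x hx => ⟨hx.1, fun h => hx.2 ⟨x, h, rfl⟩⟩
  have h6 := Set.ncard_diff_add_ncard_of_subset (SetLike.coe_subset_coe.mpr hT)
  change _ + Nat.card T = Nat.card P at h6
  omega

theorem card_sylow_le_of_not_sq_dvd {p : ℕ} [hp : Fact p.Prime] (P : Sylow p G) {H : Subgroup G}
    (h : ¬ p ^ 2 ∣ H.index) (R : Sylow p H) : Nat.card P ≤ p * Nat.card R := by
  rw [P.card_eq_multiplicity, R.card_eq_multiplicity, ← pow_succ', ← H.card_mul_index,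
    Nat.factorization_mul Nat.card_pos.ne' index_ne_zero_of_finite]
  refine Nat.pow_le_pow_right hp.out.pos (Nat.add_le_add_left ?_ _)
  by_contra h1
  exact h ((hp.out.pow_dvd_iff_le_factorization index_ne_zero_of_finite).mpr (by omega))

theorem lt_mul_kq_of_not_sq_dvd {p : ℕ} [hp : Fact p.Prime] (P : Sylow p G)
    (h : ∀ x : G, ¬ p ^ 2 ∣ cs x) : Nat.card P < p * H23.kq G (fun n => ∃ k, n = p ^ k) := by
  classical
  haveI := Fintype.ofFinite G
  have h1 := card_classes_mul_card (G := G) fun c => ∀ x ∈ c.carrier, ∃ k, orderOf x = p ^ k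
  simp only [H23.carrier_mk_iff (Q := fun n => ∃ k, n = p ^ k), card_eq_card_filter] at h1
  replace h1 := h1.trans (Finset.sum_card_bipartiteAbove_eq_sum_card_bipartiteBelow
    (fun x y : G => y ∈ centralizer ({x} : Set G)))
  refine Nat.lt_of_mul_lt_mul_right (a := Nat.card G) ?_
  rw [mul_assoc, H23.kq, h1, Finset.mul_sum, mul_comm, Nat.card_eq_fintype_card, ← smul_eq_mul,
    ← Finset.card_univ, ← Finset.sum_const]
  have key : ∀ (y : G) (R : Subgroup G), IsPGroup p R → R ≤ centralizer {y} → Nat.card R ≤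
      ((Finset.univ.filter fun g : G => ∃ k, orderOf g = p ^ k).bipartiteBelow
        (fun x y : G => y ∈ centralizer ({x} : Set G)) y).card := by
    intro y R hR hle
    rw [card_eq_card_filter]
    refine Finset.card_le_card fun x hx => ?_
    simp only [Finset.mem_filter, Finset.mem_univ, true_and, Finset.mem_bipartiteBelow] at hx ⊢
    exact ⟨orderOf_eq_pow_of_mem hR hx, mem_cent_comm.mp (hle hx)⟩
  refine Finset.sum_lt_sum (fun y _ => ?_) ⟨1, Finset.mem_univ _, ?_⟩
  · obtain ⟨R⟩ : Nonempty (Sylow p (centralizer ({y} : Set G))) := inferInstance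
    refine (card_sylow_le_of_not_sq_dvd P (h y) R).trans (Nat.mul_le_mul_left _ ?_)
    rw [← card_map_of_injective (subtype_injective _)]
    exact key y _ (R.isPGroup'.map _) (map_subtype_le _)
  · have := key 1 P P.isPGroup' fun x _ => by simp [mem_cent]
    exact lt_of_lt_of_le (lt_mul_of_one_lt_left Nat.card_pos hp.out.one_lt)
      (Nat.mul_le_mul_left _ this)

theorem hasNPC_two_of_not_four_dvd (h : ∀ x : G, ¬ 4 ∣ cs x) : HasNormalPComplement 2 G := by
  obtain ⟨P⟩ : Nonempty (Sylow 2 G) := inferInstance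
  by_contra h1
  exact absurd (lt_mul_kq_of_not_sq_dvd P h) (not_lt.mpr (two_mul_kq_le P h1))

end H24
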