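import Mathlib
import Cfsg.Agent.H25.Syl

/-! Additive automorphisms of `K³` and the unipotent group `T = {u a}`. -/

set_option autoImplicit false
set_option linter.unnecessarySeqFocus false

namespace H24.SP
open Subgroup H25
attribute [-simp] LinearEquiv.coe_inv

/-- a one-cocycle trick: a homomorphism to a `p`-group vanishing on a subgroup of `p'`-index vanishes -/
theorem ht_abs {G : Type*} [Group G] [Finite G] {p : ℕ} [Fact p.Prime] {U L : Subgroup G}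
    (hs : Syl p U L) (φ : ℤ → G → Prop) (h0 : ∀ g ∈ U, φ 0 g) (h1 : φ 0 1)
    (hmul : ∀ m n g h, φ m g → φ n h → φ (m + n) (g * h)) (hinv : ∀ m g, φ m g → φ (-m) g⁻¹)
    (hp : ∀ m g, φ (p * m) g → φ 0 g) {t : G} (ht : t ∈ L) (h : φ 1 t) : φ 0 t := by
  let N : Subgroup G :=
    { carrier := {g | g ∈ L ∧ ∃ m, φ m g}
      one_mem' := ⟨one_mem _, 0, h1⟩
      mul_mem' := fun ⟨a, m, b⟩ ⟨c, n, d⟩ => ⟨mul_mem a c, _, hmul _ _ _ _ b d⟩
      inv_mem' := fun ⟨a, m, b⟩ => ⟨inv_mem a, _, hinv _ _ b⟩ }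
  let N0 : Subgroup G :=
    { carrier := {g | g ∈ L ∧ φ 0 g}
      one_mem' := ⟨one_mem _, h1⟩
      mul_mem' := fun ⟨a, b⟩ ⟨c, d⟩ => ⟨mul_mem a c, by simpa using hmul _ _ _ _ b d⟩
      inv_mem' := fun ⟨a, b⟩ => ⟨inv_mem a, by simpa using hinv _ _ b⟩ }
  have hU : U ≤ N0 := fun g hg => ⟨hs.le hg, h0 g hg⟩
  have h2 : N0 ≤ N := fun g hg => ⟨hg.1, 0, hg.2⟩
  have h3 : Syl p N0 N := (hs.mono_right (hU.trans h2) fun g hg => hg.1).mono_left hU h2
  have hpow : ∀ m g, φ m g → ∀ n : ℕ, φ (n * m) (g ^ n) := fun m g hg n => by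
    induction n with
    | zero => simpa using h1
    | succ n ih =>
      have := hmul _ _ _ _ ih hg
      rwa [← pow_succ, show (n : ℤ) * m + m = ((n + 1 : ℕ) : ℤ) * m by push_cast; ring] at this
  have h4 := h3.eq_of_pel le_rfl (le_nz_iff.2 fun g ⟨a, m, b⟩ x ⟨c, d⟩ =>
    ⟨mul_mem (mul_mem a c) (inv_mem a), by
      simpa using hmul _ _ _ _ (hmul _ _ _ _ b d) (hinv _ _ b)⟩)
    fun g ⟨a, m, b⟩ => ⟨1, pow_mem a _, hp m _ (by simpa using hpow m g b p)⟩
  exact (h4.ge ⟨ht, 1, h⟩).2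

/-- additive automorphisms -/
abbrev Au (X : Type*) [AddCommGroup X] := X ≃ₗ[ℤ] X

instance finAu {X : Type*} [AddCommGroup X] [Finite X] : Finite (Au X) :=
  Finite.of_injective (fun g : Au X => (g : X → X)) DFunLike.coe_injective

section
variable {X : Type*} [AddCommGroup X] {g h : Au X} {x y : X}

@[simp] theorem inv_ap (g : Au X) (x : X) : g⁻¹ (g x) = x := g.symm_apply_apply x
@[simp] theorem ap_inv (g : Au X) (x : X) : g (g⁻¹ x) = x := g.apply_symm_apply x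
theorem one_ap (x : X) : (1 : Au X) x = x := rfl
theorem mul_ap (g h : Au X) (x : X) : (g * h) x = g (h x) := rfl
theorem inv_fix (h : g x = x) : g⁻¹ x = x := by conv_lhs => rw [← h, inv_ap]
theorem inv_eq_of (h : g x = y) : g⁻¹ y = x := by rw [← h, inv_ap]

theorem pow_pres {P : X → Prop} (h : ∀ x, P x → P (g x)) (n : ℕ) (x : X) (hx : P x) :
    P ((g ^ n) x) := by
  induction n with
  | zero => exact hx
  | succ n ih => rw [pow_succ', mul_ap]; exact h _ ih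

theorem inv_pres [Finite X] {P : X → Prop} (h : ∀ x, P x → P (g x)) (x : X) (hx : P x) :
    P (g⁻¹ x) := by
  obtain ⟨n, hn⟩ := (mem_powers_iff_mem_zpowers (x := g) (y := g⁻¹)).2 (inv_mem (mem_zpowers g))
  rw [← hn]; exact pow_pres h n x hx

theorem pow_shift {δ : X} (h1 : g x = x + δ) (h2 : g δ = δ) (n : ℕ) : (g ^ n) x = x + n • δ := by
  induction n with
  | zero => simp
  | succ n ih => rw [pow_succ', mul_ap, ih, map_add, map_nsmul, h1, h2, succ_nsmul]; abel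

theorem ht {p : ℕ} [Fact p.Prime] [Finite X] {U L : Subgroup (Au X)} (hs : Syl p U L) {δ : X}
    (hp : p • δ = 0) (hU : ∀ g ∈ U, g y = y ∧ g δ = δ) {t : Au X} (ht : t ∈ L) (h1 : t δ = δ)
    (h2 : t y = y + δ) : δ = 0 := by
  have := ht_abs hs (fun m g => g δ = δ ∧ g y = y + m • δ)
    (fun g hg => ⟨(hU g hg).2, by simpa using (hU g hg).1⟩) ⟨rfl, by simp⟩
    (fun m n g h a b => ⟨by rw [mul_ap, b.1, a.1], by
      rw [mul_ap, b.2, map_add, map_zsmul, a.1, a.2, add_smul, add_assoc]⟩)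
    (fun m g a => ⟨inv_fix a.1, inv_eq_of (by
      rw [map_add, map_zsmul, a.1, a.2, add_assoc, ← add_smul]; simp)⟩)
    (fun m g a => ⟨a.1, by rw [a.2, mul_comm, mul_smul, natCast_zsmul, hp]; simp⟩) ht
    ⟨h1, by simpa using h2⟩
  have h3 := this.2
  rw [h2] at h3
  simpa using h3
end

variable {K : Type*} [Field K]

/-- `K³` -/
abbrev V (K : Type*) := K × K × K

/-- the unipotent automorphisms -/
def u (a : K) : Au (V K) where
  toFun v := (v.1, v.2.1 + a * v.1, v.2.2 + 2 * a * v.2.1 + a ^ 2 * v.1)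
  invFun v := (v.1, v.2.1 - a * v.1, v.2.2 - 2 * a * v.2.1 + a ^ 2 * v.1)
  map_add' v w := by ext <;> simp <;> ring
  map_smul' n v := by ext <;> simp <;> ring
  left_inv v := by ext <;> simp <;> ring
  right_inv v := by ext <;> simp <;> ring

theorem u_ap (a : K) (v : V K) :
    u a v = (v.1, v.2.1 + a * v.1, v.2.2 + 2 * a * v.2.1 + a ^ 2 * v.1) := rfl

theorem u_mul (a b : K) : u a * u b = u (a + b) := by
  ext v <;> simp [u_ap] <;> ring

theorem u_zero : u (0 : K) = 1 := by ext v <;> simp [u_ap]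

theorem u_inv (a : K) : (u a)⁻¹ = u (-a) := by
  rw [inv_eq_iff_mul_eq_one, u_mul, add_neg_cancel, u_zero]

theorem u_inj {a b : K} (h : u a = u b) : a = b := by
  simpa [u_ap] using congrArg (fun g : Au (V K) => (g (1, 0, 0)).2.1) h

theorem u_eq_one {a : K} (h : u a = 1) : a = 0 := u_inj (h.trans u_zero.symm)

theorem u_comm (a b : K) : u a * u b = u b * u a := by rw [u_mul, u_mul, add_comm]

theorem u_pow (a : K) (n : ℕ) : u a ^ n = u (n * a) := by
  induction n with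
  | zero => simp [u_zero]
  | succ n ih => rw [pow_succ, ih, u_mul]; congr 1; push_cast; ring

/-- the group of all `u a` -/
def T (K : Type*) [Field K] : Subgroup (Au (V K)) where
  carrier := {g | ∃ a, u a = g}
  one_mem' := ⟨0, u_zero⟩
  mul_mem' := by rintro _ _ ⟨a, rfl⟩ ⟨b, rfl⟩; exact ⟨_, (u_mul a b).symm⟩
  inv_mem' := by rintro _ ⟨a, rfl⟩; exact ⟨_, (u_inv a).symm⟩

theorem u_mem (a : K) : u a ∈ T K := ⟨a, rfl⟩

theorem card_T : Nat.card (T K) = Nat.card K :=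
  (Nat.card_congr (Equiv.ofBijective (fun a : K => (⟨u a, u_mem a⟩ : T K))
    ⟨fun _ _ h => u_inj (congrArg Subtype.val h), fun ⟨_, a, h⟩ => ⟨a, Subtype.ext h⟩⟩)).symm

variable {p : ℕ} [CharP K p]

theorem p_smul (v : V K) : p • v = 0 := by ext <;> simp

theorem pT : IsPGroup p (T K) := by
  rintro ⟨_, a, rfl⟩
  exact ⟨1, Subtype.ext (by simp [u_pow, u_zero])⟩

variable [Fact p.Prime] [Finite K] {L : Subgroup (Au (V K))} {g : Au (V K)}

/-- an element stabilising a chain through subgroups on which `T` acts trivially lies in `T` -/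
theorem chain (hs : Syl p (T K) L) (P Q : AddSubgroup (V K))
    (t1 : ∀ a v, u a v - v ∈ Q) (t2 : ∀ a, ∀ v ∈ Q, u a v - v ∈ P) (t3 : ∀ a, ∀ v ∈ P, u a v = v)
    (hPQ : P ≤ Q)
    (hg : g ∈ L) (h1 : ∀ v, g v - v ∈ Q) (h2 : ∀ v ∈ Q, g v - v ∈ P) (h3 : ∀ v ∈ P, g v = v) :
    g ∈ T K := by
  let U : Subgroup (Au (V K)) :=
    { carrier := {g | g ∈ L ∧ (∀ v, g v - v ∈ Q) ∧ (∀ v ∈ Q, g v - v ∈ P) ∧ ∀ v ∈ P, g v = v}
      one_mem' := ⟨one_mem _, fun v => by simp, fun v _ => by simp, fun _ _ => rfl⟩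
      mul_mem' := by
        rintro g h ⟨a0, a1, a2, a3⟩ ⟨b0, b1, b2, b3⟩
        refine ⟨mul_mem a0 b0, fun v => ?_, fun v hv => ?_, fun v hv => by rw [mul_ap, b3 v hv, a3 v hv]⟩
        · simpa using add_mem (a1 (h v)) (b1 v)
        · have : h v ∈ Q := by simpa using add_mem (hPQ (b2 v hv)) hv
          simpa using add_mem (a2 _ this) (b2 v hv)
      inv_mem' := by
        rintro g ⟨a0, a1, a2, a3⟩
        refine ⟨inv_mem a0, fun v => ?_, fun v hv => ?_, fun v hv => inv_fix (a3 v hv)⟩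
        · simpa using neg_mem (a1 (g⁻¹ v))
        · have : g⁻¹ v ∈ Q := by simpa using sub_mem hv (a1 (g⁻¹ v))
          simpa using neg_mem (a2 _ this) }
  have hU : IsPGroup p U := by
    rintro ⟨g, a0, a1, a2, a3⟩
    refine ⟨2, Subtype.ext (LinearEquiv.ext fun v => ?_)⟩
    have e1 : ∀ v ∈ Q, (g ^ p) v = v := fun v hv => by
      rw [pow_shift (δ := g v - v) (by simp) (a3 _ (a2 v hv)), p_smul, add_zero]
    have e2 : (g ^ p) v - v ∈ Q := (U.pow_mem (x := g) ⟨a0, a1, a2, a3⟩ p).2.1 v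
    show (g ^ p ^ 2) v = v
    rw [pow_two, pow_mul, pow_shift (δ := (g ^ p) v - v) (by simp) (e1 _ e2), p_smul, add_zero]
  have := hs.eq_of_le hU (by
    rintro _ ⟨a, rfl⟩
    exact ⟨hs.le (u_mem a), t1 a, t2 a, t3 a⟩) fun g hg => hg.1
  exact this.le ⟨hg, h1, h2, h3⟩

/-- `{b = 0}` -/
def Z2 (K : Type*) [Field K] : AddSubgroup (V K) where
  carrier := {v | v.1 = 0}
  zero_mem' := rfl
  add_mem' := fun {a b} ha hb => by simp_all
  neg_mem' := fun {a} ha => by simp_all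

/-- `{b = c = 0}` -/
def Z1 (K : Type*) [Field K] : AddSubgroup (V K) where
  carrier := {v | v.1 = 0 ∧ v.2.1 = 0}
  zero_mem' := ⟨rfl, rfl⟩
  add_mem' := fun {a b} ha hb => by simp_all
  neg_mem' := fun {a} ha => by simp_all

omit [Finite K] in
theorem mem_Z2 {v : V K} : v ∈ Z2 K ↔ v.1 = 0 := Iff.rfl
omit [Finite K] in
theorem mem_Z1 {v : V K} : v ∈ Z1 K ↔ v.1 = 0 ∧ v.2.1 = 0 := Iff.rfl
omit [Finite K] in
theorem eq_of_Z1 {v : V K} (h : v ∈ Z1 K) : v = (0, 0, v.2.2) := Prod.ext h.1 (Prod.ext h.2 rfl)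
omit [Finite K] in
theorem eq_of_Z2 {v : V K} (h : v ∈ Z2 K) : v = (0, v.2.1, v.2.2) := Prod.ext h rfl

theorem chain' (hs : Syl p (T K) L) (hg : g ∈ L) (h1 : ∀ v, (g v).1 = v.1)
    (h2 : ∀ v ∈ Z2 K, (g v).2.1 = v.2.1) (h3 : ∀ v ∈ Z1 K, g v = v) : g ∈ T K :=
  chain hs (Z1 K) (Z2 K) (fun a v => by simp [mem_Z2, u_ap])
    (fun a v hv => by simp [mem_Z1, u_ap, mem_Z2.1 hv])
    (fun a v hv => by rw [eq_of_Z1 hv]; simp [u_ap]) (fun _ h => h.1) hg
    (fun v => by simp [mem_Z2, h1]) (fun v hv => by simp [mem_Z1, h1, h2 v hv]) h3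

/-- an element preserving the flag normalises `T` -/
theorem nrm (hs : Syl p (T K) L) (hg : g ∈ L) (h1 : ∀ v ∈ Z1 K, g v ∈ Z1 K)
    (h2 : ∀ v ∈ Z2 K, g v ∈ Z2 K) : g ∈ nz (T K) := by
  refine mem_nz_of_conj_mem ?_
  rintro _ ⟨a, rfl⟩
  have e : ∀ v, (g * u a * g⁻¹) v - v = g (u a (g⁻¹ v) - g⁻¹ v) := fun v => by simp
  refine chain hs (Z1 K) (Z2 K) (fun a v => by simp [mem_Z2, u_ap])
    (fun a v hv => by simp [mem_Z1, u_ap, mem_Z2.1 hv])
    (fun a v hv => by rw [eq_of_Z1 hv]; simp [u_ap]) (fun _ h => h.1)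
    (mul_mem (mul_mem hg (hs.le (u_mem a))) (inv_mem hg)) (fun v => ?_) (fun v hv => ?_) fun v hv => ?_
  · rw [e]; exact h2 _ (by simp [mem_Z2, u_ap])
  · rw [e]; exact h1 _ (by simp [mem_Z1, u_ap, mem_Z2.1 (inv_pres h2 v hv)])
  · have := inv_pres h1 v hv
    rw [mul_ap, mul_ap, show u a (g⁻¹ v) = g⁻¹ v by rw [eq_of_Z1 this]; simp [u_ap], ap_inv]

/-- a `p`-element normalising `T` lies in `T` -/
theorem mem_T_of_pow (hs : Syl p (T K) L) (hg : g ∈ L) (hn : g ∈ nz (T K)) (h : g ^ p = 1) :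
    g ∈ T K := by
  have h1 : IsPGroup p (zpowers g) := by
    rintro ⟨_, n, rfl⟩
    exact ⟨1, Subtype.ext (by
      show (g ^ n) ^ p ^ 1 = 1
      rw [pow_one, ← zpow_natCast, ← zpow_mul, mul_comm, zpow_mul, zpow_natCast, h, one_zpow])⟩
  have := hs.eq_of_le (isPGroup_sup_of_le_nz h1 pT (zpowers_le.2 hn)) le_sup_right
    (sup_le (zpowers_le.2 hg) hs.le)
  exact this.le (mem_sup_left (mem_zpowers g))

end H24.SP
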