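import Cfsg.Agent.H24.LW1

/-! `p`-groups all of whose non-trivial orbits have length `p`; Miller's theorem. -/

set_option autoImplicit false

namespace H24
open MulAction Subgroup Equiv Pointwise

section
variable {G α : Type*} [Group G] [MulAction G α] {P : Subgroup G} {p : ℕ} [hp : Fact p.Prime]

theorem exists_chi [Finite G] (hP : IsPGroup p P) {a : α} (ha : Nat.card (orbit P a) = p) :
    ∃ χ : P →* Multiplicative (ZMod p), (∃ u, χ u ≠ 1) ∧
      ∀ u : P, ∀ b ∈ orbit P a, u • b = b ↔ χ u = 1 := by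
  have h1 : (stabilizer P a).index = p := (index_stabilizer P a).trans ha
  obtain ⟨n, hn⟩ := hP.exists_card_eq
  have h2 : n ≠ 0 := by
    rintro rfl
    exact hp.1.one_lt.ne' (Nat.dvd_one.1 (by simpa [h1, hn] using (stabilizer P a).index_dvd_card))
  have : (stabilizer P a).Normal :=
    normal_of_index_eq_minFac_card (by rw [h1, hn, hp.1.pow_minFac h2])
  let e := mulEquivOfPrimeCardEq (G := P ⧸ stabilizer P a) (G' := Multiplicative (ZMod p)) h1
    (by simp)
  have h3 : ∀ u : P, e u = 1 ↔ u • a = a := fun u => by simp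
  refine ⟨e.toMonoidHom.comp (QuotientGroup.mk' _), ?_, ?_⟩
  · by_contra h
    push Not at h
    exact hp.1.one_lt.ne' (h1 ▸ index_eq_one.2 (eq_top_iff.2 fun u _ => (h3 u).1 (h u)))
  · rintro u _ ⟨v, rfl⟩
    have := h3 (v⁻¹ * u * v)
    simp only [mul_smul, inv_smul_eq_iff, QuotientGroup.mk_mul, map_mul, QuotientGroup.mk_inv,
      map_inv, inv_mul_cancel_comm] at this
    exact this.symm

/-- `x` acts on `P`, seen on the orbit of `a`, as the `j`-th power map -/
def PowAt (x : normalizer (P : Set G)) (a : α) (j : ℤ) : Prop :=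
  ∀ u : P, (P.normalizerMonoidHom x u * (u ^ j)⁻¹) • a = a

theorem PowAt.chi {x : normalizer (P : Set G)} {a b : α} {j : ℤ} (h : PowAt x b j)
    (hb : b ∈ orbit P a) {χ : P →* Multiplicative (ZMod p)}
    (hχ : ∀ u : P, ∀ b ∈ orbit P a, u • b = b ↔ χ u = 1) (u : P) :
    χ (P.normalizerMonoidHom x u) = χ u ^ j := by
  simpa [mul_inv_eq_one] using (hχ _ b hb).1 (h u)

theorem exists_powAt [Finite G] (hP : IsPGroup p P) {a : α} (ha : Nat.card (orbit P a) = p)
    (x : normalizer (P : Set G)) (hx : (x : G)⁻¹ • a ∈ orbit P a) : ∃ j, PowAt x a j := by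
  obtain ⟨χ, ⟨u, hu⟩, hχ⟩ := exists_chi hP ha
  have h1 : ∀ g, ∃ m : ℤ, χ u ^ m = g := fun g => mem_zpowers_of_prime_card (p := p) (by simp) hu
  obtain ⟨j, hj⟩ := h1 (χ (P.normalizerMonoidHom x u))
  refine ⟨j, fun v => (hχ _ a (mem_orbit_self a)).2 ?_⟩
  obtain ⟨m, hm⟩ := h1 (χ v)
  have h2 := (hχ (v * (u ^ m)⁻¹) _ hx).2 (by simp [hm])
  have h3 := (hχ (P.normalizerMonoidHom x (v * (u ^ m)⁻¹)) a (mem_orbit_self a)).1 (by
    show ((x : G) * (v * (u ^ m)⁻¹ : P) * (x : G)⁻¹) • a = a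
    rw [mul_smul, mul_smul]
    exact (congrArg _ h2).trans (smul_inv_smul _ _))
  simp only [map_mul, map_inv, map_zpow, mul_inv_eq_one] at h3 ⊢
  rw [h3, ← hj, ← hm, ← zpow_mul, ← zpow_mul, mul_comm]

theorem pow_smul_of_cent [Finite G] (hP : IsPGroup p P) {a : α} (ha : Nat.card (orbit P a) = p)
    {z : G} (hz : z ∈ centralizer (P : Set G)) (hx : z • a ∈ orbit P a) : z ^ p • a = a := by
  obtain ⟨χ, -, hχ⟩ := exists_chi hP ha
  obtain ⟨v, hv⟩ := hx
  have : ∀ n : ℕ, z ^ n • a = v ^ n • a := fun n => by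
    induction n with
    | zero => simp
    | succ n ih =>
      rw [pow_succ', mul_smul, ih, pow_succ, mul_smul, show v • a = z • a from hv]
      show z • ((v ^ n : P) : G) • a = ((v ^ n : P) : G) • z • a
      rw [← mul_smul, ← mul_smul, hz _ (v ^ n).2]
  rw [this, hχ _ a (mem_orbit_self a), map_pow]
  simpa using pow_card_eq_one' (x := χ v)

variable [Finite G] [FaithfulSMul G α] (hP : IsPGroup p P)
  (ho : ∀ a : α, a ∉ fixedPoints P α → Nat.card (orbit P a) = p)
include hP ho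

theorem comm_of_fix_orbits {x y : normalizer (P : Set G)}
    (hx : ∀ a : α, (x : G)⁻¹ • a ∈ orbit P a ∨ a ∈ fixedPoints P α)
    (hy : ∀ a : α, (y : G)⁻¹ • a ∈ orbit P a ∨ a ∈ fixedPoints P α) :
    P.normalizerMonoidHom (x * y) = P.normalizerMonoidHom (y * x) := by
  refine MulEquiv.ext fun u => mul_inv_eq_one.1 (eq_of_smul_eq_smul (α := α) fun a => ?_)
  rw [one_smul]
  by_cases h : a ∈ fixedPoints P α
  · exact h _
  obtain ⟨χ, -, hχ⟩ := exists_chi hP (ho a h)
  obtain ⟨i, hi⟩ := exists_powAt hP (ho a h) x ((hx a).resolve_right h)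
  obtain ⟨j, hj⟩ := exists_powAt hP (ho a h) y ((hy a).resolve_right h)
  have m := mem_orbit_self (M := P) a
  rw [hχ _ a m]
  simp only [map_mul, MulAut.mul_apply, map_inv, hi.chi m hχ, hj.chi m hχ, ← zpow_mul, mul_comm i,
    mul_inv_cancel]

theorem pow_of_three (hc : ∀ (u : P) (a : α), a ∉ fixedPoints P α →
      (∀ b, b ∉ orbit P a → u • b = b) → u = 1) {a b e : α} (ha : a ∉ fixedPoints P α)
    (hb : b ∉ fixedPoints P α) (he : e ∉ fixedPoints P α)
    (hcov : ∀ z, z ∉ fixedPoints P α → z ∈ orbit P a ∨ z ∈ orbit P b ∨ z ∈ orbit P e)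
    {x : normalizer (P : Set G)} (hx : ∀ a : α, (x : G)⁻¹ • a ∈ orbit P a ∨ a ∈ fixedPoints P α) :
    ∃ j : ℤ, ∀ u, P.normalizerMonoidHom x u = u ^ j := by
  have ex := fun a h => exists_powAt hP (ho a h) x ((hx a).resolve_right h)
  have key : ∀ {a b e : α} {i j : ℤ}, a ∉ fixedPoints P α → b ∉ fixedPoints P α →
      e ∉ fixedPoints P α → (∀ z, z ∉ fixedPoints P α → z ∉ orbit P e → z ∈ orbit P a ∨
      z ∈ orbit P b) → PowAt x a i → PowAt x b j → PowAt x e i ∨ PowAt x e j := by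
    intro a b e i j ha hb he hcov hi hj
    obtain ⟨m, hm⟩ := ex e he
    obtain ⟨χ, ⟨u, hu⟩, hχ⟩ := exists_chi hP (ho e he)
    have s := mem_orbit_self (M := P) (α := α)
    have h1 := congrArg χ (hc (P.normalizerMonoidHom x (P.normalizerMonoidHom x u * (u ^ j)⁻¹) *
      ((P.normalizerMonoidHom x u * (u ^ j)⁻¹) ^ i)⁻¹) e he fun z hz => by
        by_cases c : z ∈ fixedPoints P α
        · exact c _
        rcases hcov z c hz with h | h
        · obtain ⟨ψ, -, hψ⟩ := exists_chi hP (ho a ha)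
          exact (hψ _ z h).2 ((hψ _ a (s a)).1 (hi _))
        · obtain ⟨ψ, -, hψ⟩ := exists_chi hP (ho b hb)
          rw [hψ _ z h, map_mul, hj.chi (s b) hψ, map_inv, map_zpow, mul_inv_eq_one,
            (hψ _ b (s b)).1 (hj u), one_zpow, one_zpow])
    have h2 : ∀ (v : P) (n : ℤ), χ (P.normalizerMonoidHom x v * (v ^ n)⁻¹) = χ v ^ (m - n) :=
      fun v n => by rw [map_mul, hm.chi (s e) hχ, map_inv, map_zpow, zpow_sub]
    have h3 : ∀ g : Multiplicative (ZMod p), g ^ p = 1 := fun g => by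
      simpa using pow_card_eq_one' (x := g)
    rw [h2, h2, ← zpow_mul, map_one, ← orderOf_dvd_iff_zpow_eq_one, orderOf_eq_prime (h3 _) hu,
      (Nat.prime_iff_prime_int.1 hp.1).dvd_mul, or_comm] at h1
    refine h1.imp ?_ ?_ <;> exact fun ⟨c, h⟩ v => (hχ _ e (s e)).2 (by
      rw [h2, h, zpow_mul, zpow_natCast, h3, one_zpow])
  obtain ⟨j, h1, h2, h3⟩ : ∃ j, PowAt x a j ∧ PowAt x b j ∧ PowAt x e j := by
    obtain ⟨i, hi⟩ := ex a ha
    obtain ⟨j, hj⟩ := ex b hb
    rcases key ha hb he (fun z h h' => by have := hcov z h; tauto) hi hj with h | h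
    · exact ⟨i, hi, (or_self_iff.1 (key ha he hb (fun z h h' => by have := hcov z h; tauto) hi h)), h⟩
    · exact ⟨j, (or_self_iff.1 (key hb he ha (fun z h h' => by have := hcov z h; tauto) hj h)), hj, h⟩
  refine ⟨j, fun u => mul_inv_eq_one.1 (eq_of_smul_eq_smul (α := α) fun z => ?_)⟩
  rw [one_smul]
  by_cases c : z ∈ fixedPoints P α
  · exact c _
  have : ∀ a, a ∉ fixedPoints P α → PowAt x a j → z ∈ orbit P a →
      (P.normalizerMonoidHom x u * (u ^ j)⁻¹) • z = z := fun a ha h hz => by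
    obtain ⟨ψ, -, hψ⟩ := exists_chi hP (ho a ha)
    exact (hψ _ z hz).2 ((hψ _ a (mem_orbit_self a)).1 (h _))
  exact (hcov z c).elim (this a ha h1) fun h => h.elim (this b hb h2) (this e he h3)

end

section
variable {β : Type*} [Fintype β] [DecidableEq β]

theorem perm_central (h : 3 ≤ Fintype.card β) {σ : Perm β} (hσ : ∀ τ, σ * τ = τ * σ) : σ = 1 := by
  ext a
  by_contra (e : σ a ≠ a)
  obtain ⟨c, -, hc⟩ := Finset.exists_mem_notMem_of_card_lt_card (s := {a, σ a}) (t := Finset.univ)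
    (Finset.card_le_two.trans_lt h)
  simp only [Finset.mem_insert, Finset.mem_singleton, not_or] at hc
  have := Equiv.congr_fun (hσ (swap (σ a) c)) a
  rw [Perm.mul_apply, Perm.mul_apply, swap_apply_left,
    swap_apply_of_ne_of_ne (Ne.symm e) (Ne.symm hc.1)] at this
  exact hc.2 this.symm

theorem perm_normal_two (h : 5 ≤ Fintype.card β) (M : Subgroup (Perm β)) [M.Normal] (hM : M ≠ ⊥) :
    IsMultiplyPretransitive M β 2 := by
  have hc := Nat.card_eq_fintype_card (α := β)
  exact H17.mt_of_le ((jordan_normal 2 (Perm.isMultiplyPretransitive β _) (by omega) M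
    hM).resolve_right (by omega)) (by omega) (by omega)

theorem perm_normal_comm (h : 5 ≤ Fintype.card β) (M : Subgroup (Perm β)) [M.Normal]
    (hM : ∀ x ∈ M, ∀ y ∈ M, x * y = y * x) : M = ⊥ := by
  by_contra e
  obtain ⟨a, b, c, -, -, -, h1, h2, h3⟩ := Finset.two_lt_card_iff.1
    (show 2 < (Finset.univ : Finset β).card by rw [Finset.card_univ]; omega)
  have t := H17.mt_iff.1 (perm_normal_two h M e)
  obtain ⟨x, hx⟩ := t _ _ (H17.inj2 h1) (H17.inj2 h2)
  obtain ⟨y, hy⟩ := t _ _ (H17.inj2 h1) (H17.inj2 h1.symm)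
  have := Equiv.congr_fun (hM x x.2 y y.2) a
  rw [Perm.mul_apply, Perm.mul_apply, show (x : Perm β) a = a from hx 0,
    show (y : Perm β) a = b from hy 0, show (x : Perm β) b = c from hx 1] at this
  exact h3 this.symm

theorem perm_normal_dvd (h : 3 ≤ Fintype.card β) (M : Subgroup (Perm β)) [M.Normal] (hM : M ≠ ⊥) :
    2 ∣ Nat.card M ∨ Fintype.card β = 3 ∧ 3 ∣ Nat.card M := by
  have hc := Nat.card_eq_fintype_card (α := β)
  obtain ⟨a⟩ := Fintype.card_pos_iff.1 (show 0 < Fintype.card β by omega)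
  have := H17.normal_trans (α := β) M hM
  have h1 : Nat.card β ∣ Nat.card M := Dvd.intro _ (H17.card_mul_stabilizer a)
  by_cases h5 : 5 ≤ Fintype.card β
  · refine Or.inl (Dvd.dvd.trans ?_ (H17.descFactorial_dvd_card (perm_normal_two h5 M hM) (by omega)))
    exact Nat.factorial_dvd_descFactorial _ 2
  obtain e | e : Fintype.card β = 3 ∨ Fintype.card β = 4 := by omega
  · exact Or.inr ⟨e, by rwa [hc, e] at h1⟩
  · exact Or.inl (Dvd.dvd.trans (by rw [hc, e]; norm_num) h1)

end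

theorem miller {α : Type*} [Fintype α] [DecidableEq α] (G : Subgroup (Perm α)) {k p r : ℕ}
    (hp : p.Prime) (hn : Fintype.card α = k * p + r) (hk : 1 ≤ k) (hpk : k < p) (hrk : k < r)
    (hr : 3 ≤ r) (hG : IsMultiplyPretransitive G α (r + 1)) : alternatingGroup α ≤ G := by
  classical
  by_contra hA
  have := Fact.mk hp
  have hkp : p ≤ k * p := Nat.le_mul_of_pos_left _ hk
  have hc := Nat.card_eq_fintype_card (α := α)
  have prim := isPreprimitive_of_is_two_pretransitive (H17.mt_of_le hG (by omega) (by omega))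
  have boch := fun (g : G) h1 h2 => hA (H17.bochert_alt G (by omega) (by omega) hG g g.2 h1 h2)
  obtain ⟨Δ, -, hΔ⟩ := Finset.exists_subset_card_eq (s := (Finset.univ : Finset α)) (n := r)
    (by rw [Finset.card_univ]; omega)
  obtain ⟨P, hPH, hP, hPc⟩ := H17.exists_sylow_le (p := p) (fixingSubgroup G (Δ : Set α))
  have c1 : ((Δ : Set α)ᶜ).ncard = k * p := by rw [Set.ncard_compl, Set.ncard_coe_finset]; omega
  have o1 : ∀ a ∉ Δ, orbit (fixingSubgroup G (Δ : Set α)) a = (Δ : Set α)ᶜ := fun a ha => by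
    ext b
    rw [H17.mem_orbit_sub_iff]
    refine ⟨?_, fun hb => (H17.mt_fix_trans hG Δ hΔ ha hb).imp fun g e =>
      ⟨H17.mem_fix_iff.2 e.1, e.2⟩⟩
    rintro ⟨g, hg, rfl⟩ e
    exact ha ((smul_left_cancel_iff g).1 (H17.mem_fix_iff.1 hg _ e) ▸ e)
  have hF : ∀ a, a ∈ fixedPoints P α ↔ a ∈ Δ := fun a => ⟨fun h => by_contra fun e =>
    H17.sylow_not_fix hp hPH hPc (by rw [o1 a e, Nat.card_coe_set_eq, c1]; simp) h,
    fun h => le_fix_iff.1 hPH h⟩
  have o2 : ∀ a ∉ Δ, orbit P a ⊆ (Δ : Set α)ᶜ := fun a ha => o1 a ha ▸ by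
    rintro _ ⟨u, rfl⟩; exact ⟨⟨u, hPH u.2⟩, rfl⟩
  have ho : ∀ a, a ∉ fixedPoints P α → Nat.card (orbit P a) = p := fun a ha => by
    obtain ⟨j, hj⟩ := hP.card_orbit a
    have h1 := Set.ncard_le_ncard (o2 a ((hF a).not.1 ha))
    rw [c1, ← Nat.card_coe_set_eq, hj] at h1
    have h2 : j < 2 := (Nat.pow_lt_pow_iff_right hp.one_lt).1 (by nlinarith)
    have h3 : j ≠ 0 := by
      rintro rfl
      exact ha (subsingleton_orbit_iff_mem_fixedPoints.1 ((Set.subsingleton_coe _).1
        (Nat.card_eq_one_iff_unique.1 hj).1))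
    obtain rfl : j = 1 := by omega
    simpa using hj
  have hcy : ∀ (u : P) (a : α), a ∉ fixedPoints P α → (∀ b, b ∉ orbit P a → u • b = b) → u = 1 :=
    fun u a ha h => by_contra fun e => by
      obtain ⟨χ, -, hχ⟩ := exists_chi hP (ho a ha)
      have h1 : ((u : G) : Perm α) ^ p = 1 := Equiv.ext fun b => by
        by_cases c : b ∈ orbit P a
        · exact (hχ (u ^ p) b c).2 (by simpa using pow_card_eq_one' (x := χ u))
        · exact Perm.pow_apply_eq_self_of_apply_eq_self (h b c) p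
      have h2 := Set.ncard_le_ncard (s := ((u : G) : Perm α).support) (t := orbit P a)
        fun b hb => by_contra fun c => Perm.mem_support.1 hb (h b c)
      rw [← Nat.card_coe_set_eq (orbit P a), ho a ha, Set.ncard_coe_finset] at h2
      obtain ⟨h3, h4⟩ := H17.isCycle_of_orderOf_prime hp (orderOf_eq_prime h1 (by simpa using e))
        (by omega)
      exact hA (H17.jordan_prime_cycle G prim hp (by omega) h3 h4 (u : G).2)
  obtain ⟨a, ha⟩ := Set.nonempty_of_ncard_ne_zero (show ((Δ : Set α)ᶜ).ncard ≠ 0 by omega)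
  have hk2 : 2 ≤ k := by_contra fun e => by
    have ha' := (hF a).not.2 ha
    have := Set.eq_of_subset_of_ncard_le (o2 a ha) (by
      rw [c1, ← Nat.card_coe_set_eq, ho a ha', show k = 1 by omega, one_mul])
    exact ha' fun u => by
      rw [hcy u a ha' fun b hb => (hF b).2 (by simpa [this] using hb) u, one_smul]
  set N := normalizer (P : Set G)
  have hcj : ∀ (x : N) (u : P) (b : α), (x : G) • u • b = P.normalizerMonoidHom x u • (x : G) • b :=
    fun x u b => by
      show _ = ((x : G) * u * (x : G)⁻¹) • (x : G) • b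
      rw [← mul_smul, inv_mul_cancel_right, mul_smul]; rfl
  have hNF : ∀ (x : N) (b : α), b ∈ Δ → (x : G) • b ∈ Δ := fun x b hb => (hF _).1 fun u => by
    obtain ⟨v, rfl⟩ := (P.normalizerMonoidHom x).surjective u
    rw [← hcj, (hF b).2 hb]
  have hNs : N ≤ stabilizer G Δ := fun x hx => Finset.eq_of_subset_of_card_le (fun y hy => by
    obtain ⟨b, hb, rfl⟩ := Finset.mem_smul_finset.1 hy
    exact hNF ⟨x, hx⟩ b hb) (by simp)
  let ρ : N →* Perm Δ := (resHom Δ).comp (inclusion hNs)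
  have hρ : Function.Surjective ρ := fun σ => by
    obtain ⟨u, hu⟩ := H17.mt_exists_eqOn hG (by omega) Δ (by omega) (Perm.ofSubtype σ)
      (Equiv.injective _).injOn
    obtain ⟨n, h1, h2⟩ := H17.witt_normalizer _ hPH hPc u fun x hx => (hF _).2 (by
      rw [hu x hx, Perm.ofSubtype_apply_of_mem σ hx]; exact Subtype.property _)
    exact ⟨⟨n, h1⟩, Equiv.ext fun x => Subtype.ext ((h2 x x.2).trans ((hu x x.2).trans
      (Perm.ofSubtype_apply_coe σ x)))⟩
  have so : ∀ (x : N) (b : α), x • orbit P b = orbit P ((x : G) • b) := fun x b => by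
    ext y
    refine ⟨?_, ?_⟩
    · rintro ⟨_, ⟨u, rfl⟩, rfl⟩; exact ⟨_, (hcj x u b).symm⟩
    · rintro ⟨u, rfl⟩
      obtain ⟨v, rfl⟩ := (P.normalizerMonoidHom x).surjective u
      exact ⟨_, ⟨v, rfl⟩, hcj x v b⟩
  let O : SubMulAction N (Set α) := ⟨{s | ∃ b ∉ Δ, orbit P b = s}, by
    rintro x _ ⟨b, hb, rfl⟩
    exact ⟨_, fun e => hb (by simpa using hNF x⁻¹ _ e), (so x b).symm⟩⟩
  have cO : Nat.card O ≤ k := by
    have h1 := Finset.mul_card_image_le_card (f := fun b : α => orbit P b) Δᶜ p fun s hs => by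
      obtain ⟨b, hb, rfl⟩ := Finset.mem_image.1 hs
      rw [Finset.mem_compl] at hb
      rw [← ho b ((hF b).not.2 hb), Nat.card_coe_set_eq, ← Set.ncard_coe_finset]
      exact Set.ncard_le_ncard fun y hy => by simpa using ⟨o2 b hb hy, orbit_eq_iff.2 hy⟩
    rw [Finset.card_compl, ← Set.ncard_coe_finset, ← Nat.card_coe_set_eq,
      show ((Δᶜ.image fun b : α => orbit P b : Finset (Set α)) : Set (Set α)) = O.carrier by
        ext; simp [O]] at h1
    exact Nat.le_of_mul_le_mul_left (h1.trans (by rw [mul_comm]; omega)) hp.pos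
  set N0 := (toPermHom N O).ker
  have h0 : ∀ x ∈ N0, ∀ b : α, (x : G) • b ∈ orbit P b ∨ b ∈ fixedPoints P α := fun x hx b =>
    or_iff_not_imp_right.2 fun hb => orbit_eq_iff.1 ((so x b).symm.trans (congrArg Subtype.val
      (Equiv.congr_fun (MonoidHom.mem_ker.1 hx) ⟨_, b, (hF b).not.1 hb, rfl⟩)))
  have cΔ : Fintype.card Δ = r := by simp [hΔ]
  have M0 : N0.map ρ ≠ ⊥ := fun e => by
    have h1 := Nat.le_of_dvd (Nat.pos_of_ne_zero FiniteIndex.index_ne_zero)
      (index_dvd_of_le ((Subgroup.map_eq_bot_iff _).1 e))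
    rw [index_ker, index_ker, MonoidHom.range_eq_top.2 hρ, card_top, Nat.card_perm,
      Nat.card_eq_fintype_card (α := Δ), cΔ] at h1
    have h2 := h1.trans (card_le_card_group _)
    rw [Nat.card_perm] at h2
    exact absurd (h2.trans (Nat.factorial_le cO)) (not_le.2 ((Nat.factorial_lt hk).2 hrk))
  have := (inferInstance : N0.Normal).map ρ hρ
  set C := N0 ⊓ P.normalizerMonoidHom.ker
  have := (inferInstance : C.Normal).map ρ hρ
  have M1 : C.map ρ ≠ ⊥ := fun e => M0 (by
    have key : ∀ x ∈ N0, ∀ y, P.normalizerMonoidHom (x * y) = P.normalizerMonoidHom (y * x) →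
        ρ x * ρ y = ρ y * ρ x := fun x hx y h => by
      have := (Subgroup.map_eq_bot_iff _).1 e (show (y * x)⁻¹ * (x * y) ∈ C from ⟨by
        have := N0.mul_mem (N0.inv_mem hx) (Normal.conj_mem' inferInstance x hx y)
        simpa [mul_assoc] using this, MonoidHom.mem_ker.2 (by
          rw [map_mul, map_inv, h, inv_mul_cancel])⟩)
      rw [MonoidHom.mem_ker, map_mul, map_inv, inv_mul_eq_one, map_mul, map_mul] at this
      exact this.symm
    by_cases h5 : 5 ≤ r
    · refine perm_normal_comm (by omega) _ ?_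
      rintro _ ⟨x, hx, rfl⟩ _ ⟨y, hy, rfl⟩
      exact key x hx y (comm_of_fix_orbits hP ho (h0 _ (N0.inv_mem hx)) (h0 _ (N0.inv_mem hy)))
    refine (eq_bot_iff_forall _).2 ?_
    rintro _ ⟨x, hx, rfl⟩
    refine perm_central (by omega) fun τ => ?_
    obtain ⟨y, rfl⟩ := hρ τ
    have : Nonempty O := ⟨⟨_, a, ha, rfl⟩⟩
    have := Fintype.ofFinite O
    obtain ⟨f⟩ := Function.Embedding.nonempty_of_card_le (α := O) (β := Fin 3) (by
      rw [← Nat.card_eq_fintype_card, Fintype.card_fin]; omega)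
    choose t ht ht' using fun i => (Function.invFun f i).2
    obtain ⟨j, hj⟩ := pow_of_three hP ho hcy ((hF _).not.2 (ht 0)) ((hF _).not.2 (ht 1))
      ((hF _).not.2 (ht 2)) (fun z hz => by
        obtain ⟨i, hi⟩ := Function.invFun_surjective f.injective ⟨_, z, (hF z).not.1 hz, rfl⟩
        have : z ∈ orbit P (t i) := by rw [ht', hi]; exact mem_orbit_self z
        fin_cases i <;> tauto) (h0 _ (N0.inv_mem hx))
    exact key x hx y (MulEquiv.ext fun u => by simp [hj]))
  have fin : ∀ q : ℕ, q.Prime → q ≠ p → ¬ q ∣ Nat.card (C.map ρ) := fun q hq e h => by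
    have := Fact.mk hq
    obtain ⟨⟨_, z, hz, rfl⟩, h1⟩ := exists_prime_orderOf_dvd_card' q h
    rw [← orderOf_coe] at h1
    refine boch (z ^ p) (fun e' => e ?_) ((Finset.card_le_card fun b hb => by_contra fun c =>
      Perm.mem_support.1 hb (pow_smul_of_cent hP (ho b ((hF b).not.2 c)) ?_
        ((h0 z hz.1 b).resolve_right ((hF b).not.2 c)))).trans_lt (by omega))
    · rw [← Nat.prime_dvd_prime_iff_eq hq hp, ← h1, orderOf_dvd_iff_pow_eq_one, ← map_pow,
        show z ^ p = 1 from Subtype.ext (Subtype.ext e'), map_one]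
    · have := hz.2
      rwa [normalizerMonoidHom_ker] at this
  rcases perm_normal_dvd (by omega) _ M1 with h | ⟨h, h'⟩
  · exact fin 2 Nat.prime_two (by omega) h
  obtain rfl : p = 3 := by_contra fun e => fin 3 Nat.prime_three (Ne.symm e) h'
  obtain rfl : r = 3 := by omega
  have := HK.hall 0 (G := G) ⟨hG, fun t s hs _ e => by_contra fun c => boch t (by simpa using c)
    ((Finset.card_le_card (t := sᶜ) fun b hb => Finset.mem_compl.2 fun c =>
      Perm.mem_support.1 hb (e b c)).trans_lt (by rw [Finset.card_compl]; omega))⟩ (by omega)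
  omega

end H24
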