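/-
Exceptional characters of an abelian subgroup `A` with `C(u) ≤ A` for all `u ∈ A^#`:
the convolution of two class functions vanishing on `A^#` is constant on `A^#`.
-/
import Cfsg.Agent.H20.CF6

set_option autoImplicit false

open Cfsg Subgroup
namespace H24
open H5 H19 H20
open scoped ComplexConjugate Classical

variable {Γ : Type*} [Group Γ] [Finite Γ] {A : Subgroup Γ}

theorem cent_eq_of_cc (ha : Ab A) (hc : ∀ u ∈ A, u ≠ 1 → C[u] ≤ A) {u : Γ} (hu : u ∈ A)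
    (h1 : u ≠ 1) : C[u] = A :=
  le_antisymm (hc u hu h1) fun _ hv => mem_cent1.2 (mul_comm_of_comm ha hv hu)

theorem mem_norm_of_cc (ha : Ab A) (hc : ∀ u ∈ A, u ≠ 1 → C[u] ≤ A) {g u : Γ} (hu : u ∈ A)
    (h1 : u ≠ 1) (hg : g * u * g⁻¹ ∈ A) : g ∈ N(A) := by
  rw [mem_norm_iff_cj]
  have e1 := cent_eq_of_cc ha hc hu h1
  have e2 := cent_eq_of_cc ha hc hg (by rwa [Ne, conj_eq_one_iff'])
  rw [← cj_cent1, e1] at e2
  exact e2

/-- `(λ - μ)^G` is zero or a difference of two irreducible characters -/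
theorem ind_sub_cases (ha : Ab A) (hc : ∀ u ∈ A, u ≠ 1 → C[u] ≤ A) {i j : Ch A} (hi : i ≠ 1)
    (hj : j ≠ 1) : ∃ a ∈ Irr (⊤ : Subgroup Γ), ∃ b ∈ Irr (⊤ : Subgroup Γ),
      Ind ⊤ A (i.fn - j.fn) = a - b := by
  have hK : A ⊴ N(A) := ⟨le_normalizer, le_rfl⟩
  have ht : ∀ k : Ch A, k ≠ 1 → k.fn ≠ triv A := fun k hk e =>
    hk (Ch.fn_injective (e.trans Ch.fn_one.symm))
  have hirr : ∀ k : Ch A, k ≠ 1 → Ind N(A) A k.fn ∈ Irr N(A) := fun k hk =>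
    (Ind_irr_iff' hK k.irr).2 (inertia_eq_of_cent hK
      (fun u hu h1 => inf_le_right.trans (hc u hu h1)) k.irr (ht k hk))
  have e : Ind ⊤ A (i.fn - j.fn) = Ind ⊤ N(A) (Ind N(A) A i.fn - Ind N(A) A j.fn) := by
    rw [← map_sub, Ind_Ind le_normalizer le_top]
  by_cases hij : Ind N(A) A i.fn = Ind N(A) A j.fn
  · refine ⟨_, triv_mem_Irr ⊤, _, triv_mem_Irr ⊤, ?_⟩
    rw [e, hij, sub_self, sub_self, map_zero]
  · have hz : Ind N(A) A i.fn - Ind N(A) A j.fn ∈ ZIrr N(A) :=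
      sub_mem (irr_zirr (hirr i hi)) (irr_zirr (hirr j hj))
    have h1 : (Ind N(A) A i.fn - Ind N(A) A j.fn) 1 = 0 := by
      rw [Pi.sub_apply, Ind_one le_normalizer, Ind_one le_normalizer, Ch.fn_apply_one,
        Ch.fn_apply_one, sub_self]
    have hs : Ind N(A) A i.fn - Ind N(A) A j.fn ∈ CFon N(A) (nt A) :=
      CFon.of_sub (sub_mem (Ind_mem_CFon_sub le_rfl le_rfl _) (Ind_mem_CFon_sub le_rfl le_rfl _)) h1
    have hd : dot ⊤ (Ind ⊤ N(A) (Ind N(A) A i.fn - Ind N(A) A j.fn))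
        (Ind ⊤ N(A) (Ind N(A) A i.fn - Ind N(A) A j.fn)) = 2 := by
      rw [dot_Ind_ti le_top (fun x _ hx => CFon.zero hs hx) hs fun g _ x hx hg =>
        mem_norm_of_cc ha hc (H20.mem_nt.1 hx).1 (H20.mem_nt.1 hx).2 (H20.mem_nt.1 hg).1,
        dot_sub_left, dot_sub_right, dot_sub_right, irr_dot_self (hirr i hi),
        irr_dot_self (hirr j hj), irr_dot_ne (hirr i hi) (hirr j hj) hij,
        irr_dot_ne (hirr j hj) (hirr i hi) (Ne.symm hij)]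
      norm_num
    obtain ⟨a, ha', b, hb', -, hab⟩ := zirr_norm_two' (zirr_Ind hz le_top) hd
      (by rw [Ind_one le_top, h1, mul_zero])
    exact ⟨a, ha', b, hb', e.trans hab⟩

/-- convolution -/
noncomputable def conv (f₁ f₂ : Γ → ℂ) (g : Γ) : ℂ :=
  ∑ h ∈ fin ((⊤ : Subgroup Γ) : Set Γ), f₁ h * f₂ (g * h⁻¹)

theorem cinv_conv {f₁ f₂ : Γ → ℂ} (h₁ : CInv ⊤ f₁) (h₂ : CInv ⊤ f₂) : CInv ⊤ (conv f₁ f₂) := by
  intro g _ x
  unfold conv
  rw [← sum_sub_conj (H := ⊤) (g := g) (by rw [norm_top]; trivial)]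
  refine Finset.sum_congr rfl fun h _ => ?_
  rw [h₁.top, ← h₂.top g (x * h⁻¹)]
  congr 2; group

theorem dot_conv {f₁ f₂ χ : Γ → ℂ} (h₂ : CInv ⊤ f₂) (hχ : χ ∈ Irr (⊤ : Subgroup Γ)) :
    (#(⊤ : Subgroup Γ) : ℂ) * dot ⊤ (conv f₁ f₂) χ =
      (∑ g ∈ fin ((⊤ : Subgroup Γ) : Set Γ), f₂ g * conj (χ g)) / conj (χ 1) *
        ∑ h ∈ fin ((⊤ : Subgroup Γ) : Set Γ), f₁ h * conj (χ h) := by
  rw [card_mul_dot, Finset.mul_sum]
  simp only [conv, Finset.sum_mul]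
  rw [Finset.sum_comm]
  refine Finset.sum_congr rfl fun h _ => ?_
  have h1 := irr_conv (irr_star hχ) h₂ (x := h) trivial
  simp only [star_apply'] at h1
  rw [← sum_sub_mul_right (H := ⊤) (g := h) trivial]
  simp only [mul_inv_cancel_right]
  simp only [mul_assoc]
  rw [← Finset.mul_sum, h1]; ring

theorem conv_const (ha : Ab A) (hc : ∀ u ∈ A, u ≠ 1 → C[u] ≤ A) {f₁ f₂ : Γ → ℂ}
    (h₁ : CInv ⊤ f₁) (h₂ : CInv ⊤ f₂) (z₁ : ∀ u ∈ A, u ≠ 1 → f₁ u = 0)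
    (z₂ : ∀ u ∈ A, u ≠ 1 → f₂ u = 0) {u v : Γ} (hu : u ∈ A) (hu1 : u ≠ 1) (hv : v ∈ A)
    (hv1 : v ≠ 1) : conv f₁ f₂ u = conv f₁ f₂ v := by
  have hφ := cinv_conv h₁ h₂
  have key : ∀ i j : Ch A, i ≠ 1 → j ≠ 1 → dot A (conv f₁ f₂) i.fn = dot A (conv f₁ f₂) j.fn := by
    intro i j hi hj
    obtain ⟨a, ha', b, hb', hab⟩ := ind_sub_cases ha hc hi hj
    have h0 : ∀ x, (∀ g, g * x * g⁻¹ ∈ A → x = 1) → a x = b x := by
      intro x hx
      rw [← sub_eq_zero, ← Pi.sub_apply, ← hab]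
      refine Ind_eq_zero fun g _ hg => ?_
      rw [hx g hg, mul_one, mul_inv_cancel, Pi.sub_apply, Ch.fn_apply_one, Ch.fn_apply_one, sub_self]
    have hf : ∀ f : Γ → ℂ, CInv ⊤ f → (∀ u ∈ A, u ≠ 1 → f u = 0) →
        ∑ g ∈ fin ((⊤ : Subgroup Γ) : Set Γ), f g * conj (a g) =
          ∑ g ∈ fin ((⊤ : Subgroup Γ) : Set Γ), f g * conj (b g) := by
      intro f hf z
      refine Finset.sum_congr rfl fun x _ => ?_
      by_cases hx : ∀ g, g * x * g⁻¹ ∈ A → x = 1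
      · rw [h0 x hx]
      · push Not at hx
        obtain ⟨g, hg, h1⟩ := hx
        rw [← hf.top g x, z _ hg (by rwa [Ne, conj_eq_one_iff']), zero_mul, zero_mul]
    rw [← sub_eq_zero, ← dot_sub_right, ← dot_Ind_right le_top _ hφ, hab, dot_sub_right,
      sub_eq_zero]
    apply mul_left_cancel₀ (cardC_ne (⊤ : Subgroup Γ))
    rw [dot_conv h₂ ha', dot_conv h₂ hb', hf _ h₁ z₁, hf _ h₂ z₂, h0 1 fun _ _ => rfl]
  obtain ⟨j, hj⟩ := exists_ch_ne_one ha (ne_bot_of_mem hu hu1)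
  have val : ∀ w ∈ A, w ≠ 1 → conv f₁ f₂ w =
      dot A (conv f₁ f₂) (1 : Ch A).fn - dot A (conv f₁ f₂) j.fn := by
    intro w hw hw1
    have hs := sum_ch_fn ha w
    rw [if_neg hw1] at hs
    rw [apply_eq_sum_ch ha (conv f₁ f₂) hw]
    have : ∀ i : Ch A, dot A (conv f₁ f₂) i.fn * i.fn w = dot A (conv f₁ f₂) j.fn * i.fn w +
        if i = 1 then dot A (conv f₁ f₂) (1 : Ch A).fn - dot A (conv f₁ f₂) j.fn else 0 := by
      intro i
      split_ifs with h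
      · rw [h, Ch.fn_one, triv_of_mem hw]; ring
      · rw [key i j h hj, add_zero]
    simp only [this]
    rw [Finset.sum_add_distrib, ← Finset.mul_sum, hs, Finset.sum_ite_eq']
    simp
  rw [val u hu hu1, val v hv hv1]

/-- if `u ∈ A^#` lies in the product of two classes missing `A^#`, so does every `v ∈ A^#` -/
theorem mul_class_of_cc (ha : Ab A) (hc : ∀ u ∈ A, u ≠ 1 → C[u] ≤ A) {y z : Γ}
    (hy : ∀ u ∈ A, u ≠ 1 → ¬ IsConj y u) (hz : ∀ u ∈ A, u ≠ 1 → ¬ IsConj z u)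
    (hu : y * z ∈ A) (hu1 : y * z ≠ 1) {v : Γ} (hv : v ∈ A) (hv1 : v ≠ 1) :
    ∃ y' z', IsConj y y' ∧ IsConj z z' ∧ y' * z' = v := by
  have hI : ∀ t : Γ, CInv ⊤ (fun x => if IsConj t x then (1 : ℂ) else 0) := by
    intro t g _ x
    have : IsConj t (g * x * g⁻¹) ↔ IsConj t x :=
      ⟨fun h => h.trans (isConj_iff.2 ⟨g, rfl⟩).symm, fun h => h.trans (isConj_iff.2 ⟨g, rfl⟩)⟩
    simp only [this]
  have e := conv_const ha hc (hI z) (hI y) (fun u h h1 => if_neg (hz u h h1))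
    (fun u h h1 => if_neg (hy u h h1)) hu hu1 hv hv1
  by_contra hn
  push Not at hn
  have e2 : conv (fun x => if IsConj z x then (1 : ℂ) else 0)
      (fun x => if IsConj y x then (1 : ℂ) else 0) v = 0 := by
    refine Finset.sum_eq_zero fun h _ => ?_
    beta_reduce
    by_cases h1 : IsConj z h
    · rw [if_neg (c := IsConj y (v * h⁻¹)) fun h2 => hn _ _ h2 h1 (by group), mul_zero]
    · rw [if_neg h1, zero_mul]
  rw [e2] at e
  have e3 : conv (fun x => if IsConj z x then (1 : ℂ) else 0)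
      (fun x => if IsConj y x then (1 : ℂ) else 0) (y * z) =
      ((∑ h ∈ fin ((⊤ : Subgroup Γ) : Set Γ),
        (if IsConj z h then 1 else 0) * (if IsConj y (y * z * h⁻¹) then 1 else 0) : ℕ) : ℂ) := by
    simp [conv]
  rw [e3, Nat.cast_eq_zero, Finset.sum_eq_zero_iff] at e
  have := e z (mem_fin.2 trivial)
  rw [if_pos (IsConj.refl z), mul_inv_cancel_right, if_pos (IsConj.refl y)] at this
  exact one_ne_zero this

end H24
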