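/-
Class sizes forming an antichain under divisibility; simple groups with three class sizes.
-/
import Cfsg.Agent.H24.TIConv
import Cfsg.Agent.H24.CsAux
import Cfsg.Agent.H19.BSW1
import Cfsg.Agent.H19.Amb3
import Cfsg.Agent.S4355

set_option autoImplicit false

open Cfsg Subgroup
namespace H24
open H19

variable {G : Type*} [Group G] [Finite G]

theorem exists_pcentral {p : ℕ} (hp : p.Prime) (h : p ∣ Nat.card G) :
    ∃ x : G, x ≠ 1 ∧ PiE {p} x ∧ ¬ p ∣ cs x := by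
  obtain ⟨P, hP⟩ := exists_syl p (⊤ : Subgroup G)
  obtain ⟨x, hx, h1⟩ := exists_ne_one (hP.pi.center_ne_bot (hP.sne_bot hp (by rwa [card_top])))
  refine ⟨x, h1, hP.pi.elt hx.1, ?_⟩
  have := hP.not_dvd_relIndex hp (le_cent1_iff.2 hx.2)
  rwa [relIndex_top_right] at this

theorem cent_le_of_iso {x t : G} (hx : x ≠ 1) (h : ∀ u : G, u ≠ 1 → cs x ∣ cs u → cs u = cs x)
    (hc : t ∈ C[x]) (ho : (orderOf x).Coprime (orderOf t)) : C[x] ≤ C[t] := by
  have hc' : Commute x t := (mem_cent1.1 hc).symm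
  have h1 : x * t ≠ 1 := fun e => hx (by simpa [e] using mem_zpowers_mul_left hc' ho)
  have h2 := h _ h1 (cs_dvd_cs_mul_left hc' ho)
  have h3 := cent_mul_of_coprime hc' ho
  have h4 : C[x * t] = C[x] := eq_of_le_of_index_le (h3 ▸ inf_le_left) h2.le
  exact h4 ▸ h3 ▸ inf_le_right

/-- an isolated class size: the centralizer is abelian unless it has prime power order -/
theorem ab_cent_of_iso {x t : G} {q r : ℕ} (hqr : q ≠ r) (hx : x ≠ 1) (ht : t ≠ 1)
    (px : PiE {q} x) (pt : PiE {r} t) (hc : t ∈ C[x])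
    (h : ∀ u : G, u ≠ 1 → cs x ∣ cs u → cs u = cs x)
    (h' : ∀ u : G, u ≠ 1 → cs u ∣ cs x → cs u = cs x) : Ab C[x] := by
  have cop : ∀ {a b : G} {m n : ℕ}, m ≠ n → PiE {m} a → PiE {n} b →
      (orderOf a).Coprime (orderOf b) := fun hmn ha hb =>
    ha.coprime_of hb fun p h1 h2 => hmn ((Set.mem_singleton_iff.1 h1).symm.trans h2)
  have h1 := cent_le_of_iso hx h hc (cop hqr px pt)
  have h2 := h' t ht (index_dvd_of_le h1)
  have h3 : C[x] = C[t] := eq_of_le_of_index_le h1 h2.ge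
  refine comm_iff_le_cent.2 fun w hw => mem_of_forall_primePow w fun y hy p k hp ho => ?_
  have hy' : y ∈ C[x] := (zpowers_le.2 hw) hy
  have py : PiE {p} y := by rw [PiE, ho]; exact PiN.prime_pow hp k
  rw [← le_cent1_iff]
  by_cases e : q = p
  · rw [h3] at hy' ⊢
    exact cent_le_of_iso ht (h2 ▸ h) hy' (cop (e ▸ hqr.symm) pt py)
  · exact cent_le_of_iso hx h hy' (cop e px py)

theorem pg_or_ab_of_iso {x : G} {q : ℕ} (hx : x ≠ 1) (px : PiE {q} x)
    (h : ∀ u : G, u ≠ 1 → cs x ∣ cs u → cs u = cs x)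
    (h' : ∀ u : G, u ≠ 1 → cs u ∣ cs x → cs u = cs x) : PG q C[x] ∨ Ab C[x] := by
  refine or_iff_not_imp_left.2 fun hn => ?_
  simp only [PiG, PiN, not_forall] at hn
  obtain ⟨r, hr, hd, hq⟩ := hn
  obtain ⟨t, ht, ho⟩ := exists_orderOf_eq_prime hr hd
  exact ab_cent_of_iso (r := r) (fun e => hq e.symm) hx
    (by rintro rfl; exact hr.one_lt.ne (by simpa using ho)) px
    (by rw [PiE, ho]; exact (piN_prime hr).2 rfl) ht h h'

/-- if no class size of a non-identity element properly divides another, then the centralizers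
of involutions are abelian -/
theorem ab_cent_of_antichain (h : ∀ u v : G, u ≠ 1 → v ≠ 1 → cs u ∣ cs v → cs v = cs u) {t : G}
    (ht : orderOf t = 2) : Ab C[t] := by
  have D : ∀ w : G, w ≠ 1 → PiE {2} w → PG 2 C[w] ∨ Ab C[w] := fun w h1 h2 =>
    pg_or_ab_of_iso h1 h2 (fun u hu => h w u h1 hu) fun u hu e => (h u w hu h1 e).symm
  have t1 := ne_one_of_two ht
  have up : ∀ {v w : G}, Ab C[v] → w ∈ C[v] → PG 2 C[w] → PG 2 C[v] := fun ha hw hp =>
    hp.of_le fun y hy => mem_cent1.2 (mul_comm_of_comm ha hy hw)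
  refine (D t t1 (by rw [PiE, ht]; exact (piN_prime Nat.prime_two).2 rfl)).elim (fun hp => ?_) id
  obtain ⟨S, hS, hle⟩ := hp.exists_syl le_top
  obtain ⟨z, hz, z1⟩ := exists_ne_one (hS.pi.center_ne_bot
    (ne_bot_of_mem (hle (mem_cent1_self t)) t1))
  have hSz := le_cent1_iff.2 hz.2
  have pz : PG 2 C[z] := (D z z1 (hS.pi.elt hz.1)).elim id fun ha =>
    up ha (hSz (hle (mem_cent1_self t))) hp
  have oz : ¬ 2 ∣ cs z := by
    have := hS.not_dvd_relIndex Nat.prime_two hSz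
    rwa [relIndex_top_right] at this
  haveI : Fact (Nat.Prime 2) := ⟨Nat.prime_two⟩
  obtain ⟨P, rfl⟩ := hS.exists_sylow_top
  refine comm_mono (Cfsg.Agent.S4355.result (fun x ⟨k, hk⟩ => ?_) P) hle
  by_cases x1 : x = 1
  · have := cs_one (G := G)
    rw [x1, show C[(1 : G)].index = 1 from this]
    norm_num
  obtain ⟨g, hg⟩ := exists_conj_mem_sylow hk P
  have w1 : g⁻¹ * x * g ≠ 1 := fun e => x1 (by
    have : x = g * (g⁻¹ * x * g) * g⁻¹ := by group
    rw [this, e]; group)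
  have pw : PG 2 C[g⁻¹ * x * g] := (D _ w1 (hS.pi.elt hg)).elim id fun ha =>
    up ha (mem_cent1_symm.1 (hSz hg)) pz
  have e1 : cs (g⁻¹ * x * g) = cs x := by simpa using cs_conj g⁻¹ x
  have e2 : cs z ∣ cs (g⁻¹ * x * g) := by
    refine PiN.dvd_of_dvd_mul (π := {2}ᶜ) (PiN.of_not_dvd oz) pw.compl_compl ?_
    rw [cs_mul_card]; exact cs_dvd_card z
  have := h _ _ z1 w1 e2
  change ¬ 2 ∣ cs x
  rwa [← e1, this]

section simple
variable [IsSimpleGroup G]

theorem top_le_of_conj {y : G} (hy : y ≠ 1) {M : Subgroup G} (h : ∀ g, g * y * g⁻¹ ∈ M) :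
    M = ⊤ := by
  have h1 : normalClosure {y} ≤ M := (closure_le _).2 fun z hz => by
    obtain ⟨w, hw, hz'⟩ := Group.mem_conjugatesOfSet_iff.1 hz
    obtain ⟨g, rfl⟩ := isConj_iff.1 hz'
    rw [Set.mem_singleton_iff.1 hw]; exact h g
  rcases (inferInstance : (normalClosure {y}).Normal).eq_bot_or_eq_top with e | e
  · exact absurd (mem_bot.1 (e ▸ subset_normalClosure (s := {y}) rfl)) hy
  · exact top_le_iff.1 (e ▸ h1)

variable (hZ : center G = ⊥)
include hZ

omit [IsSimpleGroup G] in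
theorem one_lt_cs {x : G} (hx : x ≠ 1) : 1 < cs x :=
  one_lt_cs_iff.2 (by rwa [hZ, mem_bot])

theorem not_comm_of_coprime {x y : G} (hx : x ≠ 1) (hy : y ≠ 1) (h : (cs x).Coprime (cs y)) :
    y ∉ C[x] := fun hc => by
  have : C[x] = ⊤ := top_le_of_conj hy fun g => by
    obtain ⟨u, hu, k, hk, rfl⟩ := H2.facIn_of_coprime_index h g (mem_top g)
    have : u * k * y * (u * k)⁻¹ = u * y * u⁻¹ := by rw [mul_assoc u, mem_cent1.1 hk]; group
    exact this ▸ mul_mem (mul_mem hu hc) (inv_mem hu)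
  rw [cent_eq_top_iff, hZ, mem_bot] at this
  exact hx this

theorem cs_mul_ne_left {x y : G} (hx : x ≠ 1) (hy : y ≠ 1) (h : (cs x).Coprime (cs y)) :
    cs (x * y) ≠ cs x := fun he => by
  obtain ⟨N, hN, h1, h2⟩ := exists_normal_of_cs_mul_eq h he
  rcases hN.eq_bot_or_eq_top with e | e
  · refine hy (mem_bot.1 (hZ ▸ mem_center_iff.2 fun g => ?_))
    have := mem_bot.1 (e ▸ h2 g)
    rwa [mul_inv_eq_one, mul_inv_eq_iff_eq_mul] at this
  · rw [e, card_top, ← cs_mul_card x] at h1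
    have h3 := Nat.le_of_dvd (cs_pos x) h1
    have h4 := ne_bot_iff_one_lt_card.1 (ne_bot_of_mem (mem_cent1_self x) hx)
    have := cs_pos x
    nlinarith

theorem cs_mul_ne_mul {x y : G} (hx : x ≠ 1) (hy : y ≠ 1) (h : (cs x).Coprime (cs y)) :
    cs (x * y) ≠ cs x * cs y := fun he => by
  have h1 : C[x] ⊓ C[y] = C[x * y] :=
    eq_of_le_of_index_le (cent_inf_le_cent_mul x y) (by
      rw [index_inf_of_coprime h]; exact he.ge)
  have h2 : x * y ∈ C[x] := (h1.ge (mem_cent1_self _)).1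
  exact not_comm_of_coprime hZ hx hy h ((mul_mem_cancel_left (mem_cent1_self x)).1 h2)

theorem cs_mul_eq_third {a b c : ℕ} (hS : ∀ g : G, g ≠ 1 → cs g = a ∨ cs g = b ∨ cs g = c)
    (hab : a.Coprime b) {x y : G} (hx : x ≠ 1) (hy : y ≠ 1) (ex : cs x = a) (ey : cs y = b) :
    cs (x * y) = c ∧ a < c ∧ b < c ∧ c ∣ a * b ∧ c ≠ a * b := by
  subst ex ey
  have h1 := cs_mul_ne_left hZ hx hy hab
  have h2 := cs_mul_ne_left hZ hy hx hab.symm
  have h3 := cs_le_cs_mul_left hab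
  have h4 := cs_le_cs_mul_left hab.symm
  rw [cs_mul_comm y] at h2 h4
  have h5 : x * y ≠ 1 := fun e => by
    have := one_lt_cs hZ hx
    rw [e, cs_one] at h3; omega
  have h6 : cs (x * y) = c := ((hS _ h5).resolve_left h1).resolve_left h2
  subst h6
  exact ⟨rfl, lt_of_le_of_ne h3 h1.symm, lt_of_le_of_ne h4 h2.symm, cs_mul_dvd_of_coprime hab,
    cs_mul_ne_mul hZ hx hy hab⟩

theorem not_coprime_aux {a b c : ℕ} (hS : ∀ g : G, g ≠ 1 → cs g = a ∨ cs g = b ∨ cs g = c)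
    (hab : a.Coprime b) {x₁ y₁ : G} (hx₁ : x₁ ≠ 1) (hy₁ : y₁ ≠ 1) (ex₁ : cs x₁ = a)
    (ey₁ : cs y₁ = b) (hac : ¬ a ∣ c) : False := by
  obtain ⟨-, lac, lbc, dc, -⟩ := cs_mul_eq_third hZ hS hab hx₁ hy₁ ex₁ ey₁
  have a1 : 1 < a := ex₁ ▸ one_lt_cs hZ hx₁
  have b1 : 1 < b := ey₁ ▸ one_lt_cs hZ hy₁
  have iso1 : ∀ u : G, u ≠ 1 → a ∣ cs u → cs u = a := fun u hu e => by
    rcases hS u hu with h | h | h
    · exact h
    · exact absurd (hab.eq_one_of_dvd (h ▸ e)) a1.ne'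
    · exact absurd (h ▸ e) hac
  have iso2 : ∀ u : G, u ≠ 1 → cs u ∣ a → cs u = a := fun u hu e => by
    rcases hS u hu with h | h | h
    · exact h
    · exact absurd (hab.symm.eq_one_of_dvd (h ▸ e)) b1.ne'
    · exact absurd (Nat.le_of_dvd (by omega) (h ▸ e)) (by omega)
  have iso3 : ∀ u : G, u ≠ 1 → cs u ∣ b → cs u = b := fun u hu e => by
    rcases hS u hu with h | h | h
    · exact absurd (hab.eq_one_of_dvd (h ▸ e)) a1.ne'
    · exact h
    · exact absurd (Nat.le_of_dvd (by omega) (h ▸ e)) (by omega)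
  -- the abelian subgroup `A`
  obtain ⟨q, hq, qc, qb⟩ : ∃ q, q.Prime ∧ q ∣ c ∧ q ∣ b := by
    rw [← Nat.Prime.not_coprime_iff_dvd]
    intro h
    exact absurd (Nat.le_of_dvd (by omega) (h.dvd_of_dvd_mul_right dc)) (by omega)
  have bG : b ∣ Nat.card G := ey₁ ▸ cs_dvd_card y₁
  obtain ⟨x, x1, px, nx⟩ := exists_pcentral hq (qb.trans bG)
  have ex : cs x = a := by
    rcases hS x x1 with h | h | h
    · exact h
    · exact absurd (h ▸ qb) nx
    · exact absurd (h ▸ qc) nx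
  obtain ⟨r, hr, rb, rq⟩ : ∃ r, r.Prime ∧ r ∣ b ∧ r ≠ q := by
    by_contra hn
    push Not at hn
    have h1 := Nat.eq_prime_pow_of_unique_prime_dvd (p := q) (n := b) (by omega)
      fun {d} hd h => hn d hd h
    have := H5.comm_of_simple_of_class_prime_pow hq hy₁ (ey₁.trans h1)
    exact hx₁ (mem_bot.1 (hZ ▸ this ▸ mem_top x₁))
  have cA : a * #C[x] = Nat.card G := ex ▸ cs_mul_card x
  obtain ⟨t, ht, ot⟩ := exists_orderOf_eq_prime (H := C[x]) hr
    (((hab.symm.coprime_dvd_left rb)).dvd_of_dvd_mul_left (cA ▸ rb.trans bG))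
  have hA : Ab C[x] := ab_cent_of_iso rq.symm x1
    (by rintro rfl; exact hr.one_lt.ne (by simpa using ot)) px
    (by rw [PiE, ot]; exact (piN_prime hr).2 rfl) ht (ex ▸ iso1) (ex ▸ iso2)
  have xA : x ∈ C[x] := mem_cent1_self x
  have iA : C[x].index = a := ex
  generalize C[x] = A at hA cA xA iA
  have hcc : ∀ u ∈ A, u ≠ 1 → C[u] = A := fun u hu u1 => by
    have h1 : A ≤ C[u] := fun v hv => mem_cent1.2 (mul_comm_of_comm hA hv hu)
    exact (eq_of_le_of_index_le h1 (iA ▸ (iso2 u u1 (iA ▸ index_dvd_of_le h1)).ge)).symm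
  have csA : ∀ u ∈ A, u ≠ 1 → cs u = a := fun u hu u1 => by rw [← iA, ← hcc u hu u1]
  have hall : ∀ p, p.Prime → p ∣ #A → ∃ P, Syl p P ⊤ ∧ P ≤ A := fun p hp hd => by
    obtain ⟨u, hu, ou⟩ := exists_orderOf_eq_prime hp hd
    have u1 : u ≠ 1 := by rintro rfl; exact hp.one_lt.ne (by simpa using ou)
    obtain ⟨P, hP, hle⟩ := (PiN.of_card hp ((Nat.card_zpowers u).trans ou)).exists_syl le_top
    obtain ⟨z, hz, z1⟩ := exists_ne_one (hP.pi.center_ne_bot
      (ne_bot_of_mem (hle (mem_zpowers u)) u1))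
    have h1 : z ∈ A := hcc u hu u1 ▸ cent_le_cent1 (hle (mem_zpowers u)) hz.2
    exact ⟨P, hP, hcc z h1 z1 ▸ le_cent1_iff.2 hz.2⟩
  -- elements of class size `b`
  have nN : ∀ y : G, y ≠ 1 → cs y = b → y ∉ N(A) := fun y y1 ey hy => by
    have h1 : N(A) = ⊤ := top_le_of_conj y1 fun g => by
      obtain ⟨u, hu, k, hk, rfl⟩ := H2.facIn_of_coprime_index (A := A) (B := C[y])
        (by rw [iA, show C[y].index = b from ey]; exact hab) g (mem_top g)
      have : u * k * y * (u * k)⁻¹ = u * y * u⁻¹ := by rw [mul_assoc u, mem_cent1.1 hk]; group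
      exact this ▸ mul_mem (mul_mem (le_normalizer hu) hy) (inv_mem (le_normalizer hu))
    rcases (normalizer_eq_top_iff.1 h1).eq_bot_or_eq_top with e | e
    · exact x1 (mem_bot.1 (e ▸ xA))
    · rw [e, index_top] at iA; omega
  obtain ⟨y, y1, ey, p, hp, oy⟩ : ∃ y : G, y ≠ 1 ∧ cs y = b ∧ ∃ p, p.Prime ∧ orderOf y = p := by
    obtain ⟨p, hp, hd⟩ := exists_prime_dvd_orderOf hy₁
    obtain ⟨y, hy, oy⟩ := exists_orderOf_eq_prime (H := zpowers y₁) hp (by rwa [Nat.card_zpowers])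
    have y1 : y ≠ 1 := by rintro rfl; exact hp.one_lt.ne (by simpa using oy)
    exact ⟨y, y1, iso3 y y1 (ey₁ ▸ cs_dvd_of_mem_zpowers hy), p, hp, oy⟩
  have nc : ∀ u ∈ C[y], u ≠ 1 → cs u ≠ a := fun u hu u1 e =>
    not_comm_of_coprime hZ y1 u1 (by rw [e, ey]; exact hab.symm) hu
  have cH : b * #C[y] = Nat.card G := ey ▸ cs_mul_card y
  have cop : (#A).Coprime #C[y] := by
    by_contra hn
    obtain ⟨s, hs, h1, h2⟩ := Nat.Prime.not_coprime_iff_dvd.1 hn
    obtain ⟨P, hP, hle⟩ := hall s hs h1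
    obtain ⟨w, hw, ow⟩ := exists_orderOf_eq_prime hs h2
    have w1 : w ≠ 1 := by rintro rfl; exact hs.one_lt.ne (by simpa using ow)
    obtain ⟨g, -, hg⟩ := hP.scj_le (K := zpowers w) le_top
      (PiN.of_card hs ((Nat.card_zpowers w).trans ow))
    exact nc w hw w1 (cs_conj g w ▸ csA _ (hle (hg (conj_mem_cj.2 (mem_zpowers w))))
      fun e => w1 (H20.conj_eq_one_iff'.1 e))
  have cardA : #A = b := Nat.dvd_antisymm (cop.dvd_of_dvd_mul_right (cH ▸ cA ▸ Dvd.intro_left _ rfl))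
    (hab.symm.dvd_of_dvd_mul_left (cA ▸ bG))
  -- the complement `E`
  have iN : N(A).index ∣ a := iA ▸ index_dvd_of_le le_normalizer
  have iE : (N(A) ⊓ C[y]).index = N(A).index * b := by
    rw [index_inf_of_coprime (by rw [show C[y].index = b from ey]; exact hab.coprime_dvd_left iN),
      show C[y].index = b from ey]
  have cE := (N(A) ⊓ C[y]).card_mul_index
  obtain ⟨ez, -⟩ := cs_mul_eq_third hZ hS hab x1 y1 ex ey
  have cz : c * #C[x * y] = Nat.card G := ez ▸ cs_mul_card (x * y)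
  have z1 : x * y ≠ 1 := fun e => by rw [e, cs_one] at ez; omega
  have mE : ∀ e ∈ N(A) ⊓ C[y], e ≠ 1 → #C[e] = #C[x * y] := fun e he e1 => by
    have h1 : cs e = c := ((hS e e1).resolve_left (nc e he.2 e1)).resolve_left
      fun h => nN e e1 h he.1
    have h2 := cs_mul_card e
    rw [h1, ← cz] at h2
    exact Nat.eq_of_mul_eq_mul_left (by omega) h2
  -- counting
  have cnt : (b - 1) * N(A).index ≤ c := by
    rw [← cardA, ← H20.ncard_nt, ← ti_ncard (A := nt A) (L := N(A))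
      (fun g hg u hu => H20.conj_mem_nt hg hu) (fun g u hu hg =>
        mem_norm_of_cc hA (fun u hu u1 => (hcc u hu u1).le) hu.1 hu.2 hg.1), ← ez, ← ncard_isConj]
    refine Set.ncard_le_ncard_of_injOn (· * y) ?_ (fun _ _ _ _ e => mul_right_cancel e)
    rintro _ ⟨v, hv, g, rfl⟩
    obtain ⟨z', y', h1, h2, h3⟩ := mul_class_of_cc hA (fun u hu u1 => (hcc u hu u1).le)
      (y := x * y) (z := y⁻¹)
      (fun u hu u1 h => by have := cs_eq_of_isConj h; rw [csA u hu u1] at this; omega)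
      (fun u hu u1 h => by
        have := cs_eq_of_isConj h
        rw [csA u hu u1, cs_inv, ey] at this
        rw [this, Nat.coprime_self] at hab; omega)
      (by rwa [mul_inv_cancel_right]) (by rwa [mul_inv_cancel_right]) hv.1 hv.2
    have h4 : IsConj y y'⁻¹ := by
      obtain ⟨k, rfl⟩ := isConj_iff.1 h2
      exact isConj_iff.2 ⟨k, by group⟩
    have h5 := isConj_mul_of_coprime (x := v) (y := y'⁻¹) (x' := g * v * g⁻¹) (y' := y)
      (by rw [csA v hv.1 hv.2, ← cs_eq_of_isConj h4, ey]; exact hab) (isConj_iff.2 ⟨g, rfl⟩) h4.symm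
    rw [← h3, mul_inv_cancel_right, h3] at h5
    exact h1.trans h5
  set E := N(A) ⊓ C[y] with hE
  set m := #C[x * y] with hm

  have cent : ∀ s R, Syl s R E → R ≠ ⊥ → #(R ⊔ zpowers y) ∣ m := fun s R hR h1 => by
    obtain ⟨e, he, e1⟩ := exists_ne_one (hR.pi.center_ne_bot h1)
    rw [← mE e (hR.le he.1) e1]
    exact card_dvd (sup_le (le_cent1_iff.2 he.2)
      (zpowers_le.2 (mem_cent1_symm.1 (hR.le he.1).2)))
  have dE : #E ∣ m := by
    refine (Nat.dvd_iff_prime_pow_dvd_dvd _ _).2 fun s k hs hk => ?_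
    obtain ⟨R, hR⟩ := exists_syl s E
    have h1 := hR.dvd (PiN.prime_pow hs k) hk
    by_cases h0 : R = ⊥
    · rw [h0, card_bot] at h1
      exact h1.trans (one_dvd _)
    · exact h1.trans ((card_dvd le_sup_left).trans (cent s R hR h0))
  have b2 : b ≠ 2 := fun e => by
    have := H5.comm_of_simple_of_class_prime_pow (k := 1) Nat.prime_two y1 (ey.trans e)
    exact hx₁ (mem_bot.1 (hZ ▸ this ▸ mem_top x₁))
  have em : #E = m := by
    obtain ⟨k, hk⟩ := dE
    have h1 : (b - 1) * m ≤ #E * b := by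
      refine Nat.le_of_mul_le_mul_right (c := N(A).index) ?_
        (Nat.pos_of_ne_zero FiniteIndex.index_ne_zero)
      calc (b - 1) * m * N(A).index = (b - 1) * N(A).index * m := by ring
        _ ≤ c * m := Nat.mul_le_mul_right _ cnt
        _ = #E * b * N(A).index := by rw [cz, ← cE, iE]; ring
    have h2 := card_pos E
    have h3 : 0 < m := card_pos _
    obtain ⟨b', rfl⟩ : ∃ b', b = b' + 3 := ⟨b - 3, by omega⟩
    rw [hk] at h1 h3 ⊢
    rcases k with _ | _ | k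
    · simp at h3
    · simp
    · exfalso
      rw [show b' + 3 - 1 = b' + 2 by omega] at h1
      nlinarith [Nat.zero_le (#E * k * b'), Nat.zero_le (#E * k), Nat.zero_le (#E * b')]
  have E1 : E ≠ ⊥ := by
    rw [ne_bot_iff_one_lt_card, em]
    exact ne_bot_iff_one_lt_card.1 (ne_bot_of_mem (mem_cent1_self _) z1)
  obtain ⟨e, he, e1⟩ := exists_ne_one E1
  have pE : p ∣ #E := by
    rw [em, ← mE e he e1, ← oy]
    exact orderOf_dvd_card' (mem_cent1_symm.1 he.2)
  obtain ⟨R, hR⟩ := exists_syl p E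
  have h1 := cent p R hR (hR.sne_bot hp pE)
  have h2 : PG p (R ⊔ zpowers y) := hR.pi.sup (PiN.of_card hp ((Nat.card_zpowers y).trans oy))
    (norms_of_cents (by
      rw [zpowers_le, ← le_cent1_iff]; exact hR.le.trans inf_le_right))
  have h3 := eq_of_le_of_card_eq (le_sup_left : R ≤ R ⊔ zpowers y)
    (Nat.dvd_antisymm (card_dvd le_sup_left) (hR.dvd h2 (em ▸ h1)))
  exact nN y y1 ey (hR.le (h3.ge (le_sup_right (a := R) (mem_zpowers y)))).1

theorem not_coprime_of_three {a b c : ℕ} (hS : ∀ g : G, g ≠ 1 → cs g = a ∨ cs g = b ∨ cs g = c)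
    {x y : G} (hx : x ≠ 1) (hy : y ≠ 1) (ex : cs x = a) (ey : cs y = b) : ¬ a.Coprime b := by
  intro hab
  obtain ⟨-, -, -, dc, nc⟩ := cs_mul_eq_third hZ hS hab hx hy ex ey
  by_cases h : a ∣ c
  · exact not_coprime_aux hZ (fun g hg => or_left_comm.1 (hS g hg)) hab.symm hy hx ey ex
      fun h' => nc (Nat.dvd_antisymm dc (hab.mul_dvd_of_dvd_of_dvd h h'))
  · exact not_coprime_aux hZ hS hab hx hy ex ey h

end simple

end H24
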