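/-
Groups with trivial centre whose class sizes form an antichain; class sizes of `PSL₂(2^m)`.
-/
import Cfsg.Agent.H24.Rank3
import Cfsg.Agent.S2202
import Cfsg.Agent.H20.FT
import Cfsg.Agent.H13.PSL2
import Cfsg.Agent.H11.LowDim

set_option autoImplicit false

open Cfsg Subgroup
namespace H24
open scoped MatrixGroups

variable {G : Type*} [Group G] [Finite G]

theorem isSolvable_of_normal_of_quot (N : Subgroup G) [N.Normal] (h1 : Group.IsSolvable N)
    (h2 : Group.IsSolvable (G ⧸ N)) : Group.IsSolvable G :=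
  solvable_of_ker_le_range N.subtype (QuotientGroup.mk' N) (by simp)

theorem center_sl_two {F : Type*} [Field F] [Fintype F] [CharP F 2] : center SL(2, F) = ⊥ := by
  classical
  obtain ⟨n, -, hn⟩ := FiniteField.card F 2
  rw [← card_eq_one, H13.GL2.card_center_SL, hn]
  refine (Nat.Prime.coprime_iff_not_dvd Nat.prime_two).2 fun h => ?_
  have h1 : 2 ∣ 2 ^ (n : ℕ) := dvd_pow_self 2 n.ne_zero
  have h2 : 0 < 2 ^ (n : ℕ) := by positivity
  omega

theorem solvable_or_psl (hZ : center G = ⊥)
    (h : ∀ t : G, orderOf t = 2 → IsMulCommutative (centralizer ({t} : Set G))) :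
    Group.IsSolvable G ∨ ∃ (F : Type) (_ : Field F) (_ : Fintype F), CharP F 2 ∧
      Nonempty (G ≃* PSL(2, F)) := by
  rcases Nat.even_or_odd (Nat.card G) with he | ho
  swap
  · exact Or.inl (H20.odd_solvable G ho)
  haveI : Fact (Nat.Prime 2) := ⟨Nat.prime_two⟩
  obtain ⟨P⟩ : Nonempty (Sylow 2 G) := inferInstance
  rcases Cfsg.Agent.S2202.result he h with h1 | h1 | ⟨F, _, _, A, _, _, hF, -, ⟨e⟩⟩
  · left
    have hm : (Nat.card G).minFac = 2 := (Nat.minFac_eq_two_iff _).2 he.two_dvd
    have hc := IsCyclic.isComplement' hm (h1 P)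
    refine isSolvable_of_normal_of_quot (MonoidHom.transferSylow P
      ((h1 P).normalizer_le_centralizer hm)).ker (H20.odd_solvable _ ?_) ?_
    · rw [← hc.index_eq_card, ← Nat.not_even_iff_odd, even_iff_two_dvd]
      exact P.not_dvd_index
    · haveI := P.isPGroup'.isNilpotent
      exact solvable_of_solvable_injective (QuotientGroup.kerLift_injective _)
  · left
    haveI := h1 P
    haveI := P.isPGroup'.isNilpotent
    refine isSolvable_of_normal_of_quot (P : Subgroup G) inferInstance (H20.odd_solvable _ ?_)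
    rw [← Nat.not_even_iff_odd, even_iff_two_dvd]
    exact P.not_dvd_index
  · right
    have hA : ∀ a : A, a = 1 := fun a => by
      have : e.symm (1, a) ∈ center G := mem_center_iff.2 fun g => e.injective (by
        simp [Prod.ext_iff, mul_comm])
      rw [hZ, mem_bot] at this
      simpa using congrArg (fun g => (e g).2) this
    haveI : Unique A := ⟨⟨1⟩, hA⟩
    exact ⟨F, inferInstance, inferInstance, hF, ⟨(e.trans MulEquiv.prodUnique).trans
      ((QuotientGroup.quotientMulEquivOfEq center_sl_two).trans QuotientGroup.quotientBot).symm⟩⟩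

open H13.GL2 in
theorem range_cs_psl {F : Type*} [Field F] [Fintype F] [CharP F 2] (h4 : 4 ≤ Fintype.card F) :
    {m : ℕ | ∃ x : PSL(2, F), x ≠ 1 ∧ m = cs x} =
      {Fintype.card F ^ 2 - 1, Fintype.card F * (Fintype.card F + 1),
        Fintype.card F * (Fintype.card F - 1)} := by
  classical
  have h2 : (2 : F) = 0 := CharP.cast_eq_zero F 2
  have hg : Nat.gcd 2 (Fintype.card F - 1) = 1 := by
    rw [← card_center_SL, center_sl_two, card_bot]
  have e1 : 2 * Fintype.card F - (Fintype.card F - 1) = Fintype.card F + 1 := by omega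
  have e2 : 2 * Fintype.card F - (Fintype.card F + 1) = Fintype.card F - 1 := by omega
  ext m
  simp only [Set.mem_setOf_eq, Set.mem_insert_iff, Set.mem_singleton_iff]
  constructor
  · rintro ⟨x, hx, rfl⟩
    obtain ⟨g, rfl⟩ := pr_surjective x
    rcases index_cent_pr_cases g with h | h | ⟨T, w, hT, hg1, hg2⟩
    · exact absurd h.2 hx
    · left; rw [← h.1, hg, mul_one]
    · right
      have := hT.index_cent_pr hg1 hg2 fun _ => h2
      rcases hT.card with h | h
      · left; rwa [h, e1] at this
      · right; rwa [h, e2] at this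
  · rintro (rfl | rfl | rfl)
    · have hc : sl2 (1 : F) 1 0 1 (by simp) ∉ center SL(2, F) := by
        rw [center_sl_two, mem_bot]
        intro e
        simpa using congrArg (fun g : SL(2, F) => g 0 1) e
      have ht : ts (sl2 (1 : F) 1 0 1 (by simp)) ^ 2 = 4 := by
        rw [ts]; simp; norm_num
      refine ⟨_, mt pr_eq_one.1 hc, ?_⟩
      rcases index_cent_pr_cases (sl2 (1 : F) 1 0 1 (by simp)) with h | h | ⟨T, w, hT, hg1, hg2⟩
      · exact absurd (pr_eq_one.1 h.2) hc
      · rw [← h.1, hg, mul_one]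
      · exact absurd ht (hT.ts_sq_ne hg1 hg2)
    · obtain ⟨t, ht, hc⟩ := (sTor_dS (F := F)).exists_noncentral (by rw [card_range_dS]; omega)
      refine ⟨_, mt pr_eq_one.1 hc, ?_⟩
      rw [cs, sTor_dS.index_cent_pr ht hc fun _ => h2, card_range_dS, e1]
    · obtain ⟨w, hw⟩ := exists_sTor_eS (F := F)
      obtain ⟨t, ht, hc⟩ := hw.exists_noncentral (by rw [card_range_eS]; omega)
      refine ⟨_, mt pr_eq_one.1 hc, ?_⟩
      rw [cs, hw.index_cent_pr ht hc fun _ => h2, card_range_eS, e2]

/-- three pairwise non-coprime class sizes form an antichain -/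
theorem antichain_of_three (hZ : center G = ⊥) {a b c : ℕ}
    (hS : ∀ g : G, g ≠ 1 → cs g = a ∨ cs g = b ∨ cs g = c)
    (hn : ∀ x y : G, x ≠ 1 → y ≠ 1 → ¬ (cs x).Coprime (cs y)) {u v : G} (hu : u ≠ 1) (hv : v ≠ 1)
    (h : cs u ∣ cs v) : cs v = cs u := by
  by_contra hne
  -- a prime dividing `cs u` and the third size divides every size
  have key : ∀ w : G, w ≠ 1 → (∀ g : G, g ≠ 1 → cs g = cs u ∨ cs g = cs v ∨ cs g = cs w) → False := by
    intro w hw H
    obtain ⟨p, hp, h1, h2⟩ := Nat.Prime.not_coprime_iff_dvd.1 (hn u w hu hw)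
    obtain ⟨x, x1, -, nx⟩ := exists_pcentral hp (h1.trans (cs_dvd_card u))
    rcases H x x1 with e | e | e
    · exact nx (e ▸ h1)
    · exact nx (e ▸ h1.trans h)
    · exact nx (e ▸ h2)
  by_cases hw : ∃ w : G, w ≠ 1 ∧ cs w ≠ cs u ∧ cs w ≠ cs v
  · obtain ⟨w, w1, h1, h2⟩ := hw
    refine key w w1 fun g hg => ?_
    have := hS g hg
    have := hS u hu
    have := hS v hv
    have := hS w w1
    omega
  · push Not at hw
    refine key u hu fun g hg => ?_
    have := hw g hg
    omega

end H24
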