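/-
Centreless groups with three nontrivial class sizes, two of them coprime: basic lemmas.
-/
import Cfsg.Agent.H24.Rank3b
import Cfsg.Agent.H25.Ito4
import Cfsg.Agent.H3.ThompsonFpf

set_option autoImplicit false
set_option linter.unusedSectionVars false

open Cfsg Subgroup
namespace H24
open H19

universe u
variable {G : Type u} [Group G] [Finite G] {p q s : ℕ} {π : Set ℕ} {t w x y g : G}

theorem ne_one_of_prime (hp : p.Prime) (h : orderOf x = p) : x ≠ 1 := by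
  rintro rfl; exact hp.one_lt.ne (by simpa using h)

theorem piE_of_prime (hp : p.Prime) (h : orderOf x = p) (hm : p ∈ π) : PiE π x := by
  rw [PiE, h]; exact (piN_prime hp).2 hm

theorem sol_of_two_reg (hp : p.Prime) (h : ∀ x y : G, PiE {p}ᶜ x → PiE {p}ᶜ y → x ∉ center G →
    y ∉ center G → #C[x] = #C[y]) : Group.IsSolvable G := by
  rcases H25.Ito.two_reg hp h with ⟨B, h1, h2⟩ | ⟨q, -, -, h1⟩
  · exact H25.Ito.solv_of_hall hp h1 h2
  · exact H25.Ito.solv_of_two fun r x hr h2 h3 h4 => h1 r x hr h2 h3 h4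

theorem sol_of_two_reg' {A : Subgroup G} (hp : p.Prime) (h : ∀ x ∈ A, ∀ y ∈ A, PiE {p}ᶜ x →
    PiE {p}ᶜ y → x ∉ C(A) → y ∉ C(A) → #(C[x] ⊓ A) = #(C[y] ⊓ A)) : H19.Sol A :=
  sol_of_two_reg hp fun x y h1 h2 h3 h4 => by
    rw [H25.Ito.card_cent_sub, H25.Ito.card_cent_sub]
    exact h x x.2 y y.2 (by rwa [PiE, orderOf_coe]) (by rwa [PiE, orderOf_coe])
      (mt H25.Ito.mem_center_sub.2 h3) (mt H25.Ito.mem_center_sub.2 h4)

theorem exists_lift_piE (N : Subgroup G) [N.Normal] {z : G ⧸ N} (h : PiE π z) :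
    ∃ g : G, PiE π g ∧ (g : G ⧸ N) = z := by
  obtain ⟨g, rfl⟩ := QuotientGroup.mk_surjective z
  obtain ⟨a, b, -, hb, hab, -, h1, h2⟩ := exists_piPart π g
  refine ⟨a, h1, ?_⟩
  have h3 : (b : G ⧸ N) = 1 := by
    refine PiN.e_eq_one (π := π) (h.e_of_mem_zpowers ?_)
      (PiN.dvd h2 (orderOf_map_dvd (QuotientGroup.mk' N) b))
    obtain ⟨k, rfl⟩ := hb
    exact ⟨k, rfl⟩
  rw [← hab, QuotientGroup.mk_mul, h3, mul_one]

theorem card_cent_quot (N : Subgroup G) [N.Normal] (hN : PiG π N) (hg : PiE πᶜ g) :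
    #(N ⊓ C[g]) * #C[(g : G ⧸ N)] = #C[g] := by
  have e : C[(g : G ⧸ N)] = C[g].map (QuotientGroup.mk' N) := by
    refine le_antisymm (fun z hz => ?_) (map_cent_le _ g)
    obtain ⟨k, rfl⟩ := QuotientGroup.mk_surjective z
    obtain ⟨n, hn, h1⟩ := exists_mul_mem_cent (A := zpowers g) (H := N) (k := k)
      (normalIn_top.norms le_top) (hN.coprime (piG_zpowers.2 hg)) (.inl (sol_zpowers g))
      fun a ha => by
        rw [← QuotientGroup.eq_one_iff]
        have : (a : G ⧸ N) ∈ C[(k : G ⧸ N)] := by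
          obtain ⟨i, rfl⟩ := ha
          exact zpow_mem (mem_cent1_symm.1 hz) i
        simp only [QuotientGroup.mk_mul, QuotientGroup.mk_inv, mem_cent1.1 this]
        group
    refine ⟨n * k, cent_zpowers g ▸ h1, ?_⟩
    simp [(QuotientGroup.eq_one_iff n).2 hn]
  rw [e, ← card_inf_mul_relIndex N C[g], ← relIndex_ker, QuotientGroup.ker_mk']

theorem card_cent_quot_eq (N : Subgroup G) [N.Normal] (hN : PiG π N) (hx : PiE πᶜ x)
    (hy : PiE πᶜ y) (h1 : PiG πᶜ C[(x : G ⧸ N)]) (h2 : PiG πᶜ C[(y : G ⧸ N)]) (h : #C[x] = #C[y]) :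
    #C[(x : G ⧸ N)] = #C[(y : G ⧸ N)] := by
  rw [← card_cent_quot N hN hx, ← card_cent_quot N hN hy] at h
  exact Nat.dvd_antisymm
    ((h1.coprime' (hN.infl _)).dvd_of_dvd_mul_left (h ▸ Dvd.intro_left _ rfl))
    ((h2.coprime' (hN.infl _)).dvd_of_dvd_mul_left (h.symm ▸ Dvd.intro_left _ rfl))

theorem axb (ht : PiE {p} t) (hw : PiE {p}ᶜ w) (hc : w ∈ C[t]) (h : C[t] ≤ C[w]) :
    w ∈ C(Oc {p} (⊤ : Subgroup G)) :=
  zpowers_le.1 (PxQ (Oc_pi _ _) (piG_zpowers.2 ht) (piG_zpowers.2 hw)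
    (by rw [cent_zpowers, zpowers_le]; exact mem_cent1_symm.1 hc)
    (le_top.trans (Oc_norm _ _)) (le_top.trans (Oc_norm _ _))
    (by rw [cent_zpowers, cent_zpowers]; exact inf_le_right.trans h))

theorem exists_pcentral_mem {D : Subgroup G} (hD : D ⊴ ⊤) (hp : p.Prime) (h : p ∣ #D) :
    ∃ x ∈ D, orderOf x = p ∧ ¬ p ∣ cs x := by
  obtain ⟨P, hP⟩ := exists_syl p (⊤ : Subgroup G)
  have h1 := (hP.inf_normal hD).sne_bot hp h
  obtain ⟨x, hx, x1⟩ := exists_ne_one ((hP.pi.infl D).meet_cent hP.pi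
    (norms_inf le_normalizer (hD.norms le_top)) h1)
  obtain ⟨y, hy, oy⟩ := exists_orderOf_eq_prime (H := zpowers x) hp
    ((piG_zpowers.2 (hP.pi.elt hx.1.1)).dvd_of_ne_bot (by simpa using x1))
  refine ⟨y, zpowers_le.2 hx.1.2 hy, oy, fun e => ?_⟩
  have := hP.not_dvd_relIndex hp (le_cent1_iff.2 hx.2)
  rw [relIndex_top_right] at this
  exact this (e.trans (cs_dvd_of_mem_zpowers hy))

theorem exists_normal_cent (h : (cs x).Coprime (cs y)) (he : cs (x * y) = cs x) :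
    ∃ K : Subgroup G, K ⊴ ⊤ ∧ Ab K ∧ y ∈ K := by
  obtain ⟨N, hN, h1, h2⟩ := exists_normal_of_cs_mul_eq h he
  have h3 := H7.le_cent_of_coprime_cs (N := N) (h.coprime_dvd_left h1)
  have hK : N ⊔ zpowers y ⊴ ⊤ := ⟨le_top, norms_of_commg_le' (by
    rw [commutator_comm]
    refine commg_sup_left_le (normalIn_top.commg_le le_top |>.trans le_sup_left) ?_
      (norms_of_le le_sup_left) (norms_of_le le_sup_right)
    refine commutator_le.2 fun a ha g _ => ?_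
    have : g * a⁻¹ * g⁻¹ ∈ N ⊔ zpowers y := by
      have : cj g (zpowers y) ≤ N ⊔ zpowers y := by
        rw [cj_zpowers, zpowers_le, show g * y * g⁻¹ = g * y * g⁻¹ * y⁻¹ * y by group]
        exact mul_mem_sup (h2 g) (mem_zpowers y)
      exact this (conj_mem_cj.2 (inv_mem ha))
    rw [commutatorElement_def, show a * g * a⁻¹ * g⁻¹ = a * (g * a⁻¹ * g⁻¹) by group]
    exact mul_mem (le_sup_right (a := N) ha) this)⟩
  refine ⟨Z(N ⊔ zpowers y), ⟨le_top, hK.norm.trans ?_⟩, comm_center _,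
    le_sup_right (a := N) (mem_zpowers y), ?_⟩
  · exact norms_inf le_rfl (norm_le_norm_cent _)
  · exact le_cent1_iff.1 (sup_le h3 (zpowers_le.2 (mem_cent1_self y)))

theorem mem_Oc_of_cs_mul (h : (cs x).Coprime (cs y)) (he : cs (x * y) = cs x) (hy : PiE π y) :
    y ∈ Oc π (⊤ : Subgroup G) := by
  obtain ⟨K, h1, h2, h3⟩ := exists_normal_cent h he
  exact Oc_le_Oc h1 (H25.Ito.mem_Oc_of_ab h2 h3 hy)

theorem sol_of_normal_mul {N H : Subgroup G} (hN : N ⊴ ⊤) (h1 : H19.Sol N) (h2 : H19.Sol H)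
    (h : N.index.Coprime H.index) : Group.IsSolvable G := by
  have e : N ⊔ H = ⊤ := eq_top_iff.2 fun g hg => by
    obtain ⟨a, ha, b, hb, rfl⟩ := H2.facIn_of_coprime_index h g hg
    exact mul_mem_sup ha hb
  have := sol_sup h1 h2 (hN.norms le_top)
  rw [e] at this
  exact solvable_of_surjective (f := (⊤ : Subgroup G).subtype) fun g => ⟨⟨g, trivial⟩, rfl⟩

/-- three class sizes `a`, `b`, `c` with `a`, `b` coprime and minimal -/
structure F4 (G : Type u) [Group G] (a b c : ℕ) : Prop where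
  Z : center G = ⊥
  S : ∀ g : G, g ≠ 1 → cs g = a ∨ cs g = b ∨ cs g = c
  cop : a.Coprime b
  exa : ∃ x : G, x ≠ 1 ∧ cs x = a
  exb : ∃ x : G, x ≠ 1 ∧ cs x = b
  nca : ¬ c ∣ a
  ncb : ¬ c ∣ b

namespace F4
variable {a b c : ℕ} (h : F4 G a b c)
include h

theorem symm : F4 G b a c :=
  ⟨h.Z, fun g hg => or_left_comm.1 (h.S g hg), h.cop.symm, h.exb, h.exa, h.ncb, h.nca⟩

theorem a1 : 1 < a := by
  obtain ⟨x, h1, rfl⟩ := h.exa
  exact one_lt_cs h.Z h1

theorem adv : a ∣ Nat.card G := by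
  obtain ⟨x, -, rfl⟩ := h.exa
  exact cs_dvd_card x

theorem ndvd : ¬ a ∣ b := fun e => h.a1.ne' (h.cop.eq_one_of_dvd e)

theorem mina (hx : x ≠ 1) (e : cs x ∣ a) : cs x = a := by
  rcases h.S x hx with h1 | h1 | h1
  · exact h1
  · exact absurd (h1 ▸ e) h.symm.ndvd
  · exact absurd (h1 ▸ e) h.nca

theorem maxc (hx : x ≠ 1) (e : c ∣ cs x) : cs x = c := by
  rcases h.S x hx with h1 | h1 | h1
  · exact absurd (h1 ▸ e) h.nca
  · exact absurd (h1 ▸ e) h.ncb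
  · exact h1

theorem cent_eq (hx : cs x = a) (hw : w ≠ 1) (hle : C[x] ≤ C[w]) : cs w = a ∧ C[x] = C[w] := by
  have h1 := h.mina hw (hx ▸ index_dvd_of_le hle)
  exact ⟨h1, eq_of_le_of_index_le hle (hx.trans h1.symm).le⟩

theorem le_of_c (ht : t ≠ 1) (hc : cs t = c) (hw : w ∈ C[t])
    (ho : (orderOf t).Coprime (orderOf w)) : C[t] ≤ C[w] :=
  cent_le_of_iso ht (fun u hu e => by rw [hc] at e ⊢; exact h.maxc hu e) hw ho

theorem mul_c (ht : t ≠ 1) (hw : w ∈ C[t]) (ho : (orderOf t).Coprime (orderOf w))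
    (hn : ¬ C[t] ≤ C[w]) : cs (t * w) = c := by
  have hc' : Commute t w := (mem_cent1.1 hw).symm
  have h1 : t * w ≠ 1 := fun e => ht (by simpa [e] using mem_zpowers_mul_left hc' ho)
  have h2 := cs_dvd_cs_mul_left hc' ho
  have h3 := cent_mul_of_coprime hc' ho
  have h4 : cs (t * w) ≠ cs t := fun e => hn (by
    have h4 : C[t * w] = C[t] := eq_of_le_of_index_le (h3 ▸ inf_le_left) e.le
    exact h4 ▸ h3 ▸ inf_le_right)
  rcases h.S _ h1 with e | e | e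
  · exact absurd (e.trans (h.mina ht (e ▸ h2)).symm) h4
  · exact absurd (e.trans (h.symm.mina ht (e ▸ h2)).symm) h4
  · exact e

theorem card_inf (ht : t ≠ 1) (hw : w ∈ C[t]) (ho : (orderOf t).Coprime (orderOf w))
    (hn : w ∉ C(C[t])) : c * #(C[w] ⊓ C[t]) = Nat.card G := by
  rw [← h.mul_c ht hw ho (mt le_cent1_iff.1 hn), inf_comm,
    ← cent_mul_of_coprime (mem_cent1.1 hw).symm ho, cs_mul_card]

theorem c0 (hx : cs x = c) : 0 < c := hx ▸ cs_pos x

theorem reg (ht : t ≠ 1) (pt : PiE {p} t) : ∀ x ∈ C[t], ∀ y ∈ C[t], PiE {p}ᶜ x →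
    PiE {p}ᶜ y → x ∉ C(C[t]) → y ∉ C(C[t]) → #(C[x] ⊓ C[t]) = #(C[y] ⊓ C[t]) :=
  fun x hx y hy h1 h2 h3 h4 => by
    have e1 := h.card_inf ht hx (pt.coprime h1) h3
    have e2 := h.card_inf ht hy (pt.coprime h2) h4
    refine Nat.eq_of_mul_eq_mul_left (Nat.pos_of_ne_zero fun e => ?_) (e1.trans e2.symm)
    rw [e, zero_mul] at e1
    exact Nat.card_pos.ne e1

theorem sol (hg : g ≠ 1) : H19.Sol C[g] := by
  obtain ⟨p, hp, hd⟩ := exists_prime_dvd_orderOf hg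
  obtain ⟨t, ht, ot⟩ := exists_orderOf_eq_prime (H := zpowers g) hp (by rwa [Nat.card_zpowers])
  exact sol_mono (sol_of_two_reg' hp (h.reg (ne_one_of_prime hp ot) (piE_of_prime hp ot rfl)))
    (cent1_le_cent1_of_mem_zpowers ht)

theorem card_eq (e : cs x = cs y) : #C[x] = #C[y] := H25.Ito.card_cent_eq e

end F4

end H24
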