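import Cfsg.Agent.H24.SP1
import Cfsg.Agent.H25.Heis

/-! Coordinates on a Sylow subgroup of `Sp₄(q)` and the bridge to additive automorphisms. -/

set_option autoImplicit false
set_option linter.unnecessarySeqFocus false

namespace H24.SP
open Subgroup H25 H25.FS
attribute [-simp] LinearEquiv.coe_inv

variable {Γ : Type*} [Group Γ] {K : Type*} [Field K]

/-- coordinates -/
structure Co (S : Subgroup Γ) (w : K → K → K → K → Γ) : Prop where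
  mul : ∀ a b c d a' b' c' d', w a b c d * w a' b' c' d' =
    w (a + a') (b + b') (c + c' + a * b') (d + d' + 2 * a * c' + a ^ 2 * b')
  inj : ∀ {a b c d a' b' c' d'}, w a b c d = w a' b' c' d' → a = a' ∧ b = b' ∧ c = c' ∧ d = d'
  mem : ∀ g, g ∈ S ↔ ∃ a b c d, w a b c d = g

theorem weq {α : Type*} (w : K → K → K → K → α) {a b c d a' b' c' d' : K} (h1 : a = a') (h2 : b = b')
    (h3 : c = c') (h4 : d = d') : w a b c d = w a' b' c' d' := by rw [h1, h2, h3, h4]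

namespace Co
variable {S : Subgroup Γ} {w : K → K → K → K → Γ}

theorem wm (H : Co S w) (a b c d : K) : w a b c d ∈ S := (H.mem _).2 ⟨a, b, c, d, rfl⟩

theorem one (H : Co S w) : w 0 0 0 0 = 1 := by
  have := H.mul 0 0 0 0 0 0 0 0
  simpa using this

theorem inv (H : Co S w) (a b c d : K) :
    (w a b c d)⁻¹ = w (-a) (-b) (a * b - c) (2 * a * c - a ^ 2 * b - d) := by
  rw [inv_eq_iff_mul_eq_one, H.mul, ← H.one]
  exact weq w (by ring) (by ring) (by ring) (by ring)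

theorem conj (H : Co S w) (a b c d a' b' c' d' : K) : w a b c d * w a' b' c' d' * (w a b c d)⁻¹ =
    w a' b' (c' + a * b' - a' * b) (d' + 2 * a * c' - 2 * a' * c + a ^ 2 * b' - a' ^ 2 * b) := by
  rw [H.inv, H.mul, H.mul]
  exact weq w (by ring) (by ring) (by ring) (by ring)

theorem comm (H : Co S w) (a b c d a' b' c' d' : K) :
    w a b c d * w a' b' c' d' * (w a b c d)⁻¹ * (w a' b' c' d')⁻¹ = w 0 0 (a * b' - a' * b)
      (2 * a * c' - 2 * a' * c + a ^ 2 * b' - a' ^ 2 * b) := by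
  rw [H.conj, H.inv, H.mul]
  exact weq w (by ring) (by ring) (by ring) (by ring)

theorem eq_one (H : Co S w) {a b c d : K} : w a b c d = 1 ↔ a = 0 ∧ b = 0 ∧ c = 0 ∧ d = 0 :=
  ⟨fun h => H.inj (h.trans H.one.symm), by rintro ⟨rfl, rfl, rfl, rfl⟩; exact H.one⟩

theorem comm_iff (H : Co S w) {a b c d a' b' c' d' : K} :
    w a b c d * w a' b' c' d' * (w a b c d)⁻¹ = w a' b' c' d' ↔
      a * b' = a' * b ∧ 2 * a * c' + a ^ 2 * b' = 2 * a' * c + a' ^ 2 * b := by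
  rw [H.conj]
  refine ⟨fun h => ⟨by linear_combination (H.inj h).2.2.1, by linear_combination (H.inj h).2.2.2⟩,
    fun h => weq w rfl rfl (by linear_combination h.1) (by linear_combination h.2)⟩

/-- the subgroup `{la = mb}` -/
def X (H : Co S w) (l m : K) : Subgroup Γ where
  carrier := {g | ∃ a b c d, l * a = m * b ∧ w a b c d = g}
  one_mem' := ⟨0, 0, 0, 0, by simp, H.one⟩
  mul_mem' := by
    rintro _ _ ⟨a, b, c, d, h, rfl⟩ ⟨a', b', c', d', h', rfl⟩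
    exact ⟨_, _, _, _, by linear_combination h + h', (H.mul ..).symm⟩
  inv_mem' := by
    rintro _ ⟨a, b, c, d, h, rfl⟩
    exact ⟨_, _, _, _, by linear_combination -h, (H.inv ..).symm⟩

/-- `{a = b = 0}` -/
def Y (H : Co S w) : Subgroup Γ := H.X 1 0 ⊓ H.X 0 1

/-- `{a = b = c = 0}` -/
def Z (H : Co S w) : Subgroup Γ where
  carrier := {g | ∃ d, w 0 0 0 d = g}
  one_mem' := ⟨0, H.one⟩
  mul_mem' := by
    rintro _ _ ⟨d, rfl⟩ ⟨d', rfl⟩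
    exact ⟨d + d', by rw [H.mul]; simp⟩
  inv_mem' := by
    rintro _ ⟨d, rfl⟩
    exact ⟨-d, by rw [H.inv]; simp⟩

theorem mX (H : Co S w) {l m a b c d : K} : w a b c d ∈ H.X l m ↔ l * a = m * b :=
  ⟨fun ⟨_, _, _, _, h, e⟩ => by obtain ⟨rfl, rfl, -⟩ := H.inj e; exact h, fun h => ⟨_, _, _, _, h, rfl⟩⟩

theorem mJ (H : Co S w) {a b c d : K} : w a b c d ∈ H.X 1 0 ↔ a = 0 := by simp [H.mX]
theorem mB (H : Co S w) {a b c d : K} : w a b c d ∈ H.X 0 1 ↔ b = 0 := by simp [H.mX, eq_comm]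
theorem mY (H : Co S w) {a b c d : K} : w a b c d ∈ H.Y ↔ a = 0 ∧ b = 0 := by
  rw [Y, mem_inf, H.mJ, H.mB]
theorem mZ (H : Co S w) {a b c d : K} : w a b c d ∈ H.Z ↔ a = 0 ∧ b = 0 ∧ c = 0 :=
  ⟨fun ⟨_, e⟩ => by obtain ⟨rfl, rfl, rfl, -⟩ := H.inj e; simp, by
    rintro ⟨rfl, rfl, rfl⟩; exact ⟨d, rfl⟩⟩

theorem X_le (H : Co S w) (l m : K) : H.X l m ≤ S := by
  rintro _ ⟨a, b, c, d, -, rfl⟩; exact H.wm ..
theorem Y_le (H : Co S w) : H.Y ≤ S := inf_le_left.trans (H.X_le _ _)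
theorem Z_le (H : Co S w) : H.Z ≤ S := by rintro _ ⟨d, rfl⟩; exact H.wm ..

theorem exY (H : Co S w) {g : Γ} (h : g ∈ H.Y) : ∃ c d, w 0 0 c d = g := by
  obtain ⟨a, b, c, d, rfl⟩ := (H.mem g).1 (H.Y_le h)
  obtain ⟨rfl, rfl⟩ := H.mY.1 h
  exact ⟨c, d, rfl⟩
theorem exJ (H : Co S w) {g : Γ} (h : g ∈ H.X 1 0) : ∃ b c d, w 0 b c d = g := by
  obtain ⟨a, b, c, d, rfl⟩ := (H.mem g).1 (H.X_le _ _ h)
  obtain rfl := H.mJ.1 h
  exact ⟨b, c, d, rfl⟩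
theorem exB (H : Co S w) {g : Γ} (h : g ∈ H.X 0 1) : ∃ a c d, w a 0 c d = g := by
  obtain ⟨a, b, c, d, rfl⟩ := (H.mem g).1 (H.X_le _ _ h)
  obtain rfl := H.mB.1 h
  exact ⟨a, c, d, rfl⟩

theorem Z_le_Y (H : Co S w) : H.Z ≤ H.Y := by rintro _ ⟨d, rfl⟩; simp [H.mY]
theorem Y_le_X (H : Co S w) (l m : K) : H.Y ≤ H.X l m := fun g hg => by
  obtain ⟨c, d, rfl⟩ := H.exY hg; simp [H.mX]

theorem cenZ (H : Co S w) : S ≤ cz H.Z := fun s hs => mem_cz.2 (by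
  obtain ⟨a, b, c, d, rfl⟩ := (H.mem s).1 hs
  rintro _ ⟨d', rfl⟩
  simp [H.comm_iff])

theorem commY (H : Co S w) {s t : Γ} (hs : s ∈ S) (ht : t ∈ S) : s * t * s⁻¹ * t⁻¹ ∈ H.Y := by
  obtain ⟨a, b, c, d, rfl⟩ := (H.mem s).1 hs
  obtain ⟨a', b', c', d', rfl⟩ := (H.mem t).1 ht
  simp [H.comm, H.mY]

theorem commZ (H : Co S w) {s t : Γ} (hs : s ∈ S) (ht : t ∈ H.Y) : s * t * s⁻¹ * t⁻¹ ∈ H.Z := by
  obtain ⟨a, b, c, d, rfl⟩ := (H.mem s).1 hs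
  obtain ⟨c', d', rfl⟩ := H.exY ht
  simp [H.comm, H.mZ]

theorem nz_of_Y (H : Co S w) {E : Subgroup Γ} (h1 : H.Y ≤ E) (h2 : E ≤ S) : S ≤ nz E :=
  le_nz_iff.2 fun g hg x hx => by simpa using mul_mem (h1 (H.commY hg (h2 hx))) hx

theorem abJ (H : Co S w) : H.X 1 0 ≤ cz (H.X 1 0) := fun s hs => mem_cz.2 fun t ht => by
  obtain ⟨b, c, d, rfl⟩ := H.exJ hs
  obtain ⟨b', c', d', rfl⟩ := H.exJ ht
  simp [H.comm_iff]

end Co

theorem mem_nz_of_char {E Z Y : Subgroup Γ} {g : Γ} (hE : g ∈ nz E) (hZ : g ∈ nz Z)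
    (h : ∀ y, y ∈ Y ↔ y ∈ E ∧ ∀ t ∈ E, y * t * y⁻¹ * t⁻¹ ∈ Z) : g ∈ nz Y := by
  have key : ∀ g ∈ nz E, g ∈ nz Z → ∀ y ∈ Y, g * y * g⁻¹ ∈ Y := fun g hE hZ y hy => by
    obtain ⟨h1, h2⟩ := (h y).1 hy
    refine (h _).2 ⟨conj_mem_of_mem_nz hE h1, fun t ht => ?_⟩
    have := conj_mem_of_mem_nz hZ (h2 _ (conj_mem_of_mem_nz' hE ht))
    convert this using 1; group
  refine mem_normalizer_iff.2 fun y => ⟨key g hE hZ y, fun hy => ?_⟩
  simpa [mul_assoc] using key _ (inv_mem hE) (inv_mem hZ) _ hy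

theorem ht_mul [Finite Γ] {p : ℕ} [Fact p.Prime] {U L : Subgroup Γ} (hs : Syl p U L) {y δ : Γ}
    (hp : δ ^ p = 1) (hU : ∀ g ∈ U, g * y * g⁻¹ = y ∧ g * δ * g⁻¹ = δ) {t : Γ} (ht : t ∈ L)
    (h1 : t * δ * t⁻¹ = δ) (h2 : t * y * t⁻¹ = y * δ) : δ = 1 := by
  have := ht_abs hs (fun m g => g * δ * g⁻¹ = δ ∧ g * y * g⁻¹ = y * δ ^ m)
    (fun g hg => ⟨(hU g hg).2, by simpa using (hU g hg).1⟩) ⟨by simp, by simp⟩
    (fun m n g h a b => ⟨by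
      rw [show g * h * δ * (g * h)⁻¹ = g * (h * δ * h⁻¹) * g⁻¹ by group, b.1, a.1], by
      rw [show g * h * y * (g * h)⁻¹ = g * (h * y * h⁻¹) * g⁻¹ by group, b.2,
        show g * (y * δ ^ n) * g⁻¹ = (g * y * g⁻¹) * (g * δ ^ n * g⁻¹) by group, ← conj_zpow, a.1, a.2,
        zpow_add, mul_assoc]⟩)
    (fun m g a => by
      have e : g⁻¹ * δ * g⁻¹⁻¹ = δ := by
        nth_rewrite 1 [← a.1]; group
      refine ⟨e, ?_⟩
      have e2 : g⁻¹ * (y * δ ^ m) * g⁻¹⁻¹ = y := by rw [← a.2]; group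
      rw [show g⁻¹ * (y * δ ^ m) * g⁻¹⁻¹ = (g⁻¹ * y * g⁻¹⁻¹) * (g⁻¹ * δ ^ m * g⁻¹⁻¹) by group,
        ← conj_zpow, e] at e2
      rw [zpow_neg, eq_mul_inv_iff_mul_eq, e2])
    (fun m g a => ⟨a.1, by rw [a.2, zpow_mul, zpow_natCast, hp]; simp⟩) ht ⟨h1, by simpa using h2⟩
  have h3 := this.2
  rw [h2] at h3
  simpa using h3

section chain
variable [Finite Γ] {p : ℕ} [Fact p.Prime] {F : FS Γ} {P Y1 Y2 Y3 : Subgroup Γ} {a : Γ}

theorem chain4 (hP : IsPGroup p P) (l1 : Y1 ≤ P) (l2 : Y2 ≤ P) (l3 : Y3 ≤ P)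
    (n1 : F.A P ≤ nz Y1) (n2 : F.A P ≤ nz Y2) (n3 : F.A P ≤ nz Y3) (ha : a ∈ F.A P)
    (h1 : a ∈ cz Y1) (h2 : ∀ x ∈ Y2, a * x * a⁻¹ * x⁻¹ ∈ Y1) (h3 : ∀ x ∈ Y3, a * x * a⁻¹ * x⁻¹ ∈ Y2)
    (h4 : ∀ x ∈ P, a * x * a⁻¹ * x⁻¹ ∈ Y3) : a ∈ F.OA p P := by
  refine mem_OA_of_chain hP (n := 4) (fun i => if i = 0 then ⊥ else if i = 1 then Y1 else
    if i = 2 then Y2 else if i = 3 then Y3 else P) rfl le_rfl ?_ ha ?_
  · intro i hi
    interval_cases i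
    · exact fun a _ => mem_nz.2 (by simp [cj_bot])
    · simpa [inf_eq_right.2 l1] using n1
    · simpa [inf_eq_right.2 l2] using n2
    · simpa [inf_eq_right.2 l3] using n3
    · simpa using F.A_le_nz P
  · intro i hi x hx
    interval_cases i
    · simp [mem_cz.1 h1 x hx.2]
    · exact h2 x hx.2
    · exact h3 x hx.2
    · exact h4 x hx.1

theorem chain3 (hP : IsPGroup p P) (l1 : Y1 ≤ P) (l2 : Y2 ≤ P)
    (n1 : F.A P ≤ nz Y1) (n2 : F.A P ≤ nz Y2) (ha : a ∈ F.A P)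
    (h1 : a ∈ cz Y1) (h2 : ∀ x ∈ Y2, a * x * a⁻¹ * x⁻¹ ∈ Y1)
    (h4 : ∀ x ∈ P, a * x * a⁻¹ * x⁻¹ ∈ Y2) : a ∈ F.OA p P :=
  chain4 hP l1 l2 l2 n1 n2 n2 ha h1 h2
    (fun x hx => mul_mem (conj_mem_of_mem_nz (n2 ha) hx) (inv_mem hx)) h4

theorem chain2 (hP : IsPGroup p P) (l1 : Y1 ≤ P) (n1 : F.A P ≤ nz Y1) (ha : a ∈ F.A P)
    (h1 : a ∈ cz Y1) (h4 : ∀ x ∈ P, a * x * a⁻¹ * x⁻¹ ∈ Y1) : a ∈ F.OA p P :=
  chain3 hP l1 l1 n1 n1 ha h1 (fun x hx => mul_mem (conj_mem_of_mem_nz (n1 ha) hx) (inv_mem hx)) h4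

theorem ess_mem (hF : F.Sat p) (hE : F.Ess P) (ha : a ∈ F.S) (h : a ∈ F.OA p P) : a ∈ P :=
  (hF.ess_rad hE).mem hE.centric ha h

end chain

/-- `g` acts as `f` in the coordinates `j` -/
def Act (j : V K → Γ) (g : Γ) (f : Au (V K)) : Prop := ∀ v, g * j v * g⁻¹ = j (f v)

/-- module data -/
structure MD (S E : Subgroup Γ) (j : V K → Γ) : Prop where
  add : ∀ x y, j (x + y) = j x * j y
  inj : Function.Injective j
  mem : ∀ g, g ∈ E ↔ ∃ v, j v = g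
  le : E ≤ S
  ex : ∀ s ∈ S, ∃ a, Act j s (u a)
  ex' : ∀ a, ∃ s ∈ S, Act j s (u a)

section
variable {j : V K → Γ} {g h : Γ} {f f' : Au (V K)} {S E : Subgroup Γ}

theorem Act.mul (H : Act j g f) (H' : Act j h f') : Act j (g * h) (f * f') := fun v => by
  rw [mul_ap, ← H, ← H']; group
theorem Act.inv (H : Act j g f) : Act j g⁻¹ f⁻¹ := fun v => by
  have := H (f⁻¹ v)
  rw [ap_inv] at this
  rw [← this]; group
theorem Act.one : Act j 1 1 := fun v => by simp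
theorem Act.pow (H : Act j g f) (n : ℕ) : Act j (g ^ n) (f ^ n) := by
  induction n with
  | zero => simpa using Act.one
  | succ n ih => rw [pow_succ, pow_succ]; exact ih.mul H

theorem MD.jm (M : MD S E j) (v : V K) : j v ∈ E := (M.mem _).2 ⟨v, rfl⟩
theorem MD.uniq (M : MD S E j) (H : Act j g f) (H' : Act j g f') : f = f' :=
  LinearEquiv.ext fun v => M.inj ((H v).symm.trans (H' v))
theorem MD.agree (M : MD S E j) (H : Act j g f) (H' : Act j h f) : Agree E g h := fun x hx => by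
  obtain ⟨v, rfl⟩ := (M.mem x).1 hx
  rw [H, H']
theorem MD.of_agree (M : MD S E j) (H : Act j h f) (e : Agree E g h) : Act j g f := fun v => by
  rw [e _ (M.jm v), H]
theorem MD.nz (M : MD S E j) (H : Act j g f) : g ∈ nz E :=
  mem_normalizer_iff.2 fun x => ⟨fun hx => by
    obtain ⟨v, rfl⟩ := (M.mem x).1 hx
    rw [H]; exact M.jm _, fun hx => by
    obtain ⟨v, e⟩ := (M.mem _).1 hx
    have := H.inv v
    rw [e] at this
    have e2 : x = j (f⁻¹ v) := by rw [← this]; group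
    rw [e2]; exact M.jm _⟩
theorem MD.S_nz (M : MD S E j) : S ≤ H25.nz E := fun s hs => let ⟨_, h⟩ := M.ex s hs; M.nz h

theorem MD.exists_act (M : MD S E j) (hg : g ∈ H25.nz E) : ∃ f, Act j g f := by
  have key : ∀ g ∈ H25.nz E, ∀ v, ∃ v', g * j v * g⁻¹ = j v' := fun g hg v =>
    let ⟨v', e⟩ := (M.mem _).1 (conj_mem_of_mem_nz hg (M.jm v)); ⟨v', e.symm⟩
  choose φ hφ using key
  let e : V K ≃+ V K :=
    { toFun := φ g hg
      invFun := φ g⁻¹ (inv_mem hg)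
      left_inv := fun v => M.inj (by rw [← hφ, ← hφ]; group)
      right_inv := fun v => M.inj (by rw [← hφ, ← hφ]; group)
      map_add' := fun x y => M.inj (by rw [M.add, ← hφ, ← hφ, ← hφ, M.add]; group) }
  exact ⟨e.toIntLinearEquiv, hφ g hg⟩

theorem MD.act_E (M : MD S E j) (hg : g ∈ E) : Act j g 1 := fun v => by
  obtain ⟨x, rfl⟩ := (M.mem g).1 hg
  rw [← M.add, add_comm, M.add]; simp

/-- the automizer in coordinates -/
def LL (F : FS Γ) (E : Subgroup Γ) (j : V K → Γ) : Subgroup (Au (V K)) where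
  carrier := {f | ∃ g ∈ F.A E, Act j g f}
  one_mem' := ⟨1, one_mem _, Act.one⟩
  mul_mem' := fun ⟨_, a, b⟩ ⟨_, c, d⟩ => ⟨_, mul_mem a c, b.mul d⟩
  inv_mem' := fun ⟨_, a, b⟩ => ⟨_, inv_mem a, b.inv⟩

variable {F : FS Γ} {p : ℕ}

theorem MD.mem_ai (M : MD S E j) {a : K} (H : Act j g (u a)) : g ∈ ai S E :=
  let ⟨s, hs, h⟩ := M.ex' a; ⟨M.nz H, s, hs, M.agree H h⟩

theorem MD.of_ai (M : MD S E j) (hg : g ∈ ai S E) : ∃ a, Act j g (u a) :=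
  let ⟨_, s, hs, e⟩ := hg; (M.ex s hs).imp fun _ h => M.of_agree h e

theorem MD.S_A (M : MD F.S E j) : F.S ≤ F.A E := fun _ hs => F.N_le_A E ⟨hs, M.S_nz hs⟩

variable [Finite Γ] [Fact p.Prime]

theorem MD.fn (M : MD F.S E j) : F.FN E := FN_of_le_nz M.le M.S_nz

theorem MD.syl (M : MD F.S E j) (hF : F.Sat p) : Syl p (T K) (LL F E j) := by
  have hs := hF.syl M.fn
  have key : ∀ g : F.A E, ∃ f, Act j g f := fun g => M.exists_act (F.A_le_nz E g.2)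
  choose φ hφ using key
  let ρ : F.A E →* Au (V K) := MonoidHom.mk' φ fun a b => M.uniq (hφ _) ((hφ a).mul (hφ b))
  have h1 : ρ.range = LL F E j := by
    ext f
    exact ⟨fun ⟨g, e⟩ => ⟨g, g.2, e ▸ hφ g⟩, fun ⟨g, a, b⟩ => ⟨⟨g, a⟩, M.uniq (hφ _) b⟩⟩
  refine ⟨?_, fun hd => hs.2 (hd.trans ?_)⟩
  · rintro _ ⟨a, rfl⟩
    obtain ⟨s, hs, h⟩ := M.ex' a
    exact ⟨s, M.S_A hs, h⟩
  · rw [← h1, ← index_comap]
    refine index_dvd_of_le fun g hg => ?_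
    obtain ⟨a, h⟩ := M.of_ai (mem_subgroupOf.1 hg)
    exact ⟨a, M.uniq h (hφ g)⟩

omit [Finite Γ] [Fact p.Prime] in
theorem MD.conj_ai (M : MD S E j) (H : Act j g f) (hf : f ∈ H25.nz (T K)) (hh : h ∈ ai S E) :
    g * h * g⁻¹ ∈ ai S E := by
  obtain ⟨a, e⟩ := M.of_ai hh
  obtain ⟨b, e'⟩ := conj_mem_of_mem_nz hf (u_mem a)
  exact M.mem_ai (a := b) (e' ▸ (H.mul e).mul H.inv)

theorem MD.not_le (M : MD F.S E j) (hF : F.Sat p) (hE : F.Ess E) : ¬ LL F E j ≤ H25.nz (T K) := fun h => by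
  have h1 : ai F.S E ≤ F.OA p E := le_Op (F.ai_le_A E) (le_nz_iff.2 fun g hg x hx => by
    obtain ⟨f, hf⟩ := M.exists_act (F.A_le_nz E hg)
    exact M.conj_ai hf (h ⟨g, hg, hf⟩) hx) (pel_ai hF.pg)
  obtain ⟨s, hs, e⟩ := M.ex' 1
  exact one_ne_zero (u_eq_one (M.uniq e (M.act_E (ess_mem hF hE hs (h1 (M.mem_ai e))))))

theorem ext_S (hF : F.Sat p) (hE : E ≤ F.S) (hn : F.S ≤ nz E) (hg : g ∈ F.A E)
    (h : ∀ s ∈ F.S, g * s * g⁻¹ ∈ ai F.S E) : ∃ k ∈ F.A F.S, Agree E k g := by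
  obtain ⟨k, hk, e⟩ := (hF.rec_fn (FN_of_le_nz hE hn)).ext (R := F.S) (T_of_mem_A hE hg)
    (cj_eq_of_mem_A hg) (le_inf le_rfl hn) (cj_le.2 h)
  have hk' := hk.mono le_sup_right
  exact ⟨k, hk'.mem_A (mem_nz_of_le hk'.cj_le), e⟩

theorem MD.ext (M : MD F.S E j) (hF : F.Sat p) (hg : g ∈ F.A E) (H : Act j g f)
    (hf : f ∈ H25.nz (T K)) : ∃ k ∈ F.A F.S, Act j k f := by
  obtain ⟨k, hk, e⟩ := ext_S hF M.le M.S_nz hg fun s hs =>
    M.conj_ai H hf (mem_ai_of_mem hs (M.S_nz hs))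
  exact ⟨k, hk, M.of_agree H e⟩
end

theorem Co.mdJ {S : Subgroup Γ} {w : K → K → K → K → Γ} (H : Co S w) :
    MD S (H.X 1 0) fun v => w 0 v.1 v.2.1 v.2.2 where
  add x y := by rw [H.mul]; simp
  inj x y h := let ⟨_, a, b, c⟩ := H.inj h; Prod.ext a (Prod.ext b c)
  mem g := ⟨fun h => let ⟨b, c, d, e⟩ := H.exJ h; ⟨(b, c, d), e⟩, by rintro ⟨v, rfl⟩; simp [H.mJ]⟩
  le := H.X_le _ _
  ex s hs := by
    obtain ⟨a, b, c, d, rfl⟩ := (H.mem s).1 hs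
    exact ⟨a, fun v => by rw [H.conj]; simp [u_ap]⟩
  ex' a := ⟨_, H.wm a 0 0 0, fun v => by rw [H.conj]; simp [u_ap]⟩

theorem Co.actJ {S : Subgroup Γ} {w : K → K → K → K → Γ} (H : Co S w) (a b c d : K) :
    Act (fun v => w 0 v.1 v.2.1 v.2.2) (w a b c d) (u a) := fun v => by rw [H.conj]; simp [u_ap]

end H24.SP
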