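/-
Fusion systems on a Sylow `p`-subgroup of `G₂(q)`: transfer from the linear algebra on `Q₁ / Z₁` (chunk TR).
-/
import Cfsg.Agent.H25.GC2

set_option autoImplicit false
set_option linter.unusedSectionVars false
set_option linter.unusedSimpArgs false

namespace H24.GT
open Subgroup H25 H25.GC H25.GC.Gc H2.G
open H8.PU hiding Co Wt Wy Md Ac2 G2 S2 N2 E2 TR MD SY Bo LH AV
universe u v
variable {K : Type v} [Field K] [Finite K] {Γ : Type u} [Group Γ] [Finite Γ] {p : ℕ} [Fact p.Prime]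
  [CharP K p] {S A : Subgroup Γ} {ev : Gc K →* Γ} {g g' τ M1 M2 : Γ} {f f' : AZ K} {k l : K} {φ : K ≃+* K} {c c' : Gc K}

/-- the elements acting on `Z₁` by scalars -/
def sm (ev : Gc K →* Γ) : Subgroup Γ where
  carrier := {g | ∃ μ : K, ∀ z, g * ev (xz z) * g⁻¹ = ev (xz (μ * z))}
  one_mem' := ⟨1, fun _ => by simp⟩
  mul_mem' := fun ⟨μ, a⟩ ⟨ν, b⟩ => ⟨μ * ν, fun z => by rw [cj_mul2, b, a, mul_assoc]⟩
  inv_mem' := sgp_inv (P := fun g => ∃ μ : K, ∀ z, g * ev (xz z) * g⁻¹ = ev (xz (μ * z))) ⟨1, fun _ => by simp⟩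
    fun _ _ ⟨μ, a⟩ ⟨ν, b⟩ => ⟨μ * ν, fun z => by rw [cj_mul2, b, a, mul_assoc]⟩
theorem cz_sm : cz ((Z1 K).map ev) ≤ sm ev := fun _ hg => ⟨1, fun z => by
  rw [one_mul]; exact mem_cz.1 hg _ (mem_map_of_mem ev ⟨rfl, rfl, rfl, rfl, rfl⟩)⟩
/-- linear maps -/
def Li (f : AZ K) : Prop := ∀ (c : K) x, f (c • x) = c • f x
theorem Li.mul (a : Li f) (b : Li f') : Li (f * f') := fun c x => by simp only [H24.SP.mul_ap, b c, a c]
theorem li_t (t : K) : Li (tZ t) := fun c x => by ext <;> simp [tZ_ap] <;> ring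
theorem li_n : Li (nZ : AZ K) := fun c x => by ext <;> simp [nZ_ap]
theorem Li.dz (a : Li f) (d : DZ f k l φ) (l0 : l ≠ 0) : φ = .refl K := RingEquiv.ext fun c => mul_left_cancel₀ l0 (by
  simpa [d _, mul_comm] using congrArg (·.1) (a c (1, 0, 0, 0)))
theorem bo (k : AcZ ev g f) (a : Li f) (b : Bo f) : g ∈ nz ((Z2 K).map ev) := mem_nz_of_conj_mem (by
  rintro _ ⟨c, hc, rfl⟩
  obtain ⟨c1, h1, e1, e2⟩ := k c hc.1
  obtain ⟨d, b⟩ := b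
  rw [show pv c = c.v • ((0, 0, 0, 1) : VV K) by simp [pv, hc.2.1, hc.2.2.1, hc.2.2.2], a, b] at e2
  simp only [pv, Prod.smul_mk, smul_eq_mul, mul_zero, Prod.mk.injEq] at e2
  exact ⟨c1, ⟨h1, e2.1, e2.2.1, e2.2.2.1⟩, e1.symm⟩)
theorem acT (t : K) : AcZ ev (ev (xa (-t))) (tZ t) := by simpa using acS (ev := ev) (xa (-t))
/-- a section -/
def qv (x : VV K) : Gc K := ⟨0, x.1, x.2.1, x.2.2.1, x.2.2.2, 0⟩
theorem cmq (h : c.a = 0) (h' : c'.a = 0) : c * c' * c⁻¹ * c'⁻¹ = xz (oZ (pv c) (pv c')) := by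
  ext <;> simp [h, h', oZ]
  ring

section
variable (h : Co S ev)
include h
theorem bo_of (k : AcZ ev g f) (hg : g ∈ nz ((Z2 K).map ev)) : Bo f := by
  obtain ⟨c1, -, e1, e2⟩ := k (xv 1) rfl
  have := h.mm.1 (e1 ▸ conj_mem_of_mem_nz hg (h.mm.2 (show xv 1 ∈ Z2 K from ⟨rfl, rfl, rfl, rfl⟩)))
  exact ⟨c1.v, e2.symm.trans (by simp [pv, this.2.1, this.2.2.1, this.2.2.2])⟩
theorem fm (k : AcZ ev g f) (hp : g ∈ sm ev) : ∃ μ : K, ∀ x y, oZ (f x) (f y) = μ * oZ x y := by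
  obtain ⟨μ, hp⟩ := hp
  refine ⟨μ, fun x y => ?_⟩
  obtain ⟨c1, h1, e1, k1⟩ := k (qv x) rfl
  obtain ⟨c2, h2, e2, k2⟩ := k (qv y) rfl
  have := hp (oZ (pv (qv x)) (pv (qv y)))
  rw [← cmq rfl rfl] at this
  simp only [map_mul, map_inv, cj_cm, e1, e2] at this
  have := congrArg Gc.z (h.inj (a₁ := c1 * c2 * c1⁻¹ * c2⁻¹) (by simpa using this))
  rwa [cmq h1 h2, k1, k2] at this
theorem sq2 (h2 : p = 2) (k : AcZ ev g f) (v : VV K) (e : qf v = 0) : qf (f v) = 0 := by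
  subst h2
  have t : (2 : K) = 0 := by exact_mod_cast CharP.cast_eq_zero K 2
  have k2 : ∀ c : Gc K, c.a = 0 → (ev c * ev c = 1 ↔ qf (pv c) = 0) := fun c hc => by
    gs h [hc, qf, pv]
    grind
  obtain ⟨c1, h1, e1, k1⟩ := k (qv v) rfl
  have := congrArg (g * · * g⁻¹) ((k2 (qv v) rfl).2 e)
  simp only [cj_mul', e1, mul_one, mul_inv_cancel] at this
  exact k1 ▸ (k2 _ h1).1 this
/-- `Z₂ / Z₁` is the fixed space of `S` on `Q₁ / Z₁` -/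
theorem tZ2 (h3 : (3 : K) ≠ 0) (hg : g ∈ nz ((Q1 K).map ev)) (ht : g ∈ nz (ai S ((Q1 K).map ev))) : g ∈ nz ((Z2 K).map ev) :=
  mem_nz_of_conj_mem fun w hw => by
    have l := h.l31 (h.l23 hw)
    obtain ⟨c, hc, e⟩ := conj_mem_of_mem_nz hg l
    obtain ⟨-, s, hs, a⟩ := mem_ai.1 (conj_mem_of_mem_nz' ht (mem_ai_of_mem (h.mS (xa 1)) (h.nQ1 (h.mS _))))
    have e0 := h.cS2.symm w hw s hs
    rw [show w * s * w⁻¹ * s⁻¹ = w * (s * w⁻¹ * s⁻¹) by group, ← a _ (inv_mem l)] at e0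
    have e1 : ev c * ev (xa 1) * (ev c)⁻¹ * (ev (xa 1))⁻¹ ∈ (Z1 K).map ev := by
      simpa [e, mul_assoc] using conj_mem_of_mem_nz (h.q1Z1 h3 hg) e0
    have k2 : (2 : K) = 0 → ev c * ev c = 1 := fun t => by
      rw [e, ← cj_mul', show w * w = 1 by gb h hw d hd; gs h [] at hd; gs h [hd]; grind, mul_one, mul_inv_cancel]
    rw [← e]
    gs h [mQ1.1 hc] at e1 k2 ⊢
    have u0 : c.u = 0 := by linear_combination e1.1
    have e3 : c.r = c.s := mul_left_cancel₀ h3 (by linear_combination e1.2.2 - u0)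
    have e4 : 2 * c.s = 0 := by linear_combination e1.2.1 + u0
    by_cases t : (2 : K) = 0
    · have := k2 t; grind
    · grind
end

/-- the chunk TR -/
theorem tr : TR K Γ p := fun h3 S A D ev M1 M2 h y e ti hB hτ => by
  let A0 := A ⊓ sm ev
  have l1 : A ⊓ cz ((Z1 K).map ev) ≤ A0 := inf_le_inf_left A cz_sm
  have hT' : ai S ((Q1 K).map ev) ≤ A ⊓ cz ((Z1 K).map ev) := le_inf e.nA (ai_le (inf_le_left.trans h.cS1.cz)
    (cz_anti (h.l12.trans (h.l23.trans h.l31))))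
  have hT := hT'.trans l1
  choose π0 k0 using fun g : A0 => h.exZ' h3 (e.An g.2.1)
  let π : A0 →* AZ K := .mk' π0 fun g g' => h.uqZ (k0 _) ((k0 g).mul (k0 g'))
  have k : ∀ g : A0, AcZ ev g (π g) := k0
  have eq : imZ ev A0 = π.range := le_antisymm (fun f ⟨g, a, b⟩ => ⟨⟨g, a⟩, h.uqZ (k _) b⟩)
    (by rintro _ ⟨g, rfl⟩; exact ⟨g, g.2, k g⟩)
  have li : ∀ g : A0, Li (π g) := fun g => let ⟨_, e⟩ := fm h (k g) g.2.2; lin_of h3 e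
  have mT : ∀ u, ev u ∈ ai S ((Q1 K).map ev) := fun u => mem_ai_of_mem (h.mS u) (h.nQ1 (h.mS u))
  have fra : ∀ g ∈ A, ∃ a ∈ A0, a⁻¹ * g ∈ nz ((Z2 K).map ev) := fun g hg => by
    obtain ⟨a, ha, c1⟩ := e.cjX hT' inf_le_left hg (cj_le_n hT' (mem_nz_inf (le_nz_self A hg)
      (nz_le_nz_cz _ (h.q1Z1 h3 (e.An hg)))))
    exact ⟨a⁻¹, inv_mem (l1 ha), by
      rw [inv_inv]; exact tZ2 h h3 (e.An (mul_mem ha.1 hg)) (mem_nz_of_le (cj_cj a g _ ▸ c1))⟩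
  have bor : ∀ g : A0, Bo (π g) → ∃ a, ∃ κ ∈ D, ∃ k l, Wt ev κ k l (.refl K) ∧ DZ ((tZ a)⁻¹ * π g) k l (.refl K) := fun g b => by
    obtain ⟨_, hu, κ, hκ, k', l, φ, w, a⟩ := hB g g.2.1 (bo (k g) (li g) b)
    obtain ⟨u, -, rfl⟩ := h.ex hu
    have d : DZ ((tZ (-u.a))⁻¹ * π g) k' l φ := h.dgZ w (by
      rw [tZ_inv]
      exact AcZ.ag ((acS u⁻¹).mul (k g)) (by simpa using (a.mul_left (ev u)⁻¹).symm))
    obtain rfl := Li.dz (tZ_inv (-u.a) ▸ (li_t _).mul (li g)) d w.l0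
    exact ⟨-u.a, κ, hκ, k', l, w, d⟩
  refine ⟨A0, inf_le_left, eq ▸ ⟨⟨by rintro _ ⟨a, rfl⟩; exact ⟨⟨_, hT (mT (xa (-a)))⟩, h.uqZ (k _) (acT a)⟩,
    fun c => (e.syl.mono_right hT inf_le_left).2 (c.trans (by
      rw [π.range_eq_map, ← relIndex_comap, relIndex_top_right]
      refine index_dvd_of_le fun g hg => ?_
      obtain ⟨-, _, hu, a⟩ := mem_ai.1 (mem_subgroupOf.1 hg)
      obtain ⟨u, -, rfl⟩ := h.ex hu
      exact ⟨-u.a, h.uqZ (k g) (AcZ.ag (acS u) a)⟩))⟩,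
    by rintro _ ⟨g, rfl⟩; exact fm h (k g) g.2.2,
    by rintro h2 _ ⟨g, rfl⟩; exact sq2 h h2 (k g),
    by rintro _ ⟨g, rfl⟩ b; exact let ⟨u, _, _, r, t, w, d⟩ := bor g b; ⟨u, r, t, w.k0, w.l0, d⟩, ?_, ?_, fun l l0 => ?_⟩,
    l1, fun ⟨s1, _, s3⟩ => ⟨fun ν hν => ?_, fun g hg => ?_⟩⟩
  · rintro _ ⟨g, rfl⟩ a a0 ⟨b, eb⟩
    have k2 := h.in1 e (mul_mem (e.nA (mT (xa b))) (mul_mem (mul_mem g.2.1 (e.nA (mT (xa (-a))))) g⁻¹.2.1)) (h.cmZ (by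
      have := (acS (ev := ev) (xa b)).mul (((k g).mul (acT a)).mul (k g⁻¹))
      rwa [map_inv, eb, ← tZ_add, xa_a, neg_add_cancel, tZ_zero] at this))
    refine bo_of h (k g) (tZ2 h h3 (e.An g.2.1) (ti.ti g g.2.1 _ (mT (xa (-a))) (fun c => a0 ?_) ?_).2)
    · simpa [mQ1] using h.mm.1 (e.mem (h.mS _) c)
    · exact (mul_mem_cancel_left (mT (xa b))).1 (ai_mono (h.le _) _ k2)
  · by_contra! c
    refine e.not_nz fun g hg => ?_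
    obtain ⟨a, ha, k1⟩ := fra g hg
    obtain ⟨u, hu, κ, -, _, _, _, w, ag⟩ := hB g hg ((mul_mem_cancel_left (inv_mem (bo (k ⟨a, ha⟩) (li _) (c _ ⟨_, rfl⟩)))).1 k1)
    exact ag.mem_of_cz_le ((cz_le_ai _ _).trans (le_nz_self _))
      (mem_nz_ai (mul_mem (le_nz_self S hu) (h.wS w)) (mul_mem (h.nQ1 hu) (h.w1 w)))
  · obtain ⟨τ, m, w⟩ := hτ l l0
    have m : τ ∈ A0 := ⟨m, (l ^ 2) ^ 2 * l⁻¹ ^ 3, fun z => by rw [w.cj]; gs h []⟩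
    exact ⟨_, ⟨⟨τ, m⟩, rfl⟩, h.dgZ w (k ⟨τ, m⟩)⟩
  · obtain ⟨_, m, d⟩ := s1 ν hν
    obtain ⟨g, rfl⟩ := eq ▸ m
    have n0 : (ν ^ 3)⁻¹ ≠ 0 := inv_ne_zero (pow_ne_zero 3 hν)
    obtain ⟨a, κ, hκ, k', l, w, d'⟩ := bor g ⟨(π g (0, 0, 0, 1)).2.2.2, by simp [d _]⟩
    rw [tZ_inv] at d'
    have q := d' (1, 0, 0, 0)
    have q1 := d' (0, 1, 0, 0)
    simp only [H24.SP.mul_ap, tZ_ap, d _, RingEquiv.refl_apply, mul_one, mul_zero, add_zero, zero_add, Prod.mk.injEq] at q q1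
    exact ⟨κ, hκ, w.cast (mul_left_cancel₀ n0 (by rw [q1.2.1, q.1])).symm q.1.symm⟩
  · obtain ⟨a, ha, k1⟩ := fra g hg
    refine (s3 _ ⟨a, ha, k ⟨a, ha⟩⟩).imp (fun b => (mul_mem_cancel_left (inv_mem (bo (k _) (li _) b))).1 k1) fun ⟨t, b⟩ =>
      ⟨_, h.mS (xa (-t)), ?_⟩
    have := mul_mem (bo (((acM y).mul (acT t)).mul (k ⟨a, ha⟩)) ((li_n.mul (li_t t)).mul (li _)) b) k1
    simpa [mul_assoc] using this

end H24.GT
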