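/-
Standard `U₄(2)` (S3138): the chunks BA, BT, AL.
-/
import Cfsg.Agent.H18.G1

set_option autoImplicit false
set_option linter.unusedSectionVars false

namespace H24.G38
open Cfsg Subgroup H19 H28.CY H18.U2 H18.G38 Matrix
open H15.GC (ω ν)
universe u
variable {G : Type u} [Group G] [Finite G] {ι : Γ4 →* G} {a b c d g h k o s t u w x y : G} {A B C K M P R S X Y : Subgroup G}
  {f f' : Hm 𝔽 → Hm 𝔽} {p p' : Hm 𝔽} {l : Γ4}

/-- `g` acts on `⟨t⟩ V` through `f` and `p` -/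
structure Aa (ι : Γ4 →* G) (t g : G) (f : Hm 𝔽 → Hm 𝔽) (p : Hm 𝔽) : Prop where
  v : ∀ y, g * ι (up 0 y) * g⁻¹ = ι (up 0 (f y))
  t : g * t * g⁻¹ = t * ι (up 0 p)
theorem Aa.mul (h : Aa ι t g f p) (h' : Aa ι t k f' p') : Aa ι t (g * k) (fun y => f (f' y)) (p + f p') :=
  ⟨fun y => by rw [cj2, h'.v, h.v], by rw [cj2, h'.t, ← conj_mul, h.t, h.v, mul_assoc, iam]⟩
theorem Aa.of (h : Aa ι t g f p) (e : (∀ y, f y = f' y) ∧ p = p') : Aa ι t g f' p' := ⟨fun y => e.1 y ▸ h.v y, e.2 ▸ h.t⟩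
theorem Aa.inv (h : Aa ι t g f p) (e : (∀ y, f (f' y) = y) ∧ f p' = p) : Aa ι t g⁻¹ f' p' :=
  ⟨fun y => by rw [← e.1 y, ← h.v, e.1]; group, by
    have : g * (t * ι (up 0 p')) * g⁻¹ = t := by rw [← conj_mul, h.t, h.v, e.2, mul_assoc, ia2, mul_one]
    rw [← this]; nth_rw 2 [this]; group⟩
theorem Aa.L (H : Hyp ι t) (e : ∀ y, l * up 0 y = up 0 (f y) * l) : Aa ι t (ι l) f 0 :=
  ⟨fun y => by rw [ι_cj, e, mul_inv_cancel_right], by rw [H.tcj, up_0, map_one, mul_one]⟩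
theorem Aa.Ct (h : Aa ι t g f 0) : g ∈ C[t] := mem_cent1.2 (mul_inv_eq_iff_eq_mul.1 (by rw [h.t, up_0, map_one, mul_one]))
/-- the action of `w` -/
def fw (y : Hm 𝔽) : Hm 𝔽 := y + (y.2.2, 0, 0)
/-- the action of the conjugates of `w` -/
def fb (β : 𝔽) (y : Hm 𝔽) : Hm 𝔽 := act β (nact (fw (nact (act β y))))
theorem aaw (wq : w ∈ C(Qm ι)) (wt : w * t * w⁻¹ = t * ι zz) (we : w * ι e0 * w⁻¹ = ι e0 * ι zz) : Aa ι t w fw (1, 0, 0) := by
  refine ⟨fun ⟨α, b, c⟩ => ?_, wt⟩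
  have k : ∀ α b, w * ι (up 0 (α, b, 0)) * w⁻¹ = ι (up 0 (α, b, 0)) := fun α b =>
    mul_inv_eq_iff_eq_mul.2 (H19.mem_cent.1 wq _ ⟨_, qQ (0, b) α, rfl⟩).symm
  rcases kc c with rfl | rfl
  · rw [k]; simp [fw]
  · rw [show up 0 (α, b, 1) = up 0 (α + 1, b, 0) * e0 by revert α b; decide +kernel, map_mul, ← conj_mul, k, we, ← map_mul, ← map_mul]
    congr 1; revert α b; decide +kernel
theorem aab (H : Hyp ι t) (h : Aa ι t w fw (1, 0, 0)) (β : 𝔽) : Aa ι t (wb ι w β) (fb β) (nm β, β, 1) := by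
  have a : Aa ι t (ι (up β 0 * nn)) (fun y => act β (nact y)) 0 := .L H (by revert β; decide +kernel)
  exact ((a.mul h).mul (a.inv (f' := fun y => nact (act β y)) (p' := 0) (by clear a; revert β; decide +kernel))).of
    (by clear a; revert β; decide +kernel)

theorem ba : BA.{u} := fun G _ _ ι t X r w b we hI => by
  have a := aab r.H (aaw b.wq (b.wt r.H) we)
  have c := (((a ω).mul (a ν)).mul (a ω)).of (f' := hσ st) (p' := 0) (by decide +kernel)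
  exact outV r.inj (l := 1) (fun y => by rw [c.v, φ_up, map_zero, one_mul, inv_one, mul_one]) (hI _ c.Ct)

theorem Bw.wt' (H : Hyp ι t) (b : Bw ι t s w) : w * t * w⁻¹ = t * ι zz := Bd.wt H ⟨b.ww, b.tw, b.wq, .inr ⟨s, b.os, b.sw⟩⟩
theorem lng {σ : 𝔽 ≃+* 𝔽} (k : Γ4) (h : IsConj zz l) : IsConj zz (k * φ σ l * k⁻¹) := by
  have := (φ σ).map_isConj h
  rw [φ_z, kσ_1] at this
  exact this.trans (isConj_iff.2 ⟨k, rfl⟩)

theorem bt : BT.{u} := fun G _ _ ι t X r s w b hc => by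
  have a := aab r.H (aaw b.wq (Bw.wt' r.H b) b.we)
  obtain ⟨c, f, p, h, e1, e2, e3⟩ : ∃ c f p, Aa ι t c f p ∧ p + f (0, 1, 0) = (0, 1, 0) ∧ (∀ y, y + f y + f (f y) = 0) ∧
      ∀ y, ∃ y', y = f y' + y' :=
    ⟨_, _, _, ((Aa.L (l := σ0) (f := fun y => nact (act 1 y)) r.H (by decide +kernel)).mul (a ω)).mul (a ν), by decide +kernel⟩
  obtain ⟨g, e⟩ := isConj_iff.1 hc
  have r' := r.conj g
  rw [e] at r'
  generalize cjh g ι = ι' at r'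
  have cu : c ∈ C[t * ι v0] := mem_cent1.2 (mul_inv_eq_iff_eq_mul.1 (by rw [← conj_mul, h.t, v0, h.v, mul_assoc, iam, e1]))
  have vu : ∀ y, ι (up 0 y) ∈ C[t * ι v0] := fun y => mem_cent1.2 (by rw [← mul_assoc, ← r.cen, mul_assoc, mul_assoc, v0, iam, iam, add_comm])
  have m : ∀ y, ι (up 0 y) ∈ ι'.range := fun y => r'.der2 (by
    obtain ⟨y', rfl⟩ := e3 y
    rw [← iam, ← h.v, ← iai y']
    nth_rw 1 [iai]
    exact commutator_mem_commutator cu (vu y')) (two_of_sq (ia2 y))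
  have l : Vm ι ≤ ι'.range := by rintro _ ⟨_, ⟨y, rfl⟩, rfl⟩; exact m y
  have ee : ∀ x ∈ (Vm ι).comap ι', x * x = 1 := fun x ⟨_, ⟨y, e⟩, e'⟩ => r'.inj (by rw [map_mul, ← e', e, ia2, map_one])
  obtain ⟨k, -, hk⟩ := syl_U.scj_le (K := (Vm ι).comap ι') le_top (PiN.of_elt fun x hx => two_of_sq (ee x hx))
  have e16' := e16 hk (fun x hx => by
    obtain ⟨x, hy, rfl⟩ := mem_cj'.1 hx
    rw [conj_mul, ee x hy, mul_one, mul_inv_cancel]) (by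
    rw [card_cj, ← card_map_of_injective r'.inj, map_comap_eq_self l, card_map_of_injective r.inj, card_V])
  obtain ⟨x, ⟨_, ⟨y, rfl⟩, hx⟩, ex⟩ := mem_cj'.1 (e16'.ge (aA (1, 0, 0)))
  obtain ⟨σ, n, q⟩ := exA r'.inj (r'.nor cu)
  have st : ∀ {x y}, IsConj zz x → ι (up 0 y) = ι' x → IsConj zz (n * φ σ x * n⁻¹) ∧ ι (up 0 (f y)) = ι' (n * φ σ x * n⁻¹) :=
    fun c e => ⟨lng n c, by rw [← q, ← e, h.v]⟩
  have lg : ∀ {x y}, IsConj zz x → ι (up 0 y) = ι' x → k * x * k⁻¹ = zz ∨ ∃ β, k * x * k⁻¹ = zb β := fun c e =>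
    long (hk (conj_mem_cj.2 ⟨_, aA _, e⟩)) (c.trans (isConj_iff.2 ⟨k, rfl⟩))
  obtain ⟨c1, e1⟩ := st (isConj_iff.2 ⟨k, ex⟩).symm hx
  obtain ⟨c2, e2'⟩ := st c1 e1
  generalize n * φ σ (n * φ σ x * n⁻¹) * n⁻¹ = x2 at c2 e2'
  generalize n * φ σ x * n⁻¹ = x1 at c1 e1
  have := r'.inj (a₁ := x * x1 * x2) (a₂ := 1) (by rw [map_mul, map_mul, ← hx, ← e1, ← e2', iam, iam, e2, up_0, map_one, map_one])
  have : k * x * k⁻¹ * (k * x1 * k⁻¹) * (k * x2 * k⁻¹) = 1 := by rw [conj_mul, conj_mul, this, mul_one, mul_inv_cancel]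
  rw [ex] at this
  have d := (by decide +kernel : zz * zz * zz ≠ 1 ∧ ∀ β, zz * zz * zb β ≠ 1 ∧ zz * zb β * zz ≠ 1 ∧ ∀ β', zz * zb β * zb β' ≠ 1)
  rcases lg c1 e1 with a | ⟨β, a⟩ <;> rcases lg c2 e2' with a' | ⟨β', a'⟩ <;> rw [a, a'] at this
  exacts [d.1 this, (d.2 _).1 this, (d.2 _).2.1 this, (d.2 _).2.2 _ this]

/-- the transfer lemma for a cyclic quotient -/
theorem thomC (h : St ι t X) (hS : Syl 2 S ⊤) (hx : x ∈ N(M)) (e : S = M ⊔ zpowers x) (hC : PG 2 C) (l : C ≤ C[t]) (tC : t ∈ C)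
    (k : ∀ g, cj g C ≤ S → g * t * g⁻¹ ∉ M) : t ∉ X := by
  have n : (M.subgroupOf S).Normal := NormalIn.subgroupOf ⟨e ▸ le_sup_left, e ▸ sup_le le_normalizer (zpowers_le.2 hx)⟩
  have c : IsCyclic (S ⧸ M.subgroupOf S) := ⟨⟨QuotientGroup.mk ⟨x, e ▸ mem_sup_right (mem_zpowers x)⟩, fun q => by
    obtain ⟨⟨q, hq⟩, rfl⟩ := QuotientGroup.mk_surjective q
    obtain ⟨_, ⟨j, rfl⟩, a, ha, rfl⟩ := (mem_sup_of_norm' (zpowers_le.2 hx)).1 (sup_comm M _ ▸ e ▸ hq)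
    exact ⟨j, (QuotientGroup.mk_zpow ..).symm.trans (QuotientGroup.eq.2 (by simpa [mem_subgroupOf] using ha))⟩⟩⟩
  classical
  have := Fintype.ofFinite (S ⧸ M.subgroupOf S)
  letI := c.commGroup
  refine thom h hS (QuotientGroup.mk' (M.subgroupOf S)) (fun a b ha hb a1 b1 => by_contra fun ab => ?_) hC l tC
    fun g hg m q => k g hg ((QuotientGroup.eq_one_iff (N := M.subgroupOf S) ⟨_, m⟩).1 q)
  have := (Finset.card_le_card (show {1, a, b} ⊆ Finset.univ.filter (fun a : S ⧸ M.subgroupOf S => a ^ 2 = 1) from fun a h => by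
    simp only [Finset.mem_insert, Finset.mem_singleton] at h
    rcases h with rfl | rfl | rfl <;> simp [*])).trans (IsCyclic.card_pow_eq_one_le two_pos)
  rw [Finset.card_eq_three.2 ⟨_, _, _, a1.symm, b1.symm, ab, rfl⟩] at this
  omega

theorem al0 (r : Sr ι t X) (n : ¬ IsConj t (t * ι zz)) (hS : Syl 2 S C[t]) (l : Qm ι ≤ S) (hx : x ∈ N(M)) (e : S = M ⊔ zpowers x)
    (tM : t ∉ M) : Rk X := by
  have tS : t ∈ S := hS.mem_of_norm (mem_cent1_self t) (two_of_sq r.tt) (cent_le_norm _ (le_cent1_iff.1 hS.le))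
  have c : ∀ g ∈ S, g ∈ C(Qm ι) → g = 1 ∨ g = t ∨ g = ι zz ∨ g = t * ι zz := fun g hg h => r.cQ2 (hS.le hg) h (hS.pi.elt hg)
  have k : ∀ u ∈ S, IsConj t u → S ≤ C[u] → u = t := fun u hu h p => by
    rcases c u hu (le_cent1_iff.1 (l.trans p)) with rfl | rfl | rfl | rfl
    exacts [absurd (isConj_one_left.1 h) r.t1, rfl, absurd h (r.NL _), absurd h n]
  have s := syl_of hS.pi le_rfl hS tS fun u hu h p => ⟨1, one_mem _, by
    rw [k u hu h (inf_eq_left.1 (eq_of_le_of_card_ge inf_le_left p))]; simp⟩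
  refine rk r.toSt s (thomC r.toSt s hx e hS.pi hS.le tS fun g hg m => tM ?_) l c
  rwa [k _ (hg (conj_mem_cj.2 tS)) (isConj_iff.2 ⟨g, rfl⟩) (by
    rw [← cj_cent1, ← eq_of_le_of_card_ge hg (card_cj ..).ge]; exact cj_mono g hS.le)] at m

theorem al : AL.{u} := fun G _ _ ι t X r n => by
  have q : Qm ι ≤ Tm ι := map_mono QU
  have tT : t ∉ Tm ι := fun ⟨x, _, e⟩ => r.H.tL x e
  rcases r.ty with h | ⟨s, o⟩ | ⟨s, o, ss⟩
  · exact al0 r n (r.syl1 h) (q.trans le_sup_left) (tN r.H) rfl tT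
  · refine al0 r n (o.syl r) (q.trans (le_sup_left.trans le_sup_left)) (M := Tm ι ⊔ zpowers s) (cent_le_norm _ (le_cent1_iff.1
      (sup_le (T_Ct r.H) (zpowers_le.2 o.Ct)))) (sup_right_comm ..) fun m => ?_
    refine ((mem_ext o.nT (o.ss ▸ one_mem _)).1 m).elim tT fun m => ac_uq r.inj ?_ o.act
    simpa using (ac_0 r.H (mem_sup_left m)).inv.mul (Ac.cent r.H.tK)
  · exact al0 r n (r.syl2 o (ss ▸ mem_sup_right (mem_zpowers _))) (q.trans (le_sup_left.trans le_sup_left)) o.nT (by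
      rw [sup_assoc, sup_eq_right.2 (zpowers_le.2 (ss ▸ mul_mem (mem_zpowers s) (mem_zpowers s)))]) tT
end H24.G38
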