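/-
A group with abelian Sylow 2-subgroups and a Hall 2'-subgroup is solvable.
-/
import Cfsg.Agent.H24.Four1
import Cfsg.Agent.S3188
import Cfsg.Agent.H10.Count
import Cfsg.Agent.H11.SL

set_option autoImplicit false
set_option linter.unusedSectionVars false

open Cfsg Subgroup
namespace H24
open H19
open scoped MatrixGroups

universe u

theorem sol_top {G : Type u} [Group G] (h : H19.Sol (⊤ : Subgroup G)) : Group.IsSolvable G :=
  solvable_of_surjective (f := (⊤ : Subgroup G).subtype) fun g => ⟨⟨g, trivial⟩, rfl⟩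

theorem no_hall_psl {F : Type*} [Field F] [Fintype F] [CharP F 2] (h4 : 4 ≤ Fintype.card F)
    {H : Subgroup PSL(2, F)} (hH : Hall {2}ᶜ H ⊤) : False := by
  classical
  obtain ⟨n, -, hn⟩ := FiniteField.card F 2
  have hg : Nat.gcd 2 (Fintype.card F - 1) = 1 := by
    rw [← H13.GL2.card_center_SL, center_sl_two, card_bot]
  have hc := H11.card_psl_two (F := F)
  have hr := range_cs_psl h4
  have hq : PiN {2} (Fintype.card F) := hn ▸ PiN.prime_pow Nat.prime_two _
  have h2 : 2 ∣ Fintype.card F := hn ▸ dvd_pow_self 2 n.ne_zero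
  obtain ⟨q, e⟩ : ∃ q, Fintype.card F = q + 1 := ⟨Fintype.card F - 1, by omega⟩
  rw [hg, one_mul] at hc
  rw [e] at hc hr hq h2 h4
  rw [show (q + 1) ^ 2 - 1 = q * (q + 2) by
    rw [show (q + 1) ^ 2 = q * (q + 2) + 1 by ring]; rfl] at hc hr
  have ho : PiN {2}ᶜ (q * (q + 2)) := PiN.of_not_dvd fun h => by
    rcases (Nat.Prime.dvd_mul Nat.prime_two).1 h with h | h <;> omega
  have cH : q * (q + 2) ∣ #H := hH.dvd ho (by rw [card_top, hc]; exact Dvd.intro_left _ rfl)
  have sH : H19.Sol H := H20.odd_solvable H (Nat.not_even_iff_odd.1 fun h =>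
    hH.pi 2 Nat.prime_two h.two_dvd rfl)
  have cH' := Nat.le_of_dvd (card_pos H) cH
  have H1 : H ≠ ⊥ := ne_bot_iff_one_lt_card.2 (by nlinarith)
  have nW : Z(Fit H) ⊴ H := ⟨inf_le_left.trans (Fit_le H),
    norms_inf (Fit_norm H) (norms_cent (Fit_norm H))⟩
  have aW : Ab Z(Fit H) := comm_center _
  obtain ⟨w, hw, w1⟩ := exists_ne_one (nil_center_ne_bot (Fit_nil H) (Fit_ne_bot sH H1))
  generalize Z(Fit H) = W at nW aW hw
  have wH := nW.le hw
  have cw : #C[w] ≤ q + 2 := by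
    have h1 : cs w ∈ ({q * (q + 2), (q + 1) * (q + 1 + 1), (q + 1) * (q + 1 - 1)} : Set ℕ) :=
      hr ▸ ⟨w, w1, rfl⟩
    have h3 := cs_mul_card w
    rw [hc] at h3
    have : 0 < q := by omega
    rcases h1 with h1 | h1 | h1 <;> rw [h1] at h3
    · have : #C[w] = q + 1 := Nat.eq_of_mul_eq_mul_left (n := q * (q + 2)) (by positivity)
        (by rw [h3]; ring)
      omega
    · have : #C[w] = q := Nat.eq_of_mul_eq_mul_left (n := (q + 1) * (q + 1 + 1)) (by positivity)
        (by rw [h3]; ring)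
      omega
    · have : #C[w] = q + 2 := Nat.eq_of_mul_eq_mul_left (n := (q + 1) * q) (by positivity)
        (by rw [Nat.add_sub_cancel] at h3; rw [h3]; ring)
      omega
  have cW : #W ≤ q + 2 := (card_le fun v hv => mem_cent1.2 (mul_comm_of_comm aW hv hw)).trans cw
  have c1 : q ≤ cs (⟨w, wH⟩ : H) := by
    have h1 := cs_mul_card (⟨w, wH⟩ : H)
    rw [H25.Ito.card_cent_sub] at h1
    have h3 : #(C[w] ⊓ H) ≤ q + 2 := (card_le inf_le_left).trans cw
    by_contra hlt
    push Not at hlt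
    have : cs (⟨w, wH⟩ : H) * #(C[w] ⊓ H) < q * (q + 2) :=
      Nat.mul_lt_mul_of_lt_of_le hlt h3 (by omega)
    change _ * #(C[w] ⊓ H) = #H at h1
    omega
  have odd : ∀ x : H, ¬ 2 ∣ cs x := fun x h => hH.pi 2 Nat.prime_two (h.trans (cs_dvd_card x)) rfl
  have ni : (⟨w, wH⟩ : H)⁻¹ ≠ ⟨w, wH⟩ := fun e => by
    have : orderOf w = 2 := two_of_mul_self (by
      simpa using congrArg (fun x : H => w * (x : PSL(2, F))) e.symm) w1
    exact hH.pi 2 Nat.prime_two (this.symm.dvd.trans (orderOf_dvd_card' wH)) rfl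
  have dj : Disjoint {y : H | IsConj (⟨w, wH⟩ : H) y} {y : H | IsConj (⟨w, wH⟩ : H)⁻¹ y} := by
    rw [Set.disjoint_left]
    intro y h1 h3
    obtain ⟨t, ht⟩ := isConj_iff.1 (h1.trans h3.symm)
    refine odd _ (two_dvd_cs_of_inv ht ni (mem_cent_iff_conj.2 ?_))
    calc t ^ 2 * ⟨w, wH⟩ * (t ^ 2)⁻¹ = t * (t * ⟨w, wH⟩ * t⁻¹) * t⁻¹ := by rw [pow_two]; group
      _ = t * ⟨w, wH⟩⁻¹ * t⁻¹ := by rw [ht]
      _ = (t * ⟨w, wH⟩ * t⁻¹)⁻¹ := by group
      _ = _ := by rw [ht, inv_inv]
  have sub : {y : H | IsConj (⟨w, wH⟩ : H) y} ∪ {y : H | IsConj (⟨w, wH⟩ : H)⁻¹ y} ⊆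
      (W.subgroupOf H : Set H) := by
    rintro y (h | h) <;> obtain ⟨t, rfl⟩ := isConj_iff.1 h
    · exact nW.conj_mem t.2 hw
    · exact nW.conj_mem t.2 (inv_mem hw)
  have := Set.ncard_le_ncard sub
  rw [Set.ncard_union_eq dj, ncard_isConj, ncard_isConj, cs_inv, H20.ncard_sub,
    card_subgroupOf' nW.le] at this
  omega

theorem sol_of_ab_hall (G : Type u) [Group G] [Finite G] : ∀ T H : Subgroup G, Syl 2 T ⊤ → Ab T →
    Hall {2}ᶜ H ⊤ → Group.IsSolvable G := by
  refine H1.induction_subgroup_quotient (P := fun G _ _ => ∀ T H : Subgroup G, Syl 2 T ⊤ → Ab T →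
    Hall {2}ᶜ H ⊤ → Group.IsSolvable G) ?_ G
  intro G _ _ ihs ihq T H hT aT hH
  have sub : ∀ K T' H' : Subgroup G, K ≠ ⊤ → Syl 2 T' K → Ab T' → Hall {2}ᶜ H' K → H19.Sol K :=
    fun K T' H' h1 h2 h3 h4 => ihs K h1 _ _ h2.subgroupOf_top
      ⟨⟨fun a b => Subtype.ext (Subtype.ext (mul_comm_of_comm h3 a.2 b.2))⟩⟩
      h4.subgroupOf_top
  by_cases hs : ∃ N : Subgroup G, N.Normal ∧ N ≠ ⊥ ∧ N ≠ ⊤
  · obtain ⟨N, hN, h1, h2⟩ := hs
    refine isSolvable_of_normal_of_quot N (sub N _ _ h2 (hT.inf_normal normalIn_top)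
      (comm_mono aT inf_le_left) (hH.inf_normal normalIn_top)) (ihq N h1 (T.map (QuotientGroup.mk' N))
        (H.map (QuotientGroup.mk' N)) ?_ inferInstance ?_)
    · have := hT.map (QuotientGroup.mk' N)
      rwa [map_top_of_surjective _ (QuotientGroup.mk'_surjective N)] at this
    · have := hH.map (QuotientGroup.mk' N)
      rwa [map_top_of_surjective _ (QuotientGroup.mk'_surjective N)] at this
  push Not at hs
  rcases subsingleton_or_nontrivial G with h0 | h0
  · infer_instance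
  haveI : IsSimpleGroup G := ⟨fun N hN => or_iff_not_imp_left.2 (hs N hN)⟩
  by_contra hns
  have hZ : center G = ⊥ := (inferInstance : (center G).Normal).eq_bot_or_eq_top.resolve_right
    fun e => hns (IsSimpleGroup.comm_iff_isSolvable.1 fun x y => mem_center_iff.1 (e ▸ mem_top y) x)
  have iH : PiN {2} H.index := by
    have := hH.idx
    rwa [relIndex_top_right, compl_compl] at this
  haveI : Fact (Nat.Prime 2) := ⟨Nat.prime_two⟩
  obtain ⟨S, rfl⟩ := hT.exists_sylow_top
  have hO : oddCore G = ⊥ := (inferInstance : (oddCore G).Normal).eq_bot_or_eq_top.resolve_right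
    fun e => hns (H20.odd_solvable G (by
      have := H1.pPrimeCore_coprime (p := 2) (G := G)
      rw [show pPrimeCore 2 G = ⊤ from e, card_top] at this
      exact (Nat.coprime_two_right).1 this))
  refine (Cfsg.Agent.S3188.result S aT fun t ht => ?_).elim hns
    fun ⟨F, _, _, hF, N, hN, ⟨e⟩, hc⟩ => ?_
  swap
  · have e1 : G ⧸ oddCore G ≃* G := (QuotientGroup.quotientMulEquivOfEq hO).trans
      QuotientGroup.quotientBot
    haveI : IsSimpleGroup (G ⧸ oddCore G) := e1.isSimpleGroup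
    have hN' : N = ⊤ := hN.eq_bot_or_eq_top.resolve_left fun e' => by
      rw [e', cent_bot] at hc; exact top_ne_bot hc
    have e2 : G ≃* PSL(2, F) := e1.symm.trans (((MulEquiv.subgroupCongr hN').trans topEquiv).symm.trans e)
    rcases hF with ⟨h1, h2⟩ | ⟨n, h1, h2⟩
    · have h3 := H11.card_psl_two (F := F)
      rw [← Nat.card_congr e2.toEquiv, Nat.gcd_eq_left (by omega)] at h3
      obtain ⟨k, hk⟩ := iH.exists_pow FiniteIndex.index_ne_zero
      have h8 : ¬ 8 ∣ Nat.card G := fun ⟨m, hm⟩ => by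
        have h4 : 16 ∣ Fintype.card F * (Fintype.card F ^ 2 - 1) := ⟨m, by omega⟩
        have h5 := (show Nat.Coprime 16 (Fintype.card F) from
          Nat.Coprime.pow_left 4 ((Nat.Prime.coprime_iff_not_dvd Nat.prime_two).2 (by omega))).dvd_of_dvd_mul_left h4
        have h6 : Fintype.card F ^ 2 % 16 = 9 := by
          rw [Nat.pow_mod]
          have : Fintype.card F % 16 = 3 ∨ Fintype.card F % 16 = 5 ∨ Fintype.card F % 16 = 11 ∨
            Fintype.card F % 16 = 13 := by omega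
          rcases this with h | h | h | h <;> rw [h]
        omega
      have hk2 : k ≤ 2 := by_contra fun h => h8 ((pow_dvd_pow 2 (by omega : 3 ≤ k)).trans
        (hk ▸ H.index_dvd_card))
      by_cases e' : H = ⊤
      · exact hns (H20.odd_solvable G (Nat.not_even_iff_odd.1 fun h =>
          hH.pi 2 Nat.prime_two (by rw [e', card_top]; exact h.two_dvd) rfl))
      refine hns (H5.isSolvable_of_card_dvd_prime_pow_mul (a := 3) (b := 1) Nat.prime_two
        Nat.prime_three ((H10.card_dvd_factorial_index e').trans ?_))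
      rw [hk]
      interval_cases k <;> decide
    · obtain ⟨p, hp⟩ := CharP.exists F
      haveI : CharP F 2 := by
        obtain ⟨m, hp', hm⟩ := FiniteField.card F p
        have : p ∣ 2 ^ n := h2 ▸ hm ▸ dvd_pow_self p m.ne_zero
        rwa [(Nat.prime_dvd_prime_iff_eq hp' Nat.prime_two).1 (hp'.dvd_of_dvd_pow this)] at hp
      have := hH.map e2.toMonoidHom
      rw [map_top_of_surjective _ e2.surjective] at this
      exact no_hall_psl (h2 ▸ (Nat.pow_le_pow_right (by norm_num) h1 : 2 ^ 2 ≤ 2 ^ n)) this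
  · obtain ⟨g, -, hg⟩ := hT.sle_cj (K := zpowers t) le_top
      (PiN.of_card Nat.prime_two ((Nat.card_zpowers t).trans ht))
    have a' : Ab (cj g (S : Subgroup G)) := comm_cj.2 aT
    have hle : cj g (S : Subgroup G) ≤ C[t] := fun v hv =>
      mem_cent1.2 (mul_comm_of_comm a' hv (hg (mem_zpowers t)))
    refine sub _ _ (H ⊓ C[t]) (fun e => ne_one_of_two ht (mem_bot.1 (hZ ▸ cent_eq_top_iff.1 e)))
      ((hT.Jtop g).of_le hle le_top) a' ⟨inf_le_right, hH.pi.infl _, ?_⟩
    have h1 := (hT.Jtop g).not_dvd_relIndex Nat.prime_two hle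
    rw [relIndex_top_right] at h1
    have h2 := relIndex_mul_index (inf_le_right : H ⊓ C[t] ≤ C[t])
    rw [index_inf_of_coprime (iH.coprime (PiN.of_not_dvd h1))] at h2
    rw [Nat.eq_of_mul_eq_mul_right (Nat.pos_of_ne_zero FiniteIndex.index_ne_zero) h2, compl_compl]
    exact iH

end H24
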