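import Cfsg.Agent.H24.SylowNum
import Cfsg.Agent.H4.Basic

/-! Brodkey's argument and groups with few Sylow subgroups. -/

set_option autoImplicit false

namespace H24
open Subgroup Pointwise Cfsg

variable {G : Type*} [Group G] [Finite G] {p : ℕ} [hp : Fact p.Prime]

theorem inf_le_pCore_of_min (S T : Sylow p G)
    (hS : (S : Subgroup G) ≤ normalizer (((S : Subgroup G) ⊓ T : Subgroup G) : Set G))
    (hT : (T : Subgroup G) ≤ normalizer (((S : Subgroup G) ⊓ T : Subgroup G) : Set G))
    (hmin : ∀ U : Sylow p G, Nat.card ((S : Subgroup G) ⊓ T : Subgroup G) ≤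
      Nat.card ((U : Subgroup G) ⊓ T : Subgroup G)) :
    (S : Subgroup G) ⊓ T ≤ pCore p G := by
  rw [H1.pCore_eq_iInf_sylow, le_iInf_iff]
  intro U
  set D : Subgroup G := (S : Subgroup G) ⊓ T
  set N := normalizer (D : Set G)
  have h1 : IsPGroup p ((U : Subgroup G).subgroupOf N) := U.isPGroup'.comap_subtype
  obtain ⟨R, hR⟩ := h1.exists_le_sylow
  obtain ⟨n, hn⟩ := MulAction.exists_smul_eq N R (S.subtype hS)
  have h2 : ((((n : G) • U : Sylow p G) : Subgroup G) ⊓ T) ≤ D := by
    intro x hx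
    obtain ⟨hx1, hx2⟩ := mem_inf.mp hx
    refine mem_inf.mpr ⟨?_, hx2⟩
    have hxN : x ∈ N := hT hx2
    have : (⟨x, hxN⟩ : N) ∈ ((S.subtype hS : Sylow p N) : Subgroup N) := by
      rw [← hn, H23.mem_sylow_smul]
      apply hR
      rw [mem_subgroupOf]
      exact H23.mem_sylow_smul.mp hx1
    exact this
  have h3 := eq_of_le_of_card_ge h2 (hmin _)
  intro x hx
  have h4 : (n : G) * x * (n : G)⁻¹ ∈ D := H1.conj_mem_of_mem_normalizer n.2 hx
  rw [← h3] at h4
  have := H23.mem_sylow_smul.mp (mem_inf.mp h4).1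
  simpa [mul_assoc] using this

/-- Brodkey's theorem. -/
theorem exists_sylow_inf_eq_pCore (S : Sylow p G) (hS : IsMulCommutative S) :
    ∃ U : Sylow p G, (U : Subgroup G) ⊓ S = pCore p G := by
  obtain ⟨U, hU⟩ := Finite.exists_min fun U : Sylow p G =>
    Nat.card ((U : Subgroup G) ⊓ S : Subgroup G)
  refine ⟨U, le_antisymm (inf_le_pCore_of_min U S ?_ ?_ hU)
    (le_inf (H1.pCore_le_sylow U) (H1.pCore_le_sylow S))⟩
  · have hU' : IsMulCommutative (U : Subgroup G) := by
      obtain ⟨g, rfl⟩ := MulAction.exists_smul_eq G S U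
      rw [H1.isMulCommutative_iff] at hS ⊢
      intro a ha b hb
      have := hS _ (H23.mem_sylow_smul.mp ha) _ (H23.mem_sylow_smul.mp hb)
      have h2 : g⁻¹ * (a * b) * g = g⁻¹ * (b * a) * g := by
        calc g⁻¹ * (a * b) * g = g⁻¹ * a * g * (g⁻¹ * b * g) := by group
          _ = _ := by rw [this]; group
      simpa using h2
    refine le_trans ?_ (centralizer_le_normalizer _)
    rw [H1.isMulCommutative_iff] at hU'
    intro a ha b hb
    exact hU' b (mem_inf.mp hb).1 a ha
  · refine le_trans ?_ (centralizer_le_normalizer _)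
    rw [H1.isMulCommutative_iff] at hS
    intro a ha b hb
    exact hS b (mem_inf.mp hb).2 a ha

theorem relIndex_sylow_le_card_sylow (P Q : Sylow p G) :
    (Q : Subgroup G).relIndex P ≤ Nat.card (Sylow p G) := by
  have h1 : (normalizer ((Q : Subgroup G) : Set G)).relIndex P = (Q : Subgroup G).relIndex P := by
    rw [← inf_relIndex_right, ← inf_relIndex_right (Q : Subgroup G)]
    congr 1
    refine le_antisymm (le_inf ?_ inf_le_right) (inf_le_inf_right _ le_normalizer)
    exact H1.le_sylow_of_le_normalizer' Q P.isPGroup'.to_inf_right inf_le_left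
  rw [← h1, card_sylow_eq_index Q, ← relIndex_top_right]
  exact relIndex_le_of_le_right le_top relIndex_ne_zero'

/-- If there are fewer than `p²` Sylow subgroups, distinct ones meet in `O_p(G)`, of index `p`. -/
theorem relIndex_eq_prime_of_lt_sq (hn : Nat.card (Sylow p G) < p ^ 2) {P Q : Sylow p G}
    (h : P ≠ Q) : (Q : Subgroup G).relIndex P = p := by
  obtain ⟨k, hk⟩ := IsPGroup.iff_card.mp P.isPGroup'
  obtain ⟨j, -, hj⟩ := (Nat.dvd_prime_pow hp.out).mp (hk ▸ relIndex_dvd_card (Q : Subgroup G) P)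
  have h1 := lt_of_le_of_lt (relIndex_sylow_le_card_sylow P Q) hn
  rw [hj, Nat.pow_lt_pow_iff_right hp.out.one_lt] at h1
  have h2 : j ≠ 0 := by
    rintro rfl
    exact h (Sylow.ext (P.is_maximal' Q.isPGroup' (relIndex_eq_one.mp hj)).symm)
  rw [hj, show j = 1 by omega, pow_one]

theorem inf_eq_pCore_of_lt_sq (hn : Nat.card (Sylow p G) < p ^ 2) {P Q : Sylow p G}
    (h : P ≠ Q) : (P : Subgroup G) ⊓ Q = pCore p G := by
  have key : ∀ {P Q : Sylow p G}, P ≠ Q →
      (P : Subgroup G) ≤ normalizer (((P : Subgroup G) ⊓ Q : Subgroup G) : Set G) := by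
    intro P Q h
    rw [← normal_subgroupOf_iff_le_normalizer inf_le_left]
    apply H4.normal_of_index_prime P.isPGroup'
    rw [← relIndex, inf_relIndex_left, relIndex_eq_prime_of_lt_sq hn h]
  refine le_antisymm (inf_le_pCore_of_min P Q (key h) (inf_comm (Q : Subgroup G) P ▸ key h.symm) ?_)
    (le_inf (H1.pCore_le_sylow _) (H1.pCore_le_sylow _))
  intro U
  by_cases hU : U = Q
  · subst hU; exact card_le_of_le (le_inf inf_le_right inf_le_right)
  · have h1 := H1.relIndex_mul_card_inf (P : Subgroup G) Q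
    have h2 := H1.relIndex_mul_card_inf (U : Subgroup G) Q
    rw [relIndex_eq_prime_of_lt_sq hn h.symm] at h1
    rw [relIndex_eq_prime_of_lt_sq hn (Ne.symm hU), ← h1] at h2
    exact (Nat.eq_of_mul_eq_mul_left hp.out.pos h2).ge

theorem card_sylow_eq_mul_pCore_of_lt_sq (hn : Nat.card (Sylow p G) < p ^ 2)
    (h1 : Nat.card (Sylow p G) ≠ 1) (P : Sylow p G) :
    Nat.card (P : Subgroup G) = p * Nat.card (pCore p G) := by
  haveI : Nontrivial (Sylow p G) := Finite.one_lt_card_iff_nontrivial.mp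
    (lt_of_le_of_ne Nat.card_pos (Ne.symm h1))
  obtain ⟨Q, hQ⟩ := exists_ne P
  rw [← inf_eq_pCore_of_lt_sq hn hQ, ← H1.relIndex_mul_card_inf (Q : Subgroup G) P,
    relIndex_eq_prime_of_lt_sq hn hQ.symm]

theorem card_sylow_eq_prime_of_simple [IsSimpleGroup G] (hS : ¬ IsMulCommutative G)
    (hn : Nat.card (Sylow p G) < p ^ 2) (h1 : Nat.card (Sylow p G) ≠ 1) (P : Sylow p G) :
    Nat.card (P : Subgroup G) = p := by
  rw [card_sylow_eq_mul_pCore_of_lt_sq hn h1 P]
  rcases (inferInstance : (pCore p G).Normal).eq_bot_or_eq_top with h | h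
  · rw [h, card_bot, mul_one]
  · exfalso
    apply h1
    apply card_sylow_eq_one_of_normal P
    rw [show (P : Subgroup G) = ⊤ from eq_top_iff.mpr (h ▸ H1.pCore_le_sylow P)]
    infer_instance

end H24
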