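import Cfsg.Agent.H6.Clifford
import Cfsg.Agent.H5.RepEquiv
import Cfsg.Agent.H19.Amb3

/-! Derangement subgroup, part 1: Burnside's argument for a regular abelian TI subgroup. -/

set_option autoImplicit false
set_option linter.unusedVariables false

namespace H24.DG
open Cfsg H5 H19 Finset MulAction
open scoped Classical

variable {D : Type*} [Group D] [Fintype D]

theorem deg_le {α : D → ℂ} (h : IsCharacter D α) (hc : ∀ a b : D, a * b = b * a) {k b : ℕ}
    (hk : α 1 = k) (hb : classInner α α = b) : k ≤ b := by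
  obtain ⟨c, rfl⟩ := h.exists_eq_sum_nat
  rw [classInner_sum_irr] at hb
  simp only [Finset.sum_apply, Pi.smul_apply, smul_eq_mul, fun ψ : IrrCharacter D => ψ.2.apply_one_of_comm hc,
    mul_one, map_natCast] at hk hb
  have e1 : ∑ ψ, c ψ = k := by exact_mod_cast hk
  have e2 : ∑ ψ, c ψ * c ψ = b := by exact_mod_cast hb
  rw [← e1, ← e2]
  exact sum_le_sum fun ψ _ => Nat.le_mul_self _

theorem mono {f : D → ℂ} (h : IsCharacter D f) (N : Subgroup D) :
    (classInner f fun _ => 1).re ≤ (classInner (fun x : N => f x) fun _ => 1).re := by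
  obtain ⟨c, rfl⟩ := h.exists_eq_sum_nat
  have e : (fun x : N => (∑ ψ, (c ψ : ℂ) • (ψ : D → ℂ)) x) = ∑ ψ, (c ψ : ℂ) • fun x : N => (ψ : D → ℂ) x := by
    ext x; simp
  rw [e, show (fun _ : D => (1 : ℂ)) = (irrOne D).1 from rfl, classInner_sum_irr_left, classInner_sum_left,
    Complex.re_sum]
  refine le_trans ?_ (single_le_sum (f := fun ψ : IrrCharacter D =>
    (classInner ((c ψ : ℂ) • fun x : N => (ψ : D → ℂ) x) fun _ => 1).re) (fun ψ _ => ?_) (mem_univ (irrOne D)))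
  · simp only [classInner_smul_left]
    rw [show (fun x : N => (irrOne D).1 x) = fun _ => 1 from rfl, classInner_one_one, mul_one]
  · exact ((ψ.2.isCharacter.restrict N).natCast_smul _).classInner_re_nonneg isCharacter_one

/-- the conjugates of the non-identity elements of `Q` -/
noncomputable def SS (Q : Subgroup D) : Finset D := univ.filter fun y => y ≠ 1 ∧ ∃ g, g⁻¹ * y * g ∈ Q

theorem ti_sum {Q : Subgroup D} (ti : ∀ x ∈ Q, x ≠ 1 → ∀ g, g⁻¹ * x * g ∈ Q → g ∈ N(Q)) {F : D → ℝ}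
    (hF : ∀ g x, F (g * x * g⁻¹) = F x) :
    (#N(Q) : ℝ) * ∑ y ∈ SS Q, F y = Nat.card D * (∑ x : Q, F x - F 1) := by
  have a : ∀ g : D, ∑ y, (if y ≠ 1 ∧ g⁻¹ * y * g ∈ Q then F y else 0) = ∑ x : Q, F x - F 1 := by
    intro g
    rw [← (MulAut.conj g).toEquiv.sum_comp, ← sum_subtype (univ.filter (· ∈ Q)) (p := (· ∈ Q)) (by simp),
      ← sum_erase_eq_sub (a := 1) (by simp), ← sum_filter]
    refine sum_congr ?_ fun x _ => hF g x
    ext x; simp [mul_assoc, mul_eq_one_iff_eq_inv, and_comm]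
  have b : ∀ y : D, ∑ g : D, (if y ≠ 1 ∧ g⁻¹ * y * g ∈ Q then F y else 0) =
      if y ∈ SS Q then (#N(Q) : ℝ) * F y else 0 := by
    intro y
    split_ifs with hy
    · obtain ⟨h1, g0, hg⟩ := (mem_filter.1 hy).2
      rw [← sum_filter, sum_const, nsmul_eq_mul, Nat.card_eq_fintype_card, Fintype.card_subtype]
      congr 2
      refine card_bij (fun g _ => g0⁻¹ * g) (fun g hg' => ?_) (fun _ _ _ _ h => mul_left_cancel h) fun u hu => ?_
      · refine mem_filter.2 ⟨mem_univ _, ti _ hg (fun e => h1 ?_) _ ?_⟩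
        · simpa [mul_assoc, inv_mul_eq_one, eq_comm] using e
        · simpa [mul_assoc] using (mem_filter.1 hg').2.2
      · refine ⟨g0 * u, mem_filter.2 ⟨mem_univ _, h1, ?_⟩, by simp⟩
        simpa [mul_assoc] using conj_mem_of_norm' (mem_filter.1 hu).2 hg
    · exact sum_eq_zero fun g _ => if_neg fun h => hy (mem_filter.2 ⟨mem_univ _, h.1, g, h.2⟩)
  rw [mul_sum, ← Fintype.sum_ite_mem, ← sum_congr rfl fun y _ => b y, sum_comm, sum_congr rfl fun g _ => a g,
    sum_const, nsmul_eq_mul, Nat.card_eq_fintype_card, card_univ]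

theorem not_int {t : ℂ} (h : IsIntegral ℤ t) {r : ℕ} (hr : 2 ≤ r) (e : 1 + r * t = 0) : False := by
  have r0 : (r : ℂ) ≠ 0 := by exact_mod_cast (by omega : r ≠ 0)
  have e' : t = algebraMap ℚ ℂ (-1 / r) := by
    simp only [eq_ratCast, Rat.cast_div, Rat.cast_neg, Rat.cast_one, Rat.cast_natCast]
    field_simp; linear_combination e
  rw [e', isIntegral_algebraMap_iff (algebraMap ℚ ℂ).injective, IsIntegrallyClosed.isIntegral_iff (K := ℚ)] at h
  obtain ⟨z, hz⟩ := h
  have r1 : (r : ℚ) ≠ 0 := by exact_mod_cast (by omega : r ≠ 0)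
  have : (z : ℚ) * r = -1 := by simp only [eq_intCast] at hz; rw [hz]; field_simp
  have h2 : z * r = -1 := by exact_mod_cast this
  have := Int.le_of_dvd one_pos (⟨-z, by linarith⟩ : (r : ℤ) ∣ 1)
  omega

variable {Ω : Type*} [MulAction D Ω] [Finite Ω]

/-- the permutation character -/
noncomputable abbrev pc (D Ω : Type*) [Group D] [MulAction D Ω] : D → ℂ :=
  fun g => (Nat.card (fixedBy Ω g) : ℂ)

theorem fix_one : Nat.card (fixedBy Ω (1 : D)) = Nat.card Ω := by simp [fixedBy_one_eq_univ]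

theorem fix_lt [FaithfulSMul D Ω] {g : D} (h : g ≠ 1) : Nat.card (fixedBy Ω g) < Nat.card Ω := by
  by_contra k
  refine h (eq_of_smul_eq_smul (α := Ω) fun a => ?_)
  have := Set.eq_of_subset_of_ncard_le (Set.subset_univ (fixedBy Ω g)) (by
    rw [Set.ncard_univ, ← Nat.card_coe_set_eq]; omega)
  rw [one_smul]; exact (this ▸ Set.mem_univ a : a ∈ fixedBy Ω g)

theorem t3 [FaithfulSMul D Ω] [IsPretransitive D Ω] {Q : Subgroup D} (hc : ∀ a b : Q, a * b = b * a)
    (hn : Nat.card Q = Nat.card Ω) (h0 : ∀ x ∈ Q, x ≠ 1 → Nat.card (fixedBy Ω x) = 0)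
    (ti : ∀ x ∈ Q, x ≠ 1 → ∀ g, g⁻¹ * x * g ∈ Q → g ∈ N(Q))
    (h1 : ∀ y ∈ N(Q), y ∉ Q → Nat.card (fixedBy Ω y) ≤ 1) (h2 : 2 ≤ Nat.card Ω)
    (pr : ∀ θ : IrrCharacter D, θ ≠ irrOne D → classInner (pc D Ω) θ = 1 → ∃ θ' : IrrCharacter D, θ' ≠ θ ∧
      θ' ≠ irrOne D ∧ classInner (pc D Ω) θ' ≠ 0 ∧ θ'.1 1 = θ.1 1) : N(Q) = ⊤ := by
  have : Nonempty Ω := (Nat.card_pos_iff.1 (by omega)).1
  have hπ : IsCharacter D (pc D Ω) := isCharacter_perm Ω
  obtain ⟨m, hm⟩ := hπ.exists_eq_sum_nat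
  have m1 : ∀ ψ : IrrCharacter D, classInner (pc D Ω) ψ = m ψ := fun ψ => by rw [hm, classInner_sum_irr_left]
  choose b hb using fun ψ φ : IrrCharacter D =>
    (ψ.2.isCharacter.restrict Q).exists_classInner_nat (φ.2.isCharacter.restrict Q)
  choose k k0 hk using fun ψ : IrrCharacter D => ψ.2.exists_apply_one
  have rg : (fun x : Q => pc D Ω x) = regChar Q := by
    ext x
    by_cases h : x = 1
    · simp [h, regChar_one, ← hn, fix_one]
    · simp [regChar_of_ne_one h, h0 x x.2 (by simpa using h)]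
  have kb : ∀ φ, ∑ ψ, m ψ * b ψ φ = k φ := fun φ => by
    have e : (fun x : Q => pc D Ω x) = ∑ ψ, (m ψ : ℂ) • fun x : Q => (ψ : D → ℂ) x := by
      ext x; rw [hm]; simp
    have := classInner_regChar_left (fun x : Q => φ.1 x)
    rw [← rg, e, classInner_sum_left] at this
    simp only [classInner_smul_left, hb, OneMemClass.coe_one, hk, map_natCast] at this
    exact_mod_cast this
  have bk : ∀ φ, k φ ≤ b φ φ := fun φ => deg_le (φ.2.isCharacter.restrict Q) hc (hk φ) (hb φ φ)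
  have s1 : ∀ φ, m φ ≠ 0 → m φ = 1 ∧ b φ φ = k φ ∧ ∀ ψ, m ψ ≠ 0 → ψ ≠ φ → b ψ φ = 0 := fun φ h => by
    have e := kb φ
    have a := k0 φ
    have c := bk φ
    rw [← add_sum_erase _ _ (mem_univ φ)] at e
    have d : m φ = 1 := by
      by_contra n
      have : 2 * b φ φ ≤ m φ * b φ φ := Nat.mul_le_mul_right _ (by omega)
      omega
    rw [d, one_mul] at e
    refine ⟨d, by omega, fun ψ h' n => ?_⟩
    have := single_le_sum (f := fun ψ => m ψ * b ψ φ) (fun _ _ => Nat.zero_le _) (mem_erase.2 ⟨n, mem_univ ψ⟩)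
    exact (Nat.mul_eq_zero.1 (by omega : m ψ * b ψ φ = 0)).resolve_left h'
  have mo : m (irrOne D) = 1 := by
    have := classInner_perm_one_of_pretransitive (G := D) Ω
    exact_mod_cast (m1 (irrOne D)).symm.trans this
  set C : Finset (IrrCharacter D) := univ.filter fun ψ => ψ ≠ irrOne D ∧ m ψ ≠ 0 with hC
  have mC : ∀ {ψ}, ψ ∈ C ↔ ψ ≠ irrOne D ∧ m ψ ≠ 0 := by simp [hC]
  have sm : ∀ f : IrrCharacter D → ℂ, ∑ ψ, (m ψ : ℂ) * f ψ = f (irrOne D) + ∑ ψ ∈ C, f ψ := fun f => by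
    rw [← add_sum_erase _ _ (mem_univ (irrOne D)), mo, Nat.cast_one, one_mul]
    congr 1
    rw [← sum_subset (s₁ := C) (fun ψ h => by simp [(mC.1 h).1]) fun ψ h h' => by
      have : m ψ = 0 := by by_contra n; exact h' (mC.2 ⟨(mem_erase.1 h).1, n⟩)
      simp [this]]
    exact sum_congr rfl fun ψ h => by simp [(s1 ψ (mC.1 h).2).1]
  have pv : ∀ g, pc D Ω g = 1 + ∑ ψ ∈ C, ψ.1 g := fun g => by
    rw [hm]; simpa [irrOne] using sm fun ψ => ψ.1 g
  have nk : Nat.card Ω = 1 + ∑ ψ ∈ C, k ψ := by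
    have := pv 1
    simp only [pc, fix_one, hk] at this
    exact_mod_cast this
  have D0 : (0 : ℝ) < Nat.card D := card_pos_real D
  have N0 : (0 : ℝ) < Nat.card N(Q) := card_pos_real _
  have Q0 : (0 : ℝ) < Nat.card Q := card_pos_real _
  -- differences
  have df : ∀ θ ∈ C, ∀ φ ∈ C, θ ≠ φ → k θ = k φ → (Nat.card Ω : ℝ) * k θ ≤ Nat.card N(Q) ∧
      ((Nat.card Ω : ℝ) * k θ = Nat.card N(Q) → ∀ g ∉ SS Q, θ.1 g = φ.1 g) := fun θ hθ φ hφ n e => by
    have a1 := classInner_self_re (θ.1 - φ.1)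
    have a2 := classInner_self_re fun x : Q => (θ.1 - φ.1) x
    rw [show (fun x : Q => (θ.1 - φ.1) x) = (fun x : Q => θ.1 x) - fun x : Q => φ.1 x from rfl] at a2
    simp only [classInner_sub_left, classInner_sub_right, classInner_irr, hb, if_neg n, if_neg n.symm, if_true,
      (s1 θ (mC.1 hθ).2).2.1, (s1 φ (mC.1 hφ).2).2.1, (s1 θ (mC.1 hθ).2).2.2 φ (mC.1 hφ).2 n.symm,
      (s1 φ (mC.1 hφ).2).2.2 θ (mC.1 hθ).2 n, ← e] at a1 a2
    have a3 := ti_sum ti (F := fun y => ‖(θ.1 - φ.1) y‖ ^ 2) fun g x => by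
      simp only [Pi.sub_apply, θ.2.isClassFunction.conj_apply, φ.2.isClassFunction.conj_apply]
    simp only [Pi.sub_apply, hk, e, sub_self, norm_zero] at a1 a2 a3
    norm_num at a1 a2 a3
    rw [eq_comm, inv_mul_eq_iff_eq_mul₀ (by simp)] at a1
    rw [eq_comm, inv_mul_eq_iff_eq_mul₀ (by simp)] at a2
    have a4 := sum_add_sum_compl (SS Q) fun y => ‖θ.1 y - φ.1 y‖ ^ 2
    have a5 : 0 ≤ ∑ y ∈ (SS Q)ᶜ, ‖θ.1 y - φ.1 y‖ ^ 2 := sum_nonneg fun _ _ => by positivity
    simp only [← Nat.card_eq_fintype_card, hn] at a1 a2 a3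
    rw [a2] at a3
    rw [a1] at a4
    rw [e]
    refine ⟨by nlinarith, fun h g hg => ?_⟩
    have a6 : ∑ y ∈ (SS Q)ᶜ, ‖θ.1 y - φ.1 y‖ ^ 2 = 0 := by
      rw [← h] at a3 N0; nlinarith
    simpa [sub_eq_zero] using (sum_eq_zero_iff_of_nonneg fun _ _ => by positivity).1 a6 g (mem_compl.2 hg)
  have pr' : ∀ θ ∈ C, ∃ φ ∈ C, φ ≠ θ ∧ k φ = k θ := fun θ h => by
    obtain ⟨φ, a, b, c, d⟩ := pr θ (mC.1 h).1 (by rw [m1, (s1 θ (mC.1 h).2).1, Nat.cast_one])
    exact ⟨φ, mC.2 ⟨b, fun e => c (by rw [m1, e, Nat.cast_zero])⟩, a, by rw [hk, hk] at d; exact_mod_cast d⟩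
  have kl : ∀ θ ∈ C, (Nat.card Ω : ℝ) * k θ ≤ Nat.card N(Q) := fun θ h => by
    obtain ⟨φ, a, b, c⟩ := pr' θ h
    exact (df θ h φ a b.symm c.symm).1
  obtain ⟨θ0, h0'⟩ : C.Nonempty := by
    by_contra n
    rw [not_nonempty_iff_eq_empty.1 n] at nk; simp at nk; omega
  have r2 : 2 ≤ C.card := by
    obtain ⟨φ, a, b, -⟩ := pr' θ0 h0'
    exact one_lt_card.2 ⟨φ, a, θ0, h0', b⟩
  -- sums of `π` and `π²`
  have p1 : ∑ g : D, (Nat.card (fixedBy Ω g) : ℝ) = Nat.card D := by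
    have := card_mul_classInner (pc D Ω) (irrOne D).1
    rw [m1, mo] at this
    simp only [irrOne, map_one, mul_one, Nat.cast_one] at this
    exact_mod_cast this.symm
  have pp : classInner (pc D Ω * pc D Ω) (fun _ => 1) = 1 + C.card := by
    rw [classInner_mul_left]
    simp only [pc, map_natCast, mul_one]
    change classInner (pc D Ω) (pc D Ω) = _
    rw [hm, classInner_sum_irr]
    simp only [map_natCast]
    rw [sm, mo, sum_congr rfl fun ψ h => by rw [(s1 ψ (mC.1 h).2).1]]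
    simp
  have p2 : ∑ g : D, (Nat.card (fixedBy Ω g) : ℝ) ^ 2 = Nat.card D * (1 + C.card) := by
    have := card_mul_classInner (pc D Ω * pc D Ω) fun _ => 1
    rw [pp] at this
    simp only [map_one, mul_one, Pi.mul_apply, ← sq] at this
    exact_mod_cast this.symm
  have p3 : (Nat.card N(Q) : ℝ) * C.card ≤ Nat.card Ω * (Nat.card Ω - 1) := by
    have a := mono (hπ.mul hπ) N(Q)
    rw [pp, classInner_one_right] at a
    simp only [Pi.mul_apply, pc, ← Nat.cast_mul, ← Nat.cast_sum] at a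
    have a' : (1 + C.card : ℝ) ≤ (Nat.card N(Q) : ℝ)⁻¹ *
        ∑ y : N(Q), (Nat.card (fixedBy Ω y.1) * Nat.card (fixedBy Ω y.1) : ℝ) := by
      rw [← Complex.ofReal_natCast, ← Complex.ofReal_natCast (Nat.card _), ← Complex.ofReal_natCast (∑ _, _),
        ← Complex.ofReal_inv, ← Complex.ofReal_mul, Complex.ofReal_re] at a
      simpa using a
    rw [le_inv_mul_iff₀ N0] at a'
    have c : ∑ y : N(Q), ((Nat.card (fixedBy Ω y.1) * Nat.card (fixedBy Ω y.1) : ℝ) + if y.1 ∈ Q then 1 else 0) ≤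
        ∑ y : N(Q), (1 + if y = 1 then (Nat.card Ω : ℝ) ^ 2 else 0) := sum_le_sum fun y _ => by
      by_cases e : y = 1
      · simp [e, fix_one, sq, add_comm]
      · by_cases e' : y.1 ∈ Q
        · simp [e, e', h0 y e' (by simpa using e)]
        · have : (Nat.card (fixedBy Ω y.1) : ℝ) ≤ 1 := by exact_mod_cast h1 y y.2 e'
          simp only [e, e', if_false, add_zero]
          exact mul_le_one₀ this (Nat.cast_nonneg _) this
    have c' : (univ.filter fun y : N(Q) => y.1 ∈ Q).card = Nat.card Ω := by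
      rw [← hn, ← card_subgroupOf' (Subgroup.le_normalizer : Q ≤ N(Q)), Nat.card_eq_fintype_card,
        Fintype.card_subtype]; rfl
    simp only [sum_add_distrib, sum_boole, c', sum_const, sum_ite_eq', mem_univ, if_true, card_univ,
      ← Nat.card_eq_fintype_card, nsmul_eq_mul, mul_one] at c
    nlinarith
  have n1 : (Nat.card Ω : ℝ) - 1 = ∑ ψ ∈ C, (k ψ : ℝ) := by rw [nk]; push_cast; ring
  have ke : ∀ θ ∈ C, (Nat.card Ω : ℝ) * k θ = Nat.card N(Q) := by
    have := (sum_eq_zero_iff_of_nonneg (s := C) (f := fun θ => (Nat.card N(Q) : ℝ) - Nat.card Ω * k θ)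
      fun θ h => sub_nonneg.2 (kl θ h)).1 (le_antisymm (by
        rw [sum_sub_distrib, ← mul_sum, ← n1, sum_const, nsmul_eq_mul]; linarith)
        (sum_nonneg fun θ h => sub_nonneg.2 (kl θ h)))
    exact fun θ h => by linarith [this θ h]
  have n2 : (2 : ℝ) ≤ Nat.card Ω := by exact_mod_cast h2
  have rn : (C.card : ℝ) * Nat.card N(Q) = Nat.card Ω * (Nat.card Ω - 1) := by
    rw [n1, mul_sum, sum_congr rfl ke, sum_const, nsmul_eq_mul]
  have nz : ∀ g ∉ SS Q, 1 ≤ Nat.card (fixedBy Ω g) := fun g hg => by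
    by_contra n
    refine not_int (θ0.2.isCharacter.isIntegral_apply g) r2 ?_
    have := pv g
    rw [sum_congr rfl (g := fun _ => θ0.1 g) fun ψ h => by
      by_cases e : ψ = θ0
      · rw [e]
      · refine (df ψ h θ0 h0' e ?_).2 (ke ψ h) g hg
        exact_mod_cast mul_left_cancel₀ (by linarith : (Nat.card Ω : ℝ) ≠ 0) ((ke ψ h).trans (ke θ0 h0').symm),
      sum_const, nsmul_eq_mul] at this
    rw [← this, pc, (by omega : Nat.card (fixedBy Ω g) = 0), Nat.cast_zero]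
  have cS := ti_sum ti (F := fun _ => 1) fun _ _ => rfl
  simp only [sum_const, nsmul_eq_mul, mul_one, card_univ, ← Nat.card_eq_fintype_card, hn] at cS
  have fin : 0 ≤ ∑ g : D, (((Nat.card (fixedBy Ω g) : ℝ) - 1) * (Nat.card Ω - 1 - Nat.card (fixedBy Ω g)) +
      (Nat.card Ω - 1) * ((if g = 1 then 1 else 0) + if g ∈ SS Q then 1 else 0)) := sum_nonneg fun g _ => by
    by_cases e : g = 1
    · have : (1 : D) ∉ SS Q := by simp [SS]
      simp [e, fix_one, this]
    have l : (Nat.card (fixedBy Ω g) : ℝ) + 1 ≤ Nat.card Ω := by exact_mod_cast fix_lt e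
    have l0 : (0 : ℝ) ≤ Nat.card (fixedBy Ω g) := Nat.cast_nonneg _
    by_cases e' : g ∈ SS Q
    · simp only [e, e', if_true, if_false]; nlinarith
    · have : (1 : ℝ) ≤ Nat.card (fixedBy Ω g) := by exact_mod_cast nz g e'
      simp only [e, e', if_false]; nlinarith
  have ex : ∀ x n : ℝ, (x - 1) * (n - 1 - x) = n * x - x ^ 2 - (n - 1) := fun x n => by ring
  simp only [ex, sum_add_distrib, sum_sub_distrib, ← mul_sum, p1, p2, sum_const, card_univ, sum_ite_eq', mem_univ,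
    if_true, ← Nat.card_eq_fintype_card, nsmul_eq_mul, Fintype.sum_ite_mem, mul_one] at fin
  have : (Nat.card D : ℝ) ≤ Nat.card N(Q) := by
    have h3 := mul_nonneg N0.le fin
    by_contra n
    nlinarith [mul_pos (sub_pos.2 (not_le.1 n)) (by linarith : (0 : ℝ) < Nat.card Ω - 1)]
  exact Subgroup.eq_top_of_card_eq _ (le_antisymm (Subgroup.card_le_card_group _) (by exact_mod_cast this))

theorem pair {G : Type*} [Group G] [Fintype G] [MulAction G Ω] [Nonempty Ω] {K : Subgroup G} [K.Normal]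
    (h : ∀ g ∉ K, Nat.card (fixedBy Ω g) = 1) (hd : K.index ≠ 1) (θ : IrrCharacter K) (h1 : θ ≠ irrOne K)
    (e : classInner (pc K Ω) θ = 1) : ∃ θ' : IrrCharacter K, θ' ≠ θ ∧
      θ' ≠ irrOne K ∧ classInner (pc K Ω) θ' ≠ 0 ∧ θ'.1 1 = θ.1 1 := by
  have hπ : IsCharacter G (pc G Ω) := isCharacter_perm Ω
  by_cases hi : ∀ g : G, H6.cj g θ.1 = θ.1
  swap
  · obtain ⟨g, hg⟩ := not_forall.1 hi
    refine ⟨⟨_, H6.irr_cj θ.2 g⟩, fun k => hg (congrArg Subtype.val k), fun k => h1 (Subtype.ext ?_), ?_, by simp⟩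
    · exact H6.cj_injective g (congrArg Subtype.val k)
    · exact fun k => one_ne_zero (((H6.inner_res_cj hπ.isClassFunction g θ.1).trans e).symm.trans k)
  exfalso
  have hβ := isCharacter_perm_sub_one (G := G) Ω
  set β : G → ℂ := fun g => (Nat.card (fixedBy Ω g) : ℂ) - 1 with eβ
  have b1 : classInner (fun x : K => β x) θ = 1 := by
    have := classInner_sub_left (pc K Ω) (irrOne K).1 θ
    rw [classInner_irr, if_neg h1.symm, sub_zero, e] at this
    exact this
  choose c hc using fun χ : IrrCharacter G => hβ.exists_classInner_nat χ.2.isCharacter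
  choose a ha using fun χ : IrrCharacter G => (χ.2.isCharacter.restrict K).exists_classInner_nat θ.2.isCharacter
  have s : ∑ χ, c χ * a χ = 1 := by
    have e2 : (fun x : K => β x) = ∑ χ, (c χ : ℂ) • fun x : K => χ.1 x := by
      ext x; rw [hβ.isClassFunction.apply_eq_sum_irr]; simp [hc]
    rw [e2, classInner_sum_left] at b1
    simp only [classInner_smul_left, ha] at b1
    exact_mod_cast b1
  refine hd (Nat.dvd_one.1 (s ▸ dvd_sum fun χ _ => Dvd.dvd.mul_left ?_ _))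
  by_cases a0 : a χ = 0
  · simp [a0]
  have cl := H6.clifford_invariant χ.2 θ.2 hi (by rw [ha]; exact_mod_cast a0)
  have e3 := card_mul_classInner β χ.1
  have e4 := card_mul_classInner (fun x : K => β x) fun x : K => χ.1 x
  rw [← sum_subtype (univ.filter (· ∈ K)) (p := (· ∈ K)) (by simp) fun g => β g * starRingEnd ℂ (χ.1 g),
    sum_subset (subset_univ _) fun g _ k => by simp only [eβ, h g (by simpa using k), Nat.cast_one, sub_self, zero_mul], ← e3, cl, classInner_smul_right,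
    b1, ha, hc, ← K.card_mul_index] at e4
  refine ⟨c χ, ?_⟩
  have := mul_left_cancel₀ (card_ne_zero_complex K) (e4.trans (by push_cast; rw [mul_assoc]))
  simp only [map_natCast, mul_one] at this
  exact_mod_cast this

end H24.DG
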