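import Cfsg.Agent.H19.Amb3

/-! Derangement subgroup, part 2: the affine count. -/

set_option autoImplicit false
set_option linter.unusedVariables false

namespace H24.DG
open Cfsg H19 Subgroup MulAction
open scoped Classical

section act
variable {G X : Type*} [Group G] [Finite G] [MulAction G X] [Finite X] {D L : Subgroup G}

theorem orb_card (L : Subgroup G) (x : X) :
    ((fun g => g • x) '' (L : Set G)).ncard = (stabilizer G x).relIndex L := by
  have e : (fun g => g • x) '' (L : Set G) = orbit L x := by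
    ext y; simp only [Set.mem_image, SetLike.mem_coe, mem_orbit_iff]
    exact ⟨fun ⟨g, a, b⟩ => ⟨⟨g, a⟩, b⟩, fun ⟨g, b⟩ => ⟨g, g.2, b⟩⟩
  rw [e, ← index_stabilizer]; rfl

theorem dv0 (m n : ℕ) : ∀ A : Set X, A.ncard = n → (∀ g ∈ L, ∀ x ∈ A, g • x ∈ A) →
    (∀ x ∈ A, m ∣ (stabilizer G x).relIndex L) → m ∣ n := by
  induction n using Nat.strong_induction_on with
  | _ n ih =>
  intro A hA h1 h2
  rcases A.eq_empty_or_nonempty with rfl | ⟨x, hx⟩
  · rw [← hA]; simp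
  have s : (fun g => g • x) '' (L : Set G) ⊆ A := by rintro _ ⟨g, a, rfl⟩; exact h1 g a x hx
  have e := Set.ncard_diff_add_ncard_of_subset s
  have p := relIndex_pos (stabilizer G x) L
  rw [orb_card] at e
  rw [← hA, ← e]
  exact dvd_add (ih _ (by omega) _ rfl (fun g a y hy => ⟨h1 g a y hy.1, fun ⟨k, b, c⟩ => hy.2
    ⟨g⁻¹ * k, L.mul_mem (L.inv_mem a) b, by simp only [mul_smul] at c ⊢; rw [c, inv_smul_smul]⟩⟩)
    fun y hy => h2 y hy.1) (h2 x hx)

theorem dv (n : ℕ) (A : Set X) (h : A.ncard = n) (h1 : ∀ g ∈ L, ∀ x ∈ A, g • x ∈ A)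
    (h2 : ∀ g ∈ L, ∀ x ∈ A, g • x = x → g ∈ D) : D.relIndex L ∣ n :=
  dv0 _ n A h h1 fun x hx => by
    rw [← inf_relIndex_right (stabilizer G x)]
    exact relIndex_dvd_of_le_left L fun g a => h2 g a.2 x hx a.1

theorem cv_idx [D.Normal] (h : D ⊔ L = ⊤) : D.relIndex L = D.index := by
  rw [← relIndex_top_right, ← h, relIndex_sup_of_norm (le_normalizer_of_normal)]

theorem cv_fr [D.Normal] (h : D ⊔ L = ⊤) {p : ℕ} {P : Subgroup G} (s : Syl p P (D ⊓ L)) :
    D ⊔ (L ⊓ N(P)) = ⊤ := by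
  have := s.frattini ⟨inf_le_right, norms_inf le_normalizer_of_normal le_normalizer⟩
  rw [eq_top_iff, ← h]
  exact sup_le le_sup_left (this.ge.trans (sup_le_sup_right inf_le_left _))

end act

theorem sq_of {c n d : ℕ} (h1 : d ∣ c - 1) (h2 : d ∣ n - 1) (h3 : c ∣ n) (h4 : 1 < c) (h5 : c < n) :
    (d + 1) ^ 2 ≤ n := by
  obtain ⟨m, rfl⟩ := h3
  have m1 : 1 < m := by by_contra k; interval_cases h : m <;> omega
  have a := Nat.le_of_dvd (by omega) h1
  have : d ∣ m - 1 := by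
    have e : c * m - 1 = (c - 1) * m + (m - 1) := by
      obtain ⟨c, rfl⟩ := Nat.exists_eq_add_of_lt h4
      rw [show 1 + c + 1 - 1 = c + 1 by omega]; zify [m1.le, (by nlinarith : 1 ≤ (1 + c + 1) * m)]; ring
    exact (Nat.dvd_add_right (h1.mul_right m)).1 (e ▸ h2)
  have b := Nat.le_of_dvd (by omega) this
  rw [sq]; exact Nat.mul_le_mul (by omega) (by omega)

theorem bern (a : ℕ) : ∀ t, 2 ≤ t → (2 + t * a) ^ 2 ≤ 4 * (1 + a) ^ t := by
  intro t ht
  induction t, ht using Nat.le_induction with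
  | base => nlinarith
  | succ t ht ih =>
    rw [pow_succ (1 + a), ← mul_assoc]
    refine le_trans ?_ (Nat.mul_le_mul_right _ ih)
    have : a * a ≤ t * a * a := by nlinarith
    nlinarith [Nat.zero_le (t * a * a), Nat.zero_le (t * t * a * a * a), Nat.zero_le (t * a)]

section aff
variable {H V : Type*} [Group H] [Finite H] [CommGroup V] [Finite V] [MulDistribMulAction H V]

/-- the fixed points of a set of operators -/
def Fx (V : Type*) [CommGroup V] [MulDistribMulAction H V] (A : Set H) : Subgroup V where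
  carrier := {v | ∀ a ∈ A, a • v = v}
  mul_mem' a b c k := by rw [smul_mul', a c k, b c k]
  one_mem' c _ := smul_one c
  inv_mem' a c k := by rw [smul_inv', a c k]

/-- the fixed points of a subgroup -/
abbrev Fs (V : Type*) [CommGroup V] [MulDistribMulAction H V] (A : Subgroup H) : Subgroup V := Fx V (A : Set H)

theorem mm (a b c : V) : a * c * (a * b)⁻¹ = c * b⁻¹ := by
  rw [mul_inv, mul_mul_mul_comm, mul_inv_cancel, one_mul]

omit [Finite H] [Finite V] in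
theorem mem_fx1 {y : H} {v : V} : v ∈ Fx V {y} ↔ y • v = v := by simp [Fx]

omit [Finite H] in
theorem fx_cj (e y : H) : #(Fx V {e * y * e⁻¹}) = #(Fx V {y}) :=
  Nat.card_congr ⟨fun v => ⟨e⁻¹ • v.1, mem_fx1.2 (by
      have := mem_fx1.1 v.2; rw [mul_smul, mul_smul, smul_eq_iff_eq_inv_smul] at this; exact this)⟩,
    fun v => ⟨e • v.1, mem_fx1.2 (by rw [mul_smul, inv_smul_smul, mul_smul, mem_fx1.1 v.2])⟩,
    fun v => by simp, fun v => by simp⟩

theorem cd {A B : Subgroup V} (h : A ⊓ B = ⊥) : #(A ⊔ B) = #A * #B :=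
  card_sup_of_disjoint le_normalizer_of_normal h

/-- `c` acts fixed point freely -/
def Fp (V : Type*) [CommGroup V] [MulDistribMulAction H V] (c : H) : Prop := ∀ v : V, c • v = v → v = 1

theorem two {y c : H} (f : Fp V c) : Fx V {y} ⊓ Fx V {y * c} = ⊥ :=
  eq_bot_iff.2 fun v h => f v (by
    have a := mem_fx1.1 h.1; have b := mem_fx1.1 h.2
    rw [mul_smul, smul_eq_iff_eq_inv_smul] at b; rw [b, inv_smul_eq_iff, a])

theorem three {y c : H} (f : Fp V c) (f2 : Fp V (c * c)) (k : c * y = y * c) :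
    (Fx V {y} ⊔ Fx V {y * c}) ⊓ Fx V {y * c * c} = ⊥ := by
  refine eq_bot_iff.2 fun v h => ?_
  obtain ⟨a, ha, b, hb, rfl⟩ := mem_sup.1 h.1
  have h2 := mem_fx1.1 h.2
  replace ha := mem_fx1.1 ha
  replace hb := mem_fx1.1 hb
  have yc : ∀ w : V, y • c • w = c • y • w := fun w => by rw [← mul_smul, ← mul_smul, k]
  have : y • (a * b) * (a * b)⁻¹ ∈ Fx V {y * c} ⊓ Fx V {y * c * c} := by
    refine mem_inf.2 ⟨?_, Subgroup.mul_mem _ (mem_fx1.2 ?_) (Subgroup.inv_mem _ h.2)⟩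
    · rw [smul_mul', ha, mm]
      refine Subgroup.mul_mem _ (mem_fx1.2 ?_) (Subgroup.inv_mem _ (mem_fx1.2 hb))
      rw [mul_smul, ← yc, ← mul_smul y c, hb]
    · rw [mul_smul, mul_smul, ← yc, ← yc, ← mul_smul y c, ← mul_smul (y * c) c, h2]
  rw [two f, mem_bot, mul_inv_eq_one] at this
  refine f2 _ ?_
  rw [mul_assoc, mul_smul, smul_eq_iff_eq_inv_smul] at h2
  rw [h2, inv_smul_eq_iff, this]

variable {R L Y : Subgroup H} [R.Normal]

theorem inv_dvd {V : Type*} [Group V] [Finite V] [MulDistribMulAction H V] (cv : R ⊔ L = ⊤)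
    (fp : ∀ h ∉ R, ∀ v : V, h • v = v → v = 1) (W : Subgroup V) (hW : ∀ h ∈ L, ∀ v ∈ W, h • v ∈ W) :
    R.index ∣ #W - 1 := by
  rw [← cv_idx cv]
  refine dv _ ((W : Set V) \ {1}) ?_ (fun g a v h => ⟨hW g a v h.1, fun k => h.2 ?_⟩)
    fun g a v h e => by_contra fun k => h.2 (fp g k v e)
  · rw [Set.ncard_diff_singleton_of_mem W.one_mem]; rfl
  · exact (smul_eq_iff_eq_inv_smul g).1 k |>.trans (smul_one _)

/-- the standing hypotheses of the affine count -/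
structure St (V : Type*) [CommGroup V] [MulDistribMulAction H V] (R L Y : Subgroup H) (r : ℕ) : Prop where
  cv : R ⊔ L = ⊤
  fp : ∀ h ∉ R, Fp V h
  fa : ∀ h : H, (∀ v : V, h • v = v) → h = 1
  ir : ∀ W : Subgroup V, (∀ h ∈ L, ∀ v ∈ W, h • v ∈ W) → W = ⊥ ∨ W = ⊤
  pr : r.Prime
  pg : PG r Y
  yr : Y ≤ R
  yl : Y ⊴ L
  nf : ∃ y ∈ Y, y ≠ 1 ∧ ¬ Fp V y
  mn : ∀ K, K ≤ Y → K ≠ Y → L ≤ N(K) → ∀ y ∈ K, y ≠ 1 → Fp V y

variable {r : ℕ}

theorem St.fx (s : St V R L Y r) {A : Subgroup H} (n : L ≤ N(A)) (h : A ≠ ⊥) : Fs V A = ⊥ := by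
  refine (s.ir (Fs V A) fun g a v hv b hb => ?_).resolve_right fun k => h (eq_bot_iff.2 fun a ha => s.fa a fun v => ?_)
  · have := hv _ (conj_mem_of_norm' (n a) hb)
    rw [mul_smul, mul_smul, inv_smul_eq_iff] at this; exact this
  · exact (k ▸ mem_top v : v ∈ Fs V A) a ha

theorem st_cj {g : H} (n : g ∈ N(Y)) (w : V) : stabilizer H (g • w) ⊓ Y = cj g (stabilizer H w ⊓ Y) := by
  rw [cj_inf, cj_of_mem_norm n]; congr 1; ext x
  rw [mem_cj, mem_stabilizer_iff, mem_stabilizer_iff, mul_smul, mul_smul, inv_smul_eq_iff]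

theorem St.orb (s : St V R L Y r) {w : V} (h : w ≠ 1) :
    R.index * #Y ≤ #(stabilizer H w ⊓ Y) * ((fun g => g • w) '' (L : Set H)).ncard := by
  have a : stabilizer H w ⊓ L ≤ R ⊓ L := inf_le_inf_right _ fun g k => by_contra fun n => h (s.fp g n w k)
  have e := relIndex_mul_relIndex _ _ L a inf_le_right
  have b := relIndex_le_of_le_right (H := stabilizer H w) (le_inf s.yr s.yl.le) (relIndex_ne_zero' _ _)
  rw [inf_relIndex_right, inf_relIndex_right, cv_idx s.cv, inf_comm R L, ← inf_relIndex_right, inf_assoc,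
    ← inf_assoc L, inf_idem, inf_relIndex_right, inf_comm L R] at e
  rw [orb_card, ← e, ← card_inf_mul_relIndex (stabilizer H w) Y]
  nlinarith [Nat.mul_le_mul_left (#(stabilizer H w ⊓ Y) * R.index) b]

theorem St.ab (s : St V R L Y r) (ab : Ab Y) : (R.index + 1) ^ 2 ≤ Nat.card V := by
  obtain ⟨y, hy, y1, nf⟩ := s.nf
  obtain ⟨w0, h0⟩ := not_forall.1 nf
  obtain ⟨h0, h0'⟩ := Classical.not_imp.1 h0
  obtain ⟨w, w1, mx⟩ := Set.exists_max_image {w : V | w ≠ 1} (fun w => #(stabilizer H w ⊓ Y)) (Set.toFinite _)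
    ⟨w0, h0'⟩
  set A := stabilizer H w ⊓ Y with hA
  have A1 : A ≠ ⊥ := ne_bot_iff_one_lt_card.2 ((ne_bot_iff_one_lt_card.1
    (ne_bot_of_mem (H := stabilizer H w0 ⊓ Y) ⟨h0, hy⟩ y1)).trans_le (mx w0 h0'))
  have wA : w ∈ Fs V A := fun a h => h.1
  have := Fintype.ofFinite H
  set T := (Finset.univ.filter (· ∈ L)).image fun g => cj g A with hT
  have mT : ∀ {B}, B ∈ T ↔ ∃ g ∈ L, cj g A = B := by simp [hT]
  have p : ∀ B ∈ T, B ≤ Y ∧ #B = #A ∧ #(Fs V B) = #(Fs V A) := fun B h => by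
    obtain ⟨g, a, rfl⟩ := mT.1 h
    refine ⟨cj_le_of_mem_norm (s.yl.norm a) inf_le_right, (Nat.card_congr (cjEquiv g A).toEquiv).symm,
      Nat.card_congr ⟨fun v => ⟨g⁻¹ • v.1, fun b k => by
      have := v.2 _ (conj_mem_cj.2 k); rw [mul_smul, mul_smul, smul_eq_iff_eq_inv_smul] at this; exact this⟩,
      fun v => ⟨g • v.1, fun b k => by
        have := v.2 _ (mem_cj.1 k); rw [mul_smul, mul_smul, inv_smul_eq_iff] at this; exact this⟩,
      fun v => by simp, fun v => by simp⟩⟩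
  have mxB : ∀ B ∈ T, ∀ x ∈ Fs V B, x ≠ 1 → ∀ y ∈ Y, y • x = x → y ∈ B := fun B h x hx x1 y a b =>
    eq_of_le_of_card_ge (le_inf (fun c k => hx c k) (p B h).1 : B ≤ stabilizer H x ⊓ Y)
      ((mx x x1).trans (p B h).2.1.ge) ▸ ⟨b, a⟩
  have iv : ∀ y ∈ Y, ∀ B ∈ T, ∀ x ∈ Fs V B, y • x ∈ Fs V B := fun y a B h x hx b k => by
    rw [← mul_smul, mul_comm_of_comm ab ((p B h).1 k) a, mul_smul, hx b k]
  have ind : ∀ U : Finset (Subgroup H), U ⊆ T → (∀ y ∈ Y, ∀ x ∈ U.sup fun B => Fs V B, y • x ∈ U.sup fun B => Fs V B) ∧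
      (∀ B ∈ T, B ∉ U → Fs V B ⊓ U.sup (fun B => Fs V B) = ⊥) ∧
      #(U.sup fun B => Fs V B) = #(Fs V A) ^ U.card := by
    intro U
    induction U using Finset.induction_on with
    | empty => exact fun _ => ⟨fun y _ x h => by simp at h; simp [h], by simp, by simp⟩
    | insert C U c ih =>
      intro h
      have hC := h (Finset.mem_insert_self _ _)
      obtain ⟨i1, i2, i3⟩ := ih ((Finset.subset_insert _ _).trans h)
      rw [Finset.sup_insert, Finset.card_insert_of_notMem c]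
      refine ⟨fun y a x k => ?_, fun B b n => eq_bot_iff.2 fun x k => ?_, by
        rw [cd (i2 C hC c), i3, (p C hC).2.2, pow_succ']⟩
      · obtain ⟨u, hu, z, hz, rfl⟩ := mem_sup.1 k
        rw [smul_mul']; exact mul_mem_sup (iv y a C hC u hu) (i1 y a z hz)
      · obtain ⟨u, hu, z, hz, rfl⟩ := mem_sup.1 k.2
        obtain ⟨y, y1, y2⟩ := SetLike.not_le_iff_exists.1 fun l : C ≤ B => n (eq_of_le_of_card_eq l
          ((p C hC).2.1.trans (p B b).2.1.symm) ▸ Finset.mem_insert_self _ _)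
        have yY := (p C hC).1 y1
        have : y • (u * z) * (u * z)⁻¹ ∈ Fs V B ⊓ U.sup fun B => Fs V B := by
          refine mem_inf.2 ⟨Subgroup.mul_mem _ (iv y yY B b _ k.1) (Subgroup.inv_mem _ k.1), ?_⟩
          rw [smul_mul', hu y y1, mm]
          exact Subgroup.mul_mem _ (i1 y yY z hz) (Subgroup.inv_mem _ hz)
        rw [i2 B b fun k => n (Finset.mem_insert_of_mem k), mem_bot, mul_inv_eq_one] at this
        exact by_contra fun e => y2 (mxB B b _ k.1 e y yY this)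
  have c1 := (ind T le_rfl).2.2 ▸ card_le_card_group (T.sup fun B => Fs V B)
  have aT : A ∈ T := mT.2 ⟨1, L.one_mem, by simp⟩
  have t2 : 2 ≤ T.card := by
    by_contra n
    have := s.fx (fun g a => mem_norm_iff_cj.2 (Finset.card_le_one.1 (by omega) _ (mT.2 ⟨g, a, rfl⟩) _ aT)) A1
    exact w1 (mem_bot.1 (this ▸ wA))
  have c2 : 2 * #A ≤ #Y := by
    have : #A * A.relIndex Y = #Y := card_mul_relIndex inf_le_right
    have a := relIndex_pos A Y
    have b : A.relIndex Y ≠ 1 := fun k => w1 (mem_bot.1 (s.fx s.yl.norm (ne_bot_of_mem hy y1) ▸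
      fun a h => (relIndex_eq_one.1 k h).1))
    rw [← this, mul_comm]; exact Nat.mul_le_mul_left _ (by omega)
  have c3 : ((fun g => g • w) '' (L : Set H)).ncard ≤ T.card * (#(Fs V A) - 1) := by
    have := Fintype.ofFinite V
    refine le_trans ?_ (Finset.card_biUnion_le_card_mul T (fun B => ((Fs V B : Set V) \ {1}).toFinset) _ fun B h => by
      rw [← Set.ncard_eq_toFinset_card', Set.ncard_diff_singleton_of_mem (Fs V B).one_mem, ← (p B h).2.2]; rfl)
    rw [← Set.ncard_coe_finset]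
    refine Set.ncard_le_ncard (by
      rintro _ ⟨g, a, rfl⟩
      simp only [Finset.coe_biUnion, Set.coe_toFinset, Set.mem_iUnion]
      refine ⟨_, mT.2 ⟨g, a, rfl⟩, fun b k => ?_, fun k => w1 (((smul_eq_iff_eq_inv_smul g).1 k).trans (smul_one _))⟩
      rw [hA, ← st_cj (s.yl.norm a)] at k; exact k.1)
  have c4 := s.orb w1
  have c5 := bern (#(Fs V A) - 1) _ t2
  have c6 := card_pos A
  rw [show 1 + (#(Fs V A) - 1) = #(Fs V A) by have := card_pos (Fs V A); omega] at c5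
  have c7 : 2 * R.index ≤ T.card * (#(Fs V A) - 1) := by
    refine Nat.le_of_mul_le_mul_left ?_ c6
    nlinarith [Nat.mul_le_mul_left R.index c2, Nat.mul_le_mul_left (#A) c3]
  nlinarith [Nat.pow_le_pow_left (by omega : 2 + 2 * R.index ≤ 2 + T.card * (#(Fs V A) - 1)) 2]

theorem ex_e (hr : r.Prime) (h : PG r Y) (n : ¬ Ab Y) : ∃ e ∈ Y, e ∉ C(Y) ∧ ∀ x ∈ Y,
    x⁻¹ * (e * x * e⁻¹) ∈ C(Y) ∧ (x⁻¹ * (e * x * e⁻¹)) ^ r = 1 := by
  have := Fact.mk hr
  have p := (pG_iff.1 h).to_quotient (center Y)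
  have : Nontrivial (Y ⧸ center Y) := QuotientGroup.nontrivial_iff.2 fun k =>
    n ⟨⟨fun a b => mem_center_iff.1 (k ▸ mem_top b : b ∈ center Y) a⟩⟩
  have := p.center_nontrivial
  obtain ⟨k, k0, hk⟩ := (p.to_subgroup (center _)).nontrivial_iff_card.1 this
  obtain ⟨z, hz, o⟩ := exists_orderOf_eq_prime (H := center (Y ⧸ center Y)) hr (hk ▸ dvd_pow_self r k0.ne')
  obtain ⟨e, rfl⟩ := QuotientGroup.mk_surjective z
  have ce : ∀ x : Y, x ∈ center Y → x.1 ∈ C(Y) := fun x a => H19.mem_cent.2 fun y b =>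
    congrArg Subtype.val (mem_center_iff.1 a ⟨y, b⟩)
  refine ⟨e, e.2, fun k => hr.ne_one (o.symm.trans (orderOf_eq_one_iff.2 ((QuotientGroup.eq_one_iff _).2
    (mem_center_iff.2 fun y => Subtype.ext (H19.mem_cent.1 k y y.2))))), fun x hx => ?_⟩
  have a : x⁻¹ * (e * x * e.1⁻¹) ∈ C(Y) := ce ((⟨x, hx⟩ : Y)⁻¹ * (e * ⟨x, hx⟩ * e⁻¹))
    ((QuotientGroup.eq_one_iff _).1 (by
      simp only [QuotientGroup.mk_mul, QuotientGroup.mk_inv, ← mem_center_iff.1 hz]; group))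
  have b : e.1 ^ r ∈ C(Y) := ce (e ^ r) ((QuotientGroup.eq_one_iff _).1 (by
    rw [QuotientGroup.mk_pow, ← o, pow_orderOf_eq_one]))
  refine ⟨a, ?_⟩
  set c := x⁻¹ * (e * x * e.1⁻¹) with hc
  have e1 : x⁻¹ * e * x = c * e := by rw [hc]; group
  have e2 : (x⁻¹ * e * x) ^ r = e.1 ^ r := by
    rw [show x⁻¹ * e * x = x⁻¹ * e * x⁻¹⁻¹ by simp, conj_pow, H19.mem_cent.1 b _ (Y.inv_mem hx)]; group
  rw [e1, Commute.mul_pow (H19.mem_cent.1 a e e.2).symm] at e2
  simpa using e2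

theorem St.zf (s : St V R L Y r) (n : ¬ Ab Y) {c : H} (h : c ∈ Y) (h' : c ∈ C(Y)) (c1 : c ≠ 1) : Fp V c :=
  s.mn Z(Y) inf_le_left (fun k => n (comm_iff_le_cent.2 (k.ge.trans inf_le_right)))
    (norms_inf s.yl.norm (norms_cent s.yl.norm)) c ⟨h, h'⟩ c1

theorem St.key (s : St V R L Y r) (n : ¬ Ab Y) {y : H} (h : y ∈ Y) (y1 : y ≠ 1) (f : ¬ Fp V y) :
    y ^ r = 1 ∧ ∃ e ∈ Y, ∃ c ∈ Y, c ∈ C(Y) ∧ c ≠ 1 ∧ c ^ r = 1 ∧ e * y * e⁻¹ = y * c := by
  set E : Set H := {e | e ∈ Y ∧ ∀ x ∈ Y, x⁻¹ * (e * x * e⁻¹) ∈ C(Y) ∧ (x⁻¹ * (e * x * e⁻¹)) ^ r = 1}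
  have m := s.mn (Y ⊓ centralizer E) inf_le_left (fun k => by
    obtain ⟨e, a, b, c⟩ := ex_e s.pr s.pg n
    exact b (H19.mem_cent.2 fun x hx => ((k.ge hx).2 e ⟨a, c⟩).symm)) fun g a => mem_norm_of_cj_le fun z hz => by
      have gn := s.yl.norm a
      obtain ⟨k, hk, rfl⟩ := mem_cj'.1 hz
      refine ⟨conj_mem_of_norm gn hk.1, fun e he => ?_⟩
      have := hk.2 (g⁻¹ * e * g) ⟨conj_mem_of_norm' gn he.1, fun x hx => by
        obtain ⟨b, c⟩ := he.2 _ (conj_mem_of_norm gn hx)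
        rw [show x⁻¹ * (g⁻¹ * e * g * x * (g⁻¹ * e * g)⁻¹) =
          g⁻¹ * ((g * x * g⁻¹)⁻¹ * (e * (g * x * g⁻¹) * e⁻¹)) * g⁻¹⁻¹ by group, conj_pow, c]
        exact ⟨conj_mem_of_norm (inv_mem (norm_le_norm_cent _ gn)) b, by simp⟩⟩
      rw [show e * (g * k * g⁻¹) = g * (g⁻¹ * e * g * k) * g⁻¹ by group, this]; group
  refine ⟨by_contra fun k => f fun v hv => m _ ⟨Y.pow_mem h r, fun e he => ?_⟩ k v
    ((stabilizer H v).pow_mem hv r), ?_⟩
  · obtain ⟨a, b⟩ := he.2 y h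
    have : (e * y * e⁻¹) ^ r = y ^ r := by
      rw [show e * y * e⁻¹ = y * (y⁻¹ * (e * y * e⁻¹)) by group, Commute.mul_pow (H19.mem_cent.1 a y h), b, mul_one]
    rw [conj_pow] at this
    exact mul_inv_eq_iff_eq_mul.1 this
  · by_contra k
    refine f (m y ⟨h, fun e he => by_contra fun l => k ⟨e, he.1, _, mul_mem (inv_mem h)
      (mul_mem (mul_mem he.1 h) (inv_mem he.1)), (he.2 y h).1, fun z => l ?_, (he.2 y h).2, by group⟩⟩ y1)
    rw [inv_mul_eq_one, eq_mul_inv_iff_mul_eq] at z; exact z.symm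

theorem St.cnt [Fintype H] (s : St V R L Y r) {w : V} (h : w ≠ 1) {M : ℕ}
    (m : ∀ y ∈ Y, y ≠ 1 → ¬ Fp V y → #(Fx V {y}) ≤ M) :
    R.index * #Y * (#(stabilizer H w ⊓ Y) - 1) ≤ #(stabilizer H w ⊓ Y) *
      ((Finset.univ.filter fun y => y ∈ Y ∧ y ≠ 1 ∧ ¬ Fp V y).card * (M - 1)) := by
  have := Fintype.ofFinite V
  refine (Nat.mul_le_mul_right _ (s.orb h)).trans ?_
  rw [mul_assoc, Set.ncard_eq_toFinset_card']
  have o : ∀ x ∈ ((fun g => g • w) '' (L : Set H)).toFinset, ∃ g ∈ L, g • w = x ∧ x ≠ 1 := fun x k => by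
    obtain ⟨g, a, rfl⟩ := Set.mem_toFinset.1 k
    exact ⟨g, a, rfl, fun k => h (((smul_eq_iff_eq_inv_smul g).1 k).trans (smul_one _))⟩
  refine Nat.mul_le_mul_left _ (Finset.card_mul_le_card_mul (fun x y => y • x = x) (fun x k => ?_) fun y k => ?_)
  · obtain ⟨g, a, rfl, b⟩ := o x k
    rw [Nat.card_congr (cjEquiv g _).toEquiv, ← st_cj (s.yl.norm a), ← Set.ncard_coe_finset]
    refine le_trans (Set.ncard_diff_singleton_of_mem (stabilizer H (g • w) ⊓ Y).one_mem).ge (Set.ncard_le_ncard ?_)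
    intro y c
    simpa using ⟨⟨c.1.2, c.2, fun f => b (f _ c.1.1)⟩, c.1.1⟩
  · obtain ⟨a, b, c⟩ := (Finset.mem_filter.1 k).2
    rw [← Set.ncard_coe_finset]
    refine le_trans (Set.ncard_le_ncard (t := (Fx V {y} : Set V) \ {1}) fun x e => ?_) ?_
    · obtain ⟨e1, e2⟩ := (Finset.mem_bipartiteBelow _).1 e
      exact ⟨mem_fx1.2 e2, (o x e1).choose_spec.2.2⟩
    · rw [Set.ncard_diff_singleton_of_mem (Fx V {y}).one_mem]
      exact Nat.sub_le_sub_right (m y a b c) 1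

theorem St.nab (s : St V R L Y r) (n : ¬ Ab Y) : (R.index + 1) ^ 2 ≤ Nat.card V := by
  have := Fintype.ofFinite H
  obtain ⟨y, ⟨hy, y1, nf⟩, mx⟩ := Set.exists_max_image {y | y ∈ Y ∧ y ≠ 1 ∧ ¬ Fp V y} (fun y => #(Fx V {y}))
    (Set.toFinite _) s.nf
  have cnt := fun (w : V) (h : w ≠ 1) => s.cnt h fun y a b c => mx y ⟨a, b, c⟩
  set I := Finset.univ.filter fun y => y ∈ Y ∧ y ≠ 1 ∧ ¬ Fp V y with hI
  have mI : ∀ {y}, y ∈ I ↔ y ∈ Y ∧ y ≠ 1 ∧ ¬ Fp V y := by simp [hI]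
  obtain ⟨w, hw⟩ := not_forall.1 nf
  obtain ⟨hw, w1⟩ := Classical.not_imp.1 hw
  obtain ⟨yr, e, he, c, hc, cc, c1, cr, ec⟩ := s.key n hy y1 nf
  have fc := s.zf n hc cc c1
  have cy : c * y = y * c := (H19.mem_cent.1 cc y hy).symm
  have m1 : #(Fx V {y * c}) = #(Fx V {y}) := by rw [← ec, fx_cj]
  have M0 := card_pos (Fx V {y})
  have Y0 := card_pos Y
  have cF : ∀ K : Subgroup H, (Finset.univ.filter (· ∈ K)).card = #K := fun K => by
    rw [Nat.card_eq_fintype_card, Fintype.card_subtype]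
  have rs : ∀ x : V, stabilizer H x ⊓ Y ≠ ⊥ → r ∣ #(stabilizer H x ⊓ Y) := fun x k => by
    obtain ⟨p, a, b⟩ := exists_prime_dvd_card k
    exact (s.pg.of_le inf_le_right p a b : p = r) ▸ b
  have sw := rs w (ne_bot_of_mem (H := stabilizer H w ⊓ Y) ⟨hw, hy⟩ y1)
  obtain ⟨M, hM⟩ : ∃ M, #(Fx V {y}) = M + 1 := ⟨_, (Nat.sub_add_cancel M0).symm⟩
  simp only [hM, Nat.add_sub_cancel] at cnt
  rcases s.pr.eq_two_or_odd' with rfl | od
  swap
  · have c2 : c * c ≠ 1 := fun k => c1 (by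
      obtain ⟨j, rfl⟩ := od
      rwa [pow_succ, pow_mul, sq, k, one_pow, one_mul] at cr)
    have m2 : #(Fx V {y * c * c}) = #(Fx V {y}) := by
      rw [← m1, ← fx_cj e (y * c), ← mul_assoc e, mul_assoc (e * y), ← H19.mem_cent.1 cc _ (Y.inv_mem he),
        ← mul_assoc (e * y), ec]
    have a := card_le_card_group ((Fx V {y} ⊔ Fx V {y * c}) ⊔ Fx V {y * c * c})
    rw [cd (three fc (s.zf n (mul_mem hc hc) (mul_mem cc cc) c2) cy), cd (two fc), m1, m2, hM] at a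
    have b : I.card ≤ #Y := cF Y ▸ Finset.card_le_card fun x k => by simpa using (mI.1 k).1
    have r3 : 3 ≤ r := by have := s.pr.two_le; obtain ⟨j, rfl⟩ := od; omega
    obtain ⟨t, ht⟩ := Nat.exists_eq_add_of_le (r3.trans (Nat.le_of_dvd (card_pos _) sw))
    have d := cnt w w1
    rw [ht, show 3 + t - 1 = 2 + t by omega] at d
    have d1 : R.index * (2 + t) ≤ (3 + t) * M := Nat.le_of_mul_le_mul_left (by
      nlinarith [Nat.mul_le_mul_left ((3 + t) * M) b]) Y0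
    have d2 : 2 * R.index ≤ 3 * M := Nat.le_of_mul_le_mul_left (by nlinarith [Nat.zero_le (t * M)]) (by omega : 0 < 2 + t)
    nlinarith [Nat.pow_le_pow_left (by omega : 2 * R.index + 2 ≤ 3 * M + 2) 2, Nat.zero_le (M * M * M),
      Nat.zero_le (M * M)]
  have a := card_le_card_group (Fx V {y} ⊔ Fx V {y * c})
  rw [cd (two fc), m1, hM] at a
  suffices R.index ≤ M by nlinarith
  have sq1 : ∀ x ∈ I, x * x = 1 := fun x k => by
    rw [← sq]; exact (s.key n (mI.1 k).1 (mI.1 k).2.1 (mI.1 k).2.2).1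
  rw [sq] at yr cr
  have l1 : 2 * #(Y ⊓ C[y]) ≤ #Y := by
    have e1 : #(Y ⊓ C[y]) * (Y ⊓ C[y]).relIndex Y = #Y := card_mul_relIndex inf_le_left
    have a := relIndex_pos (Y ⊓ C[y]) Y
    have b : (Y ⊓ C[y]).relIndex Y ≠ 1 := fun k => c1 (by
      rw [mem_cent1.1 (relIndex_eq_one.1 k he).2, mul_inv_cancel_right] at ec; simpa using ec)
    rw [← e1, mul_comm]; exact Nat.mul_le_mul_left _ (by omega)
  have l2 : 2 * (I.filter (· ∉ C[y])).card + #(Y ⊓ C[y]) ≤ #Y := by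
    rw [two_mul, ← cF, ← cF]
    conv_lhs => congr; congr; rw [← Finset.card_image_of_injective _ (mul_left_injective y)]
    rw [← Finset.card_union_of_disjoint, ← Finset.card_union_of_disjoint]
    · refine Finset.card_le_card fun x k => ?_
      simp only [Finset.mem_union, Finset.mem_image, Finset.mem_filter, Finset.mem_univ, true_and] at k ⊢
      rcases k with (⟨z, k, rfl⟩ | k) | k
      exacts [mul_mem (mI.1 k.1).1 hy, (mI.1 k.1).1, k.1]
    · refine Finset.disjoint_left.2 fun x k l => ?_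
      simp only [Finset.mem_union, Finset.mem_image, Finset.mem_filter, Finset.mem_univ, true_and] at k l
      rcases k with ⟨z, k, rfl⟩ | k
      exacts [k.2 ((mul_mem_cancel_right (mem_cent1_self y)).1 l.2), k.2 l.2]
    · refine Finset.disjoint_left.2 fun x k l => ?_
      simp only [Finset.mem_image, Finset.mem_filter] at k l
      obtain ⟨z, k, rfl⟩ := k
      refine k.2 (mem_cent1.2 ?_)
      rw [eq_inv_of_mul_eq_one_left (sq1 _ l.1), mul_inv_rev, ← eq_inv_of_mul_eq_one_left yr,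
        ← eq_inv_of_mul_eq_one_left (sq1 _ k.1)]
  have l3 := Finset.card_filter_add_card_filter_not (s := I) (· ∈ C[y])
  by_cases B : ∃ x : V, x ≠ 1 ∧ 2 < #(stabilizer H x ⊓ Y)
  · obtain ⟨x, x1, b⟩ := B
    have := rs x (ne_bot_iff_one_lt_card.2 (by omega))
    obtain ⟨t, ht⟩ := Nat.exists_eq_add_of_le (by omega : 4 ≤ #(stabilizer H x ⊓ Y))
    have d := cnt x x1
    rw [ht, show 4 + t - 1 = 3 + t by omega] at d
    have l4 : (I.filter (· ∈ C[y])).card ≤ #(Y ⊓ C[y]) := cF _ ▸ Finset.card_le_card fun x k => by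
      simpa using ⟨(mI.1 (Finset.mem_filter.1 k).1).1, (Finset.mem_filter.1 k).2⟩
    have l5 : 4 * I.card ≤ 3 * #Y := by omega
    refine Nat.le_of_mul_le_mul_left ?_ (Nat.mul_pos Y0 (by omega : 0 < 4 * (3 + t)))
    nlinarith [Nat.mul_le_mul_left ((4 + t) * M) l5, Nat.zero_le (t * M * #Y)]
  push Not at B
  have iv : ∀ v : V, c • v = v⁻¹ := fun v => eq_inv_of_mul_eq_one_left (fc _ (by
    rw [smul_mul', ← mul_smul, cr, one_smul, mul_comm]))
  have l6 : ∀ x : V, x ≠ 1 → y • x = x → ∀ u ∈ Y, u • x = x → u = 1 ∨ u = y := fun x x1 a u b d => by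
    by_contra k
    push Not at k
    have := B x x1
    rw [← cF] at this
    exact this.not_gt (Finset.two_lt_card_iff.2 ⟨1, y, u, by simp, by simpa using ⟨a, hy⟩, by simpa using ⟨d, b⟩,
      y1.symm, k.1.symm, k.2.symm⟩)
  have l4 : (I.filter (· ∈ C[y])).card ≤ 2 := by
    refine (Finset.card_le_card (t := {y, y * c}) fun u k => ?_).trans Finset.card_le_two
    obtain ⟨k, k'⟩ := Finset.mem_filter.1 k
    obtain ⟨u0, u1, u2⟩ := mI.1 k
    simp only [Finset.mem_insert, Finset.mem_singleton]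
    by_cases z : w * u • w = 1
    · rcases l6 w w1 hw (u * c) (mul_mem u0 hc) (by
        rw [mul_smul, iv, smul_inv', ← eq_inv_of_mul_eq_one_left z]) with l | l
      · exact absurd ((eq_inv_of_mul_eq_one_left l).trans (eq_inv_of_mul_eq_one_left cr).symm ▸ fc) u2
      · right; rw [← l, mul_assoc, cr, mul_one]
    · exact .inl ((l6 _ z (by rw [smul_mul', ← mul_smul, ← mem_cent1.1 k', mul_smul, hw]) u u0 (by
        rw [smul_mul', ← mul_smul, sq1 u k, one_smul, mul_comm])).resolve_left u1)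
  have l7 : 3 < #(Y ⊓ C[y]) := by
    have p : 2 ∣ #(Y ⊓ C[y]) := by
      rw [← orderOf_eq_prime (p := 2) (by rwa [sq]) y1]; exact orderOf_dvd_card' ⟨hy, mem_cent1_self y⟩
    have := Finset.two_lt_card_iff.2 ⟨1, y, c, (by simp : 1 ∈ Finset.univ.filter (· ∈ Y ⊓ C[y])),
      by simpa using ⟨hy, mem_cent1_self y⟩, by simpa using ⟨hc, mem_cent1.2 cy⟩, y1.symm, c1.symm,
      fun k => nf (k ▸ fc)⟩
    rw [cF] at this; omega
  have d := cnt w w1
  have := B w w1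
  rw [show #(stabilizer H w ⊓ Y) = 2 by have := Nat.le_of_dvd (card_pos _) sw; omega] at d
  have l5 : 2 * I.card ≤ #Y := by omega
  refine Nat.le_of_mul_le_mul_left ?_ Y0
  nlinarith [Nat.mul_le_mul_left M l5]

theorem al (fp : ∀ h ∉ R, Fp V h) (fa : ∀ h : H, (∀ v : V, h • v = v) → h = 1) {y : H} (y1 : y ≠ 1)
    (nf : ¬ Fp V y) : (R.index + 1) ^ 2 ≤ Nat.card V := by
  have yR : y ∈ R := by_contra fun k => nf (fp y k)
  obtain ⟨r, hr, d⟩ := Nat.exists_prime_and_dvd fun k => y1 (orderOf_eq_one_iff.1 k)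
  have o := orderOf_pow_orderOf_div (orderOf_pos y).ne' d
  set z := y ^ (orderOf y / r)
  have z1 : z ≠ 1 := fun k => hr.ne_one (by rw [← o, k, orderOf_one])
  have zf : ¬ Fp V z := fun k => nf fun v a => k v ((stabilizer H v).pow_mem a _)
  obtain ⟨P, hP, zP⟩ := PiN.exists_syl (p := r) (K := zpowers z) (M := R ⊓ ⊤)
    (by rw [PG, PiG, Nat.card_zpowers, o]; exact (piN_prime hr).2 rfl) (by simpa using R.pow_mem yR _)
  have cv := cv_fr (sup_top_eq R) hP
  rw [top_inf_eq] at cv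
  by_contra n
  have ir : ∀ W : Subgroup V, (∀ h ∈ N(P), ∀ v ∈ W, h • v ∈ W) → W = ⊥ ∨ W = ⊤ := fun W h => by
    by_contra k
    push Not at k
    have := inv_dvd cv fp ⊤ fun _ _ _ _ => mem_top _
    rw [Subgroup.card_top] at this
    exact n (sq_of (inv_dvd cv fp W h) this (card_subgroup_dvd_card W) (ne_bot_iff_one_lt_card.1 k.1)
      (Subgroup.card_top (G := V) ▸ card_lt (lt_top_iff_ne_top.2 k.2)))
  obtain ⟨Y, hY⟩ := exists_minimal_of_wellFoundedLT (fun K : Subgroup H => K ≤ P ∧ N(P) ≤ N(K) ∧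
    ∃ y ∈ K, y ≠ 1 ∧ ¬ Fp V y) ⟨P, le_rfl, le_rfl, z, zP (mem_zpowers z), z1, zf⟩
  have s : St V R N(P) Y r := ⟨cv, fp, fa, ir, hr, hP.pi.of_le hY.1.1, hY.1.1.trans (hP.le.trans inf_le_left),
    ⟨hY.1.1.trans le_normalizer, hY.1.2.1⟩, hY.1.2.2, fun K a b c y d e => by_contra fun f =>
      b (le_antisymm a (hY.2 ⟨a.trans hY.1.1, c, y, d, e, f⟩ a))⟩
  by_cases ab : Ab Y
  exacts [n (s.ab ab), n (s.nab ab)]

end aff
end H24.DG
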