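import Cfsg.Agent.H24.DG1
import Cfsg.Agent.H24.DG2
import Mathlib.GroupTheory.Transfer

/-! Derangement subgroup, part 3: the index bound. -/

set_option autoImplicit false
set_option linter.unusedVariables false

namespace H24.DG
open Cfsg H19 Subgroup MulAction
open scoped Classical

variable {G Ω : Type*} [Group G] [Finite G]

theorem burn {q : ℕ} (hq : q.Prime) {P M : Subgroup G} (s : Syl q P M) (h : M ⊓ N(P) ≤ C(P)) :
    ∃ U, Sdprod U P M := by
  have := Fact.mk hq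
  obtain ⟨S, rfl⟩ := s.exists_sylow
  refine ⟨_, sdprod_of_isComplement' (MonoidHom.ker_transferSylow_isComplement' S fun g a b c => Subtype.ext ?_)⟩
  exact H19.mem_cent.1 (h ⟨g.2, le_normalizer_map _ (mem_map_of_mem M.subtype a)⟩) _ (mem_map_of_mem M.subtype c)

variable [MulAction G Ω] [Finite Ω] {D : Subgroup G}

theorem idx_tr {L : Subgroup G} {a : Ω} (h : ∀ b, ∃ g ∈ L, g • a = b) :
    (stabilizer G a).relIndex L = Nat.card Ω := by
  rw [← orb_card, Set.eq_univ_of_forall (s := (fun g => g • a) '' (L : Set G)) h, Set.ncard_univ]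

theorem tr_idx {L : Subgroup G} {a : Ω} (h : (stabilizer G a).relIndex L = Nat.card Ω) (b : Ω) :
    ∃ g ∈ L, g • a = b := by
  rw [← orb_card, ← Set.ncard_univ] at h
  exact (Set.eq_of_subset_of_ncard_le (Set.subset_univ _) h.ge ▸ Set.mem_univ b :
    b ∈ (fun g => g • a) '' (L : Set G))

variable [FaithfulSMul G Ω] [D.Normal] (tr : ∀ a b : Ω, ∃ g ∈ D, g • a = b)
  (u1 : ∀ g ∉ D, ∀ a b : Ω, g • a = a → g • b = b → a = b)
include tr u1

theorem cva (a : Ω) : D ⊔ stabilizer G a = ⊤ := eq_top_iff.2 fun g _ => by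
  obtain ⟨x, k, e⟩ := tr a (g • a)
  rw [← mul_inv_cancel_left x g]
  exact mul_mem_sup k (by rw [mem_stabilizer_iff, mul_smul, ← e, inv_smul_smul])

omit tr in
theorem dv1 {L : Subgroup G} {a : Ω} (l : L ≤ stabilizer G a) {A : Set Ω} (h : a ∈ A)
    (h1 : ∀ g ∈ L, ∀ x ∈ A, g • x ∈ A) : D.relIndex L ∣ A.ncard - 1 :=
  dv _ (A \ {a}) (Set.ncard_diff_singleton_of_mem h) (fun g k x m => ⟨h1 g k x m.1, fun e =>
    m.2 (((smul_eq_iff_eq_inv_smul g).1 e).trans (inv_mem (l k)))⟩)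
    fun g k x m e => by_contra fun n => m.2 (u1 g n _ _ e (l k))

theorem dn (a : Ω) : D.index ∣ Nat.card Ω - 1 := by
  rw [← cv_idx (cva tr u1 a), ← Set.ncard_univ]
  exact dv1 u1 le_rfl (Set.mem_univ a) fun _ _ _ _ => Set.mem_univ _

theorem s1 (h2 : 2 ≤ Nat.card Ω) : (D.index + 1) ^ 2 ≤ Nat.card Ω ∨ ∃ q Q, q.Prime ∧ Syl q Q D ∧
    #Q = Nat.card Ω ∧ ∀ b : Ω, stabilizer G b ⊓ Q = ⊥ := by
  obtain ⟨a⟩ : Nonempty Ω := (Nat.card_pos_iff.1 (by omega)).1
  obtain ⟨q, hq, qn⟩ := Nat.exists_prime_and_dvd (by omega : Nat.card Ω ≠ 1)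
  obtain ⟨Y, hY⟩ := exists_syl q (D ⊓ stabilizer G a)
  have YD := hY.le.trans inf_le_left
  have c0 := cv_fr (cva tr u1 a) hY
  obtain ⟨Z, hZ, YZ⟩ := hY.pi.exists_syl (le_inf YD le_normalizer)
  have c1 := cv_fr (eq_top_iff.2 (c0.ge.trans (sup_le_sup_left inf_le_right _))) hZ
  have i0 : ∀ b : Ω, #(D ⊓ stabilizer G b) * Nat.card Ω = #D := fun b => by
    rw [← idx_tr (tr b), inf_comm, card_inf_mul_relIndex]
  have i1 : Y.relIndex (D ⊓ stabilizer G a) * Nat.card Ω = Y.relIndex D := by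
    rw [← idx_tr (tr a), ← inf_relIndex_right (stabilizer G a), inf_comm (stabilizer G a),
      relIndex_mul_relIndex _ _ _ hY.le inf_le_left]
  set F : Set Ω := {b | ∀ y ∈ Y, y • b = b}
  have aF : a ∈ F := fun y h => (hY.le h).2
  have nF : ∀ g ∈ N(Y), ∀ x ∈ F, g • x ∈ F := fun g k x h y l => by
    have := h _ (conj_mem_of_norm' k l); rwa [mul_smul, mul_smul, inv_smul_eq_iff] at this
  have dF := cv_idx c0 ▸ dv1 u1 inf_le_left aF fun g k => nF g k.2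
  have sF : ∀ b ∈ F, stabilizer G b ⊓ Z = Y := fun b h => by
    refine (eq_of_le_of_card_ge (le_inf h YZ) (Nat.le_of_dvd (card_pos _) (hY.dvd (hZ.pi.of_le inf_le_right) ?_))).symm
    rw [Nat.eq_of_mul_eq_mul_right (by omega) ((i0 a).trans (i0 b).symm)]
    exact card_dvd (le_inf (inf_le_right.trans (hZ.le.trans inf_le_left)) inf_le_left)
  have oF : ∀ b ∈ F, (stabilizer G b).relIndex Z = Y.relIndex Z := fun b h => by
    rw [← inf_relIndex_right, sF b h]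
  have d1 : D.index ∣ Y.relIndex Z - 1 := (Nat.dvd_iff_prime_pow_dvd_dvd _ _).2 fun p k hp pk => by
    rcases k.eq_zero_or_pos with rfl | k0
    · simp
    obtain ⟨P, hP⟩ := exists_syl p (N(Y) ⊓ N(Z))
    obtain ⟨b, bF, hb⟩ : ∃ b ∈ F, P ≤ stabilizer G b := by
      by_contra n
      push Not at n
      have := dv0 (L := P) p _ F rfl (fun g k => nF g (hP.le k).1) fun x h => by
        obtain ⟨s, a, b⟩ := Nat.exists_prime_and_dvd fun e => n x h (relIndex_eq_one.1 e)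
        exact (hP.pi s a (b.trans (relIndex_dvd_card _ _)) : s = p) ▸ b
      have e := (Nat.dvd_sub this (((dvd_pow_self p k0.ne').trans pk).trans dF))
      rw [show F.ncard - (F.ncard - 1) = 1 by have := (Set.ncard_pos (s := F)).2 ⟨a, aF⟩; omega] at e
      exact hp.ne_one (Nat.dvd_one.1 e)
    have e := dv1 u1 hb (A := (fun g => g • b) '' (Z : Set G)) ⟨1, Z.one_mem, one_smul _ _⟩ (by
      rintro g k _ ⟨z, l, rfl⟩
      exact ⟨_, conj_mem_of_norm (hP.le k).2 l, by simp only [mul_smul]; rw [inv_mem (hb k)]⟩)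
    rw [orb_card, oF b bF] at e
    refine Dvd.dvd.trans ?_ e
    have f := relIndex_dvd_left (inf_le_left : D ⊓ P ≤ D) (N(Y) ⊓ N(Z))
    rw [cv_idx c1, ← relIndex_mul_relIndex _ _ _ inf_le_right hP.le, inf_relIndex_right] at f
    exact ((hp.coprime_iff_not_dvd.2 (hP.not_dvd hp)).pow_left k).dvd_of_dvd_mul_right (pk.trans f)
  have d2 : 1 < Y.relIndex Z := by
    obtain ⟨W, a, b, c, d⟩ := hY.pi.exists_lt_norm YD fun s => s.not_dvd hq (i1 ▸ qn.mul_left _)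
    have := (card_lt a).trans_le (Nat.le_of_dvd (card_pos _) (hZ.card_dvd (le_inf c d) b))
    have e := relIndex_pos Y Z
    have f : Y.relIndex Z ≠ 1 := fun k => by have := card_le (relIndex_eq_one.1 k); omega
    omega
  have d3 : Y.relIndex Z ∣ Nat.card Ω := ((hZ.pi.dvd (relIndex_dvd_card _ _)).coprime hY.idx).dvd_of_dvd_mul_left
    (i1 ▸ relIndex_dvd_right YZ (hZ.le.trans inf_le_left))
  rcases (Nat.le_of_dvd (by omega) d3).lt_or_eq with l | l
  · exact .inl (sq_of d1 (dn tr u1 a) d3 d2 l)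
  have aF' : ∀ b, b ∈ F := fun b => by
    obtain ⟨g, k, rfl⟩ := tr_idx ((oF a aF).trans l) b
    exact nF g (hZ.le k).2 a aF
  obtain rfl : Y = ⊥ := eq_bot_iff.2 fun y h => eq_of_smul_eq_smul (α := Ω) fun b => by rw [aF' b y h, one_smul]
  rw [relIndex_bot_left] at l
  rw [normalizer_eq_top_iff.2 inferInstance, inf_top_eq] at hZ
  exact .inr ⟨q, Z, hq, hZ, l, fun b => sF b (aF' b)⟩

omit u1 in
theorem main (hD : ∀ g ∉ D, Nat.card (fixedBy Ω g) = 1) (h2 : 2 ≤ Nat.card Ω) :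
    (D.index + 1) ^ 2 ≤ Nat.card Ω ∨ D.index = 1 ∨ ∃ Q : Subgroup G, Q.Normal ∧ Q ≠ ⊥ ∧ Ab Q ∧
      ∀ g : G, g ≠ 1 → Nat.card (fixedBy Ω g) ≤ 1 := by
  have u1 : ∀ g ∉ D, ∀ a b : Ω, g • a = a → g • b = b → a = b := fun g k a b c d =>
    congrArg Subtype.val ((Nat.card_eq_one_iff_unique.1 (hD g k)).1.elim (⟨a, c⟩ : fixedBy Ω g) ⟨b, d⟩)
  have ne : Nonempty Ω := (Nat.card_pos_iff.1 (by omega)).1
  obtain ⟨a⟩ := id ne
  by_contra n
  push Not at n
  obtain ⟨n1, n2, n3⟩ := n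
  obtain ⟨q, Q, hq, hQ, cQ, sr⟩ := (s1 tr u1 h2).resolve_left n1.not_ge
  have sr' : ∀ x ∈ Q, ∀ b : Ω, x • b = b → x = 1 := fun x k b e => mem_bot.1 (sr b ▸ ⟨e, k⟩)
  have tq : ∀ a b : Ω, ∃ x ∈ Q, x • a = b := fun a => tr_idx (by
    rw [← inf_relIndex_right, sr, relIndex_bot_left, cQ])
  have dec : ∀ a : Ω, ∀ g ∈ N(Q), ∃ x ∈ Q, x⁻¹ * g ∈ stabilizer G a ⊓ N(Q) := fun a g k => by
    obtain ⟨x, l, e⟩ := tq a (g • a)
    exact ⟨x, l, mem_inf.2 ⟨by rw [mem_stabilizer_iff, mul_smul, ← e, inv_smul_smul],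
      mul_mem (inv_mem (le_normalizer l)) k⟩⟩
  have c0 := cv_fr (sup_top_eq D) (by simpa using hQ : Syl q Q (D ⊓ ⊤))
  have cv : D ⊔ (stabilizer G a ⊓ N(Q)) = ⊤ := eq_top_iff.2 (c0.ge.trans (sup_le le_sup_left fun g k => by
    obtain ⟨x, l, e⟩ := dec a g k.2
    rw [← mul_inv_cancel_left x g]; exact mul_mem_sup (hQ.le l) e))
  set H := (stabilizer G a).subgroupOf N(Q)
  set R : Subgroup H := D.comap (N(Q).subtype.comp H.subtype)
  have iR : R.index = D.index := by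
    rw [index_comap, MonoidHom.range_comp, range_subtype, subgroupOf_map_subtype, cv_idx cv]
  have sm : ∀ (h : H) (v : Q), h • v = v ↔ h.1.1 * v.1 = v.1 * h.1.1 := fun h v =>
    Subtype.ext_iff.trans mul_inv_eq_iff_eq_mul
  have fx : ∀ (h : H) (v : Q), h • v = v → h.1.1 • v.1 • a = v.1 • a := fun h v e => by
    rw [← mul_smul, (sm h v).1 e, mul_smul, show h.1.1 • a = a from h.2]
  have fp : ∀ h ∉ R, ∀ v : Q, h • v = v → v = 1 := fun h k v e =>
    Subtype.ext (sr' _ v.2 a (u1 _ k _ _ (fx h v e) h.2))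
  have Q1 : Q ≠ ⊥ := ne_bot_iff_one_lt_card.2 (by omega)
  have ab : ∀ x y : Q, x * y = y * x := by
    by_contra k
    have := Fact.mk hq
    have := (nontrivial_iff_ne_bot Q).2 Q1
    have := (pG_iff.1 hQ.pi).center_nontrivial
    have z := inv_dvd (sup_top_eq R) fp (center Q) fun h _ v l => mem_center_iff.2 fun w => by
      rw [← smul_inv_smul h w, ← smul_mul', ← smul_mul', mem_center_iff.1 l]
    refine n1.not_ge (sq_of (iR ▸ z) (dn tr u1 a) (cQ ▸ card_subgroup_dvd_card _) Finite.one_lt_card ?_)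
    rw [← cQ, ← Subgroup.card_top (G := Q)]
    exact card_lt (lt_top_iff_ne_top.2 fun e => k fun x y => mem_center_iff.1 (e ▸ mem_top y : y ∈ center Q) x)
  have ab' : Ab Q := ⟨⟨ab⟩⟩
  have fr : ∀ h ∈ stabilizer G a ⊓ N(Q), ∀ x ∈ Q, x ≠ 1 → h * x = x * h → h = 1 := fun h k x l x1 e => by
    by_contra h1
    letI : CommGroup Q := { (inferInstance : Group Q) with mul_comm := ab }
    refine n1.not_ge (iR ▸ cQ ▸ al (V := Q) fp (fun h f => Subtype.ext (Subtype.ext (eq_of_smul_eq_smul (α := Ω)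
      fun b => ?_))) (y := ⟨⟨h, k.2⟩, k.1⟩) (fun z => h1 (congrArg (fun z : H => z.1.1) z))
      fun f => x1 (congrArg Subtype.val (f ⟨x, l⟩ ((sm _ _).2 e))))
    obtain ⟨x, l, rfl⟩ := tq a b
    rw [fx h ⟨x, l⟩ (f _)]; simp
  have f1 : ∀ g ∈ N(Q), g ≠ 1 → Nat.card (fixedBy Ω g) ≤ 1 := fun g k g1 =>
    Finite.card_le_one_iff_subsingleton.2 ⟨fun ⟨b, hb⟩ ⟨c, hc⟩ => Subtype.ext (by
      obtain ⟨x, l, rfl⟩ := tq a b
      obtain ⟨y, m, rfl⟩ := tq (x • a) c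
      have xn := le_normalizer l
      have hb' : g • x • a = x • a := hb
      have hc' : g • y • x • a = y • x • a := hc
      by_cases y1 : y = 1
      · simp [y1]
      have e : g * y * g⁻¹ = y := mul_inv_eq_one.1 (sr' _ (mul_mem (conj_mem_of_norm k m) (inv_mem m)) (y • x • a) (by
        simp only [mul_smul]; rw [inv_smul_smul, inv_smul_eq_iff.2 hb'.symm, hc']))
      refine absurd ?_ g1
      have := fr (x⁻¹ * g * x) (mem_inf.2 ⟨by rw [mem_stabilizer_iff, mul_smul, mul_smul, hb', inv_smul_smul],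
        mul_mem (mul_mem (inv_mem xn) k) xn⟩) y m y1 (by
          rw [mul_assoc, mul_comm_of_comm ab' l m, mul_assoc, ← mul_assoc g, mul_inv_eq_iff_eq_mul.1 e,
            ← mul_assoc, ← mul_assoc, mul_comm_of_comm ab' (inv_mem l) m]; group)
      simpa [mul_assoc, inv_mul_eq_one, eq_comm] using this)⟩
  have ct : ∀ x ∈ Q, x ≠ 1 → D ⊓ C[x] ≤ Q := fun x l x1 => by
    have QC : Q ≤ D ⊓ C[x] := le_inf hQ.le fun y m => mem_cent1.2 (mul_comm_of_comm ab' m l)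
    have s := hQ.of_le QC inf_le_left
    obtain ⟨U, hU⟩ := burn hq s fun g k => by
      obtain ⟨y, m, e⟩ := dec a g k.2
      rw [← inv_mul_eq_one.1 (fr _ e x l x1 (mem_cent1.1 (mul_mem (inv_mem (QC m).2) k.1.2)))]
      exact comm_iff_le_cent.1 ab' m
    rw [← hU.sup]
    refine sup_le (fun u m => ?_) le_rfl
    rw [eq_of_smul_eq_smul (α := Ω) (m₁ := u) (m₂ := 1) fun b => ?_]
    · exact Q.one_mem
    have e1 := relIndex_dvd_of_norm' (H := stabilizer G b ⊓ (D ⊓ C[x])) (inf_le_right.trans hU.normal.norm)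
      inf_le_right hU.left_le
    rw [inf_relIndex_right, idx_tr fun c => (tq b c).imp fun y h => ⟨QC h.1, h.2⟩, ← cQ] at e1
    rw [one_smul]
    exact (relIndex_eq_one.1 ((hQ.pi.dvd e1).eq_one
      ((hU.relIndex_right ▸ s.idx).dvd (relIndex_dvd_card _ _))) m).1
  have := Fintype.ofFinite G
  have : IsPretransitive D Ω := ⟨fun a b => let ⟨g, k, e⟩ := tr a b; ⟨⟨g, k⟩, e⟩⟩
  have nm : ∀ g : D, g ∈ N(Q.subgroupOf D) ↔ g.1 ∈ N(Q) := fun g => by
    rw [← subgroupOf_normalizer_eq hQ.le, mem_subgroupOf]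
  have t := t3 (D := D) (Ω := Ω) (Q := Q.subgroupOf D)
    (fun x y => Subtype.ext (Subtype.ext (mul_comm_of_comm ab' x.2 y.2))) ((card_subgroupOf' hQ.le).trans cQ)
    (fun x k x1 => Nat.card_eq_zero.2 (.inl ⟨fun b => x1 (Subtype.ext (sr' _ k b.1 b.2))⟩))
    (fun x k x1 g l => (nm g).2 (mem_norm_of_cj_le fun z m => by
      obtain ⟨y, o, rfl⟩ := mem_cj'.1 m
      refine ct x.1 k (fun e => x1 (Subtype.ext e))
        (mem_inf.2 ⟨mul_mem (mul_mem g.2 (hQ.le o)) (inv_mem g.2), mem_cent1.2 ?_⟩)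
      have := mul_comm_of_comm ab' o (show g.1⁻¹ * x.1 * g.1 ∈ Q from l)
      rw [show g.1 * y * g.1⁻¹ * x.1 = g.1 * (y * (g.1⁻¹ * x.1 * g.1)) * g.1⁻¹ by group, this]; group))
    (fun y k l => f1 y.1 ((nm y).1 k) fun e => l (show y.1 ∈ Q from e ▸ Q.one_mem)) h2 (pair hD n2)
  have nt : N(Q) = ⊤ := eq_top_iff.2 (c0.ge.trans (sup_le (fun g k => (nm ⟨g, k⟩).1 (t ▸ mem_top _)) inf_le_right))
  obtain ⟨g, g1, k⟩ := n3 Q (normalizer_eq_top_iff.1 nt) Q1 ab'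
  exact k.not_ge (f1 g (nt ▸ mem_top g) g1)

end H24.DG
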