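import Cfsg.Agent.H24.Derang
import Cfsg.Agent.H17.Jordan

/-! Extremely primitive groups: Manning's theorem. -/

set_option autoImplicit false

namespace H24

open MulAction Pointwise

variable {G Ω : Type*} [Group G] [MulAction G Ω]

theorem stab_ne [FaithfulSMul G Ω] [IsPreprimitive G Ω] {a b : Ω} (hH : stabilizer G a ≠ ⊥)
    (hab : a ≠ b) : stabilizer G a ≠ stabilizer G b := by
  intro h
  rcases H17.prim_rel (G := G) (fun x y : Ω => ∀ g : G, g • x = x ↔ g • y = y)
    ⟨fun _ _ => Iff.rfl, fun h g => (h g).symm, fun h h' g => (h g).trans (h' g)⟩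
    (fun g x y h u => by
      have := h (g⁻¹ * u * g)
      simpa only [mul_smul, inv_smul_eq_iff] using this) with h1 | h1
  · exact hab (h1 a b fun g => SetLike.ext_iff.1 h g)
  · exact hH ((Subgroup.eq_bot_iff_forall _).2 fun g hg => eq_of_smul_eq_smul (α := Ω) fun x => by
      rw [one_smul]; exact (h1 a x g).1 hg)

theorem eq_top_of_stabs [Finite Ω] [FaithfulSMul G Ω] [IsPreprimitive G Ω] {a b : Ω}
    (hH : stabilizer G a ≠ ⊥) (hab : a ≠ b) {K : Subgroup G} (ha : stabilizer G a ≤ K)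
    (hb : stabilizer G b ≤ K) : K = ⊤ := by
  have : Nontrivial Ω := ⟨a, b, hab⟩
  refine ((IsPreprimitive.isCoatom_stabilizer_of_isPreprimitive G a).le_iff.1 ha).resolve_right
    fun e => stab_ne hH hab (H17.stabilizer_eq_of_le (e ▸ hb)).symm

/-- normal subgroups of a primitive constituent are trivial or transitive -/
theorem orbit_eq_of_prim {H N : Subgroup G} {c : Ω} (hp : IsPreprimitive H (orbit H c))
    (hN : ∀ g ∈ H, ∀ n ∈ N, g * n * g⁻¹ ∈ N) (hle : N ≤ H) (hc : ¬ N ≤ stabilizer G c) :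
    orbit N c = orbit H c := by
  refine Set.Subset.antisymm (by rintro _ ⟨m, rfl⟩; exact ⟨⟨m, hle m.2⟩, rfl⟩) ?_
  rcases H17.prim_rel (G := H) (α := orbit H c)
    (fun x y => orbitRel N Ω x y) ⟨fun _ => (orbitRel N Ω).refl _, (orbitRel N Ω).symm,
      (orbitRel N Ω).trans⟩ (by
      rintro g x y ⟨m, hm⟩
      exact ⟨⟨_, hN g g.2 m m.2⟩, by
        simp [← show (m : G) • y.1 = x from hm, mul_smul, Subgroup.smul_def]⟩) with h | h
  · exact absurd (fun m hm => congrArg Subtype.val (h ⟨m • c, ⟨m, hle hm⟩, rfl⟩ ⟨_, mem_orbit_self _⟩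
      ⟨⟨m, hm⟩, rfl⟩)) hc
  · exact fun x hx => h ⟨x, hx⟩ ⟨c, mem_orbit_self _⟩

variable (G) in
/-- order of a two-point stabilizer -/
noncomputable def s2 (a b : Ω) : ℕ := Nat.card ↥(stabilizer G a ⊓ stabilizer G b)

theorem s2_comm (a b : Ω) : s2 G a b = s2 G b a := by rw [s2, inf_comm, s2]

theorem s2_smul (g : G) (a b : Ω) : s2 G (g • a) (g • b) = s2 G a b := by
  rw [s2, stabilizer_smul_eq_stabilizer_map_conj, stabilizer_smul_eq_stabilizer_map_conj,
    ← Subgroup.map_inf _ _ _ (MulAut.conj g).injective, Subgroup.card_map_of_injective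
      (MulAut.conj g).injective, s2]

theorem card_stab_eq [IsPretransitive G Ω] (a b : Ω) :
    Nat.card (stabilizer G a) = Nat.card (stabilizer G b) := by
  obtain ⟨g, rfl⟩ := exists_smul_eq G a b
  rw [stabilizer_smul_eq_stabilizer_map_conj, Subgroup.card_map_of_injective
      (MulAut.conj g).injective]

section EP
variable [Finite G] [Finite Ω] [FaithfulSMul G Ω] [IsPreprimitive G Ω]
  (hH : ∀ a : Ω, stabilizer G a ≠ ⊥)
  (hep : ∀ a w : Ω, IsPreprimitive (stabilizer G a) (orbit (stabilizer G a) w))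
include hH hep

theorem s2_lt {a b c : Ω} {N : Subgroup G} (hN : ∀ g ∈ stabilizer G a, ∀ n ∈ N, g * n * g⁻¹ ∈ N)
    (ha : N ≤ stabilizer G a) (hb : N ≤ stabilizer G b) (hab : a ≠ b)
    (hc : ¬ N ≤ stabilizer G c) : s2 G b c < s2 G a c := by
  have h1 := orbit_eq_of_prim (hep a c) hN ha hc
  have h2 : orbit (stabilizer G a) c ⊆ orbit (stabilizer G b) c := by
    rw [← h1]; rintro _ ⟨m, rfl⟩; exact ⟨⟨m, hb m.2⟩, rfl⟩
  have h3 : orbit (stabilizer G a) c ≠ orbit (stabilizer G b) c := fun h => by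
    have h4 : ∀ x : Ω, stabilizer G x ≤ stabilizer G (orbit (stabilizer G x) c) := fun x g hg =>
      smul_orbit (⟨g, hg⟩ : stabilizer G x) c
    have h5 := eq_top_of_stabs (hH a) hab (h4 a) (h ▸ h4 b)
    obtain ⟨g, hg⟩ := exists_smul_eq G c a
    have h6 : g • orbit (stabilizer G a) c = orbit (stabilizer G a) c :=
      (h5 ▸ Subgroup.mem_top g : g ∈ stabilizer G (orbit (stabilizer G a) c))
    obtain ⟨u, hu⟩ : a ∈ orbit (stabilizer G a) c := by
      rw [← h6, ← hg]; exact Set.smul_mem_smul_set (by rw [hg]; exact mem_orbit_self c)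
    have : c = a := (smul_left_cancel_iff (u : G)).1 (hu.trans u.2.symm)
    exact hc (this ▸ ha)
  have h4 := Set.ncard_lt_ncard (h2.ssubset_of_ne h3)
  have h5 := H17.card_orbit_mul_inf (stabilizer G a) c
  have h6 := H17.card_orbit_mul_inf (stabilizer G b) c
  rw [card_stab_eq b a, ← h5] at h6
  by_contra h
  have h7 : 0 < s2 G a c := Nat.card_pos
  have := Nat.mul_lt_mul_of_lt_of_le h4 (not_lt.1 h) (h7.trans_le (not_lt.1 h))
  exact this.ne' h6

theorem manning {a b : Ω} {N : Subgroup G} (hN : ∀ g ∈ stabilizer G a, ∀ n ∈ N, g * n * g⁻¹ ∈ N)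
    (ha : N ≤ stabilizer G a) (hb : N ≤ stabilizer G b) (hab : a ≠ b) : N = ⊥ := by
  have : Nonempty Ω := ⟨a⟩
  obtain ⟨⟨a0, b0⟩, hm⟩ := Finite.exists_min fun x : Ω × Ω => s2 G x.1 x.2
  set m := s2 G a0 b0
  let K : Ω → Subgroup G := fun a => stabilizer G a ⊓ ⨅ l : {l // s2 G a l = m}, stabilizer G l.1
  have hK : ∀ a g, g ∈ K a ↔ g • a = a ∧ ∀ l, s2 G a l = m → g • l = l := fun a g => by
    simp [K, Subgroup.mem_iInf]
  have hKc : ∀ (g : G) a, ∀ k ∈ K a, g * k * g⁻¹ ∈ K (g • a) := fun g a k hk => by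
    rw [hK] at hk ⊢
    refine ⟨by simp [mul_smul, hk.1], fun l hl => ?_⟩
    rw [mul_smul, mul_smul, hk.2 _ (by rw [← s2_smul g, smul_inv_smul, hl]), smul_inv_smul]
  have hB : ∀ {a b : Ω} {N : Subgroup G}, (∀ g ∈ stabilizer G a, ∀ n ∈ N, g * n * g⁻¹ ∈ N) →
      N ≤ stabilizer G a → N ≤ stabilizer G b → a ≠ b → N ≤ K a := by
    intro a b N hN ha hb hab
    refine le_inf ha (le_iInf fun l => by_contra fun h => ?_)
    have := s2_lt hH hep hN ha hb hab h
    exact (hm (b, l.1)).not_gt (this.trans_eq l.2)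
  have hKn : ∀ a, ∀ g ∈ stabilizer G a, ∀ n ∈ K a, g * n * g⁻¹ ∈ K a := fun a g hg n hn => by
    have := hKc g a n hn
    rwa [show g • a = a from hg] at this
  have hne : ∀ a b : Ω, s2 G a b = m → a ≠ b := by
    rintro a _ h rfl
    refine hH a ((Subgroup.eq_bot_iff_forall _).2 fun g hg => eq_of_smul_eq_smul (α := Ω) fun x => ?_)
    have h1 := hm (a, x)
    rw [← h, s2, inf_idem] at h1
    have := Subgroup.eq_of_le_of_card_ge (inf_le_left : stabilizer G a ⊓ stabilizer G x ≤ _) h1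
    rw [one_smul]
    exact (this.ge hg).2
  have hcard : ∀ a b, Nat.card (K a) ≤ Nat.card (K b) := fun a b => by
    obtain ⟨g, rfl⟩ := exists_smul_eq G a b
    exact Nat.card_le_card_of_injective (fun k => ⟨_, hKc g a k k.2⟩) fun x y h => by
      simpa using h
  refine le_bot_iff.1 ((hB hN ha hb hab).trans (le_of_eq (by_contra fun h0 => ?_)))
  have hex : ∃ x : Ω × Ω, ¬ K x.1 ≤ stabilizer G x.2 := by
    by_contra h
    push Not at h
    exact h0 ((Subgroup.eq_bot_iff_forall _).2 fun g hg => eq_of_smul_eq_smul (α := Ω) fun x => by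
      rw [one_smul]; exact h (a, x) hg)
  have := nonempty_subtype.2 hex
  obtain ⟨⟨⟨x, c⟩, hc⟩, hmin⟩ := Finite.exists_min
    fun x : {x : Ω × Ω // ¬ K x.1 ≤ stabilizer G x.2} => s2 G x.1.1 x.1.2
  have h1 : (⨆ l : {l // s2 G x l = m}, K l.1) ≤ K x := by
    refine hB (b := c) (fun g hg n hn => ?_) (iSup_le fun l k hk => ?_) (iSup_le fun l => ?_) ?_
    · induction hn using Subgroup.iSup_induction' with
      | hp l k hk =>
        refine Subgroup.mem_iSup_of_mem ⟨g • l.1, ?_⟩ (hKc g _ k hk)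
        have := s2_smul g x l.1
        rw [show g • x = x from hg] at this
        exact this.trans l.2
      | h1 => simp
      | hmul u v _ _ hu hv => rw [← conj_mul]; exact mul_mem hu hv
    · exact ((hK _ _).1 hk).2 x (by rw [s2_comm, l.2])
    · by_contra h
      exact (hmin ⟨(l.1, c), h⟩).not_gt (s2_lt hH hep (hKn x) inf_le_left
        (inf_le_right.trans (iInf_le _ l)) (hne _ _ l.2) hc)
    · rintro rfl; exact hc inf_le_left
  obtain ⟨g, hg⟩ := exists_smul_eq G a0 x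
  have h2 : s2 G x (g • b0) = m := by rw [← hg, s2_smul]
  have h3 : K (g • b0) = K x := Subgroup.eq_of_le_of_card_ge
    ((le_iSup (fun l : {l // s2 G x l = m} => K l.1) ⟨_, h2⟩).trans h1) (hcard _ _)
  have h4 : ∀ y : Ω, stabilizer G y ≤ Subgroup.normalizer (K y : Set G) := fun y g hg =>
    H17.mem_normalizer_of_conj_mem (hKn y g hg)
  have := Subgroup.normalizer_eq_top_iff.1 (eq_top_of_stabs (hH x) (hne _ _ h2) (h4 x) (h3 ▸ h4 _))
  obtain ⟨u, hu⟩ := (H17.normal_trans (α := Ω) (K x) fun h => hc (h ▸ bot_le)).exists_smul_eq x c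
  exact hc ((u.2.1.symm.trans hu : x = c) ▸ inf_le_left)

theorem manning' {a w : Ω} (hw : w ≠ a) {h : G} (ha : h • a = a)
    (hfix : ∀ x ∈ orbit (stabilizer G a) w, h • x = x) : h = 1 := by
  have := manning hH hep (a := a) (b := w)
    (N := stabilizer G a ⊓ fixingSubgroup G (orbit (stabilizer G a) w)) (fun g hg n hn =>
      ⟨(stabilizer G a).mul_mem (mul_mem hg hn.1) (inv_mem hg), H17.mem_fix_iff.2 fun x hx => by
        rw [mul_smul, mul_smul, H17.mem_fix_iff.1 hn.2 (g⁻¹ • x)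
          (mem_orbit_of_mem_orbit (⟨g, hg⟩ : stabilizer G a)⁻¹ hx), smul_inv_smul]⟩)
    inf_le_left (fun n hn => H17.mem_fix_iff.1 hn.2 w (mem_orbit_self w)) hw.symm
  exact (Subgroup.eq_bot_iff_forall _).1 this h ⟨ha, H17.mem_fix_iff.2 hfix⟩

end EP

end H24
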