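import Cfsg.Agent.H24.ExtPrim
import Cfsg.Agent.H1.Fitting
import Cfsg.Agent.H9.EAMod

/-! The Fitting subgroup of a primitive group; extremely primitive groups. -/

set_option autoImplicit false

namespace H24

open MulAction Subgroup Cfsg

variable {G Ω : Type*} [Group G] [MulAction G Ω]

theorem cent_le_of_trans [FaithfulSMul G Ω] [Nonempty Ω] {A : Subgroup G} (ht : IsPretransitive A Ω)
    (hA : A ≤ centralizer (A : Set G)) : centralizer (A : Set G) ≤ A := fun x hx => by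
  obtain ⟨a⟩ := ‹Nonempty Ω›
  obtain ⟨⟨z, hz⟩, e⟩ := ht.exists_smul_eq a (x • a)
  have h2 : z⁻¹ * x = 1 := H17.semireg_of_comm A ht _
    (mul_mem (inv_mem (hA hz)) hx : z⁻¹ * x ∈ centralizer (A : Set G)) (a := a)
    (by rw [mul_smul, inv_smul_eq_iff]; exact e.symm)
  exact inv_mul_eq_one.1 h2 ▸ hz

section
variable [FaithfulSMul G Ω] [IsPreprimitive G Ω] [Nonempty Ω]
include Ω

theorem cent_le_of_prim {A : Subgroup G} [A.Normal] (h0 : A ≠ ⊥)
    (hA : A ≤ centralizer (A : Set G)) : centralizer (A : Set G) ≤ A :=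
  cent_le_of_trans (H17.normal_trans (α := Ω) A h0) hA

theorem ab_normal_prim [Finite G] {A : Subgroup G} [A.Normal] (h0 : A ≠ ⊥)
    (hA : A ≤ centralizer (A : Set G)) : Nat.card A = Nat.card Ω ∧
      ∃ p : ℕ, p.Prime ∧ IsElementaryAbelian p A := by
  obtain ⟨a⟩ := ‹Nonempty Ω›
  have ht := H17.normal_trans (α := Ω) A h0
  refine ⟨H17.card_eq_of_regular A ht a ((H17.stabilizer_sub_eq_bot_iff A a).2 fun m hm h =>
    H17.semireg_of_comm A ht m (hA hm) h), ?_⟩
  obtain ⟨p, hp, h⟩ := H17.min_normal_comm_pow A h0 (fun L hL hLA => or_iff_not_imp_left.2 fun h =>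
    hLA.antisymm ((hA.trans (centralizer_le hLA)).trans (cent_le_of_prim (Ω := Ω) h
      (hLA.trans (hA.trans (centralizer_le hLA)))))) fun m hm n hn => hA hn m hm
  exact ⟨p, hp, ⟨⟨fun x y => Subtype.ext (hA y.2 _ x.2)⟩⟩, h⟩

theorem fit_ab_of_prim [Finite G] :
    fittingSubgroup G ≤ centralizer (fittingSubgroup G : Set G) := by
  by_cases h0 : fittingSubgroup G = ⊥
  · rw [h0]; exact bot_le
  set F := fittingSubgroup G
  have hn : Group.IsNilpotent F := H1.fitting_isNilpotent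
  have : Nontrivial F := (nontrivial_iff_ne_bot _).2 h0
  have h1 : F ⊓ centralizer (F : Set G) ≠ ⊥ := by
    obtain ⟨⟨z, hz⟩, h⟩ := ne_bot_iff_exists_ne_one.1 (Group.IsNilpotent.center_ne_bot F)
    refine ne_bot_iff_exists_ne_one.2 ⟨⟨z, z.2, fun y hy => congrArg Subtype.val
      (mem_center_iff.1 hz ⟨y, hy⟩)⟩, fun e => h ?_⟩
    exact Subtype.ext (Subtype.ext (show (z : G) = 1 from congrArg Subtype.val e))
  have h2 : F ≤ centralizer ((F ⊓ centralizer (F : Set G) : Subgroup G) : Set G) :=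
    fun x hx y hy => (hy.2 x hx).symm
  exact (h2.trans (cent_le_of_prim (Ω := Ω) h1 (inf_le_left.trans h2))).trans inf_le_right

end

theorem exists_GL_of_EA [Finite G] {p e : ℕ} [Fact p.Prime] {A : Subgroup G} [A.Normal]
    (hA : IsElementaryAbelian p A) (he : Nat.card A = p ^ e) :
    ∃ φ : G →* GL (Fin e) (ZMod p), φ.ker = centralizer (A : Set G) := by
  have hn : (⊤ : Subgroup G) ≤ normalizer (A : Set G) := by rw [normalizer_eq_top]
  have h := Module.natCard_eq_pow_finrank (K := ZMod p) (V := H9.EA hA)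
  rw [H9.EA.card, he, Nat.card_zmod] at h
  let b := Module.finBasisOfFinrankEq (ZMod p) (H9.EA hA)
    (Nat.pow_right_injective (Fact.out : p.Prime).two_le h).symm
  let ψ := (LinearMap.toMatrixAlgEquiv b).toMonoidHom.comp
    ((H9.EA.rep hA hn).comp topEquiv.symm.toMonoidHom)
  refine ⟨ψ.toHomUnits, ?_⟩
  ext a
  rw [MonoidHom.mem_ker, Units.ext_iff]
  exact (LinearMap.toMatrixAlgEquiv b).map_eq_one_iff.trans (H9.EA.rep_eq_one_iff hA hn _)

theorem faithful_orbit [Finite G] [Finite Ω] [FaithfulSMul G Ω] [IsPreprimitive G Ω]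
    (hH : ∀ a : Ω, stabilizer G a ≠ ⊥)
    (hep : ∀ a w : Ω, IsPreprimitive (stabilizer G a) (orbit (stabilizer G a) w)) {a w : Ω}
    (hw : w ≠ a) : FaithfulSMul (stabilizer G a) (orbit (stabilizer G a) w) :=
  ⟨fun {g h} e => inv_mul_eq_one.1 (Subtype.ext (manning' hH hep hw (g⁻¹ * h).2 fun x hx => by
    have : (g : G) • x = (h : G) • x := congrArg Subtype.val (e ⟨x, hx⟩)
    rw [coe_mul, mul_smul, ← this]; exact inv_smul_smul (g : G) x))⟩

theorem dvd_card_sub_one_of_orbits [Finite Ω] (a : Ω) {k : ℕ}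
    (h : ∀ w, w ≠ a → k ∣ Nat.card (orbit (stabilizer G a) w)) : k ∣ Nat.card Ω - 1 := by
  have := dvd_ncard_of_orbits (stabilizer G a) {a}ᶜ (fun g hg x hx h => hx (by
    rw [Set.mem_singleton_iff] at h ⊢
    exact (smul_left_cancel_iff g).1 (h.trans hg.symm))) h
  rwa [Set.ncard_compl, Set.ncard_singleton] at this

theorem exists_ne_of_stab [FaithfulSMul G Ω] {a : Ω} (h : stabilizer G a ≠ ⊥) : ∃ w, w ≠ a := by
  by_contra h1
  push Not at h1
  exact h ((eq_bot_iff_forall _).2 fun g _ => eq_of_smul_eq_smul (α := Ω) fun x =>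
    (h1 _).trans (h1 _).symm)

end H24
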