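import Cfsg.Agent.H9.Rc3

/-! Recognition of `M(22)` from a family of local classes of type `U₆(2)`. -/

set_option autoImplicit false
set_option linter.unusedSectionVars false

open Subgroup H26 H9 H9.FQ

namespace H24.FR

variable {G G' : Type*} [Group G] [Group G'] [Finite G] {D : Set G} {E : G → Set G} {D' : Set G'}
  {a b g t u v w x y z : G}

theorem orb_dc {X : Set G} [T : TQ X] (hP : Prim X) (hx : x ∈ X) (ha : a ∈ X) (hb : b ∈ X) (h1 : Dn x a)
    (h2 : Dn x b) : ∃ g ∈ closure X, g * x * g⁻¹ = x ∧ g * a * g⁻¹ = b :=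
  Orb.induction (P := fun (b : X) _ => ∃ g ∈ closure X, g * x * g⁻¹ = x ∧ g * a * g⁻¹ = b) ⟨1, one_mem _, by simp⟩
    (fun s hs _ _ _ ⟨g, hg, e1, e⟩ => ⟨s * g, mul_mem (subset_closure s.2) hg, by
      rw [mul_inv_rev, ← mul_assoc, mul_assoc s.1, mul_assoc s.1, e1, ← (TQ.mem_Dc.1 hs).2.eq, mul_inv_cancel_right], by
      rw [TQ.coe_t, ← e, mul_inv_rev, T.t3.inv s.2]; simp only [mul_assoc]⟩)
    (hP.orb_Dc (d := ⟨x, hx⟩) (y := ⟨a, ha⟩) (z := ⟨b, hb⟩) (TQ.mem_Dc.2 h1) (TQ.mem_Dc.2 h2))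

structure LE (D : Set G) (E : G → Set G) (D' : Set G') : Prop where
  q : U6c G' D'
  conj : ∀ g, ∀ x ∈ D, g * x * g⁻¹ ∈ D
  sq : ∀ x ∈ D, x * x = 1
  ne : ∀ x ∈ D, x ≠ 1
  J : ∀ g x, ∀ y ∈ E x, g * y * g⁻¹ ∈ E (g * x * g⁻¹)
  sub : ∀ x, ∀ y ∈ E x, y ∈ D ∧ Dn x y
  symm : ∀ x, ∀ y ∈ E x, x ∈ E y
  tri : ∀ x, ∀ a ∈ E x, ∀ b ∈ E x, Dn a b → b ∈ E a
  cv : ∀ x ∈ D, ∃ K π, Cov K (zpowers x) (E x) D' π
  cen : ∀ x ∈ D, ∀ g, Commute x g → (∀ y ∈ E x, Commute g y) → g ∈ zpowers x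

def R (E : G → Set G) (x y : G) : Prop := y = x ∨ y ∈ E x
def cl (D : Set G) (E : G → Set G) (a : G) : Set G := {x | x ∈ D ∧ ∃ v ∈ D, R E v a ∧ R E v x}
theorem self (ha : a ∈ D) : a ∈ cl D E a := ⟨ha, a, ha, .inl rfl, .inl rfl⟩

namespace LE
variable (h : LE D E D')
include h

theorem isConj (hx : x ∈ D) (k : IsConj x y) : y ∈ D := let ⟨g, e⟩ := isConj_iff.1 k; e ▸ h.conj g x hx
theorem tq (hx : x ∈ D) : TQ (E x) := let ⟨_, _, k⟩ := h.cv x hx; have := h.q.tg; k.tq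
theorem rs (k : R E x y) : R E y x := k.imp Eq.symm (h.symm _ _)
theorem rc (k : R E x y) : Commute x y := k.elim (fun e => e ▸ .refl _) fun k => (h.sub _ _ k).2.2
theorem rJ (g : G) (k : R E x y) : R E (g * x * g⁻¹) (g * y * g⁻¹) := k.imp (fun e => by rw [e]) (h.J _ _ _)
theorem rt (ha : a ∈ E x) (hb : b ∈ E x) (c : Commute a b) : R E a b :=
  or_iff_not_imp_left.2 fun n => h.tri x a ha b hb ⟨n, c⟩
theorem rt' (ha : R E x a) (hb : R E x b) (c : Commute a b) : R E a b :=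
  ha.elim (fun e => e ▸ hb) fun k => hb.elim (fun e => e ▸ h.rs ha) fun k' => h.rt k k' c

theorem path (hx : x ∈ E z) (hy : y ∈ E z) (hw : w ∈ E y) (n1 : ¬ R E x y) (n2 : ¬ R E z w) :
    ∃ v ∈ D, R E v x ∧ R E v w := by
  have hz := h.symm _ _ hy
  obtain ⟨_, _, k1⟩ := h.cv z (h.sub _ _ hz).1
  obtain ⟨_, _, k2⟩ := h.cv y (h.sub _ _ hy).1
  have q := h.q
  obtain ⟨a, b, c, e, a1, b1, c1, e1, H⟩ := k1.four q hx hy fun c => n1 (h.rt hx hy c)
  have m : ∀ {a}, a ∈ E z ∧ Dn y a ∧ Dn x a → a ∈ E y ∩ E x := fun k =>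
    ⟨h.tri _ _ hy _ k.1 k.2.1, h.tri _ _ hx _ k.1 k.2.2⟩
  obtain ⟨v, hv, k⟩ := k2.tour q (S := E y ∩ E x) (fun _ k => k.1) (fun a ha b hb =>
    ⟨(h.tq (h.sub _ _ hy).1).conj a ha.1 b hb.1, (h.tq (h.sub _ _ hx).1).conj a ha.2 b hb.2⟩)
    (m a1) (m b1) (m c1) (m e1) hw H.1 H.2.1 H.2.2.1 H.2.2.2.1 H.2.2.2.2.1 H.2.2.2.2.2
  exact ⟨v, (h.sub _ _ hv.1).1, .inr (h.symm _ _ hv.2), h.rt hv.1 hw k.symm⟩

theorem step (hy : y ∈ cl D E x) (hw : w ∈ D) (c : R E y w) : w ∈ cl D E x := by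
  obtain ⟨hy', z, hz, c1, c2⟩ := hy
  by_cases k1 : R E x y
  · exact ⟨hw, y, hy', h.rs k1, c⟩
  by_cases k2 : R E z w
  · exact ⟨hw, z, hz, c1, k2⟩
  exact ⟨hw, h.path (c1.resolve_left fun e => k1 (e ▸ c2)) (c2.resolve_left fun e => k2 (e ▸ c))
    (c.resolve_left fun e => k2 (e ▸ c2)) k1 k2⟩
theorem cls_eq (hx : x ∈ D) (hy : y ∈ cl D E x) : cl D E y = cl D E x := by
  have k : ∀ {x y : G}, y ∈ cl D E x → cl D E y ⊆ cl D E x :=
    fun hy w ⟨hw, v, hv, c1, c2⟩ => h.step (h.step hy hv (h.rs c1)) hw c2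
  obtain ⟨-, v, hv, c1, c2⟩ := id hy
  exact (k hy).antisymm (k ⟨hx, v, hv, c2, c1⟩)
theorem two (hx : x ∈ D) (ha : a ∈ cl D E x) (hb : b ∈ cl D E x) : ∃ v ∈ D, R E v a ∧ R E v b :=
  (h.cls_eq hx ha ▸ hb : b ∈ cl D E a).2
theorem tq_cls (hx : x ∈ D) : TQ (cl D E x) := by
  refine { sq := fun a ha => h.sq a ha.1, ne := fun a ha => h.ne a ha.1,
           three := fun a ha b hb => ?_, conj := fun a ha b hb => ?_ }
  · obtain ⟨v, hv, c1 | c1, c2⟩ := h.two hx ha hb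
    · exact .inl (c1 ▸ h.rc c2)
    · exact c2.elim (fun e => .inl (e ▸ (h.sub _ _ c1).2.2.symm)) ((h.tq hv).three a c1 b)
  · obtain ⟨v, hv, c1, c2⟩ := h.two hx ha hb
    have := h.rJ a c2
    rw [← (h.rc c1).eq, mul_inv_cancel_right, inv_of_sq (h.sq a ha.1)] at this
    exact h.cls_eq hx ha ▸ ⟨by simpa [inv_of_sq (h.sq a ha.1)] using h.conj a b hb.1, v, hv, c1, this⟩
theorem Ecl (hx : x ∈ cl D E a) (hy : y ∈ E x) : y ∈ cl D E a := h.step hx (h.sub _ _ hy).1 (.inr hy)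
theorem dc_cls (ha : a ∈ D) (hx : x ∈ cl D E a) : dcSet (cl D E a) x = E x :=
  Set.ext fun _ => ⟨fun k => let ⟨_, _, c1, c2⟩ := h.two ha hx k.1; (h.rt' c1 c2 k.2.2).resolve_left k.2.1,
    fun k => ⟨h.Ecl hx k, (h.sub _ _ k).2⟩⟩
theorem iso_Dc (ha : a ∈ D) : letI := h.tq_cls ha; letI := h.q.tg; ∀ x : cl D E a, Iso D' (Dc x) := by
  intro x
  let _ := h.tq_cls ha
  let _ := h.q.tg
  obtain ⟨_, π, k⟩ := h.cv x x.2.1
  have := k.tq
  exact k.iso.symm.trans (iso_sub _ ((image_Dc x).trans (h.dc_cls ha x.2))).symm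
theorem fin (ha : a ∈ D) : Finite G' := let ⟨_, _, k⟩ := h.cv a ha; .of_surjective _ k.hom_surj
theorem prim (ha : a ∈ D) : letI := h.tq_cls ha; Prim (cl D E a) := by
  let _ := h.tq_cls ha
  let _ := h.q.tg
  have := h.fin ha
  have : Nonempty (cl D E a) := ⟨⟨a, self ha⟩⟩
  refine (gd_of_loc fun y => h.q.prim.gd.of_iso (h.iso_Dc ha y)).prim fun x y => ?_
  obtain ⟨v, hv, c1, c2⟩ := h.two ha x.2 y.2
  exact .tail (.single (TQ.cm_iff.2 (h.rc c1).symm : Cm x ⟨v, h.step x.2 hv (h.rs c1)⟩)) (TQ.cm_iff.2 (h.rc c2))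
theorem cX (ha : a ∈ D) (c : ∀ x ∈ cl D E a, Commute g x) : g = 1 := by
  let T := h.tq_cls ha
  refine ((mem_zpowers_sq (h.sq a ha)).1 (h.cen a ha g (c a (self ha)).symm fun y hy =>
    c y (h.Ecl (self ha) hy))).resolve_right fun e => ?_
  obtain ⟨x, hx, n⟩ := (h.prim ha).adj' (self ha)
  exact n (e ▸ c x hx)
theorem isM (ha : a ∈ D) : IsM H26.M22 (closure (cl D E a)) ((closure (cl D E a)).subtype ⁻¹' cl D E a) := by
  let _ := h.tq_cls ha
  let _ := h.q.tg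
  have := h.fin ha
  have := TQ.tg_closure (D := cl D E a)
  obtain ⟨β, hβ⟩ := h.q.view
  exact isM_of_m22 (M22.of_iso iso_closure.symm ⟨h.prim ha, fun x => ⟨h.q.prim.of_iso (h.iso_Dc ha x),
    ((U6.isU hβ).of_iso (h.iso_Dc ha x)).val⟩⟩) (eq_bot_iff.2 fun z hz => Subtype.ext (h.cX ha fun y hy =>
      (congrArg Subtype.val (mem_center_iff.1 hz ⟨y, subset_closure hy⟩)).symm))
theorem good (ha : a ∈ D) : letI := h.tq_cls ha; Good (cl D E a) :=
  letI := h.tq_cls ha; .of_sub (good22 (h.isM ha))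
theorem cls_conj (g : G) (hx : x ∈ cl D E a) : g * x * g⁻¹ ∈ cl D E (g * a * g⁻¹) :=
  let ⟨hx, v, hv, c1, c2⟩ := hx; ⟨h.conj g x hx, _, h.conj g v hv, h.rJ g c1, h.rJ g c2⟩

/-- the stabiliser of the component -/
def St (ha : a ∈ D) : Subgroup G where
  carrier := {g | g * a * g⁻¹ ∈ cl D E a}
  one_mem' := by simpa using self ha
  mul_mem' := fun {g k} hg hk => by
    have := h.cls_conj g hk
    rw [h.cls_eq ha hg] at this
    simpa [mul_assoc] using this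
  inv_mem' := fun {g} hg => by
    have := h.cls_conj g⁻¹ ((h.cls_eq ha hg).ge (self ha))
    simpa [mul_assoc] using this
theorem mem_of_conj (ha : a ∈ D) (hx : x ∈ cl D E a) (k : g * x * g⁻¹ ∈ cl D E a) : g ∈ h.St ha :=
  ((h.cls_eq (h.conj g a ha) (h.cls_conj g hx)).symm.trans (h.cls_eq ha k)).le (self (h.conj g a ha))
theorem conj_St (ha : a ∈ D) (hg : g ∈ h.St ha) (hx : x ∈ cl D E a) : g * x * g⁻¹ ∈ cl D E a :=
  (h.cls_eq ha hg).le (h.cls_conj g hx)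
theorem cent_le (ha : a ∈ D) (hx : x ∈ cl D E a) (c : Commute x y) : y ∈ h.St ha :=
  h.mem_of_conj ha hx (by rwa [← c.eq, mul_inv_cancel_right])
theorem sub' (ha : a ∈ D) (hx : x ∈ cl D E a) : x ∈ h.St ha := h.cent_le ha hx (.refl x)
theorem cl_le (ha : a ∈ D) : closure (cl D E a) ≤ h.St ha := (closure_le _).2 fun _ => h.sub' ha
theorem St_le (ha : a ∈ D) : h.St ha ≤ normalizer (closure (cl D E a) : Set G) := by
  have k : ∀ g ∈ h.St ha, ∀ x ∈ closure (cl D E a), g * x * g⁻¹ ∈ closure (cl D E a) := fun g hg =>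
    (closure_le ((closure (cl D E a)).comap (MulAut.conj g).toMonoidHom)).2 fun x hx =>
      subset_closure (h.conj_St ha hg hx)
  exact fun g hg x => ⟨k g hg x, fun e => by simpa [mul_assoc] using k _ (inv_mem hg) _ e⟩
theorem fix (ha : a ∈ D) (hy : y ∈ h.St ha) (y2 : y * y = 1) : ∃ x ∈ cl D E a, Commute x y := by
  let f := (closure (cl D E a)).normalizerMonoidHom ⟨y, h.St_le ha hy⟩
  obtain ⟨x, hx, e⟩ := fix22 (h.isM ha) (f := f) (fun x hx => h.conj_St ha hy hx) (fun _ _ _ _ => by simp)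
    fun x _ => by rw [← MulAut.mul_apply, ← map_mul, show (_ * _ : normalizer _) = 1 from Subtype.ext y2, map_one]; rfl
  exact ⟨x, hx, (mul_inv_eq_iff_eq_mul.1 (congrArg Subtype.val e)).symm⟩

variable (H : ∀ a (ha : a ∈ D), ∀ y ∈ D, y ∈ h.St ha → y ∈ cl D E a)
include H

theorem stp (ha : a ∈ D) (hy : y ∈ cl D E a) (hw : w ∈ D) (c : Commute y w) : w ∈ cl D E a :=
  H a ha w hw (h.cent_le ha hy c)

/-- a product of two commuting transpositions factors only inside its component -/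
theorem fac {u' v' : G} (ha : a ∈ D) (hu : u ∈ cl D E a) (hv : v ∈ cl D E a) (c : Dn u v)
    (hu' : u' ∈ D) (hv' : v' ∈ D) (c' : Commute u' v') (e : u * v = u' * v') : u' ∈ cl D E a := by
  letI T := h.tq_cls ha
  have K := h.good ha
  have su := h.sq u' hu'
  have cz : Commute (u * v) u' := e ▸ (Commute.refl u').mul_left c'.symm
  have ez : u' * (u * v) = v' := by rw [e, ← mul_assoc, su, one_mul]
  have mz : u * v ∈ h.St ha := mul_mem (h.sub' ha hu) (h.sub' ha hv)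
  have key : ∀ w ∈ cl D E a, Dn u w → Dn v w → Commute u' (w * u) := fun w hw c1 c2 => by
    have sw := h.sq w hw.1
    have cw : Commute (u * v) w := c1.2.mul_left c2.2
    rcases dih sw su with k | ⟨m, m1, m2, m3, m4⟩
    · have := H a ha _ (h.isConj hv' (ez ▸ (k.comm cw cz).symm)) (mul_mem (h.sub' ha hw) mz)
      rw [← mul_assoc] at this
      exact absurd this (K.prim.mul3_not_mem hw hu hv c1.symm c2.symm c)
    rcases Nat.even_or_odd m with ⟨k, rfl⟩ | ⟨k, rfl⟩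
    · exfalso
      have r1 : w * (w * u') ^ (k + k) ∈ cl D E a :=
        h.stp H ha hw (h.isConj hw.1 (dih_ee sw su k).isConj) ((Commute.refl w).mul_right m3)
      have r2 : (w * u') ^ k ∈ h.St ha := by
        refine (inv_mem_iff).1 (h.mem_of_conj ha hw ?_)
        rwa [inv_inv, ← dih_l sw su, mul_assoc, ← pow_add]
      have r3 : w * (w * u') ^ k ∈ D := by
        rcases Nat.even_or_odd k with ⟨j, rfl⟩ | ⟨j, rfl⟩
        exacts [h.isConj hw.1 (dih_ee sw su j).isConj, h.isConj hu' (dih_eo sw su j).isConj]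
      have r5 := T.t3.pow_six hw (H a ha _ r3 (mul_mem (h.sub' ha hw) r2))
      rw [← mul_assoc, sw, one_mul, show 6 = 2 + 2 + 2 from rfl, pow_add, pow_add, pow_two,
        ← pow_add, m2, one_mul] at r5
      exact m1 r5
    · set y := (w * u') ^ (2 * k + 1)
      have r0 := dih_eo sw su k
      have r1 : w * y ∈ cl D E a := h.stp H ha hw (h.isConj hu' r0.isConj) ((Commute.refl w).mul_right m3)
      have cy : Commute (u * v) y := (cw.mul_right cz).pow_right _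
      have r2 := H a ha _ (h.isConj hv' (ez ▸ r0.comm cw cz)) (mul_mem (h.sub' ha r1) mz)
      obtain ⟨c3, c4⟩ := comm2 hu hv r1 c (cw.mul_right cy)
      have ey : ∀ s, w * y = s → y = w * s := fun s e => by rw [← e, ← mul_assoc, sw, one_mul]
      by_cases e1 : w * y = u
      · exact ey u e1 ▸ m4
      by_cases e2 : w * y = v
      · have : w * u = w * v * (u * v) := by
          rw [c.2.eq, mul_assoc, ← mul_assoc v, h.sq v hv.1, one_mul]
        rw [this, ← ey v e2]; exact m4.mul_right cz.symm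
      rw [← mul_assoc] at r2
      exact absurd r2 (K.prim.mul3_not_mem r1 hu hv ⟨Ne.symm e1, c3.symm⟩ ⟨Ne.symm e2, c4.symm⟩ c)
  obtain ⟨l, ⟨k, hk⟩, hl, el⟩ := K.odd u hu v hv c
  have : ∀ l : List G, (∀ w ∈ l, w ∈ cl D E a ∧ Dn u w ∧ Dn v w) →
      Commute u' (l.prod * u ^ l.length) := fun l hl => by
    induction l with
    | nil => simp
    | cons w l ih =>
      have h1 := hl w List.mem_cons_self
      have h2 := fun x hx => hl x (List.mem_cons_of_mem _ hx)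
      have h3 : Commute u l.prod := Commute.list_prod_right _ _ fun x hx => (h2 x hx).2.1.2
      rw [List.prod_cons, List.length_cons, pow_succ', mul_assoc, ← mul_assoc l.prod, ← h3.eq,
        mul_assoc, ← mul_assoc w]
      exact (key w h1.1 h1.2.1 h1.2.2).mul_right (ih h2)
  have := this l hl
  rw [el, hk, pow_succ, pow_mul, pow_two, h.sq u hu.1, one_pow, one_mul] at this
  have := cz.symm.inv_right.mul_right this
  rw [inv_mul_cancel_left] at this
  exact h.stp H ha hu hu' this.symm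

theorem cent2 (ha : a ∈ D) (hu : u ∈ cl D E a) (hv : v ∈ cl D E a) (c : Dn u v) (k : Commute (u * v) g) :
    g ∈ h.St ha :=
  h.mem_of_conj ha hu (h.fac H ha hu hv c (h.conj g u hu.1) (h.conj g v hv.1) (c.2.conj g) (by
    rw [conj_mul, ← k.eq, mul_inv_cancel_right]))

theorem cls_of_fac (ha : a ∈ D) (hu : u ∈ D) (hv : v ∈ D) (c : Dn u v) (k : u * v ∈ h.St ha) : u ∈ cl D E a := by
  obtain ⟨x, hx, c'⟩ := h.fix ha k (by
    rw [mul_assoc, ← mul_assoc v, ← c.2.eq, mul_assoc, h.sq v hv, mul_one, h.sq u hu])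
  have := H u hu _ hx.1 (h.cent2 H hu (self hu) (h.stp H hu (self hu) hv c.2) c c'.symm)
  rw [← h.cls_eq ha hx, h.cls_eq hu this]; exact self hu

theorem odd {s : G} (ha : a ∈ D) (hs : s ∈ cl D E a) (ht : t ∈ D) (n : t ∉ cl D E a) : Cz (s * t) s t := by
  have ss := h.sq s hs.1
  have st := h.sq t ht
  refine (dih ss st).resolve_right fun ⟨m, m1, m2, m3, m4⟩ => n ?_
  have r : s * (s * t) ^ m ∈ D := by
    rcases Nat.even_or_odd m with ⟨j, rfl⟩ | ⟨j, rfl⟩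
    exacts [h.isConj hs.1 (dih_ee ss st j).isConj, h.isConj ht (dih_eo ss st j).isConj]
  have c := (Commute.refl s).mul_right m3
  refine H a ha _ ht (h.cent2 H ha hs (h.stp H ha hs r c) ⟨by simpa using m1, c⟩ ?_)
  rw [← mul_assoc, ss, one_mul]; exact m4.symm

theorem eq_cls (ha : a ∈ D) : cl D E a = D := by
  letI T := h.tq_cls ha
  have K := h.good ha
  refine Set.Subset.antisymm (fun _ k => k.1) fun t ht => by_contra fun n => ?_
  obtain ⟨⟨u, hu⟩, ⟨v, hv⟩, e, c⟩ := K.prim.wide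
  have c : Dn u v := ⟨fun k => e (Subtype.ext k.symm), TQ.cm_iff.1 c⟩
  have mz : u * v ∈ h.St ha := mul_mem (h.sub' ha hu) (h.sub' ha hv)
  have sz : u * v * (u * v) = 1 := by
    rw [mul_assoc, ← mul_assoc v, ← c.2.eq, mul_assoc, h.sq v hv.1, mul_one, h.sq u hu.1]
  have st := h.sq t ht
  rcases dih sz st with k | ⟨m, m1, m2, m3, m4⟩
  · exact K.prim.mul_not_mem hu hv c (H a ha _ (h.isConj ht k.isConj.symm) mz)
  have my := h.cent2 H ha hu hv c m3
  rcases Nat.even_or_odd m with ⟨k, rfl⟩ | ⟨k, rfl⟩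
  · refine n (h.cls_of_fac H ha ht (h.isConj ht (dih_te sz st k).isConj)
      ⟨by simpa using m1, (Commute.refl t).mul_right m4⟩ ?_)
    rwa [← mul_assoc t, st, one_mul]
  set y := (u * v * t) ^ (2 * k + 1)
  have hx := H a ha _ (h.isConj ht (dih_eo sz st k).isConj) (mul_mem mz my)
  set x := u * v * y with ex
  have cx : Commute (u * v) x := (Commute.refl _).mul_right m3
  have ey : y = x * u * v := by rw [mul_assoc, ← cx.eq, ex, ← mul_assoc, sz, one_mul]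
  obtain ⟨c1, c2⟩ := comm2 hu hv hx c cx
  have ny : y ∉ cl D E a := fun k => n (h.stp H ha k ht m4.symm)
  have c1 : Dn x u := ⟨fun e => ny (by rwa [ey, ← e, h.sq u hu.1, one_mul]), c1.symm⟩
  have c2 : Dn x v := ⟨fun e => ny (by rwa [ey, ← e, ← c.2.eq, mul_assoc, h.sq v hv.1, mul_one]),
    c2.symm⟩
  obtain ⟨p, hp, s, hs, k1, k2, k3⟩ := K.tri x hx u hu v hv c1 c2 c
  rw [← ey] at k1 k2
  have yx : Commute y x := m3.symm.mul_right (.refl y)
  have j := ((h.odd H ha hx ht n).comm yx m4.symm).trans ((h.odd H ha hs ht n).comm k2 m4.symm).symm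
  rw [← yx.eq, yx.eq, ex, mul_assoc, m2, mul_one] at j
  obtain ⟨g, j⟩ := isConj_iff.1 j
  rw [← conj_mul] at j
  have hu' := h.cls_of_fac H ha (h.conj g u hu.1) (h.conj g v hv.1) (c.conj g) (j ▸ mul_mem (h.sub' ha hs) my)
  have hv' := h.stp H ha hu' (h.conj g v hv.1) (c.2.conj g)
  rcases two_eq' hu' hv' hs hp (c.2.conj g) k3 (by
    rw [j, mul_inv_rev, mul_assoc s y, k1.eq, T.t3.inv hs]; group) with q | q
  · rw [q, mul_right_inj] at j; exact ny (j ▸ hv')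
  · rw [(c.2.conj g).eq, q, mul_right_inj] at j; exact ny (j ▸ hu')

end LE

end H24.FR
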