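/-
Centreless groups with class sizes `a`, `b`, `c`, `a` and `b` coprime, `b ∣ c`: the end game.
-/
import Cfsg.Agent.H24.Four1

set_option autoImplicit false
set_option linter.unusedSectionVars false

open Cfsg Subgroup
namespace H24
open H19

universe u
variable {G : Type u} [Group G] [Finite G] {p q s : ℕ} {π : Set ℕ} {t w x y g : G}

theorem exists_not_mem_of_dvd_index {K : Subgroup G} (hp : p.Prime) (h : p ∣ K.index) :
    ∃ t : G, PiE {p} t ∧ t ∉ K := by
  obtain ⟨P, hP⟩ := exists_syl p (⊤ : Subgroup G)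
  by_contra hn
  push Not at hn
  have := hP.not_dvd_relIndex hp (K := K) fun x hx => hn x (hP.pi.elt hx)
  rw [relIndex_top_right] at this
  exact this h

theorem exists_center_prime {K : Subgroup G} (hK : Nil K) (hp : p.Prime) (h : p ∣ #K) :
    ∃ y ∈ Z(K), orderOf y = p := by
  have h1 := nil_meet_center hK (Oc_normal {p} K) ((nil_Oc_hall hK {p}).sne_bot hp h)
  obtain ⟨y, hy, oy⟩ := exists_orderOf_eq_prime hp (((Oc_pi {p} K).infl _).dvd_of_ne_bot h1)
  exact ⟨y, ⟨Oc_le _ _ hy.1, hy.2⟩, oy⟩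

theorem sol_of_quot {N : Subgroup G} [N.Normal] (h1 : H19.Sol N) (h2 : Group.IsSolvable (G ⧸ N)) :
    Group.IsSolvable G := isSolvable_of_normal_of_quot N h1 h2

theorem ne_one_of_not_mem {K : Subgroup G} (h : x ∉ K) : x ≠ 1 := fun e => h (e ▸ K.one_mem)

theorem not_mem_of_nc {N : Subgroup G} [N.Normal] (h : (g : G ⧸ N) ∉ center (G ⧸ N)) : g ∉ N :=
  fun e => h (by rw [(QuotientGroup.eq_one_iff g).2 e]; exact one_mem _)

namespace F4
variable {a b c n : ℕ} (h : F4 G a b c)
include h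

theorem endgame (hbc : b ∣ c) (hn : a * n = Nat.card G) (hnb : PiN (primes b) n)
    (hY : ∀ y : G, y ≠ 1 → cs y = b → y ∈ Oc (primes a) (⊤ : Subgroup G)) :
    Group.IsSolvable G := by
  have pa : PiN (primes a) a := piN_primes
  have pb : PiN (primes a)ᶜ b := PiN.of_coprime_pi h.cop.symm
  have pn : PiN (primes a)ᶜ n := fun r hr hd => pb r hr (hnb r hr hd).2
  have oO : PiG (primes a) (Oc (primes a) (⊤ : Subgroup G)) := Oc_pi _ _
  have nO : Oc (primes a) (⊤ : Subgroup G) ⊴ ⊤ := Oc_normal _ _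
  have leO : ∀ K : Subgroup G, K ⊴ ⊤ → PiG (primes a) K → K ≤ Oc (primes a) ⊤ := fun K => le_Oc
  generalize Oc (primes a) (⊤ : Subgroup G) = O at hY oO nO leO
  generalize primes a = π at *
  have sa : ∀ x : G, cs x = a → #C[x] = n := fun x e => by
    have := cs_mul_card x
    rw [e, ← hn] at this
    exact Nat.eq_of_mul_eq_mul_left (by have := h.a1; omega) this
  have na : ∀ x w : G, cs x = a → w ∈ C[x] → PiE π w → w = 1 := fun x w e hw pw =>
    pw.e_eq_one (PiN.elt (by rw [PiG, sa x e]; exact pn) hw)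
  have cen : ∀ s (x : G), s.Prime → s ∉ π → orderOf x = s → ¬ s ∣ cs x → cs x = a :=
    fun s x hs h1 ox h2 => by
      have h3 : s ∣ b := (hnb s hs ((Nat.Coprime.symm (pa.coprime ((piN_prime hs).2 h1))).dvd_of_dvd_mul_left
        (hn ▸ ox ▸ orderOf_dvd_natCard x))).2
      rcases h.S x (ne_one_of_prime hs ox) with e | e | e
      · exact e
      · exact absurd (e ▸ h3) h2
      · exact absurd (e ▸ h3.trans hbc) h2
  have nD : ∀ (D : Subgroup G) (w : G), D ⊴ ⊤ → w ≠ 1 → PiE π w → D ≤ C[w] → D ≤ O :=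
    fun D w hD w1 pw hle => leO D hD fun s hs hd => by_contra fun e => by
      obtain ⟨x, hx, ox, h1⟩ := exists_pcentral_mem hD hs hd
      exact w1 (na x w (cen s x hs e ox h1) (mem_cent1_symm.1 (hle hx)) pw)
  have nil : Nil O := by
    obtain ⟨s, hs, hd⟩ := Nat.exists_prime_and_dvd h.symm.a1.ne'
    obtain ⟨x, -, ox, h1⟩ := exists_pcentral_mem (NormalIn.refl (⊤ : Subgroup G)) hs
      (by rw [card_top]; exact hd.trans h.symm.adv)
    refine H3.isNilpotent_of_fpf_prime (A := zpowers x) (nO.norms le_top)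
      (by rwa [Nat.card_zpowers, ox]) (eq_bot_iff.2 fun w hw => ?_)
    exact na x w (cen s x hs (pb s hs hd) ox h1) (cent_zpowers x ▸ hw.2) (oO.elt hw.1)
  haveI := nO.normal
  refine sol_of_quot (N := O) (sol_of_nil nil) ?_
  have out : ∀ t : G, t ∉ O → PiE π t → cs t = c := fun t ht pt => by
    rcases h.S t (ne_one_of_not_mem ht) with e | e | e
    · exact absurd (na t t e (mem_cent1_self t) pt) (ne_one_of_not_mem ht)
    · exact absurd (hY t (ne_one_of_not_mem ht) e) ht
    · exact e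
  have cO : ∀ s, s.Prime → s ∣ #O → C(Oc {s} O) ≤ O := fun s hs hd => by
    obtain ⟨w, hw, w1⟩ := exists_ne_one ((nil_Oc_hall nil {s}).sne_bot hs hd)
    exact nD _ w ⟨le_top, norms_cent (nO.Oc _).norm⟩ w1 (oO.elt (Oc_le _ _ hw)) (cent_le_cent1 hw)
  by_cases hc : (#O).Coprime O.index
  · refine H25.Ito.Two.solv _ rfl fun x y z hx hy hz => ?_
    have pQ : ∀ K : Subgroup (G ⧸ O), PiG (primes #O)ᶜ K := fun K =>
      (PiN.of_coprime_pi hc.symm).dvd K.card_subgroup_dvd_card
    obtain ⟨x, px, rfl⟩ := exists_lift_piE O ((pQ ⊤).elt (mem_top x))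
    obtain ⟨y, py, rfl⟩ := exists_lift_piE O ((pQ ⊤).elt (mem_top y))
    obtain ⟨z, pz, rfl⟩ := exists_lift_piE O ((pQ ⊤).elt (mem_top z))
    have k : ∀ u : G, u ∉ O → cs u = a ∨ cs u = c := fun u hu => by
      rcases h.S u (ne_one_of_not_mem hu) with e | e | e
      · exact .inl e
      · exact absurd (hY u (ne_one_of_not_mem hu) e) hu
      · exact .inr e
    have k' : ∀ u v : G, PiE (primes #O)ᶜ u → PiE (primes #O)ᶜ v → cs u = cs v →
        #C[(u : G ⧸ O)] = #C[(v : G ⧸ O)] := fun u v pu pv e =>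
      card_cent_quot_eq O piN_primes pu pv (pQ _) (pQ _) (h.card_eq e)
    have e1 := k x (not_mem_of_nc hx)
    have e2 := k y (not_mem_of_nc hy)
    have e3 := k z (not_mem_of_nc hz)
    have : cs x = cs y ∨ cs x = cs z ∨ cs y = cs z := by omega
    exact this.imp (k' _ _ px py) (Or.imp (k' _ _ px pz) (k' _ _ py pz))
  obtain ⟨p, hp, pO, pI⟩ := Nat.Prime.not_coprime_iff_dvd.1 hc
  have pπ : p ∈ π := oO p hp pO
  obtain ⟨t, pt, ht⟩ := exists_not_mem_of_dvd_index hp pI
  have et := out t ht (pt.sing pπ)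
  have A : ∀ w ∈ C[t], PiE {p}ᶜ w → w ∈ O := fun w hw pw =>
    cO p hp pO (cent_mono (Oc_le_Oc nO) (axb pt pw hw
      (h.le_of_c (ne_one_of_not_mem ht) et hw (pt.coprime pw))))
  have A' : ∀ s, s.Prime → s ≠ p → s ∣ #C[t] → s ∣ #O := fun s hs sp hd => by
    obtain ⟨w, hw, ow⟩ := exists_orderOf_eq_prime hs hd
    exact ow ▸ orderOf_dvd_card' (A w hw (piE_of_prime hs ow sp))
  have pm : PiG π C[t] := fun s hs hd => by
    by_cases sp : s = p
    · exact sp ▸ pπ
    · exact oO s hs (A' s hs sp hd)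
  have B : ∀ s, s.Prime → s ∈ π → s ∣ O.index → s = p := fun s hs sπ sI => by_contra fun sp => by
    obtain ⟨t', pt', ht'⟩ := exists_not_mem_of_dvd_index hs sI
    have et' := out t' ht' (pt'.sing sπ)
    have sO : s ∣ #O := A' s hs sp (h.card_eq (et.trans et'.symm) ▸
      (pt'.dvd_of_ne_one (mt orderOf_eq_one_iff.1 (ne_one_of_not_mem ht'))).2.trans
        (orderOf_dvd_card' (mem_cent1_self t')))
    by_cases hz : ∃ z ∈ Z(O), cs z = c
    · obtain ⟨z, hz, ez⟩ := hz
      obtain ⟨S, hS⟩ := exists_syl s C[t]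
      have h1 : S ≤ Oc {s} O := nil_le_Oc nil
        (fun w hw => A w (hS.le hw) ((hS.pi.elt hw).sing_ne sp)) hS.pi
      have h2 : #(Oc {s} O) ∣ #S := hS.dvd (Oc_pi _ _) ((card_dvd (Oc_le _ _)).trans
        (h.card_eq (ez.trans et.symm) ▸ card_dvd (le_cent1_iff.2 hz.2)))
      have h3 := eq_of_le_of_card_eq h1 (Nat.dvd_antisymm (card_dvd h1) h2)
      exact ht (cO s hs sO (le_cent1_iff.1 (h3 ▸ hS.le)))
    · push Not at hz
      have zb : ∀ z ∈ Z(O), z ≠ 1 → cs z = b := fun z hz' z1 => by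
        rcases h.S z z1 with e | e | e
        · exact absurd (na z z e (mem_cent1_self z) (oO.elt hz'.1)) z1
        · exact e
        · exact absurd e (hz z hz')
      obtain ⟨y, hy, oy⟩ := exists_center_prime nil hp pO
      obtain ⟨y', hy', oy'⟩ := exists_center_prime nil hs sO
      have y1 := ne_one_of_prime hp oy
      have nZ : Z(O) ⊴ ⊤ := ⟨le_top, norms_inf nO.norm (norms_cent nO.norm)⟩
      have e : ∀ g : G, C[y] = C[g * y' * g⁻¹] := fun g => by
        have h1 := nZ.conj_mem (mem_top g) hy'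
        have h2 : Commute y (g * y' * g⁻¹) := H19.mem_cent.1 h1.2 y hy.1
        have h3 : (orderOf y).Coprime (orderOf (g * y' * g⁻¹)) := by
          rw [orderOf_conj, oy, oy']; exact (Nat.coprime_primes hp hs).2 (Ne.symm sp)
        have h4 := cent_mul_of_coprime h2 h3
        have h5 := zb _ (mul_mem hy h1) fun e => y1 (by simpa [e] using mem_zpowers_mul_left h2 h3)
        have h6 := (h.symm.cent_eq h5 y1 (h4 ▸ inf_le_left)).2
        have h7 := (h.symm.cent_eq h5 (fun e => ne_one_of_prime hs oy'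
          (H20.conj_eq_one_iff'.1 e)) (h4 ▸ inf_le_right)).2
        exact h6.symm.trans h7
      have nC : C[y] ⊴ ⊤ := ⟨le_top, fun g _ => by
        rw [mem_norm_iff_cj]
        have := e 1
        rw [one_mul, inv_one, mul_one] at this
        rw [this, cj_cent1, ← e g, this]⟩
      have h1 := index_dvd_of_le (nD _ y nC y1 (oO.elt hy.1) le_rfl)
      exact pb p hp (zb y hy y1 ▸ pI.trans h1) pπ
  have C : ∀ u : G ⧸ O, PiE {p}ᶜ u → u ∉ center _ → #C[u] = n := fun u pu hu => by
    have h1 : PiE πᶜ u := fun s hs hd sπ =>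
      pu s hs hd (B s hs sπ (hd.trans (orderOf_dvd_natCard u)))
    obtain ⟨g, pg, rfl⟩ := exists_lift_piE O h1
    have hg := not_mem_of_nc hu
    have eg : cs g = a := by
      rcases h.S g (ne_one_of_not_mem hg) with e | e | e
      · exact e
      · exact absurd (hY g (ne_one_of_not_mem hg) e) hg
      · refine absurd (PiN.e_eq_one (PiN.elt ?_ (mem_cent1_self g)) pg) (ne_one_of_not_mem hg)
        rw [PiG, h.card_eq (e.trans et.symm)]; exact pm
    have h2 := card_cent_quot O oO pg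
    rwa [show O ⊓ C[g] = ⊥ from eq_bot_iff.2 fun w hw => na g w eg hw.2 (oO.elt hw.1), card_bot,
      one_mul, sa g eg] at h2
  exact sol_of_two_reg hp fun x y h1 h2 h3 h4 => (C x h1 h3).trans (C y h2 h4).symm

end F4

end H24
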