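/-
Centreless groups with class sizes `a`, `b`, `c`, `a` and `b` coprime, `b ∣ c`, `a ∤ c`.
-/
import Cfsg.Agent.H24.Four2

set_option autoImplicit false
set_option linter.unusedSectionVars false

open Cfsg Subgroup
namespace H24
open H19

universe u
variable {G : Type u} [Group G] [Finite G] {p q s : ℕ} {π : Set ℕ} {t w x y g : G}

theorem mem_Oc_of_pe (hq : q.Prime) (hx : PiE {q} x) (h : PiN {q} (cs x)) :
    x ∈ Oc {q} (⊤ : Subgroup G) := by
  haveI := Fact.mk hq
  obtain ⟨j, hj⟩ := hx.exists_pow (orderOf_pos x).ne'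
  obtain ⟨k, hk⟩ := h.exists_pow (cs_ne_zero x)
  exact le_Oc normalIn_top (PiN.of_isPGroup hq H1.pCore_isPGroup) (mem_pCore_of_cs hj hk)

theorem conj_mem_normalClosure (g y : G) : g * y * g⁻¹ ∈ normalClosure ({y} : Set G) :=
  (inferInstance : (normalClosure {y}).Normal).conj_mem _ (subset_normalClosure rfl) g

theorem normalClosure_le {M : Subgroup G} (h : ∀ g, g * y * g⁻¹ ∈ M) : normalClosure {y} ≤ M :=
  (closure_le _).2 fun z hz => by
    obtain ⟨w, hw, hz'⟩ := Group.mem_conjugatesOfSet_iff.1 hz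
    obtain ⟨g, rfl⟩ := isConj_iff.1 hz'
    rw [Set.mem_singleton_iff.1 hw]; exact h g

theorem mem_Oc_of_kazarin (hq : q.Prime) (hO : Oc {q} (⊤ : Subgroup G) = ⊥) (h : PiN {q} (cs x)) :
    x ∈ Oc {q}ᶜ (⊤ : Subgroup G) := by
  obtain ⟨k, hk⟩ := h.exists_pow (cs_ne_zero x)
  have h1 : H19.Sol (normalClosure {x}) := H7.kazarin_normalClosure hq hk.dvd
  have h2 : Fit (normalClosure {x}) ⊴ ⊤ := normalIn_top.Fit
  have h3 : PiG {q}ᶜ (Fit (normalClosure {x})) := by
    have := nil_Oc_hall (Fit_nil (normalClosure {x})) {q}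
    rw [H19.eq_bot_mono (Oc_le_Oc h2) hO] at this
    exact this.pi'_of_eq_bot
  haveI := h2.normal
  exact le_Oc h2 h3 (cent_Fit_le h1 ⟨subset_normalClosure rfl,
    le_cent1_iff.1 (H7.le_cent_of_coprime_cs (h3.coprime' h))⟩)

namespace F4
variable {a b c n : ℕ} (h : F4 G a b c)
include h

theorem card_a (hn : a * n = Nat.card G) (e : cs x = a) : #C[x] = n := by
  have := cs_mul_card x
  rw [e, ← hn] at this
  exact Nat.eq_of_mul_eq_mul_left (by have := h.a1; omega) this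

theorem eq_a (hbc : b ∣ c) (hq : q ∣ b) (hx : x ≠ 1) (nx : ¬ q ∣ cs x) : cs x = a := by
  rcases h.S x hx with e | e | e
  · exact e
  · exact absurd (e ▸ hq) nx
  · exact absurd (e ▸ hq.trans hbc) nx

theorem case_q (hbc : b ∣ c) (hq : q.Prime) (hn : a * n = Nat.card G) (qn : PiN {q} n)
    (qa : ¬ q ∣ a) : Group.IsSolvable G := by
  have qb : PiN {q} b := qn.dvd (h.cop.symm.dvd_of_dvd_mul_left (hn ▸ h.symm.adv))
  have qb' : q ∣ b := (qb.dvd_of_ne_one h.symm.a1.ne').2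
  by_cases hR : Oc {q} (⊤ : Subgroup G) = ⊥
  · refine h.endgame hbc hn (fun r hr hd => ⟨hr, qn.eq_of_dvd hr hd ▸ qb'⟩) fun y y1 ey => ?_
    refine Oc_mono' (ρ := primes a) (fun r hr hd hm => ⟨hr, ?_⟩) (mem_Oc_of_kazarin hq hR (ey ▸ qb))
    rw [card_top, ← hn] at hd
    exact ((Nat.Prime.dvd_mul hr).1 hd).resolve_right fun e => hm (qn r hr e)
  have nR : Oc {q} (⊤ : Subgroup G) ⊴ ⊤ := Oc_normal _ _
  have pR : PG q (Oc {q} (⊤ : Subgroup G)) := Oc_pi _ _
  obtain ⟨x, hx, ox, nx⟩ := exists_pcentral_mem nR hq (pR.dvd_of_ne_bot hR)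
  have ex := h.eq_a hbc qb' (ne_one_of_prime hq ox) nx
  have cR : C(Oc {q} (⊤ : Subgroup G)) ≤ Oc {q} ⊤ := le_Oc ⟨le_top, norms_cent nR.norm⟩
    (PiN.of_le (by rw [PiG, h.card_a hn ex]; exact qn) (cent_le_cent1 hx))
  by_cases hI : q ∣ (Oc {q} (⊤ : Subgroup G)).index
  swap
  · obtain ⟨y, y1, ey⟩ := h.exb
    exact sol_of_normal_mul nR pR.sol (h.sol y1) ((PiN.of_not_dvd hI).coprime' (ey ▸ qb :))
  obtain ⟨u, pu, hu⟩ := exists_not_mem_of_dvd_index hq hI
  have u1 := ne_one_of_not_mem hu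
  haveI := nR.normal
  have eu : cs u = c := by
    rcases h.S u u1 with e | e | e
    · exact absurd (cR (le_cent1_iff.1 (H7.le_cent_of_coprime_cs
        (pR.coprime (e ▸ PiN.of_not_dvd qa))))) hu
    · exact absurd (mem_Oc_of_pe hq pu (e ▸ qb)) hu
    · exact e
  have pm : PG q C[u] := fun s hs hd => by_contra fun e => by
    obtain ⟨w, hw, ow⟩ := exists_orderOf_eq_prime hs hd
    have pw : PiE {q}ᶜ w := piE_of_prime hs ow e
    exact ne_one_of_prime hs ow ((pR.elt (cR (axb pu pw hw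
      (h.le_of_c u1 eu hw (pu.coprime pw))))).e_eq_one pw)
  have k : ∀ w : G, PiE {q}ᶜ w → w ∉ center G → cs w = b := fun w pw hw => by
    have w1 := ne_one_of_not_mem hw
    rcases h.S w w1 with e | e | e
    · refine absurd (PiN.e_eq_one (PiN.elt ?_ (mem_cent1_self w)) pw) w1
      rw [PiG, h.card_a hn e]; exact qn
    · exact e
    · refine absurd (PiN.e_eq_one (PiN.elt ?_ (mem_cent1_self w)) pw) w1
      rw [PiG, h.card_eq (e.trans eu.symm)]; exact pm
  exact sol_of_two_reg hq fun x y h1 h2 h3 h4 => h.card_eq ((k x h1 h3).trans (k y h2 h4).symm)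

theorem case_ab (hbc : b ∣ c) {A : Subgroup G} (hA : Ab A) (A1 : A ≠ ⊥) (iA : A.index = a) :
    Group.IsSolvable G := by
  by_contra hns
  have a1 := h.a1
  have b1 := h.symm.a1
  have hab := h.cop
  have ne_ac : a ≠ c := fun e => h.nca (e ▸ dvd_rfl)
  have ne_ab : a ≠ b := fun e => h.ndvd (e ▸ dvd_rfl)
  have cA : a * #A = Nat.card G := iA ▸ A.index_mul_card
  have hcc : ∀ u ∈ A, u ≠ 1 → C[u] = A := fun u hu u1 => by
    have h1 : A ≤ C[u] := fun v hv => mem_cent1.2 (mul_comm_of_comm hA hv hu)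
    exact (eq_of_le_of_index_le h1 (iA ▸ (h.mina u1 (iA ▸ index_dvd_of_le h1)).ge)).symm
  have hcc' : ∀ u ∈ A, u ≠ 1 → C[u] ≤ A := fun u hu u1 => (hcc u hu u1).le
  have csA : ∀ u ∈ A, u ≠ 1 → cs u = a := fun u hu u1 => by rw [← iA, ← hcc u hu u1]
  have hall : ∀ p, p.Prime → p ∣ #A → ∃ P, Syl p P ⊤ ∧ P ≤ A := fun p hp hd => by
    obtain ⟨u, hu, ou⟩ := exists_orderOf_eq_prime hp hd
    have u1 : u ≠ 1 := ne_one_of_prime hp ou
    obtain ⟨P, hP, hle⟩ := (PiN.of_card hp ((Nat.card_zpowers u).trans ou)).exists_syl le_top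
    obtain ⟨z, hz, z1⟩ := exists_ne_one (hP.pi.center_ne_bot
      (ne_bot_of_mem (hle (mem_zpowers u)) u1))
    have h1 : z ∈ A := hcc u hu u1 ▸ cent_le_cent1 (hle (mem_zpowers u)) hz.2
    exact ⟨P, hP, hcc z h1 z1 ▸ le_cent1_iff.2 hz.2⟩
  have into : ∀ p (w : G), p.Prime → p ∣ #A → PiE {p} w → ∃ g, g * w * g⁻¹ ∈ A :=
    fun p w hp hd pw => by
      obtain ⟨P, hP, hle⟩ := hall p hp hd
      obtain ⟨g, -, hg⟩ := hP.scj_le (K := zpowers w) le_top (piG_zpowers.2 pw)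
      exact ⟨g, hle (hg (conj_mem_cj.2 (mem_zpowers w)))⟩
  have cop : ∀ y : G, y ≠ 1 → cs y ≠ a → (#A).Coprime #C[y] := fun y y1 ey => by
    by_contra hn
    obtain ⟨s, hs, h1, h2⟩ := Nat.Prime.not_coprime_iff_dvd.1 hn
    obtain ⟨w, hw, ow⟩ := exists_orderOf_eq_prime hs h2
    obtain ⟨g, hg⟩ := into s w hs h1 (piE_of_prime hs ow rfl)
    have := hcc' _ hg (fun e => ne_one_of_prime hs ow (H20.conj_eq_one_iff'.1 e))
      (cj_cent1 g w ▸ conj_mem_cj.2 (mem_cent1_symm.1 hw))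
    exact ey (cs_conj g y ▸ csA _ this fun e => y1 (H20.conj_eq_one_iff'.1 e))
  obtain ⟨y₁, hy₁, ey₁⟩ := h.exb
  have cardA : #A = b := Nat.dvd_antisymm
    ((cop y₁ hy₁ (ey₁ ▸ ne_ab.symm)).dvd_of_dvd_mul_right
      (ey₁ ▸ cs_mul_card y₁ ▸ A.card_subgroup_dvd_card))
    (hab.symm.dvd_of_dvd_mul_left (cA ▸ h.symm.adv))
  have nn : ¬ ∀ g : G, g ∈ N(A) := fun e => hns (sol_of_normal_mul ⟨le_top, fun g _ => e g⟩
    (sol_of_ab hA) (h.sol hy₁) (by rw [iA, show C[y₁].index = b from ey₁]; exact hab))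
  have hH : Hall (primes b) A N(A) := ⟨le_normalizer, cardA ▸ piN_primes,
    (PiN.of_coprime_pi hab).dvd (iA ▸ relIndex_dvd_index_of_le le_normalizer)⟩
  obtain ⟨x, xA, x1⟩ := exists_ne_one A1
  have ex := csA x xA x1
  have nN : ∀ y : G, y ≠ 1 → cs y = b → y ∉ N(A) := fun y y1 ey hy => by
    have h1 : normalClosure {y} ≤ N(A) := normalClosure_le fun g => by
      obtain ⟨u, hu, k, hk, rfl⟩ := H2.facIn_of_coprime_index (A := A) (B := C[y])
        (by rw [iA, show C[y].index = b from ey]; exact hab) g (mem_top g)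
      have : u * k * y * (u * k)⁻¹ = u * y * u⁻¹ := by rw [mul_assoc u, mem_cent1.1 hk]; group
      exact this ▸ mul_mem (mul_mem (le_normalizer hu) hy) (inv_mem (le_normalizer hu))
    have h2 : x * y * x⁻¹ * y⁻¹ ∈ A := by
      rw [show x * y * x⁻¹ * y⁻¹ = x * (y * x⁻¹ * y⁻¹) by group]
      exact mul_mem xA (conj_mem_of_norm hy (inv_mem xA))
    have h3 : x * y * x⁻¹ * y⁻¹ ≠ 1 := fun e => by
      rw [mul_inv_eq_one, mul_inv_eq_iff_eq_mul] at e
      exact ne_ab ((csA y (hcc' x xA x1 (mem_cent1.2 e.symm)) y1).symm.trans ey)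
    refine nn fun g => mem_norm_of_cc hA hcc' h2 h3 (hH.mem_of_normal le_rfl (h1 ?_)
      ((hH.pi.elt h2).e_conj g))
    exact (inferInstance : (normalClosure {y}).Normal).conj_mem _
      (mul_mem (conj_mem_normalClosure x y) (inv_mem (subset_normalClosure rfl))) g
  refine hns (h.endgame hbc (cardA ▸ cA) piN_primes fun y₂ hy₂ ey₂ => ?_)
  suffices H : ∀ (y : G) (p : ℕ), p.Prime → cs y = b → y ≠ 1 → PiE {p} y →
      y ∈ Oc (primes a) (⊤ : Subgroup G) by
    refine H25.Ito.mem_of_primary fun y hy s hs py => ?_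
    by_cases y1 : y = 1
    · rw [y1]; exact one_mem _
    · exact H y s hs (h.symm.mina y1 (ey₂ ▸ cs_dvd_of_mem_zpowers hy)) y1 py
  intro y p hp ey y1 py
  have cH : b * #C[y] = Nat.card G := ey ▸ cs_mul_card y
  have cH' : #C[y] = a := by
    rw [← cA, cardA, mul_comm] at cH
    exact Nat.eq_of_mul_eq_mul_right (by omega) cH
  have cxy : (cs x).Coprime (cs y) := by rw [ex, ey]; exact hab
  have z1 : x * y ≠ 1 := fun e => by
    have := cs_le_cs_mul_left cxy
    rw [e, cs_one] at this; omega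
  rcases h.S _ z1 with ez | ez | ez
  · exact mem_Oc_of_cs_mul cxy (ez.trans ex.symm)
      (PiN.elt (by rw [PiG, cH']; exact piN_primes) (mem_cent1_self y))
  · obtain ⟨K, h1, h2, h3⟩ := exists_normal_cent cxy.symm (by rw [cs_mul_comm, ez, ey])
    exact absurd (fun g => mem_norm_of_cc hA hcc' xA x1 (hcc' x xA x1 (mem_cent1.2
      (mul_comm_of_comm h2 (h1.conj_mem (mem_top g) h3) h3)))) nn
  exfalso
  have nc : ∀ u ∈ C[y], u ≠ 1 → cs u ≠ a := fun u hu u1 e => by
    have h1 := h.card_a (cardA ▸ cA) e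
    have h2 := orderOf_dvd_card' (mem_cent1_self u)
    have h3 := orderOf_dvd_card' hu
    rw [h1] at h2
    rw [cH'] at h3
    exact u1 (orderOf_eq_one_iff.1 (Nat.eq_one_of_dvd_coprimes hab h3 h2))
  have iN : N(A).index ∣ a := iA ▸ index_dvd_of_le le_normalizer
  have iE : (N(A) ⊓ C[y]).index = N(A).index * b := by
    rw [index_inf_of_coprime (by rw [show C[y].index = b from ey]; exact hab.coprime_dvd_left iN),
      show C[y].index = b from ey]
  have cE := (N(A) ⊓ C[y]).card_mul_index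
  have cz : c * #C[x * y] = Nat.card G := ez ▸ cs_mul_card (x * y)
  have mE : ∀ e ∈ N(A) ⊓ C[y], e ≠ 1 → #C[e] = #C[x * y] := fun e he e1 =>
    h.card_eq ((((h.S e e1).resolve_left (nc e he.2 e1)).resolve_left
      fun h => nN e e1 h he.1).trans ez.symm)
  have cnt : (b - 1) * N(A).index ≤ c := by
    rw [← cardA, ← H20.ncard_nt, ← ti_ncard (A := nt A) (L := N(A))
      (fun g hg u hu => H20.conj_mem_nt hg hu) (fun g u hu hg =>
        mem_norm_of_cc hA hcc' hu.1 hu.2 hg.1), ← ez, ← ncard_isConj]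
    refine Set.ncard_le_ncard_of_injOn (· * y) ?_ (fun _ _ _ _ e => mul_right_cancel e)
    rintro _ ⟨v, hv, g, rfl⟩
    obtain ⟨z', y', h1, h2, h3⟩ := mul_class_of_cc hA hcc'
      (y := x * y) (z := y⁻¹)
      (fun u hu u1 h => by have := cs_eq_of_isConj h; rw [csA u hu u1] at this; omega)
      (fun u hu u1 h => by
        have := cs_eq_of_isConj h
        rw [csA u hu u1, cs_inv, ey] at this
        exact ne_ab this.symm)
      (by rwa [mul_inv_cancel_right]) (by rwa [mul_inv_cancel_right]) hv.1 hv.2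
    have h4 : IsConj y y'⁻¹ := by
      obtain ⟨k, rfl⟩ := isConj_iff.1 h2
      exact isConj_iff.2 ⟨k, by group⟩
    have h5 := isConj_mul_of_coprime (x := v) (y := y'⁻¹) (x' := g * v * g⁻¹) (y' := y)
      (by rw [csA v hv.1 hv.2, ← cs_eq_of_isConj h4, ey]; exact hab) (isConj_iff.2 ⟨g, rfl⟩) h4.symm
    rw [← h3, mul_inv_cancel_right, h3] at h5
    exact h1.trans h5
  set E := N(A) ⊓ C[y] with hE
  set m := #C[x * y] with hm
  have cent : ∀ s R, Syl s R E → R ≠ ⊥ → #(R ⊔ zpowers y) ∣ m := fun s R hR h1 => by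
    obtain ⟨e, he, e1⟩ := exists_ne_one (hR.pi.center_ne_bot h1)
    rw [← mE e (hR.le he.1) e1]
    exact card_dvd (sup_le (le_cent1_iff.2 he.2)
      (zpowers_le.2 (mem_cent1_symm.1 (hR.le he.1).2)))
  have dE : #E ∣ m := by
    refine (Nat.dvd_iff_prime_pow_dvd_dvd _ _).2 fun s k hs hk => ?_
    obtain ⟨R, hR⟩ := exists_syl s E
    have h1 := hR.dvd (PiN.prime_pow hs k) hk
    by_cases h0 : R = ⊥
    · rw [h0, card_bot] at h1
      exact h1.trans (one_dvd _)
    · exact h1.trans ((card_dvd le_sup_left).trans (cent s R hR h0))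
  have b2 : b ≠ 2 := fun e => by
    haveI := normal_of_index_eq_two (H := C[y]) (ey.trans e)
    exact hns (sol_of_normal_mul normalIn_top (h.sol y1) (sol_of_ab hA) (by
      rw [iA, show C[y].index = b from ey]; exact hab.symm))
  have em : #E = m := by
    obtain ⟨k, hk⟩ := dE
    have h1 : (b - 1) * m ≤ #E * b := by
      refine Nat.le_of_mul_le_mul_right (c := N(A).index) ?_
        (Nat.pos_of_ne_zero FiniteIndex.index_ne_zero)
      calc (b - 1) * m * N(A).index = (b - 1) * N(A).index * m := by ring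
        _ ≤ c * m := Nat.mul_le_mul_right _ cnt
        _ = #E * b * N(A).index := by rw [cz, ← cE, iE]; ring
    have h2 := card_pos E
    have h3 : 0 < m := card_pos _
    obtain ⟨b', rfl⟩ : ∃ b', b = b' + 3 := ⟨b - 3, by omega⟩
    rw [hk] at h1 h3 ⊢
    rcases k with _ | _ | k
    · simp at h3
    · simp
    · exfalso
      rw [show b' + 3 - 1 = b' + 2 by omega] at h1
      nlinarith [Nat.zero_le (#E * k * b'), Nat.zero_le (#E * k), Nat.zero_le (#E * b')]
  have E1 : E ≠ ⊥ := by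
    rw [ne_bot_iff_one_lt_card, em]
    exact ne_bot_iff_one_lt_card.1 (ne_bot_of_mem (mem_cent1_self _) z1)
  obtain ⟨e, he, e1⟩ := exists_ne_one E1
  have pE : p ∣ #E := by
    rw [em, ← mE e he e1]
    exact (py.dvd_of_ne_one (mt orderOf_eq_one_iff.1 y1)).2.trans
      (orderOf_dvd_card' (mem_cent1_symm.1 he.2))
  obtain ⟨R, hR⟩ := exists_syl p E
  have h1 := cent p R hR (hR.sne_bot hp pE)
  have h2 : PG p (R ⊔ zpowers y) := hR.pi.sup (piG_zpowers.2 py)
    (norms_of_cents (by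
      rw [zpowers_le, ← le_cent1_iff]; exact hR.le.trans inf_le_right))
  have h3 := eq_of_le_of_card_eq (le_sup_left : R ≤ R ⊔ zpowers y)
    (Nat.dvd_antisymm (card_dvd le_sup_left) (hR.dvd h2 (em ▸ h1)))
  exact nN y y1 ey (hR.le (h3.ge (le_sup_right (a := R) (mem_zpowers y)))).1

theorem case_b (hbc : b ∣ c) (hac : ¬ a ∣ c) : Group.IsSolvable G := by
  obtain ⟨q, hq, hd⟩ := Nat.exists_prime_and_dvd h.symm.a1.ne'
  obtain ⟨x, x1, px, nx⟩ := exists_pcentral hq (hd.trans h.symm.adv)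
  have ex := h.eq_a hbc hd x1 nx
  rcases pg_or_ab_of_iso x1 px (fun u hu e => by
      rw [ex] at e ⊢
      rcases h.S u hu with h1 | h1 | h1
      · exact h1
      · exact absurd (h1 ▸ e) h.ndvd
      · exact absurd (h1 ▸ e) hac) (fun u hu e => by rw [ex] at e ⊢; exact h.mina hu e) with h1 | h1
  · exact h.case_q hbc hq (ex ▸ cs_mul_card x) h1 (ex ▸ nx)
  · exact h.case_ab hbc h1 (ne_bot_of_mem (mem_cent1_self x) x1) ex

end F4

end H24
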