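/-
Centreless groups with at most three nontrivial class sizes, two of them coprime, are solvable.
-/
import Cfsg.Agent.H24.Four3
import Cfsg.Agent.H24.ItoQF

set_option autoImplicit false
set_option linter.unusedSectionVars false

open Cfsg Subgroup
namespace H24
open H19

universe u
variable {G : Type u} [Group G] [Finite G] {p q s : ℕ} {π : Set ℕ} {t w x y g : G}

theorem comm_of_cs_mul (h : (cs x).Coprime (cs y)) (he : cs (x * y) = cs x * cs y) : y ∈ C[x] := by
  have h1 : C[x] ⊓ C[y] = C[x * y] :=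
    eq_of_le_of_index_le (cent_inf_le_cent_mul x y) (by
      rw [index_inf_of_coprime h]; exact he.ge)
  exact (mul_mem_cancel_left (mem_cent1_self x)).1 (h1.ge (mem_cent1_self _)).1

theorem central_of_not_dvd (hs : s.Prime) (h : ∀ g : G, ¬ s ∣ cs g) (hx : PiE {s} x) :
    x ∈ center G := by
  haveI := Fact.mk hs
  obtain ⟨k, hk⟩ := hx.exists_pow (orderOf_pos x).ne'
  obtain ⟨P, hP⟩ := exists_sylow_mem hk
  exact sylow_le_center_of_forall_not_dvd h P hP

theorem QF.isSolvable {K H : Subgroup G} (h : QF K H) : Group.IsSolvable G := by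
  refine H25.Ito.Two.solv _ rfl fun x y z hx hy hz => ?_
  have k : ∀ u : G, u ∉ center G → cs u = K.index ∨ cs u = H.index := fun u hu => by
    have : cs u ∈ ({1, K.index, H.index} : Set ℕ) := h.range_cs ▸ ⟨u, rfl⟩
    rcases this with e | e | e
    · exact absurd (cs_eq_one_iff.1 e) hu
    · exact .inl e
    · exact .inr e
  have e1 := k x hx
  have e2 := k y hy
  have e3 := k z hz
  have : cs x = cs y ∨ cs x = cs z ∨ cs y = cs z := by omega
  exact this.imp H25.Ito.card_cent_eq (Or.imp H25.Ito.card_cent_eq H25.Ito.card_cent_eq)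

namespace F4
variable {a b c n : ℕ} (h : F4 G a b c)
include h

theorem sol_of_hall {O : Subgroup G} (nO : O ⊴ ⊤) (h1 : PiG π O) (h2 : PiN πᶜ O.index)
    (h3 : H19.Sol O) (hY : ∀ y : G, y ≠ 1 → cs y = b → y ∈ O) : Group.IsSolvable G := by
  haveI := nO.normal
  refine sol_of_quot (N := O) h3 (H25.Ito.Two.solv _ rfl fun x y z hx hy hz => ?_)
  have pQ : ∀ K : Subgroup (G ⧸ O), PiG πᶜ K := fun K => h2.dvd K.card_subgroup_dvd_card
  obtain ⟨x, px, rfl⟩ := exists_lift_piE O ((pQ ⊤).elt (mem_top x))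
  obtain ⟨y, py, rfl⟩ := exists_lift_piE O ((pQ ⊤).elt (mem_top y))
  obtain ⟨z, pz, rfl⟩ := exists_lift_piE O ((pQ ⊤).elt (mem_top z))
  have k : ∀ u : G, u ∉ O → cs u = a ∨ cs u = c := fun u hu => by
    rcases h.S u (ne_one_of_not_mem hu) with e | e | e
    · exact .inl e
    · exact absurd (hY u (ne_one_of_not_mem hu) e) hu
    · exact .inr e
  have k' : ∀ u v : G, PiE πᶜ u → PiE πᶜ v → cs u = cs v →
      #C[(u : G ⧸ O)] = #C[(v : G ⧸ O)] := fun u v pu pv e =>
    card_cent_quot_eq O h1 pu pv (pQ _) (pQ _) (h.card_eq e)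
  have e1 := k x (not_mem_of_nc hx)
  have e2 := k y (not_mem_of_nc hy)
  have e3 := k z (not_mem_of_nc hz)
  have : cs x = cs y ∨ cs x = cs z ∨ cs y = cs z := by omega
  exact this.imp (k' _ _ px py) (Or.imp (k' _ _ px pz) (k' _ _ py pz))

theorem pow_of_comm (hs : s.Prime) (sp : s ≠ p) (x1 : x ≠ 1) (y1 : y ≠ 1) (px : PiE {s} x)
    (py : PiE {p} y) (ex : cs x = a) (ey : cs y = b) (hc : y ∈ C[x]) (pb : ¬ p ∣ b) :
    PiN {s} b := by
  have e : C[y].relIndex C[x] = b := by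
    have h1 := relIndex_mul_index (inf_le_left : C[x] ⊓ C[y] ≤ C[x])
    rw [index_inf_of_coprime (by rw [show C[x].index = a from ex, show C[y].index = b from ey]; exact h.cop),
      inf_relIndex_left, mul_comm, show C[y].index = b from ey] at h1
    exact Nat.eq_of_mul_eq_mul_left (cs_pos x) h1
  have nc : y ∉ C(C[x]) := fun e' =>
    h.ndvd ((h.cent_eq ex y1 (le_cent1_iff.2 e')).1.symm.trans ey).dvd
  rcases H25.Ito.two_reg' hs (h.reg x1 px) with ⟨B, h1, h2⟩ | ⟨r, hr, -, h1⟩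
  · exact e ▸ H25.Ito.piN_of_ab_hall h1 h2 hc py sp.symm
  · have hp := (py.dvd_of_ne_one (mt orderOf_eq_one_iff.1 y1)).1
    have pr : p = r := by_contra fun e' => nc (h1 p y hc hp sp.symm e' py)
    have h2 : PiN {s, p} (C[y].relIndex C[x]) := H25.Ito.piN_relIndex fun r' u hu hr' e' pu =>
      mem_cent1_symm.1 (le_cent1_iff.2 (h1 r' u hu hr' (fun e => e' (.inl e))
        (fun e => e' (.inr (e.trans pr.symm))) pu) hc)
    rw [e] at h2
    exact fun r' hr' hd => (h2 r' hr' hd).resolve_right fun e' => pb (e' ▸ hd)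

theorem case_c (hac : a ∣ c) (hbc : b ∣ c) (hlt : b < a) : Group.IsSolvable G := by
  have habc : a * b ∣ c := h.cop.mul_dvd_of_dvd_of_dvd hac hbc
  have ndv : ∀ s, s.Prime → ¬ s ∣ c → ∀ g : G, ¬ s ∣ cs g := fun s hs e g e' => by
    by_cases g1 : g = 1
    · rw [g1, cs_one] at e'
      exact hs.one_lt.ne' (Nat.dvd_one.1 e')
    rcases h.S g g1 with e1 | e1 | e1
    · exact e ((e1 ▸ e').trans hac)
    · exact e ((e1 ▸ e').trans hbc)
    · exact e (e1 ▸ e')
  by_cases NC : ∃ (s p : ℕ) (x y : G), s.Prime ∧ p.Prime ∧ ¬ s ∣ a ∧ p ∣ a ∧ x ≠ 1 ∧ y ≠ 1 ∧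
      PiE {s} x ∧ PiE {p} y ∧ cs x = a ∧ cs y = b ∧ y ∈ C[x]
  · obtain ⟨s, p, x, y, hs, hp, sa, pa, x1, y1, px, py, ex, ey, hc⟩ := NC
    have sp : s ≠ p := fun e => sa (e ▸ pa)
    have h1 := h.pow_of_comm hs sp x1 y1 px py ex ey hc
      fun e => hp.one_lt.ne' (Nat.eq_one_of_dvd_coprimes h.cop pa e)
    have h2 := h.symm.pow_of_comm hp sp.symm y1 x1 py px ey ex (mem_cent1_symm.1 hc) sa
    have h3 : c ∣ a * b := by
      rw [← h.mul_c x1 hc (px.coprime_of py fun r e e' => sp (e.symm.trans e')) fun e =>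
        h.ndvd ((h.cent_eq ex y1 e).1.symm.trans ey).dvd, ← ex, ← ey]
      exact cs_mul_dvd_of_coprime (by rw [ex, ey]; exact h.cop)
    refine H25.Ito.solv_of_two (s := s) (t := p) fun r u hr rs rp pu =>
      central_of_not_dvd hr (ndv r hr fun e => ?_) pu
    exact ((Nat.Prime.dvd_mul hr).1 (e.trans h3)).elim (fun e => rp (h2 r hr e))
      fun e => rs (h1 r hr e)
  push Not at NC
  obtain ⟨q, hq, qb⟩ := Nat.exists_prime_and_dvd h.symm.a1.ne'
  have qa : ¬ q ∣ a := fun e => hq.one_lt.ne' (Nat.eq_one_of_dvd_coprimes h.cop e qb)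
  obtain ⟨x, x1, px, nx⟩ := exists_pcentral hq (qb.trans h.symm.adv)
  have ex := h.eq_a hbc qb x1 nx
  have tri : ∀ y : G, cs y = b → cs (x * y) = cs x ∨ (c = a * b ∧ y ∈ C[x]) := fun y ey => by
    have cxy : (cs x).Coprime (cs y) := by rw [ex, ey]; exact h.cop
    have h1 := cs_le_cs_mul_left cxy
    have h2 := cs_mul_dvd_of_coprime cxy
    have a1 := h.a1
    rcases h.S (x * y) (fun e => by rw [e, cs_one] at h1; omega) with e | e | e
    · exact .inl (e.trans ex.symm)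
    · omega
    · have h3 : c = a * b := Nat.dvd_antisymm (by rwa [e, ex, ey] at h2) habc
      exact .inr ⟨h3, comm_of_cs_mul cxy (by rw [e, ex, ey, h3])⟩
  have pa : PiN (primes a) a := piN_primes
  have pb : PiN (primes a)ᶜ b := PiN.of_coprime_pi h.cop.symm
  have oO : PiG (primes a) (Oc (primes a) (⊤ : Subgroup G)) := Oc_pi _ _
  have nO : Oc (primes a) (⊤ : Subgroup G) ⊴ ⊤ := Oc_normal _ _
  have D : ∀ p, p.Prime → p ∣ a → C(Oc {p} (⊤ : Subgroup G)) ≤ Oc (primes a) ⊤ := fun p hp hd => by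
    obtain ⟨y, y1, py, ny⟩ := exists_pcentral hp (hd.trans h.adv)
    have ey := h.symm.eq_a hac hd y1 ny
    have hy : y ∈ Oc {p} (⊤ : Subgroup G) := mem_Oc_of_cs_mul (by rw [ex, ey]; exact h.cop)
      ((tri y ey).resolve_right fun e => NC q p x y hq hp qa hd x1 y1 px py ex ey e.2) py
    have nD : C(Oc {p} (⊤ : Subgroup G)) ⊴ ⊤ := ⟨le_top, norms_cent (Oc_norm _ _)⟩
    refine le_Oc nD fun s hs sd => ⟨hs, by_contra fun sa => ?_⟩
    obtain ⟨z, hz, oz, nz⟩ := exists_pcentral_mem nD hs sd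
    have z1 := ne_one_of_prime hs oz
    have pz := piE_of_prime (π := {s}) hs oz rfl
    have sc : s ∣ c := by_contra fun e =>
      z1 (mem_bot.1 (h.Z ▸ central_of_not_dvd hs (ndv s hs e) pz))
    rcases h.S z z1 with e | e | e
    · exact NC s p z y hs hp sa hd z1 y1 pz py e ey (mem_cent1_symm.1 (cent_le_cent1 hy hz))
    · rcases tri z e with e' | e'
      · refine z1 (mem_bot.1 (h.Z ▸ central_of_cs_mul_eq (by rw [ex, e]; exact h.cop) e' ?_))
        rw [oz, ex]; exact (Nat.Prime.coprime_iff_not_dvd hs).2 sa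
      · exact ((Nat.Prime.dvd_mul hs).1 (e'.1 ▸ sc)).elim sa (e ▸ nz)
    · exact nz (e ▸ sc)
  haveI := nO.normal
  have leC : ∀ y : G, cs y = b → Oc (primes a) ⊤ ≤ C[y] := fun y ey =>
    H7.le_cent_of_coprime_cs (oO.coprime (ey ▸ pb))
  have hY : ∀ y : G, y ≠ 1 → cs y = b → y ∈ Oc (primes a) ⊤ := fun y _ ey => by
    obtain ⟨p, hp, hd⟩ := Nat.exists_prime_and_dvd h.a1.ne'
    exact D p hp hd (cent_mono (Oc_mono (ρ := primes a) (Set.singleton_subset_iff.2 ⟨hp, hd⟩) _)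
      (le_cent1_iff.1 (leC y ey)))
  by_cases hI : PiN (primes a)ᶜ (Oc (primes a) (⊤ : Subgroup G)).index
  · obtain ⟨y, y1, ey⟩ := h.exb
    exact h.sol_of_hall nO oO hI (sol_mono (h.sol y1) (leC y ey)) hY
  exfalso
  have qπ : q ∉ primes a := fun e => qa e.2
  have na : ∀ p (t : G), p.Prime → p ∣ a → t ≠ 1 → PiE {p} t → cs t ≠ a :=
    fun p t hp hd t1 pt et => by
      have pq : p ≠ q := fun e => qa (e ▸ hd)
      haveI := Fact.mk hq
      obtain ⟨Q, hQ⟩ := not_dvd_cs_iff.1 (et ▸ qa)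
      have sQ := syl_sylow_top Q
      obtain ⟨z, hz, z1⟩ := exists_ne_one (sQ.pi.center_ne_bot
        (sQ.sne_bot hq (by rw [card_top]; exact qb.trans h.symm.adv)))
      have pz := sQ.pi.elt hz.1
      have co := pt.coprime (pz.sing_ne pq.symm)
      have h1 : C[t] ≤ C[z] := by_contra fun e => by
        refine not_dvd_cs_iff.2 ⟨Q, ?_⟩ (h.mul_c t1 (hQ hz.1) co e ▸ qb.trans hbc)
        exact (le_inf hQ (le_cent1_iff.2 hz.2)).trans (cent_inf_le_cent_mul t z)
      exact z1 ((oO.elt (D p hp hd (axb pt (pz.sing_ne pq.symm) (hQ hz.1) h1))).e_eq_one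
        (pz.sing qπ))
  simp only [PiN, not_forall] at hI
  obtain ⟨p, hp, pI, pπ⟩ := hI
  have pa' : p ∣ a := (not_not.1 pπ : p ∈ primes a).2
  obtain ⟨t, pt, ht⟩ := exists_not_mem_of_dvd_index hp pI
  have t1 := ne_one_of_not_mem ht
  have et : cs t = c := ((h.S t t1).resolve_left (na p t hp pa' t1 pt)).resolve_left
    fun e => ht (hY t t1 e)
  have pm : PiG (primes a) C[t] := fun s hs hd => by
    by_cases sp : s = p
    · exact sp ▸ ⟨hp, pa'⟩
    obtain ⟨w, hw, ow⟩ := exists_orderOf_eq_prime hs hd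
    have pw : PiE {p}ᶜ w := piE_of_prime hs ow sp
    exact oO s hs (ow ▸ orderOf_dvd_card' (D p hp pa' (axb pt pw hw
      (h.le_of_c t1 et hw (pt.coprime pw)))))
  have px' : PiG (primes a)ᶜ C[x] := fun s hs hd sπ => by
    obtain ⟨w, hw, ow⟩ := exists_orderOf_eq_prime hs hd
    have w1 := ne_one_of_prime hs ow
    have pw := piE_of_prime (π := {s}) hs ow rfl
    have co := px.coprime (pw.sing_ne fun e => qπ (e ▸ sπ))
    by_cases e : C[x] ≤ C[w]
    · exact na s w hs sπ.2 w1 pw (h.cent_eq ex w1 e).1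
    · have h1 := h.card_eq ((h.mul_c x1 hw co e).trans et.symm)
      have h2 : x ∈ C[x * w] := by
        rw [cent_mul_of_coprime (mem_cent1.1 hw).symm co]
        exact ⟨mem_cent1_self x, mem_cent1_symm.1 hw⟩
      exact x1 ((PiN.elt (by rw [PiG, h1]; exact pm) h2).e_eq_one (px.sing qπ))
  have h1 : #C[t] ∣ #C[x] := by
    obtain ⟨k, hk⟩ := hac
    have e1 := cs_mul_card t
    have e2 := cs_mul_card x
    rw [et, hk, ← e2, ex, mul_assoc] at e1
    exact Dvd.intro_left _ (Nat.eq_of_mul_eq_mul_left (by have := h.a1; omega) e1)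
  exact t1 (mem_bot.1 ((pm.eq_bot (px'.dvd h1)) ▸ mem_cent1_self t))

/-- either solvable or an antichain -/
theorem main : Group.IsSolvable G ∨ ∀ u v : G, u ≠ 1 → v ≠ 1 → cs u ∣ cs v → cs v = cs u := by
  by_cases hac : a ∣ c <;> by_cases hbc : b ∣ c
  · left
    rcases lt_trichotomy a b with e | e | e
    · exact h.symm.case_c hbc hac e
    · exact absurd e.dvd h.ndvd
    · exact h.case_c hac hbc e
  · exact .inl (h.symm.case_b hac hbc)
  · exact .inl (h.case_b hbc hac)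
  · refine .inr fun u v hu hv e => ?_
    rcases h.S v hv with e' | e' | e'
    · rw [e'] at e ⊢; exact (h.mina hu e).symm
    · rw [e'] at e ⊢; exact (h.symm.mina hu e).symm
    · rw [e'] at e ⊢
      rcases h.S u hu with e1 | e1 | e1
      · exact absurd (e1 ▸ e) hac
      · exact absurd (e1 ▸ e) hbc
      · exact e1.symm

end F4

theorem sol_of_split {a b c : ℕ} (hS : ∀ g : G, g ≠ 1 → cs g = a ∨ cs g = b ∨ cs g = c)
    (hab : a.Coprime b) (hcb : c.Coprime b) (ex : cs x = a) (ey : cs y = b) (a1 : 1 < a)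
    (b1 : 1 < b) : Group.IsSolvable G := by
  obtain ⟨p, hp, pa⟩ := Nat.exists_prime_and_dvd a1.ne'
  obtain ⟨q, hq, qb⟩ := Nat.exists_prime_and_dvd b1.ne'
  obtain ⟨K, H, h⟩ := exists_QF (G := G) {r | r ∣ b} ⟨q, qb, hq, y, ey ▸ qb⟩
    ⟨p, fun e => hp.one_lt.ne' (Nat.eq_one_of_dvd_coprimes hab pa e), hp, x, ex ▸ pa⟩
    fun r hr s hs hr' hs' g => by
      by_cases g1 : g = 1
      · rw [g1, cs_one]; exact .inl fun e => hr'.one_lt.ne' (Nat.dvd_one.1 e)
      rcases hS g g1 with e | e | e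
      · exact .inl fun e' => hr'.one_lt.ne' (Nat.eq_one_of_dvd_coprimes hab (e ▸ e') hr)
      · exact .inr fun e' => hs (e ▸ e')
      · exact .inl fun e' => hr'.one_lt.ne' (Nat.eq_one_of_dvd_coprimes hcb (e ▸ e') hr)
  exact h.isSolvable

theorem sol_or_antichain (hZ : center G = ⊥) {a b c : ℕ}
    (hS : ∀ g : G, g ≠ 1 → cs g = a ∨ cs g = b ∨ cs g = c) :
    Group.IsSolvable G ∨ ∀ u v : G, u ≠ 1 → v ≠ 1 → cs u ∣ cs v → cs v = cs u := by
  by_cases hn : ∀ x y : G, x ≠ 1 → y ≠ 1 → ¬ (cs x).Coprime (cs y)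
  · exact .inr fun u v hu hv => antichain_of_three hZ hS hn hu hv
  push Not at hn
  obtain ⟨x, y, hx, hy, hc⟩ := hn
  have h1 := one_lt_cs hZ hx
  have h2 := one_lt_cs hZ hy
  have hne : cs x ≠ cs y := fun e => by rw [← e, Nat.coprime_self] at hc; omega
  obtain ⟨d, hd⟩ : ∃ d, ∀ g : G, g ≠ 1 → cs g = cs x ∨ cs g = cs y ∨ cs g = d := by
    have e1 := hS x hx
    have e2 := hS y hy
    by_cases ha : a = cs x ∨ a = cs y
    · by_cases hb : b = cs x ∨ b = cs y
      · by_cases hab : a = b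
        · exact ⟨a, fun g hg => by have := hS g hg; omega⟩
        · exact ⟨c, fun g hg => by have := hS g hg; omega⟩
      · exact ⟨b, fun g hg => by have := hS g hg; omega⟩
    · exact ⟨a, fun g hg => by have := hS g hg; omega⟩
  by_cases h3 : d ∣ cs x
  · exact .inl (sol_of_split hd hc (hc.coprime_dvd_left h3) rfl rfl h1 h2)
  by_cases h4 : d ∣ cs y
  · exact .inl (sol_of_split (fun g hg => or_left_comm.1 (hd g hg)) hc.symm
      (hc.symm.coprime_dvd_left h4) rfl rfl h2 h1)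
  exact F4.main ⟨hZ, hd, hc, ⟨x, hx, rfl⟩, ⟨y, hy, rfl⟩, h3, h4⟩

end H24
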