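/-
Standard `U₄(2)` (S3138): the reduction, part one.
-/
import Cfsg.Agent.H18.G0
import Cfsg.Agent.H1.SR0
import Cfsg.Agent.H17.GS3
import Cfsg.Agent.H23.SchurProd
import Cfsg.Agent.S1347
import Cfsg.Agent.S2086

set_option autoImplicit false
set_option linter.unusedSectionVars false

namespace H24.G38
open Cfsg Subgroup H19 H28.CY H18.U2 H18.G38 Matrix
universe u v

section
variable {A B : Type*} [Group A] [Group B] [Finite A] [Finite B] {ρ : A →* B}

theorem secE (h : SectionalPRankLE 2 4 A) (e : A ≃* B) : SectionalPRankLE 2 4 B := fun K N _ X a b => by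
  let φ := QuotientGroup.quotientKerEquivOfSurjective ((QuotientGroup.mk' N).comp (e.toMonoidHom.subgroupComap K))
    ((QuotientGroup.mk'_surjective N).comp (e.toMonoidHom.subgroupComap_surjective_of_surjective K e.surjective))
  rw [← card_map_of_injective (f := φ.symm.toMonoidHom) φ.symm.injective]
  refine h _ _ _ inferInstance ?_
  rintro _ ⟨a, ha, rfl⟩
  rw [← map_pow, b a ha, map_one]
theorem ocK (s : Function.Surjective ρ) (o : Odd #ρ.ker) (h : oddCore B = ⊥) : Nonempty (A ⧸ oddCore A ≃* B) :=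
  ⟨(QuotientGroup.quotientMulEquivOfEq (le_antisymm ((Subgroup.map_eq_bot_iff _).1 (eq_bot_iff.2 (h ▸ H1.le_oddCore
    (Normal.map inferInstance ρ s) (H1.odd_card_oddCore.of_dvd_nat (card_map_dvd ..))))) (H1.le_oddCore inferInstance o))).trans
    (QuotientGroup.quotientKerEquivOfSurjective ρ s)⟩
theorem oc0 (q : IsQuasisimple B) (c : #(center B) ∣ 4) : oddCore B = ⊥ := by
  have o : Odd #(oddCore B) := H1.odd_card_oddCore
  rcases (H1.isQuasisimple_iff.1 q).2.2 (oddCore B) inferInstance with h | h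
  · exact absurd (h ▸ o) (Nat.not_odd_iff_even.2 (even_iff_two_dvd.2 (H1.two_dvd_of_quasi (H1.isQuasisimple_of_equiv q topEquiv.symm))))
  exact card_eq_one.1 ((Nat.Coprime.pow_right 2 (Nat.coprime_two_right.2 o)).eq_one_of_dvd ((card_dvd_of_le h).trans c))
/-- perfect central extensions with a kernel of odd order -/
theorem cov (p : Group.IsPerfect A) (s : Function.Surjective ρ) (c : ρ.ker ≤ center A) (o : Odd #ρ.ker) (q : IsQuasisimple B)
    (cy : IsCyclic (center B)) (c4 : #(center B) = 4) : IsQuasisimple A ∧ IsCyclic (pCore 2 A) ∧ #(pCore 2 A) = 4 := by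
  obtain ⟨pB, nB, hB⟩ := H1.isQuasisimple_iff.1 q
  have z : ∀ w, ρ w ∈ center B → w ∈ center A := fun w h => mem_center_iff.2 fun g => (mul_inv_eq_iff_eq_mul.1 (DFunLike.congr_fun
    (H23.lift_unique_of_perfect p ρ c (η := (MulAut.conj w).toMonoidHom) (η' := .id _) (MonoidHom.ext fun b => by
      simp [← mem_center_iff.1 h (ρ b)])) g)).symm
  have := Fact.mk Nat.prime_two
  have pg : IsPGroup 2 (pCore 2 A) := H1.pCore_isPGroup
  have l : (pCore 2 A).map ρ ≤ center B := (hB _ (Normal.map inferInstance ρ s)).resolve_left fun e =>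
    H1.Quasisimple.not_isPGroup (H1.isQuasisimple_of_equiv q topEquiv.symm) (e ▸ pg.map ρ)
  have i : Function.Injective ((ρ.comp (pCore 2 A).subtype).codRestrict _ fun x => l ⟨x, x.2, rfl⟩) :=
    (injective_iff_map_eq_one _).2 fun x h => by
      obtain ⟨k, e⟩ := IsPGroup.iff_orderOf.1 pg x
      have := H10.odd_orderOf_of_mem o (show x.1 ∈ ρ.ker from congrArg Subtype.val h)
      rw [orderOf_coe, e] at this
      exact orderOf_eq_one_iff.1 (e.trans ((Nat.Coprime.pow_left k (Nat.coprime_two_left.2 this)).eq_one_of_dvd dvd_rfl))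
  obtain ⟨a, ha⟩ := IsCyclic.exists_ofOrder_eq_natCard (α := center B)
  obtain ⟨w, e⟩ := s a
  have d : 4 ∣ orderOf w := by rw [← c4, ← ha, ← orderOf_coe, ← e]; exact orderOf_map_dvd ..
  have o4 := orderOf_pow_orderOf_div (orderOf_pos w).ne' d
  have m := zpowers_le.2 (pow_mem (z w (e ▸ a.2)) (orderOf w / 4))
  refine ⟨H1.isQuasisimple_iff.2 ⟨p, s.nontrivial, fun N hN => (hB _ (hN.map ρ s)).imp (fun e => ?_) fun e x hx => z x (e ⟨x, hx, rfl⟩)⟩,
    isCyclic_of_injective _ i, Nat.dvd_antisymm (c4 ▸ card_dvd_of_injective _ i) ?_⟩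
  · have := H1.commutator_le_of_sup_centralizer (N := N) (L := ⊤) le_normalizer_of_normal le_top
      (c.trans (center_le_centralizer _)) (by rw [← comap_map_eq, e, comap_top])
    rwa [← _root_.commutator_def, p.commutator_eq_top, top_le_iff] at this
  rw [← o4, ← Nat.card_zpowers]
  exact card_dvd_of_le (H1.le_pCore ⟨fun x h g => by rwa [mem_center_iff.1 (m h) g, mul_inv_cancel_right]⟩
    (IsPGroup.of_card (n := 2) (by rw [Nat.card_zpowers, o4]; rfl)))
theorem su43 {E : Type} [Field E] [Fintype E] (hE : Fintype.card E = 9) :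
    IsQuasisimple (SU 4 E 3) ∧ IsCyclic (center (SU 4 E 3)) ∧ #(center (SU 4 E 3)) = 4 := by
  have hE : Fintype.card E = 3 ^ 2 := hE
  refine ⟨⟨⟨H11.su_perfect hE (by omega) (by omega)⟩, H11.psu_simple hE (by omega) (by omega)⟩, ?_, H11.card_center_SU hE (by omega)⟩
  choose c hc using fun g : center (SU 4 E 3) => (H11.su_mem_center_iff hE (by omega) g.1).1 g.2
  have e : ∀ g, c g = g.1.1.1 0 0 := fun g => by simp [hc]
  refine isCyclic_of_injective_ringHom (R := E) ⟨⟨c, by simp [e]⟩, fun g h => ?_⟩ fun g h e =>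
    Subtype.ext (Subtype.ext (Subtype.ext (by rw [hc, hc]; exact congrArg _ e)))
  exact (e (g * h)).trans (show (g.1.1.1 * h.1.1.1) 0 0 = c g * c h by simp [hc])
end

variable {G : Type u} [Group G] [Finite G] {ι : Γ4 →* G} {t x : G} {X : Subgroup G}

theorem z1 : zz ≠ 1 := mt z_eq1 one_ne_zero
theorem z2 : zz * zz = 1 := a_sq _
theorem nab : ¬ IsMulCommutative Γ4 := fun c => z1 (cen1 fun y => c.1.1 ..)
theorem simL (H : Hyp ι t) : H17.GS.Sim ι.range :=
  have := simple (F := 𝔽)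
  ⟨(MonoidHom.ofInjective H.inj).symm.isSimpleGroup, fun c => z1 (LK H.inj (H19.mem_cent.2 fun g h =>
    congrArg Subtype.val (c.1.1 (⟨g, h⟩ : ι.range) ⟨_, zz, rfl⟩)))⟩
theorem iz (H : Hyp ι t) : ι zz * ι zz = 1 ∧ ι zz ≠ 1 :=
  ⟨by rw [← map_mul, z2, map_one], fun e => z1 (H.inj (e.trans (map_one ι).symm))⟩
theorem cjK (H : Hyp ι t) (hx : x ∈ C(ι.range)) (xx : x * x = 1) (x1 : x ≠ 1) : ∃ g ∈ C(ι.range), g * x * g⁻¹ = t := by
  obtain ⟨T, h, l⟩ := (piG_zpowers.2 (two_of_sq H.tt)).exists_syl (zpowers_le.2 H.tK)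
  have tT := l (mem_zpowers t)
  obtain ⟨z, hz, o⟩ := exists_orderOf_eq_prime Nat.prime_two ((h.pi.infl C(T)).dvd_of_ne_bot (h.pi.center_ne_bot (ne_bot_of_mem tT H.t1)))
  obtain rfl := (H.rk z (h.le hz.1) (by rw [← sq, ← o, pow_orderOf_eq_one]) (hz.2 t tT).symm).resolve_left
    (by rintro rfl; simp at o)
  obtain ⟨g, hg, k⟩ := h.scj_le (zpowers_le.2 hx) (piG_zpowers.2 (two_of_sq xx))
  have m := k (conj_mem_cj.2 (mem_zpowers x))
  exact ⟨g, hg, (H.rk _ (h.le m) (by rw [conj_mul, xx]; simp) (hz.2 _ m)).resolve_left (by simpa using x1)⟩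
/-- `L` is a standard subgroup -/
theorem std (H : Hyp ι t) : IsStandardSubgroup ι.range := by
  have nK : ∀ {x g}, x ∈ C(ι.range) → x * x = 1 → x ≠ 1 → g * x * g⁻¹ ∈ C(ι.range) → g ∈ N(ι.range) := fun {x g} hs ss s1 k => by
    obtain ⟨n, hn, e⟩ := cjK H hs ss s1
    obtain ⟨m, hm, e'⟩ := cjK H k (by rw [conj_mul, ss]; simp) (by simpa using s1)
    exact (mul_mem_cancel_left (cent_le_norm _ hm)).1 ((mul_mem_cancel_right (inv_mem (cent_le_norm _ hn))).1 (H.nor (mem_cent1.2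
      (mul_inv_eq_iff_eq_mul.1 (by nth_rw 1 [← e]; rw [← e']; group)))))
  refine ⟨(simL H).qs, ⟨even_iff_two_dvd.2 (H1.SR.ord2 H.tt H.t1 ▸ orderOf_dvd_card' H.tK), fun g hg => Nat.not_even_iff_odd.1 fun k => ?_⟩,
    fun g _ k => ?_, le_antisymm (norm_le_norm_cent _) fun g hg => nK H.tK H.tt H.t1 (conj_mem_of_norm hg H.tK)⟩
  · obtain ⟨x, hx, e⟩ := exists_orderOf_eq_prime Nat.prime_two k.two_dvd
    obtain ⟨x, h, rfl⟩ := mem_cj'.1 hx.2
    rw [show orderOf (g * x * g⁻¹) = orderOf x from (MulAut.conj g).orderOf_eq x] at e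
    exact hg (norm_le_norm_cent _ (nK h (by rw [← sq, ← e, pow_orderOf_eq_one]) (by rintro rfl; simp at e) hx.1))
  have k : ∀ a, g * ι a * g⁻¹ ∈ C(ι.range) := fun a => cents_symm (commg_eq_bot.1 k) (conj_mem_cj.2 ⟨a, rfl⟩)
  obtain ⟨m, hm, h⟩ := cjK H (k zz) (by rw [conj_mul, (iz H).1]; simp) (by simpa using (iz H).2)
  rcases H.rk (m * (g * ι v0 * g⁻¹) * m⁻¹) (mul_mem (mul_mem hm (k _)) (inv_mem hm))
    (by rw [conj_mul, conj_mul, ← map_mul, show v0 * v0 = 1 from a_sq _]; simp)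
    (by rw [← h, conj_mul, conj_mul, conj_mul, conj_mul, ← map_mul, ← map_mul, show v0 * zz = zz * v0 from a_comm ..]) with h' | h'
  · exact absurd (H.inj (by simpa using h' : ι v0 = ι 1)) (by decide +kernel)
  · exact absurd (H.inj (by simpa using h'.trans h.symm : ι v0 = ι zz)) (by decide +kernel)
/-- the hypothesis passes to the quotient -/
theorem quo (H : Hyp ι t) {O : Subgroup G} [O.Normal] (hO : Odd #O) : Hyp ((QuotientGroup.mk' O).comp ι) (QuotientGroup.mk' O t) := by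
  have := simple (F := 𝔽)
  refine ⟨H1.SR.inj hO z2 z1 H.inj, by rw [← map_mul, H.tt, map_one],
    fun k => H.t1 (H1.SR.sq_one hO ((QuotientGroup.eq_one_iff _).1 k) H.tt),
    fun x => by rw [MonoidHom.comp_apply, ← map_mul, ← map_mul, H.cen], fun k hk => ?_, fun k hk kk kt => ?_⟩
  · obtain ⟨g, hg, rfl⟩ := H1.SR.lift' hO H.tt hk
    rw [MonoidHom.range_comp]
    exact le_normalizer_map _ ⟨g, H.nor hg, rfl⟩
  · obtain ⟨g, hg, rfl⟩ := H1.SR.lift' hO H.tt (mem_cent1.2 kt)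
    have o := H10.odd_orderOf_of_mem hO ((QuotientGroup.eq_one_iff (g * g)).1 kk)
    rw [← odd_pow kk o, ← map_pow]
    exact (H.rk _ (pow_mem (H1.SR.cent hO z2 z1 H.inj (H.nor hg) hk) _)
      (by rw [← (Commute.refl g).mul_pow, pow_orderOf_eq_one]) (Commute.pow_left (mem_cent1.1 hg) _)).imp
      (fun e => by rw [e, map_one]) fun e => by rw [e]

/-- `t` is fused to `t z` in `C(z)` -/
def Fu (ι : Γ4 →* G) (t : G) : Prop := ∃ d, d * t * d⁻¹ = t * ι zz ∧ d * ι zz = ι zz * d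
/-- the main theorem in `X⟨t⟩` -/
theorem sub (mt : MT.{u}) (H : Hyp ι t) [X.Normal] (s : IsSimpleGroup X) (l : ι.range ≤ X) (ne : ι.range ≠ X) :
    Rk X ∨ Fu ι t ∧ (Nonempty (X ≃* ProjectiveSpecialLinearGroup (Fin 4) 𝔽) ∨ (∃ s, Ou ι t s) ∧ Fo ι X) := by
  let Y := X ⊔ zpowers t
  let j : Γ4 →* Y := ι.codRestrict Y fun x => mem_sup_left (l ⟨x, rfl⟩)
  let e := subgroupOfEquivOfLe (le_sup_left : X ≤ Y)
  have k : (X.subgroupOf Y ⊓ C[j zz]).map Y.subtype = X ⊓ C[ι zz] := le_antisymm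
    (by rintro _ ⟨g, h, rfl⟩; exact ⟨h.1, mem_cent1.2 (congrArg Subtype.val (mem_cent1.1 h.2))⟩)
    fun g h => ⟨⟨g, mem_sup_left h.1⟩, ⟨h.1, mem_cent1.2 (Subtype.ext (mem_cent1.1 h.2))⟩, rfl⟩
  refine (mt Y j ⟨t, mem_sup_right (mem_zpowers t)⟩ (X.subgroupOf Y) ⟨⟨fun a b h => H.inj (congrArg Subtype.val h), Subtype.ext H.tt,
    fun h => H.t1 (congrArg Subtype.val h), fun x => Subtype.ext (H.cen x), fun g h => mem_norm_of ?_, fun k hk kk kt => (H.rk k
      (H19.mem_cent.2 ?_) (congrArg Subtype.val kk) (congrArg Subtype.val kt)).imp Subtype.ext Subtype.ext⟩, inferInstance, e.isSimpleGroup,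
      ?_, fun g => ?_, fun h => ne (le_antisymm l fun g hg => ?_)⟩).imp (fun r => secE r e)
    fun ⟨⟨d, d1, d2⟩, h⟩ => ⟨⟨d, congrArg Subtype.val d1, congrArg Subtype.val d2⟩, h.imp (fun ⟨a⟩ => ⟨e.symm.trans a⟩)
      fun ⟨⟨s, h⟩, m, E, _, _, c, ⟨a⟩⟩ => ⟨⟨s, congrArg Subtype.val h.ct, fun x => congrArg Subtype.val (h.ac x)⟩,
        by rw [← k, ← map_commutator]; exact ⟨_, m, rfl⟩, E, _, _, c,
        ⟨by rw [← k, ← map_commutator]; exact (equivMapOfInjective _ _ Y.subtype_injective).symm.trans a⟩⟩⟩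
  · rintro _ ⟨x, rfl⟩
    obtain ⟨y, p⟩ := conj_mem_of_norm (H.nor (mem_cent1.2 (congrArg Subtype.val (mem_cent1.1 h)))) ⟨x, rfl⟩
    exact ⟨y, Subtype.ext p⟩
  · rintro _ ⟨x, rfl⟩
    exact congrArg Subtype.val (H19.mem_cent.1 hk _ ⟨x, rfl⟩)
  · rintro _ ⟨x, rfl⟩
    exact l ⟨x, rfl⟩
  · obtain ⟨a, ha, b, hb, p⟩ := (mem_sup_of_norm le_normalizer_of_normal).1 g.2
    rcases (mem_zp H.tt).1 hb with rfl | rfl
    · exact .inl (mem_subgroupOf.2 (by rwa [p, mul_one]))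
    · exact .inr (mem_subgroupOf.2 (by rwa [coe_mul, p, mul_assoc, H.tt, mul_one]))
  · obtain ⟨x, p⟩ := h.ge (show (⟨g, mem_sup_left hg⟩ : Y) ∈ X.subgroupOf Y from hg)
    exact ⟨x, congrArg Subtype.val p⟩

/-- the core-free case -/
theorem lay (mt : MT.{u}) (rk : SectionalPRankLE 2 4 Γ4) (H : Hyp ι t) (hO : oddCore G = ⊥)
    (hX : X = normalClosure (ι.range : Set G)) : H17.GS.Sim X ∧ Rk X ∨ Fu ι t ∧
      (Nonempty (X ≃* ProjectiveSpecialLinearGroup (Fin 4) 𝔽) ∨ Nonempty (X ≃* Γ4 × Γ4) ∨ (∃ s, Ou ι t s) ∧ Fo ι X) := by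
  have : X.Normal := hX ▸ inferInstance
  have h1 : ι.range ≤ X := hX ▸ le_normalClosure
  by_cases ne : ι.range = X
  · exact .inl (ne ▸ ⟨simL H, secE rk (MonoidHom.ofInjective H.inj)⟩)
  have h2 : X ≤ layer G := hX ▸ normalClosure_le_normal (H1.pLayer_eq_layer (p := 2) hO ▸ H1.pc_le_pLayer (by rw [pow_two, H.tt])
    (H1.Std.pc (std H) H.tK (H1.SR.ord2 H.tt H.t1)))
  have nc : ¬ X ≤ C(X) := fun k => (simL H).nab ⟨⟨fun a b => Subtype.ext (k (h1 b.2) _ (h1 a.2))⟩⟩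
  rcases (Agent.S1347.result _ (std H) hO t (H1.SR.ord2 H.tt H.t1) H.tK).resolve_left fun n =>
    ne (hX ▸ (normalClosure_eq_self _).symm) with ⟨Y, si, na, ⟨e⟩, c, i, E, -⟩ | ⟨-, si, na⟩
  · have hc : ∀ (m : Y) (n : Y.map (MulAut.conj t).toMonoidHom), Commute (Y.subtype m) (Subgroup.subtype _ n) :=
      fun m n => c m m.2 n n.2
    have c' : cj t Y ≤ N(Y) := (cent_le_norm _).trans' fun b hb a ha => c a ha b hb
    have tX : cj t X = X := cj_of_mem_norm (le_normalizer_of_normal (mem_top t))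
    have l : Y ≤ X := inf_eq_right.1 (((⟨si, na⟩ : H17.GS.Sim Y).cases inf_le_right
      (norms_inf le_normalizer_of_normal le_normalizer)).resolve_left fun k => nc (by
        have k1 : X ≤ C(Y) := cents_of_norms_disjoint le_normalizer_of_normal (h2.trans (E.ge.trans (sup_le le_normalizer c'))) k
        exact (cent_mono (h2.trans E.ge)).trans' (cents_symm (sup_le (cents_symm k1) (cents_symm (by
          change X ≤ C(cj t Y); rw [← cj_cent, ← tX]; exact cj_mono t k1))))))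
    obtain rfl : X = _ := le_antisymm (h2.trans E.ge) (sup_le l ((cj_mono t l).trans tX.le))
    have e' := e.trans (MonoidHom.ofInjective H.inj).symm
    refine .inr ⟨?_, .inr (.inl ⟨((MonoidHom.ofInjective ((MonoidHom.noncommCoprod_injective _ _ hc).2 ⟨Y.subtype_injective,
      subtype_injective _, by rw [range_subtype, range_subtype]; exact disjoint_iff.2 i⟩)).trans (MulEquiv.subgroupCongr (by
        rw [MonoidHom.noncommCoprod_range, range_subtype, range_subtype]))).symm.trans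
      (e'.prodCongr ((cjEquiv t Y).symm.trans e'))⟩)⟩
    obtain ⟨a, ha, _, hb', p⟩ := (mem_sup_of_norm c').1 (h1 ⟨zz, rfl⟩)
    obtain ⟨b, hb, rfl⟩ := mem_cj'.1 hb'
    have cm : ∀ a ∈ Y, ∀ b ∈ Y, a * (t * b * t⁻¹) = t * b * t⁻¹ * a := fun a ha b hb => c a ha _ (conj_mem_cj.2 hb)
    have dj : ∀ a ∈ Y, ∀ b ∈ Y, a = t * b * t⁻¹ → a = 1 := fun a ha b hb e => mem_bot.1 (i.le ⟨ha, e ▸ conj_mem_cj.2 hb⟩)
    have tt : ∀ g, t * (t * g * t⁻¹) * t⁻¹ = g := fun g => by rw [← cj2, H.tt, one_mul, inv_one, mul_one]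
    have q : a * (t * b * t⁻¹) = b * (t * a * t⁻¹) := by
      rw [cm b hb a ha, ← p, ← mul_inv_cancel_right (ι zz) t, ← H.cen, p, ← conj_mul, tt]
    obtain rfl : b = a := (inv_mul_eq_one.1 (dj _ (mul_mem (inv_mem hb) ha) _ (mul_mem ha (inv_mem hb)) (by
      rw [inv_mul_eq_iff_eq_mul, ← conj_mul, ← mul_assoc, ← q, ← conj_inv, mul_inv_cancel_right])))
    have aa : b * b = 1 := dj _ (mul_mem ha ha) _ (inv_mem (mul_mem ha ha)) (by
      rw [conj_inv.symm, eq_inv_iff_mul_eq_one, ← (iz H).1, p, ← conj_mul]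
      exact ((show Commute b _ from cm b ha b ha).symm.mul_mul_mul_comm ..).symm)
    refine ⟨b, ?_, by rw [p, ← mul_assoc, mul_assoc b (t * b * t⁻¹), ← cm b ha b ha, mul_assoc]⟩
    rw [p, cm b ha b ha, ← mul_assoc, ← mul_assoc, ← mul_assoc, H.tt, one_mul, H.tinv, inv_eq_of_mul_eq_one_right aa]
  have sim : H17.GS.Sim (layer G) := ⟨si, na⟩
  obtain rfl := (sim.cases h2 le_normalizer_of_normal).resolve_left fun k => nc (k ▸ bot_le)
  exact (sub mt H si h1 ne).imp (fun r => ⟨sim, r⟩) fun h => ⟨h.1, h.2.imp_right .inr⟩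

end H24.G38
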