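/-
Standard `U₄(2)` (S3138): the reduction, part two.
-/
import Cfsg.Agent.H24.G38a
import Cfsg.Agent.H17.FX0

set_option autoImplicit false
set_option linter.unusedSectionVars false

namespace H24.G38
open Cfsg Subgroup H19 H28.CY H18.U2 H18.G38 Matrix
universe u v

variable {G : Type u} [Group G] [Finite G] {ι : Γ4 →* G} {g s t x : G} {X : Subgroup G} {σ τ : 𝔽 ≃+* 𝔽}

/-- the local conclusion -/
def Kp (z : G) : Prop := ∃ K : Subgroup G, K ≤ centralizer ({z} : Set G) ∧ IsQuasisimple K ∧ z ∈ K ∧ IsCyclic (pCore 2 K) ∧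
  Nat.card (pCore 2 K) = 4 ∧ (∃ (E : Type) (_ : Field E) (_ : Fintype E), Fintype.card E = 9 ∧ Nonempty ((K ⧸ oddCore K) ≃* SU 4 E 3)) ∧
    ⁅K, centralizerPPrimeCore 2 z⁆ = ⊥

theorem kp {O : Subgroup G} [O.Normal] (hO : Odd #O) [X.Normal] (c : X ≤ C(O)) (xX : x ∈ X) (xx : x * x = 1) {Y : Subgroup (G ⧸ O)}
    (hY : Y = X.map (QuotientGroup.mk' O) ⊓ C[QuotientGroup.mk' O x]) (m : QuotientGroup.mk' O x ∈ ⁅Y, Y⁆) {E : Type} [Field E]
    [Fintype E] (hE : Fintype.card E = 9) (e : (⁅Y, Y⁆ : Subgroup _) ≃* SU 4 E 3) : Kp x := by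
  obtain ⟨q, cy, c4⟩ := su43 hE
  let π := QuotientGroup.mk' O
  have hD : (X ⊓ C[x]).map π = Y := hY ▸ le_antisymm (by
      rintro _ ⟨g, h, rfl⟩
      exact ⟨⟨g, h.1, rfl⟩, mem_cent1.2 (by rw [← map_mul, mem_cent1.1 h.2, map_mul])⟩) (by
    rintro _ ⟨⟨g, h, rfl⟩, k⟩
    have o : g * x * g⁻¹ * x⁻¹ ∈ O := (QuotientGroup.eq_one_iff _).1 (by
      change π _ = 1
      rw [map_mul, map_mul, map_mul, mem_cent1.1 k]; simp [π])
    have i := H10.inverts_commutator (k := g) xx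
    rw [← H19.mem_cent.1 (c xX) _ o, mul_inv_cancel_right, eq_inv_iff_mul_eq_one] at i
    exact ⟨g, ⟨h, mem_cent1.2 (mul_inv_eq_iff_eq_mul.1 (mul_inv_eq_one.1 (H1.SR.sq_one hO o i)))⟩, rfl⟩)
  generalize hD' : X ⊓ C[x] = D at hD
  have nD : C[x] ≤ N(D) := hD' ▸ norms_inf le_normalizer_of_normal le_normalizer
  have lD : D ≤ X ⊓ C[x] := hD'.ge
  have p := H1.Quasisimple.perfect (H1.isQuasisimple_of_equiv q e.symm)
  generalize h0 : ⁅D, D⁆ = K0
  have n0 : C[x] ≤ N(K0) := h0 ▸ norms_der nD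
  have l0 : K0 ≤ X ⊓ C[x] := h0.ge.trans ((commutator_le_self _).trans lD)
  have m0 : K0.map π = ⁅Y, Y⁆ := by rw [← h0, map_commutator, hD]
  have m1 : ⁅K0, K0⁆.map π = ⁅Y, Y⁆ := by rw [map_commutator, m0, p]
  have l1 := commutator_le_self K0
  have p1 : ⁅⁅K0, K0⁆, ⁅K0, K0⁆⁆ = ⁅K0, K0⁆ := le_antisymm (commutator_le_self _) (H1.commutator_le_of_sup_centralizer (Z := O ⊓ X)
    (norms_der (norms_der le_normalizer))
    ((commutator_le_self _).trans l1) (inf_le_left.trans (cents_symm ((l0.trans inf_le_left).trans c))) fun g h => by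
      obtain ⟨k, hk, e⟩ : π g ∈ ⁅⁅K0, K0⁆, ⁅K0, K0⁆⁆.map π := by rw [map_commutator, m1, p, ← m0]; exact ⟨g, h, rfl⟩
      rw [← mul_inv_cancel_left k g]
      exact mul_mem_sup hk ⟨QuotientGroup.eq.1 e, X.mul_mem (X.inv_mem (l0 (l1 (commutator_le_self _ hk))).1) (l0 h).1⟩)
  have n1 := norms_der n0
  generalize ⁅K0, K0⁆ = K at m1 l1 p1 n1
  let ρ := e.toMonoidHom.comp ((π.comp K.subtype).codRestrict _ fun k => m1.le ⟨k, k.2, rfl⟩)
  have s : Function.Surjective ρ := e.surjective.comp fun y => let ⟨k, h, e⟩ := m1.ge y.2; ⟨⟨k, h⟩, Subtype.ext e⟩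
  have k : ρ.ker ≤ O.subgroupOf K := fun k h => (QuotientGroup.eq_one_iff k.1).1 (congrArg Subtype.val (e.map_eq_one_iff.1 h))
  have cK : K ≤ C(O) := (l1.trans (l0.trans inf_le_left)).trans c
  have o : Odd #ρ.ker := hO.of_dvd_nat ((card_dvd_of_le k).trans (card_comap_dvd_of_injective _ _ K.subtype_injective))
  obtain ⟨q', r⟩ := cov (isPerfect_iff.2 p1) s (fun a h => mem_center_iff.2 fun b => Subtype.ext (cK b.2 _ (k h)).symm) o q cy c4
  have lK := l1.trans (l0.trans inf_le_right)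
  refine ⟨K, lK, q', H1.SR.inv_mem' hO cK (by rw [← QuotientGroup.ker_mk' O, ← comap_map_eq, mem_comap, m1]; exact m) xx, r.1, r.2,
    ⟨E, _, _, hE, ocK s o (oc0 q c4.dvd)⟩, commg_eq_bot.2 (cents_symm (H1.quasi_cents_odd q' (.of_le_normalizer lK n1)
      ⟨map_subtype_le _, H1.le_normalizer_map_subtype _⟩ (H17.GS.og_iff.2 ?_)))⟩
  rw [centralizerPPrimeCore, card_map_of_injective (subtype_injective _)]
  exact H1.odd_card_oddCore

theorem uq (i : Function.Injective ι) (h : Ac ι g σ) (h' : Ac ι g τ) : σ = τ :=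
  let ⟨_, p⟩ := h.mul h'.inv; mul_inv_eq_one.1 (cA fun y => i ((p _).symm.trans (by simp))).1
theorem k01 (c : K 𝔽) : c = 0 ∨ c = 1 := (show ∀ a : 𝔽, star a = a → a = 0 ∨ a = 1 by decide +kernel) c c.2 |>.imp kext kext
theorem idx (H : Hyp ι t) (o : Ou ι t s) : (ι.range ⊔ C(ι.range)).relIndex N(ι.range) = 2 := by
  have m : ∀ g, g ∈ ι.range ⊔ C(ι.range) ↔ Ac ι g 1 := fun g => ⟨fun h => by
    obtain ⟨_, ⟨a, rfl⟩, b, hb, rfl⟩ := (mem_sup_of_norm (cent_le_norm _)).1 h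
    simpa using (Ac.self ι a).mul (Ac.cent hb), fun h => let ⟨a, b, hb, e⟩ := h.one; e ▸ mul_mem_sup ⟨a, rfl⟩ hb⟩
  have a : Ac ι s st := ⟨1, fun x => by rw [o.ac, one_mul, inv_one, mul_one]⟩
  have n : (st : 𝔽 ≃+* 𝔽) ≠ 1 := fun e => let ⟨θ, h⟩ := ex_ne (F := 𝔽); h (DFunLike.congr_fun e θ)
  refine relIndex_eq_two_iff.2 ⟨s, H.nor (mem_cent1.2 o.ct), fun b hb => ?_⟩
  obtain ⟨σ, h⟩ := exA H.inj hb
  rw [m, m]
  rcases sq_one (fix_K (σ := σ) fun c => by rcases k01 c with rfl | rfl <;> simp) with rfl | rfl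
  · exact .inr ⟨h, fun k => n (by simpa using uq H.inj (h.mul a) k)⟩
  · exact .inl ⟨(show (st : 𝔽 ≃+* 𝔽) * st = 1 from RingEquiv.ext star_star) ▸ h.mul a, fun k => n (uq H.inj h k)⟩

theorem main (mt : MT.{u}) (rk : SectionalPRankLE 2 4 Γ4) (H : Hyp ι t) (hX : X = normalClosure (ι.range : Set G)) :
    (IsSimpleGroup (X ⧸ oddCore X) ∧ ¬ IsMulCommutative (X ⧸ oddCore X) ∧ SectionalPRankLE 2 4 (X ⧸ oddCore X)) ∨
      Nonempty (X ≃* ProjectiveSpecialLinearGroup (Fin 4) 𝔽) ∨ Nonempty (X ≃* Γ4 × Γ4) ∨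
      ((ι.range ⊔ C(ι.range)).relIndex N(ι.range) = 2 ∧ Kp (ι zz)) := by
  have := simple (F := 𝔽)
  let π := QuotientGroup.mk' (oddCore G)
  have hπ := QuotientGroup.mk'_surjective (oddCore G)
  have hO : Odd #(oddCore G) := H1.odd_card_oddCore
  have H' := quo H hO
  have : X.Normal := hX ▸ inferInstance
  have l : ι.range ≤ X := hX ▸ le_normalClosure
  have k : (π.subgroupMap X).ker ≤ (oddCore G).subgroupOf X := fun x h => (QuotientGroup.eq_one_iff x.1).1 (congrArg Subtype.val h)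
  have o : Odd #(π.subgroupMap X).ker := hO.of_dvd_nat ((card_dvd_of_le k).trans (card_comap_dvd_of_injective _ _ X.subtype_injective))
  rcases lay (X := X.map π) mt rk H' H1.pPrimeCore_quotient_pPrimeCore (by
    rw [hX, map_normalClosure _ _ hπ, ← coe_map, ← MonoidHom.range_comp]) with ⟨s, r⟩ | ⟨⟨d, d1, d2⟩, h⟩
  · have := s.simple
    obtain ⟨e⟩ := ocK (π.subgroupMap_surjective X) o (oc0 s.qs (by
      rw [((inferInstance : (center (X.map π)).Normal).eq_bot_or_eq_top).resolve_right fun h => s.nab (center_eq_top_iff.1 h)]; simp))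
    exact .inl ⟨e.isSimpleGroup, fun c => s.nab ⟨⟨fun a b => e.symm.injective (by rw [map_mul, map_mul, c.1.1])⟩⟩, secE r e.symm⟩
  obtain ⟨d, hd, rfl⟩ := H1.SR.lift' hO (iz H).1 (mem_cent1.2 d2)
  have w2 : t * ι zz * (t * ι zz) = 1 := by rw [mul_assoc, ← mul_assoc (ι zz), ← H.cen, mul_assoc, (iz H).1, mul_one, H.tt]
  have u2 : d * t * d⁻¹ * (d * t * d⁻¹) = 1 := by rw [conj_mul, H.tt]; simp
  obtain ⟨y, hy, -, -, p⟩ := H10.exists_sqrt_inverted (z := t * ι zz) (x := d * t * d⁻¹ * (t * ι zz)⁻¹)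
    (H10.odd_orderOf_of_mem hO ((QuotientGroup.eq_one_iff _).1 (by
      change π _ = 1
      rw [map_mul, map_mul, map_mul, map_inv, d1, map_inv, map_mul]; exact mul_inv_cancel _)))
    (by rw [_root_.mul_inv_rev (d * t * d⁻¹), inv_inv, inv_eq_of_mul_eq_one_right u2, inv_eq_of_mul_eq_one_right w2, mul_assoc,
      mul_assoc (d * t * d⁻¹), w2, mul_one])
  have tz : t ∈ C[ι zz] := mem_cent1.2 (H.cen _)
  have c : X ≤ C(oddCore G) := hX ▸ H1.SR.core hO z2 z1 H.inj H.tt H.t1 H.tK H.nor (k := y⁻¹ * d)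
    (by rw [cj2, ← mul_right_cancel p]; group) (mem_cent1.1 (mul_mem (inv_mem (zpowers_le.2 (mul_mem (mul_mem (mul_mem hd tz) (inv_mem hd))
      (inv_mem (mul_mem tz (mem_cent1.2 rfl)))) hy)) hd)) (H.tL _).symm
  have σ := H23.stem_of_perfect (isPerfect_iff.2 (le_antisymm (commutator_le_self _) (hX.le.trans (normalClosure_le_normal
    ((H1.Quasisimple.perfect (simL H).qs).ge.trans (commutator_mono l l)))))) (π.subgroupMap_surjective X)
    fun x h => mem_center_iff.2 fun y => Subtype.ext (c y.2 _ (k h)).symm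
  have f : ∀ {Y A : Type} [Group Y] [CommGroup A], HasSchurMultiplier Y A → Nat.card A ∣ 4 → X.map π ≃* Y → Nonempty (X ≃* Y) :=
    fun h d e => have s := H23.isStem_equiv_comp σ e
      ⟨.ofBijective _ ⟨stem h s (((Nat.coprime_two_right.2 (o.of_dvd_nat (card_dvd_of_le fun x h =>
        e.map_eq_one_iff.1 h))).pow_right 2).coprime_dvd_right d), s.1⟩⟩
  have c4 : Nat.card 𝔽 = 4 := H15.GC.F4.ncard
  rcases h with ⟨⟨e⟩⟩ | ⟨⟨e⟩⟩ | ⟨⟨s, h⟩, m, E, _, _, hE, ⟨e⟩⟩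
  · let _ := Fintype.ofFinite 𝔽
    exact .inr (.inl (f (Agent.S2086.result (Nat.card_eq_fintype_card.symm.trans c4) 4 (by omega) (by omega) (by simp)) (by simp) e))
  · have : Subsingleton (H23.TT Γ4 Γ4) := H23.tt_subsingleton (by
      rw [show Nat.card (Abelianization Γ4) = 1 from index_eq_one.2 (H1.isQuasisimple_of_isSimpleGroup nab).1.commutator_eq_top]; simp)
    exact .inr (.inr (.inl (f (H23.hasSchur_prod (schur c4) (schur c4)) (by simp) e)))
  obtain ⟨s, hs, rfl⟩ := H1.SR.lift' hO H.tt (mem_cent1.2 h.ct)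
  refine .inr (.inr (.inr ⟨idx H (s := s) ⟨mem_cent1.1 hs, fun x => ?_⟩, kp hO c (l ⟨_, rfl⟩) (iz H).1 rfl m hE e⟩))
  obtain ⟨y, p⟩ := conj_mem_of_norm (H.nor hs) ⟨x, rfl⟩
  rw [← p, H'.inj (show π (ι y) = π (ι (φ st x)) by rw [p, map_mul, map_mul, map_inv]; exact h.ac x)]

theorem cK : Nat.card (K 𝔽) = 2 := Nat.pow_left_injective two_ne_zero ((cardK (F := 𝔽)).symm.trans H15.GC.F4.ncard)
theorem c16 {β : 𝔽} (h : β ≠ 0) (y : Hm 𝔽) : #(U 𝔽 ⊓ C[up β y]) ≤ 16 := by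
  choose f g e using fun x : (U 𝔽 ⊓ C[up β y] : Subgroup _) => x.2.1
  have k : ∀ x, act β (g x) + y = act (f x) y + g x := fun x => (up_inj ((up_mul ..).symm.trans
    ((e x ▸ mem_cent1.1 x.2.2 :).trans (up_mul ..)))).2
  refine (Nat.card_le_card_of_injective (fun x => (f x, (g x).1, tr (H15.GC.ω * (star β * (g x).2.1)))) fun a b p => ?_).trans_eq
    (by simp only [Nat.card_prod, cK, H15.GC.F4.ncard])
  obtain ⟨p1, p2, p3⟩ : f a = f b ∧ (g a).1 = (g b).1 ∧ _ := by simpa using p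
  have q : act β (g a) + g a = act β (g b) + g b := by
    have := k b
    rw [← p1] at this
    rw [eq_sub_of_add_eq (k a), eq_sub_of_add_eq this, sub_add_eq_add_sub, sub_add_eq_add_sub, add_assoc, add_assoc, yy, yy]
  have q3 : (g a).2.2 = (g b).2.2 := kext (mul_left_cancel₀ h (by
    have := congrArg (·.2.1) q
    simp only [act, Prod.snd_add, Prod.fst_add] at this
    linear_combination this - H18.U2.aa (g a).2.1 + H18.U2.aa (g b).2.1))
  have q1 : tr (star β * (g a).2.1) = tr (star β * (g b).2.1) := by simpa [act, p2, q3] using congrArg (·.1) q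
  have q2 := mul_left_cancel₀ (star_ne_zero.2 h) ((show ∀ a b : 𝔽, a + star a = b + star b →
    H15.GC.ω * a + star (H15.GC.ω * a) = H15.GC.ω * b + star (H15.GC.ω * b) → a = b by decide +kernel) _ _
      (congrArg Subtype.val q1) (congrArg Subtype.val p3))
  exact Subtype.ext (by rw [e, e, p1, show g a = g b from Prod.ext p2 (Prod.ext q2 q3)])
/-- `U₄(2)` has sectional 2-rank four -/
theorem rk4 : SectionalPRankLE 2 4 Γ4 := H17.FX.sec_of_bk syl_U fun H M l _ s => by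
  by_cases h : H ≤ As 𝔽
  · refine H17.FX.bk_card ((Nat.card_le_card_of_surjective (fun y : Hm 𝔽 => (⟨_, aA y⟩ : As 𝔽)) fun ⟨_, y, e⟩ =>
      ⟨y, Subtype.ext e.symm⟩).trans_eq (by simp only [Nat.card_prod, cK, H15.GC.F4.ncard])) H M h ‹_› s
  obtain ⟨x, hx, n⟩ := SetLike.not_le_iff_exists.1 h
  obtain ⟨β, y, rfl⟩ := l hx
  exact H17.FX.t1 s hx ((card_le (inf_le_inf_right _ l)).trans (c16 (by rintro rfl; exact n (aA y)) y))

/-- the reduction -/
theorem red : RED.{u, v} := by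
  intro mt G _ _ L hL F _ _ hF ⟨a⟩ hR
  let _ := Fintype.ofFinite 𝔽
  have c4 : Fintype.card 𝔽 = (2 ^ 1) ^ 2 := Nat.card_eq_fintype_card.symm.trans H15.GC.F4.ncard
  obtain ⟨b1, -⟩ := ex_su c4
  obtain ⟨b2, -⟩ := ex_psu c4
  have r := FiniteField.ringEquivOfCardEq (c4.trans hF.symm)
  have b := ((b1.trans b2).trans (H11.psuCongr 4 2 r)).trans a.symm
  obtain ⟨t, tt, t1, tK, nor, h⟩ := H1.SR.setup hL hR
  have M : ∀ b : Γ4 ≃* L, _ := fun b => by
    have e : (L.subtype.comp b.toMonoidHom).range = L := by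
      rw [MonoidHom.range_comp, MonoidHom.range_eq_top.2 b.surjective, ← MonoidHom.range_eq_map, range_subtype]
    have := main (X := normalClosure L) mt rk4 (t := t) ⟨L.subtype_injective.comp b.injective, tt, t1, fun x => (H19.mem_cent.1 tK _ (b x).2).symm,
      e.symm ▸ nor, e.symm ▸ h⟩ (by rw [e])
    rw [e] at this
    exact this
  refine or_iff_not_imp_left.2 fun n1 => or_iff_not_imp_left.2 fun n2 => or_iff_not_imp_left.2 fun n3 => ?_
  have M := fun b => (((M b).resolve_left n1).resolve_left fun ⟨e⟩ => n2 ⟨e.trans (H11.pslCongr (.refl _) r)⟩).resolve_left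
    fun ⟨e⟩ => n3 ⟨e.trans (b.prodCongr b)⟩
  refine ⟨(M b).1, fun z ⟨o, P, hz, c⟩ => ?_⟩
  have := Fact.mk Nat.prime_two
  obtain ⟨g, -, e⟩ := (map_top_of_surjective b.symm.toMonoidHom b.symm.surjective ▸ (syl_sylow_top P).map b.symm.toMonoidHom).sconj syl_U
  obtain ⟨α, p⟩ := ZU (e.le (conj_mem_cj.2 ⟨z, hz, rfl⟩)) (by
    rw [← e, ← cj_cent]
    refine conj_mem_cj.2 (H19.mem_cent.2 ?_)
    rintro _ ⟨x, hx, rfl⟩
    rw [← map_mul, c x hx, map_mul])
  obtain rfl : α = 1 := (k01 α).resolve_left fun k => by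
    rw [k, z_0, conj_eq_one_iff] at p
    simp [b.symm.map_eq_one_iff.1 p] at o
  have q : b (g⁻¹ * zz * g⁻¹⁻¹) = z := b.symm.injective (by simp [← p, mul_assoc])
  obtain ⟨K, k1, k2, k3, k4, k5, k6, k7⟩ : Kp (z : G) := q ▸ (M ((MulAut.conj g⁻¹).trans b)).2
  exact ⟨K, k1, k2, k3, k4, k5, .inl k6, k7⟩

end H24.G38
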