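/-
Standard `U₄(2)` (S3138): the chunks BC, QL.
-/
import Cfsg.Agent.H24.G38c

set_option autoImplicit false
set_option linter.unusedSectionVars false

namespace H24.G38
open Cfsg Subgroup H19 H28.CY H18.U2 H18.G38 Matrix
open H15.GC (ω ν)
universe u
variable {G : Type u} [Group G] [Finite G] {ι : Γ4 →* G} {a b c d g h k n o s t u w x y : G} {A B C K M P R S X Y : Subgroup G}
  {f f' : Hm 𝔽 → Hm 𝔽} {p p' : Hm 𝔽} {l : Γ4}

/-- the elements of `⟨t⟩ V` -/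
def ae (ι : Γ4 →* G) (t : G) (ε : Bool) (y : Hm 𝔽) : G := cond ε t 1 * ι (up 0 y)
theorem ae_t (H : Hyp ι t) (ε y) : ae ι t ε y ∈ C[t] := mul_mem (by cases ε; exacts [one_mem _, mem_cent1_self t]) (H.LC _)
theorem ae_z (H : Hyp ι t) (ε y) : ae ι t ε y ∈ C[ι zz] :=
  mul_mem (by cases ε; exacts [one_mem _, mem_cent1.2 (H.cen _)]) (mem_cent1.2 (by rw [← map_mul, a_comm, map_mul]))
theorem ae_sq (H : Hyp ι t) (ε y) : ae ι t ε y * ae ι t ε y = 1 := by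
  cases ε
  · simpa [ae] using ia2 y
  · rw [ae, cond_true, mul_assoc, ← mul_assoc (ι _), ← H.cen, mul_assoc, ia2, mul_one, H.tt]
theorem Aa.df (h : Aa ι t g f p) (ε y) : (g * ae ι t ε y * g⁻¹)⁻¹ * ae ι t ε y = ι (up 0 (cond ε p 0 + f y + y)) := by
  cases ε
  · simp only [ae, cond_false, one_mul, h.v, iai, iam, zero_add]
  · rw [ae, cond_true, cond_true, ← conj_mul, h.t, h.v, mul_assoc t, iam, _root_.mul_inv_rev, iai, mul_assoc, inv_mul_cancel_left, iam]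
theorem Aa.div (r : Sr ι t X) (h : Aa ι t g f p) (h' : Aa ι t k f p) : ∃ ε y, ∃ o ∈ Oo ι t, k = g * (ae ι t ε y * o) := by
  obtain ⟨y, o, ho, e | e⟩ := r.cV (g := g⁻¹ * k) (mem_cent1.2 (mul_inv_eq_iff_eq_mul.1 (by rw [cj2, h'.t, ← h.t]; group))) (by
    rintro _ ⟨_, ⟨y, rfl⟩, rfl⟩
    exact (mul_inv_eq_iff_eq_mul.1 (by rw [cj2, h'.v, ← h.v]; group)).symm)
  exacts [⟨false, y, o, ho, by simp [ae, ← e]⟩, ⟨true, y, o, ho, by simp [ae, ← e]⟩]
theorem LO (H : Hyp ι t) (h : ι l ∈ Oo ι t) : l = 1 := LK H.inj (OL h)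
theorem iz2 : ι zz * ι zz = 1 := ia2 _
theorem LD (H : Hyp ι t) (h : ι (up 0 p) ∈ zpowers (ι zz) ⊔ Oo ι t) : p = 0 ∨ p = (1, 0, 0) := by
  obtain ⟨c, hc, o, ho, e⟩ := (mem_sup_of_norm' (zpowers_le.2 (nO H (H.LC _)))).1 h
  rcases (mem_zp iz2).1 hc with rfl | rfl
  · exact .inl (up_eq1 (LO H (by rwa [e, one_mul]))).2
  · exact .inr (up_inj (inv_mul_eq_one.1 (LO H (by rwa [map_mul, map_inv, e, inv_mul_cancel_left]))).symm).2
theorem ND (ho : g ∈ N(Oo ι t)) (hz : g ∈ C[ι zz]) : g ∈ N(zpowers (ι zz) ⊔ Oo ι t) :=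
  norms_sup (zpowers_le.2 (cent1_le_norm_zpowers _ hz)) (zpowers_le.2 ho) (mem_zpowers g)
theorem wO (r : Sr ι t X) (wq : w ∈ C(Qm ι)) (wt : w * t * w⁻¹ = t * ι zz) : w ∈ N(Oo ι t) := mem_norm_of fun o ho => by
  have wz : ι zz * w = w * ι zz := H19.mem_cent.1 wq _ ⟨_, zQ, rfl⟩
  have e : w * (t * ι zz) * w⁻¹ = t := by rw [← conj_mul, wt, ← wz, mul_inv_cancel_right, mul_assoc, iz2, mul_one]
  obtain ⟨a, ha, o', ho', e⟩ := r.cQ (g := w * o * w⁻¹) (mem_cent1.2 (by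
    rw [← e, conj_mul, conj_mul, ← mul_assoc o, Ot ho, mul_assoc t, ← Oι ho, mul_assoc t]))
    (conj_mem_of_norm (norm_le_norm_cent _ (cent_le_norm _ wq)) (cent_mono (map_le_range ..) (OL ho)))
  refine mem_of_odd ((Oo_odd.elt ho).e_conj w) ?_
  have : a * a = 1 ∧ a ∈ C[t] := by
    rcases ha with rfl | rfl | rfl | rfl
    exacts [⟨mul_one _, one_mem _⟩, ⟨r.tt, mem_cent1_self _⟩, ⟨iz2, r.H.LC _⟩, ⟨ae_sq r.H true _, ae_t r.H true _⟩]
  rw [e, show a * o' * (a * o') = a * o' * a⁻¹ * (a * a) * o' by group, this.1, mul_one]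
  exact mul_mem (conj_mem_of_norm (nO r.H this.2) ho') ho'
/-- `g` centralizes `x` modulo `⟨z⟩ O` -/
structure Ee (ι : Γ4 →* G) (t x g : G) : Prop where
  ct : g ∈ C[t]
  cz : g ∈ C[ι zz]
  c : g * x * g⁻¹ * x⁻¹ ∈ zpowers (ι zz) ⊔ Oo ι t
theorem Ee.mul (H : Hyp ι t) (h : Ee ι t x g) (h' : Ee ι t x k) : Ee ι t x (g * k) := ⟨mul_mem h.ct h'.ct, mul_mem h.cz h'.cz, by
  have := mul_mem (conj_mem_of_norm (ND (nO H h.ct) h.cz) h'.c) h.c
  rwa [show g * (k * x * k⁻¹ * x⁻¹) * g⁻¹ * (g * x * g⁻¹ * x⁻¹) = g * k * x * (g * k)⁻¹ * x⁻¹ by group] at this⟩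
theorem Ee.of (r : Sr ι t X) (hx : Aa ι t x fw (1, 0, 0)) (xo : x ∈ N(Oo ι t)) (h : Aa ι t g f p) (h' : Aa ι t k f p) (e : Ee ι t x g) :
    Ee ι t x k := by
  obtain ⟨ε, y, o, ho, rfl⟩ := h.div r h'
  refine e.mul r.H (.mul r.H ⟨ae_t r.H _ _, ae_z r.H _ _, ?_⟩ ⟨mem_cent1.2 (Ot ho), mem_cent1.2 (Oι ho _).symm, mem_sup_right (cm_l' ho xo)⟩)
  have := conj_mem_of_norm (ND (nO r.H (ae_t r.H ε y)) (ae_z r.H ε y)) (x := (x * ae ι t ε y * x⁻¹)⁻¹ * ae ι t ε y) (by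
    rw [hx.df]
    rcases (by decide +kernel : ∀ ε y, cond ε (1, 0, 0) 0 + fw y + y = 0 ∨ cond ε (1, 0, 0) 0 + fw y + y = (1, 0, 0)) ε y with e | e <;> rw [e]
    exacts [by rw [up_0, map_one]; exact one_mem _, mem_sup_left (mem_zpowers _)])
  rwa [show ∀ a, a * ((x * a * x⁻¹)⁻¹ * a) * a⁻¹ = a * x * a⁻¹ * x⁻¹ from fun a => by group] at this
theorem Ee.df (H : Hyp ι t) (xo : x ∈ N(zpowers (ι zz) ⊔ Oo ι t)) (e : Ee ι t x g) (h : Aa ι t g f 0) {ε y} (ho : o ∈ Oo ι t)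
    (c : g * (x * (ae ι t ε y * o)) * g⁻¹ = x * (ae ι t ε y * o)) : f y + y = 0 ∨ f y + y = (1, 0, 0) := by
  have n := ND (nO H e.ct) e.cz
  have := mul_mem (conj_mem_of_norm' (mul_mem (mul_mem n (ND (nO H (ae_t H ε y)) (ae_z H ε y))) (inv_mem n))
    (conj_mem_of_norm' xo e.c)) (mem_sup_right (mul_mem (conj_mem_of_norm (nO H e.ct) ho) (inv_mem ho)))
  rw [show ∀ a, (g * a * g⁻¹)⁻¹ * (x⁻¹ * (g * x * g⁻¹ * x⁻¹) * x) * (g * a * g⁻¹) * (g * o * g⁻¹ * o⁻¹) =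
    (g * a * g⁻¹)⁻¹ * (x⁻¹ * (g * (x * (a * o)) * g⁻¹) * o⁻¹) from fun a => by group, c, inv_mul_cancel_left, mul_inv_cancel_right, h.df] at this
  simpa using LD H this
theorem Ee.L (r : Sr ι t X) (b : Bw ι t s w) (e : l * zz = zz * l) : Ee ι t (t * w) (ι l) := by
  have wt := Bw.wt' r.H b
  have wz : ι zz * w = w * ι zz := H19.mem_cent.1 b.wq _ ⟨_, zQ, rfl⟩
  have e' := mul_inv_eq_iff_eq_mul.2 e
  have n : ι l ∈ N(Qm ι) := map_norm (mem_norm_of (by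
    rintro _ ⟨v, α, rfl⟩
    obtain ⟨_, _, _, _, h⟩ := cq_lin e'
    exact let ⟨_, h⟩ := h v α; ⟨_, _, h⟩))
  obtain ⟨a, ha, o, ho, q⟩ := r.cQ (g := w⁻¹ * (ι l * w * (ι l)⁻¹)) (mem_cent1.2 (mul_inv_eq_iff_eq_mul.1 (by
    rw [cj2, r.H.cct wt, e', ← wt]; group))) (mul_mem (inv_mem b.wq) (conj_mem_of_norm (norm_le_norm_cent _ n) b.wq))
  rw [inv_mul_eq_iff_eq_mul] at q
  have wo := wO r b.wq wt
  have k : ∀ a ∈ C[t], ι l * w * (ι l)⁻¹ = w * (a * o) → w * a * (w * a) ≠ 1 := fun a ha q p => zz1 (LO r.H (by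
    rw [← e', ← ι_cj, ← b.ww, ← conj_mul, q, show w * (a * o) * (w * (a * o)) = w * a * o * (w * a)⁻¹ * (w * a * (w * a)) * o by group, p, mul_one]
    exact mul_mem (conj_mem_of_norm (mul_mem wo (nO r.H ha)) ho) ho))
  have p : w * t * (w * t) = 1 := by rw [← r.H.tinv, show w * t⁻¹ * (w * t⁻¹) = w * (t⁻¹ * t⁻¹) * (t * w * t⁻¹) by group, b.tw, r.H.tinv, r.tt]; simp
  have n := ND (mul_mem (nO r.H (mem_cent1_self t)) wo) (mul_mem (mem_cent1.2 (r.cen _)) (mem_cent1.2 wz.symm))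
  refine ⟨r.H.LC _, mem_cent1.2 (by rw [← map_mul, e, map_mul]), ?_⟩
  rw [← conj_mul, r.H.tcj, q, show t * (w * (a * o)) * (t * w)⁻¹ = t * w * (a * o) * (t * w)⁻¹ by group]
  rcases ha with rfl | rfl | rfl | rfl
  · exact conj_mem_of_norm n (mul_mem_sup (one_mem _) ho)
  · exact (k _ (mem_cent1_self _) q p).elim
  · exact conj_mem_of_norm n (mul_mem_sup (mem_zpowers _) ho)
  · refine (k (t * ι zz) (ae_t r.H true _) q ?_).elim
    rw [← mul_assoc w, show w * t * ι zz * (w * t * ι zz) = w * t * (ι zz * w) * t * ι zz by group, wz, mul_assoc _ t, ← mul_assoc (w * t),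
      mul_assoc _ (ι zz), ← mul_assoc (ι zz), ← r.cen, mul_assoc t, iz2, mul_one, mul_assoc, p]

theorem bc : BC.{u} := fun G _ _ ι t X r s w b => by
  have wt := Bw.wt' r.H b
  have wz : ι zz * w = w * ι zz := H19.mem_cent.1 b.wq _ ⟨_, zQ, rfl⟩
  have aw := aaw b.wq wt b.we
  have a := aab r.H aw
  obtain ⟨n, f, p, p', an, an', e1, ⟨β, f1, e2, e2'⟩, e3, e4⟩ : ∃ n f p p', Aa ι t n f p ∧ Aa ι t n⁻¹ f p' ∧
      ((∀ y, f (hσ st (f y)) = fw y) ∧ p + f 0 + f (hσ st p') = (1, 0, 0)) ∧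
      (∃ β, ∃ f1 : Hm 𝔽 → Hm 𝔽, (∀ y, θ0 * up β 0 * up 0 y = up 0 (f1 y) * (θ0 * up β 0)) ∧ (∀ y, f (nact (act 1 (f y))) = f1 y) ∧ p + f 0 + f (nact (act 1 p')) = 0) ∧
      ((∀ y, f (fw (f y)) = hσ st y) ∧ p + f (1, 0, 0) + f (fw p') = 0) ∧ ∀ ε y, let u := f (nact (act 1 (f y))) + y
        (u = 0 ∨ u = (1, 0, 0)) → (hσ st y + y = 0 ∨ hσ st y + y = (1, 0, 0)) → cond ε (1, 0, 0) 0 + fw y + y = 0 →
          ε = false ∧ (y = 0 ∨ y = (1, 0, 0)) :=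
    have c := (a ν).mul (((a ω).mul aw).mul (a ω))
    ⟨_, _, _, _, c, c.inv (p' := (1, ν, 1)) (by decide +kernel), by decide +kernel, ⟨ω, _, by decide +kernel, fun _ => rfl, by decide +kernel⟩,
      by decide +kernel, by decide +kernel⟩
  have at' : Aa ι t t id 0 := ⟨fun y => by rw [r.cen, mul_inv_cancel_right]; rfl, by simp [up_0]⟩
  have a3 : Aa ι t (t * w) fw (1, 0, 0) := (at'.mul aw).of ⟨fun _ => rfl, zero_add _⟩
  have as : Aa ι t s (hσ st) 0 := ⟨fun y => by rw [b.os.ac, φ_up, map_zero], by simp [up_0, b.os.ct]⟩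
  have xo : t * w ∈ N(Oo ι t) := mul_mem (nO r.H (mem_cent1_self t)) (wO r b.wq wt)
  have xd := ND xo (mul_mem (mem_cent1.2 (r.cen _)) (mem_cent1.2 wz.symm))
  obtain ⟨ε, y, o, ho, e⟩ := a3.div r (((an.mul as).mul an').of e1)
  have a1 := ((an.mul (Aa.L (l := σ0) (f := fun y => nact (act 1 y)) r.H (by decide +kernel))).mul an').of e2'
  have a2 := ((an.mul aw).mul an').of e3
  have sz : s * ι zz * s⁻¹ = ι zz := by rw [b.os.ac, φ_z, kσ_1]
  have d1 := ((Ee.L r b (l := θ0 * up β 0) (by clear * -; revert β; decide +kernel)).of r a3 xo (.L r.H e2) a1).df r.H xd a1 ho (by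
    rw [← e, conj_mul, conj_inv, conj_mul, show ι σ0 * s = s * ι σ0 from (mul_inv_eq_iff_eq_mul.1 ((b.os.ac _).trans
      (congrArg ι (by decide +kernel)))).symm, mul_inv_cancel_right])
  have d2 := (Ee.of r a3 xo as a2 ⟨b.os.Ct, mem_cent1.2 (mul_inv_eq_iff_eq_mul.1 sz), by
    rw [← mul_assoc, b.os.ct, mul_assoc t, b.sw, ← mul_assoc t, mul_inv_cancel_right, mul_inv_cancel]; exact one_mem _⟩).df r.H xd a2 ho (by
    rw [← e, conj_mul, conj_inv, conj_mul, ← b.sw, mul_inv_cancel_right])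
  have xx : t * w * (t * w) = 1 := by rw [show t * w * (t * w) = t * w * t⁻¹ * (t * t) * w by group, b.tw, r.tt]; simp
  have ss : n * s * n⁻¹ * (n * s * n⁻¹) = 1 := by rw [conj_mul, b.os.ss]; simp
  have an := nO r.H (ae_t r.H ε y)
  have d3 := LO r.H (a3.df ε y ▸ (show (t * w * ae ι t ε y * (t * w)⁻¹)⁻¹ * ae ι t ε y ∈ Oo ι t by
    have := mul_mem (conj_mem_of_norm xo ho) (conj_mem_of_norm an ho)
    generalize t * w = x at *
    rwa [show ∀ a, x * o * x⁻¹ * (a * o * a⁻¹) = (x * a * x⁻¹)⁻¹ * (x * (a * o) * (x * x)⁻¹ * (x * (a * o))) * (a * a)⁻¹ * a from fun a => by group,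
      xx, ae_sq r.H, ← e, inv_one, mul_one, mul_one, ss, mul_one] at this))
  obtain ⟨rfl, e5⟩ := e4 ε y (e2'.1 y ▸ d1) d2 (up_eq1 d3).2
  have c : ∀ x, x * x = 1 → x = t * w * ae ι t false y → IsConj s x := fun x h q => by
    obtain ⟨k, -, hk⟩ := H28.SF.odd_conj Oo_odd (a := n * s * n⁻¹) (b := x) (e ▸ mul_mem xo (mul_mem an (le_normalizer ho)))
      (q ▸ mul_mem xo an) (two_of_sq ss) (two_of_sq h) (by rw [e, ← mul_assoc, ← q]; exact conj_mem_of_norm (q ▸ mul_mem xo an) ho)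
    exact (isConj_iff.2 ⟨n, rfl⟩).trans (isConj_iff.2 ⟨k, hk⟩)
  rcases e5 with rfl | rfl
  · exact c _ xx (by simp [ae, up_0])
  · exact (c (w * (t * w) * w⁻¹) (by rw [conj_mul, xx]; simp) (by
      rw [← conj_mul, wt, mul_inv_cancel_right, mul_assoc, wz, ← mul_assoc, ae, cond_false, one_mul])).trans (isConj_iff.2 ⟨w, rfl⟩).symm

/-- the elements of `T ⟨s⟩` -/
def el (ι : Γ4 →* G) (s : G) (a : (𝔽 × Hm 𝔽) × Bool) : G := ι (up a.1.1 a.1.2) * cond a.2 s 1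
/-- the multiplication of `T ⟨s⟩` -/
def mu (a b : (𝔽 × Hm 𝔽) × Bool) : (𝔽 × Hm 𝔽) × Bool :=
  ((a.1.1 + cond a.2 (st b.1.1) b.1.1, act (cond a.2 (st b.1.1) b.1.1) a.1.2 + cond a.2 (hσ st b.1.2) b.1.2), xor a.2 b.2)
theorem el_mul (o : Os ι t s) (a b) : el ι s a * el ι s b = el ι s (mu a b) := by
  obtain ⟨⟨β, y⟩, δ⟩ := a
  obtain ⟨⟨β', y'⟩, δ'⟩ := b
  have := mul_inv_eq_iff_eq_mul.1 (o.ac (up β' y'))
  rw [φ_up] at this
  cases δ <;> cases δ' <;> simp only [el, mu, cond_true, cond_false, ← up_mul, map_mul, mul_one, mul_assoc, Bool.xor_false, Bool.xor_true, Bool.not_true,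
    Bool.not_false]
  · rw [this]
  · rw [← mul_assoc s, this, mul_assoc, o.ss, mul_one]
theorem el_inj (H : Hyp ι t) (o : Os ι t s) {a b} (h : el ι s a = el ι s b) : a = b := by
  obtain ⟨⟨β, y⟩, δ⟩ := a
  obtain ⟨⟨β', y'⟩, δ'⟩ := b
  have k : ∀ a b, ι a * s ≠ ι b := fun a b e => ac_uq H.inj (by rw [eq_inv_mul_iff_mul_eq.2 e, ← map_inv, ← map_mul]; exact .self ..) o.act
  cases δ <;> cases δ' <;> simp only [el, cond_true, cond_false, mul_one, mul_left_inj] at h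
  exacts [by rw [(up_inj (H.inj h)).1, (up_inj (H.inj h)).2], absurd h.symm (k _ _), absurd h (k _ _), by rw [(up_inj (H.inj h)).1, (up_inj (H.inj h)).2]]
theorem el_t (H : Hyp ι t) (o : Os ι t s) (a) : el ι s a ∈ C[t] := mul_mem (H.LC _) (by cases a.2; exacts [one_mem _, o.Ct])
theorem ex_el (H : Hyp ι t) (o : Os ι t s) (h : g ∈ Tm ι ⊔ zpowers t ⊔ zpowers s) : ∃ a ε, g = el ι s a * cond ε t 1 := by
  rcases (mem_ext o.n0 (o.ss ▸ one_mem _)).1 h with h | h <;> obtain ⟨_, ⟨β, y, rfl⟩, e | e⟩ := (mem_0 H).1 h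
  exacts [⟨((β, y), false), false, by simp [el, e]⟩, ⟨((β, y), false), true, by simp [el, e]⟩, ⟨((β, y), true), false, by simp [el, ← e]⟩,
    ⟨((β, y), true), true, by rw [mul_inv_eq_iff_eq_mul.1 e, mul_assoc, ← o.ct, ← mul_assoc]; rfl⟩]
/-- `1` or `z` -/
def zq (a b : (𝔽 × Hm 𝔽) × Bool) : Prop := a = b ∨ a = mu ((0, (1, 0, 0)), false) b
instance iZq (a b) : Decidable (zq a b) := instDecidableOr
theorem zq_of (H : Hyp ι t) (o : Os ι t s) {a b} (h : el ι s a * (el ι s b)⁻¹ ∈ zpowers (ι zz)) : zq a b :=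
  ((mem_zp iz2).1 h).imp (fun e => el_inj H o (mul_inv_eq_one.1 e)) fun e => el_inj H o (by
    rw [mul_inv_eq_iff_eq_mul.1 e, ← el_mul o]; simp [el])
theorem cnt : ∀ a : (𝔽 × Hm 𝔽) × Bool, mu a a = ((0, 0), false) → (a.2 = false ∧ a.1.2.2.2 = 0) ∨
    (Finset.univ.filter fun b => zq (mu b b) ((0, 0), false) ∧ zq (mu a b) (mu b a)).card < 32 := by decide +kernel

theorem ql0 (r : Sr ι t X) (o : Os ι t s) (c2 : ¬ IsConj t (t * ι v0)) (lA : A ≤ Tm ι ⊔ zpowers t ⊔ zpowers s) (cA : #A = 64)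
    (sq : ∀ a ∈ A, a * a ∈ zpowers (ι zz)) (cm : ∀ a ∈ A, ∀ b ∈ A, a * b * a⁻¹ * b⁻¹ ∈ zpowers (ι zz)) (ha : a ∈ A) (ca : IsConj t a) :
    a = t ∨ a = t * ι zz := by
  have e1 : el ι s ((0, 0), false) = 1 := by simp [el, up_0]
  have ml : ∀ a b ε δ, el ι s a * cond ε t 1 * (el ι s b * cond δ t 1) = el ι s (mu a b) * cond (xor ε δ) t 1 := fun a b ε δ => by
    have := mem_cent1.1 (el_t r.H o b)
    cases ε <;> cases δ <;> simp only [cond_true, cond_false, ← el_mul o, mul_one, mul_assoc, Bool.xor_false, Bool.xor_true, Bool.not_true, Bool.not_false]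
    · rw [this]
    · rw [← mul_assoc t, ← this, mul_assoc, r.tt, mul_one]
  obtain ⟨m, ε, rfl⟩ := ex_el r.H o (lA ha)
  have aa : el ι s m * cond ε t 1 * (el ι s m * cond ε t 1) = 1 := by
    obtain ⟨g, e⟩ := isConj_iff.1 ca
    rw [← e, conj_mul, r.tt]; simp
  have mm : mu m m = ((0, 0), false) := el_inj r.H o (by rw [e1, ← aa, ml]; simp)
  rcases cnt m mm with ⟨h1, h2⟩ | h
  · obtain ⟨⟨β, α, b, c⟩, δ⟩ := m
    obtain rfl : δ = false := h1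
    obtain rfl : c = 0 := h2
    cases ε <;> simp only [el, cond_true, cond_false, mul_one] at ca aa ⊢
    · exact absurd ca (r.NL _)
    · rw [← r.cen] at ca aa ⊢
      by_contra! n
      refine c2 (ca.trans (r.H.tc (short (upU ..) (r.inj ?_) (fun e => n.1 (by rw [e]; simp)) (fun e => n.2 (by rw [e]))
        fun β' e => absurd (up_inj e).2 (by simp)).symm))
      rwa [mul_assoc, ← mul_assoc (ι _), ← r.cen, mul_assoc t, ← mul_assoc t, r.tt, one_mul, ← map_mul, ← map_one ι] at aa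
  · choose f δ e using fun x : A => ex_el r.H o (lA x.2)
    have k : ∀ x, f x ∈ Finset.univ.filter fun b => zq (mu b b) ((0, 0), false) ∧ zq (mu m b) (mu b m) := fun x => by
      rw [Finset.mem_filter_univ]
      exact ⟨zq_of r.H o (by simpa [e x, ml, e1] using sq x x.2), zq_of r.H o (by
        have := cm _ ha x x.2
        rwa [mul_assoc, ← _root_.mul_inv_rev, e x, ml, ml, Bool.xor_comm, _root_.mul_inv_rev, ← mul_assoc, mul_inv_cancel_right] at this)⟩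
    generalize (Finset.univ.filter fun b => zq (mu b b) ((0, 0), false) ∧ zq (mu m b) (mu b m)) = F at h k
    have := Nat.card_le_card_of_injective (β := F × Bool) (fun x : A => (⟨f x, k x⟩, δ x)) fun x y q => Subtype.ext (by
        simp only [Prod.mk.injEq, Subtype.mk.injEq] at q
        rw [e x, e y, q.1, q.2])
    rw [Nat.card_prod, Nat.card_eq_finsetCard, Nat.card_eq_fintype_card (α := Bool), Fintype.card_bool] at this
    omega

theorem ql : QL.{u} := fun G _ _ ι t X r s o c1 c2 u R A c hR cR l lz lA cA sq cm a ha ca => by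
  obtain ⟨g, rfl⟩ := isConj_iff.1 c
  obtain ⟨k, hk, e⟩ := (o.syl r).scj_le (K := cj g⁻¹ R) (cj_le_iff.2 (by rwa [inv_inv, cj_cent1])) (by rwa [PG, PiG, card_cj])
  have e := eq_of_le_of_card_ge e (by rw [card_cj, card_cj, o.card r.H, cR])
  rw [← cj_mul] at e
  have et : g * t * g⁻¹ = (k * g⁻¹)⁻¹ * t * (k * g⁻¹) := by
    rw [_root_.mul_inv_rev, inv_inv, mul_assoc g k⁻¹, mem_cent1.1 (inv_mem hk)]; group
  rw [et] at *
  generalize k * g⁻¹ = g at *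
  have tS : t ∈ Tm ι ⊔ zpowers t ⊔ zpowers s := mem_sup_left (mem_sup_right (mem_zpowers t))
  have ez : g * ι zz * g⁻¹ = ι zz := by
    have m : Tm ι ⊔ zpowers t ⊔ zpowers s ≤ C[g * ι zz * g⁻¹] := by rw [← e, ← cj_cent1]; exact cj_mono g lz
    have q : IsConj (g * ι zz * g⁻¹) (ι zz) := (isConj_iff.2 ⟨g, rfl⟩).symm
    rcases r.cQ2 (mem_cent1.2 (mem_cent1.1 (m tS)).symm) (le_cent1_iff.1 ((map_mono QU).trans (le_sup_left.trans (le_sup_left.trans m))))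
      (two_of_sq (by rw [conj_mul, iz2]; simp)) with e | e | e | e <;> rw [e] at q
    exacts [absurd (r.inj ((isConj_one_right.1 q).trans (map_one ι).symm)) zz1, absurd q (r.NL _), e, absurd (c1.trans q) (r.NL _)]
  have n : g ∈ N(zpowers (ι zz)) := cent1_le_norm_zpowers _ (mem_cent1.2 (mul_inv_eq_iff_eq_mul.1 ez))
  refine (ql0 r o c2 (e ▸ cj_mono g lA) (by rw [card_cj, cA]) (fun a ha => ?_) (fun a ha b hb => ?_) (conj_mem_cj.2 ha)
    (ca.trans (isConj_iff.2 ⟨g, rfl⟩))).imp (fun h => by rw [← h]; group) fun h => ?_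
  · obtain ⟨a, h, rfl⟩ := mem_cj'.1 ha
    rw [conj_mul]; exact conj_mem_of_norm n (sq a h)
  · obtain ⟨a, h, rfl⟩ := mem_cj'.1 ha
    obtain ⟨b, h', rfl⟩ := mem_cj'.1 hb
    simpa only [conj_inv, conj_mul] using conj_mem_of_norm n (cm a h b h')
  · rw [← mul_left_inj g⁻¹, ← mul_right_inj g, ← mul_assoc g a, h]
    nth_rw 1 [← ez]; group
end H24.G38
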