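import Cfsg.Agent.H24.Sharp4
import Cfsg.Agent.H24.BrW
import Cfsg.Agent.H24.FixAct

/-! M. Hall's theorem: 4-transitive groups with odd order 4-point stabilizers. -/

set_option autoImplicit false

namespace H24
open MulAction Subgroup

variable {G Ω : Type*} [Group G] [MulAction G Ω]

variable (G) in
/-- stabilizer of four points -/
def St4 (p q r s : Ω) : Subgroup G :=
  stabilizer G p ⊓ stabilizer G q ⊓ stabilizer G r ⊓ stabilizer G s

theorem mem_St4 {p q r s : Ω} {g : G} :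
    g ∈ St4 G p q r s ↔ g • p = p ∧ g • q = q ∧ g • r = r ∧ g • s = s := by
  simp [St4, and_assoc]

/-- 4-transitive, with no involution fixing four points -/
structure H4 (G Ω : Type*) [Group G] [MulAction G Ω] : Prop where
  mt : IsMultiplyPretransitive G Ω 4
  one : ∀ (t : G) (p q r s : Ω), D4 p q r s → t * t = 1 → t ∈ St4 G p q r s → t = 1

theorem card_eq_of_conj [Finite G] {A B : Subgroup G} (w : G)
    (h : ∀ x, x ∈ A ↔ w * x * w⁻¹ ∈ B) : Nat.card A = Nat.card B :=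
  Nat.card_congr ((MulAut.conj w).toEquiv.subtypeEquiv h)

theorem exists_invol_pow [Finite G] {U : Subgroup G} (hU : Odd (Nat.card U)) {g : G}
    (h : g * g ∈ U) : ∃ m, g ^ (2 * m + 1) * g ^ (2 * m + 1) = 1 := by
  obtain ⟨m, hm⟩ := hU
  refine ⟨m, ?_⟩
  rw [← mul_pow_of_commute' g, ← hm]
  exact congrArg Subtype.val (pow_card_eq_one' (x := (⟨_, h⟩ : U)))
where mul_pow_of_commute' (g : G) {n : ℕ} : (g * g) ^ n = g ^ n * g ^ n := (Commute.refl g).mul_pow n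

theorem odd_pow_smul {g : G} {x : Ω} (h : (g * g) • x = x) (m : ℕ) : g ^ (2 * m + 1) • x = g • x := by
  rw [pow_succ', mul_smul, pow_mul, sq,
    show (g * g) ^ m • x = x from pow_mem (show g * g ∈ stabilizer G x from h) m]

namespace H4
variable [Finite G] (h : H4 G Ω) {p q r s : Ω}
include h

theorem ex (d : D4 p q r s) {p' q' r' s' : Ω} (d' : D4 p' q' r' s') :
    ∃ g : G, g • p = p' ∧ g • q = q' ∧ g • r = r' ∧ g • s = s' :=
  H17.mt_four_iff.1 h.mt _ _ _ _ _ _ _ _ d.1 d.2 d.3 d.4 d.5 d.6 d'.1 d'.2 d'.3 d'.4 d'.5 d'.6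

theorem odd (d : D4 p q r s) {U : Subgroup G} (hU : U ≤ St4 G p q r s) : Odd (Nat.card U) :=
  Nat.not_even_iff_odd.1 fun e => by
    obtain ⟨t, ht⟩ := exists_prime_orderOf_dvd_card' (G := U) 2 e.two_dvd
    have h1 : (t : G) = 1 := h.one t p q r s d (by
      rw [← sq, ← ht]; exact congrArg Subtype.val (pow_orderOf_eq_one t)) (hU t.2)
    rw [show t = 1 from Subtype.ext h1] at ht
    simp at ht

theorem card_St (d : D4 p q r s) {p' q' r' s' : Ω} (d' : D4 p' q' r' s') :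
    Nat.card (St4 G p q r s) = Nat.card (St4 G p' q' r' s') := by
  obtain ⟨g, rfl, rfl, rfl, rfl⟩ := h.ex d d'
  exact card_eq_of_conj g fun x => by simp [mem_St4, mul_smul]

/-- conjugating pairs of commuting involutions -/
theorem conj2 (d : D4 p q r s) {p' q' r' s' : Ω} (d' : D4 p' q' r' s') {x y x' y' : G}
    (hx : x * x = 1) (hy : y * y = 1) (hx' : x' * x' = 1) (hy' : y' * y' = 1) (c : x * y = y * x)
    (c' : x' * y' = y' * x')
    (e : ∀ g : G, g • p = p' → g • q = q' → g • r = r' → g • s = s' →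
      x' * (g * x * g⁻¹) ∈ St4 G p' q' r' s' ∧ y' * (g * y * g⁻¹) ∈ St4 G p' q' r' s') :
    ∃ g : G, g * x * g⁻¹ = x' ∧ g * y * g⁻¹ = y' ∧ g • p = p' ∧ g • q = q' ∧ g • r = r' ∧
      g • s = s' := by
  obtain ⟨g, g1, g2, g3, g4⟩ := h.ex d d'
  have sq : ∀ g t : G, t * t = 1 → g * t * g⁻¹ * (g * t * g⁻¹) = 1 := fun g t ht => by
    rw [conj_mul, ht]; simp
  obtain ⟨w, hw, e1⟩ := exists_conj_invol (h.odd d' le_rfl) hx' (sq g x hx) (e g g1 g2 g3 g4).1
  have k : ∀ w ∈ St4 G p' q' r' s', ∀ g : G, g • p = p' → g • q = q' → g • r = r' → g • s = s' →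
      (w * g) • p = p' ∧ (w * g) • q = q' ∧ (w * g) • r = r' ∧ (w * g) • s = s' :=
    fun w hw g g1 g2 g3 g4 => by simpa only [mul_smul, g1, g2, g3, g4] using mem_St4.1 hw
  obtain ⟨k1, k2, k3, k4⟩ := k w hw g g1 g2 g3 g4
  have e2 : w * g * x * (w * g)⁻¹ = x' := by rw [← e1]; group
  obtain ⟨v, hv, e3⟩ := exists_conj_invol (h.odd d' (inf_le_left (b := centralizer {x'}))) hy'
    (sq (w * g) y hy) ⟨(e _ k1 k2 k3 k4).2, mul_mem (mem_centralizer_singleton_iff.2 c'.symm)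
      (mem_centralizer_singleton_iff.2 (by rw [← e2, conj_mul, conj_mul, c]))⟩
  refine ⟨v * (w * g), ?_, by rw [← e3]; group, k v hv.1 _ k1 k2 k3 k4⟩
  calc _ = v * (w * g * x * (w * g)⁻¹) * v⁻¹ := by group
    _ = x' := by rw [e2, mem_centralizer_singleton_iff.1 hv.2, mul_inv_cancel_right]

theorem conj1 (d : D4 p q r s) {p' q' r' s' : Ω} (d' : D4 p' q' r' s') {x x' : G}
    (hx : x * x = 1) (hx' : x' * x' = 1)
    (e : ∀ g : G, g • p = p' → g • q = q' → g • r = r' → g • s = s' →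
      x' * (g * x * g⁻¹) ∈ St4 G p' q' r' s') :
    ∃ g : G, g * x * g⁻¹ = x' ∧ g • p = p' ∧ g • q = q' ∧ g • r = r' ∧ g • s = s' := by
  obtain ⟨g, h1, -, h2⟩ := h.conj2 d d' hx hx hx' hx' rfl rfl fun g a b c d =>
    ⟨e g a b c d, e g a b c d⟩
  exact ⟨g, h1, h2⟩

theorem conjA {x x' : G} {p' r' : Ω} (d : D4 p (x • p) r (x • r)) (d' : D4 p' (x' • p') r' (x' • r'))
    (hx : x * x = 1) (hx' : x' * x' = 1) : ∃ g : G, g * x * g⁻¹ = x' ∧ g • p = p' ∧ g • r = r' := by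
  have i : ∀ {t : G}, t * t = 1 → ∀ y : Ω, t • t • y = y := fun ht y => by
    rw [smul_smul, ht, one_smul]
  obtain ⟨g, h1, h2, -, h3, -⟩ := h.conj1 d d' hx hx' fun g g1 g2 g3 g4 => mem_St4.2 (by
    refine ⟨?_, ?_, ?_, ?_⟩ <;> simp only [mul_smul]
    · rw [inv_smul_eq_iff.2 g1.symm, g2, i hx']
    · rw [inv_smul_eq_iff.2 g2.symm, i hx, g1]
    · rw [inv_smul_eq_iff.2 g3.symm, g4, i hx']
    · rw [inv_smul_eq_iff.2 g4.symm, i hx, g3])
  exact ⟨g, h1, h2, h3⟩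

variable [Finite Ω]

omit [Finite G] in
theorem fix_le {t : G} (ht : t * t = 1) (h1 : t ≠ 1) : (fixedBy Ω t).ncard ≤ 3 := by
  classical
  by_contra h2
  obtain ⟨S, hS, h3⟩ := Set.exists_subset_card_eq (n := 4) (s := fixedBy Ω t) (by omega)
  obtain ⟨a, b, c, d, h4, h5, h6, h7, h8, h9, rfl⟩ := Set.ncard_eq_four.1 h3
  exact h1 (h.one t a b c d ⟨h4, h5, h6, h7, h8, h9⟩ ht
    (mem_St4.2 ⟨hS (by simp), hS (by simp), hS (by simp), hS (by simp)⟩))

omit [Finite G] h in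
theorem d4_of {t : G} (ht : t * t = 1) (hp : t • p ≠ p) (hr : r ∉ fixedBy Ω t ∪ {p, t • p}) :
    D4 p (t • p) r (t • r) := by
  simp only [Set.mem_union, mem_fixedBy, Set.mem_insert_iff, Set.mem_singleton_iff, not_or] at hr
  exact ⟨hp.symm, Ne.symm hr.2.1, fun e => hr.2.2 ((smul_eq_iff_of_invol ht).1 e.symm),
    Ne.symm hr.2.2, fun e => hr.2.1 ((smul_left_cancel_iff t).1 e).symm, Ne.symm hr.1⟩

omit [Finite G] in
theorem exists_d4 (hn : 6 ≤ Nat.card Ω) {t : G} (ht : t * t = 1) (hp : t • p ≠ p) :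
    ∃ r, D4 p (t • p) r (t • r) := by
  obtain ⟨r, hr⟩ : (fixedBy Ω t ∪ {p, t • p})ᶜ.Nonempty := by
    rw [← Set.ncard_pos, Set.ncard_compl]
    have := Set.ncard_union_le (fixedBy Ω t) {p, t • p}
    have := h.fix_le ht (by rintro rfl; simp at hp)
    have := Set.ncard_pair hp.symm
    omega
  exact ⟨r, d4_of ht hp hr⟩

theorem conj_inv (hn : 6 ≤ Nat.card Ω) {t t' : G} {p' : Ω} (ht : t * t = 1) (ht' : t' * t' = 1)
    (hp : t • p ≠ p) (hp' : t' • p' ≠ p') : (fixedBy Ω t).ncard = (fixedBy Ω t').ncard ∧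
    Nat.card ↥(centralizer {t} ⊓ stabilizer G p) = Nat.card ↥(centralizer {t'} ⊓ stabilizer G p') := by
  obtain ⟨r, d⟩ := h.exists_d4 hn ht hp
  obtain ⟨r', d'⟩ := h.exists_d4 hn ht' hp'
  obtain ⟨g, rfl, rfl, -⟩ := h.conjA d d' ht ht'
  refine ⟨by rw [← smul_fixedBy, Set.ncard_smul_set], card_eq_of_conj g fun x => ?_⟩
  simp only [mem_inf, mem_centralizer_singleton_iff, mem_stabilizer_iff, conj_mul,
    mul_smul, inv_smul_smul, smul_left_cancel_iff, mul_left_inj, mul_right_inj]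

theorem typeA {t : G} (ht : t * t = 1) (d : D4 p (t • p) r (t • r)) :
    (Nat.card Ω - ((fixedBy Ω t).ncard + 2)) *
      Nat.card ↥(St4 G p (t • p) r (t • r) ⊓ centralizer {t}) =
      Nat.card ↥(centralizer {t} ⊓ stabilizer G p) := by
  have k : ∀ g ∈ centralizer {t}, ∀ y : Ω, g • t • y = t • g • y := fun g hg y => by
    rw [smul_smul, mem_centralizer_singleton_iff.1 hg, mul_smul]
  rw [← ncard_mul_card (centralizer {t} ⊓ stabilizer G p) r (s := (fixedBy Ω t ∪ {p, t • p})ᶜ),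
    Set.ncard_compl,
    Set.ncard_union_eq (by
      simp [d.ab.symm, smul_eq_iff_of_invol ht, d.ab, smul_smul, ht]), Set.ncard_pair d.ab]
  · congr 3
    ext g
    simp only [mem_inf, mem_St4, mem_stabilizer_iff]
    exact ⟨fun h => ⟨⟨h.2, h.1.1⟩, h.1.2.2.1⟩,
      fun h => ⟨⟨h.1.2, by rw [k g h.1.1, h.1.2], h.2, by rw [k g h.1.1, h.2]⟩, h.1.1⟩⟩
  · intro x
    refine ⟨fun hx => ?_, ?_⟩
    · obtain ⟨g, h1, h2, h3⟩ := h.conjA d (d4_of ht d.ab.symm hx) ht ht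
      exact ⟨g, ⟨mem_centralizer_singleton_iff.2 (mul_inv_eq_iff_eq_mul.1 h1), h2⟩, h3⟩
    · rintro ⟨g, ⟨h1, h2⟩, rfl⟩ (e | e | e)
      · exact d.cd ((smul_left_cancel_iff g).1 (by rw [k g h1]; exact e.symm))
      · exact d.ac ((smul_left_cancel_iff g).1 (h2.trans e.symm))
      · exact d.bc ((smul_left_cancel_iff g).1 (by rw [k g h1, h2]; exact e.symm))

theorem typeB {t : G} (ht : t * t = 1) (d : D4 p (t • p) r s) (hr : t • r = r) (hs : t • s = s) :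
    (fixedBy Ω t).ncard * (((fixedBy Ω t).ncard - 1) *
      Nat.card ↥(St4 G p (t • p) r s ⊓ centralizer {t})) =
      Nat.card ↥(centralizer {t} ⊓ stabilizer G p) := by
  have k : ∀ g ∈ centralizer {t}, ∀ y : Ω, g • t • y = t • g • y := fun g hg y => by
    rw [smul_smul, mem_centralizer_singleton_iff.1 hg, mul_smul]
  have i : ∀ y : Ω, t • t • y = y := fun y => by rw [smul_smul, ht, one_smul]
  have e : ∀ x y : Ω, t • x = x → t • y = y → x ≠ y →
      ∃ g ∈ centralizer {t} ⊓ stabilizer G p, g • r = x ∧ g • s = y := fun x y hx hy hxy => by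
    have n : ∀ x : Ω, t • x = x → p ≠ x ∧ t • p ≠ x := fun x hx =>
      ⟨fun e => d.ab (by rw [e, hx]), fun e => d.ab (by rw [← i p, e, hx, hx])⟩
    obtain ⟨g, h1, h2, -, h3⟩ := h.conj1 d ⟨d.ab, (n x hx).1, (n y hy).1, (n x hx).2, (n y hy).2,
      hxy⟩ ht ht fun g g1 g2 g3 g4 => mem_St4.2 (by
      refine ⟨?_, ?_, ?_, ?_⟩ <;> simp only [mul_smul]
      · rw [inv_smul_eq_iff.2 g1.symm, g2, i]
      · rw [inv_smul_eq_iff.2 g2.symm, i, g1]
      · rw [inv_smul_eq_iff.2 g3.symm, hr, g3, hx]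
      · rw [inv_smul_eq_iff.2 g4.symm, hs, g4, hy])
    exact ⟨g, ⟨mem_centralizer_singleton_iff.2 (mul_inv_eq_iff_eq_mul.1 h1), h2⟩, h3⟩
  rw [← ncard_mul_card (centralizer {t} ⊓ stabilizer G p) r (s := fixedBy Ω t),
    ← ncard_mul_card (centralizer {t} ⊓ stabilizer G p ⊓ stabilizer G r) s
    (s := fixedBy Ω t \ {r}), Set.ncard_diff_singleton_of_mem (show r ∈ fixedBy Ω t from hr)]
  · congr 4
    ext g
    simp only [mem_inf, mem_St4, mem_stabilizer_iff]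
    exact ⟨fun h => ⟨⟨⟨h.2, h.1.1⟩, h.1.2.2.1⟩, h.1.2.2.2⟩,
      fun h => ⟨⟨h.1.1.2, by rw [k g h.1.1.1, h.1.1.2], h.1.2, h.2⟩, h.1.1.1⟩⟩
  · intro x
    refine ⟨fun hx => ?_, ?_⟩
    · obtain ⟨g, h1, h2, h3⟩ := e r x hr hx.1 (Ne.symm hx.2)
      exact ⟨g, ⟨h1, h2⟩, h3⟩
    · rintro ⟨g, ⟨h1, h2⟩, rfl⟩
      exact ⟨by rw [mem_fixedBy, ← k g h1.1, hs],
        fun e => d.cd ((smul_left_cancel_iff g).1 (h2.trans e.symm))⟩
  · intro x
    refine ⟨fun hx => ?_, ?_⟩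
    · by_cases hxs : x = s
      · obtain ⟨g, h1, h2, -⟩ := e x r hx hr (hxs ▸ d.cd.symm)
        exact ⟨g, h1, h2⟩
      · obtain ⟨g, h1, h2, -⟩ := e x s hx hs hxs
        exact ⟨g, h1, h2⟩
    · rintro ⟨g, h1, rfl⟩
      rw [mem_fixedBy, ← k g h1.1, hr]

omit [Finite Ω] h in
theorem nrm {t : G} (ht : t * t = 1)
    (e : St4 G p q r s ≤ St4 G (t • p) (t • q) (t • r) (t • s)) :
    t ∈ normalizer (St4 G p q r s : Set G) := H17.mem_normalizer_of_conj_mem fun x hx => by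
  obtain ⟨h1, h2, h3, h4⟩ := mem_St4.1 (e hx)
  have i : ∀ y : Ω, t • t • y = y := fun y => by rw [smul_smul, ht, one_smul]
  simp only [mem_St4, mul_smul, inv_eq_of_mul_eq_one_right ht, h1, h2, h3, h4, i, and_self]

omit [Finite G] in
theorem fix_or {b z : G} (hb : b * b = 1) (h1 : b ≠ 1) (c : b * z = z * b) (hpq : p ≠ q)
    (bp : b • p = p) (bq : b • q = q) (zp : z • p = q) (zq : z • q = p) {y : Ω} (hy : b • y = y) :
    y = p ∨ y = q ∨ z • y = y := by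
  by_contra h2
  push Not at h2
  exact h1 (h.one b p q y (z • y) ⟨hpq, h2.1.symm,
    fun e => h2.2.1 ((smul_left_cancel_iff z).1 (zq.trans e)).symm, h2.2.1.symm,
    fun e => h2.1 ((smul_left_cancel_iff z).1 (zp.trans e)).symm, h2.2.2.symm⟩ hb
    (mem_St4.2 ⟨bp, bq, hy, by rw [smul_smul, c, mul_smul, hy]⟩))

omit [Finite Ω] in
theorem exists_pair (d : D4 p q r s) : ∃ a z : G, a * a = 1 ∧ z * z = 1 ∧ a * z = z * a ∧
    a • p = q ∧ a • q = p ∧ a • r = r ∧ a • s = s ∧ z • p = q ∧ z • q = p ∧ z • r = s ∧ z • s = r := by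
  obtain ⟨g, g1, g2, g3, g4⟩ := h.ex d d.s12.s34
  have hg : g * g ∈ St4 G p q r s := by simp [mem_St4, mul_smul, *]
  obtain ⟨m, hz⟩ := exists_invol_pow (h.odd d le_rfl) hg
  rw [mem_St4] at hg
  have z1 := (odd_pow_smul hg.1 m).trans g1
  have z2 := (odd_pow_smul hg.2.1 m).trans g2
  have z3 := (odd_pow_smul hg.2.2.1 m).trans g3
  have z4 := (odd_pow_smul hg.2.2.2 m).trans g4
  generalize g ^ (2 * m + 1) = z at *
  obtain ⟨g, e, g1, g2, g3, g4⟩ := h.conj1 d d.s12 hz hz fun g g1 g2 g3 g4 => mem_St4.2 (by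
    refine ⟨?_, ?_, ?_, ?_⟩ <;> simp only [mul_smul]
    · rw [inv_smul_eq_iff.2 g1.symm, z1, g2, z1]
    · rw [inv_smul_eq_iff.2 g2.symm, z2, g1, z2]
    · rw [inv_smul_eq_iff.2 g3.symm, z3, g4, z4]
    · rw [inv_smul_eq_iff.2 g4.symm, z4, g3, z3])
  have hg : g * g ∈ St4 G p q r s := by simp [mem_St4, mul_smul, *]
  obtain ⟨m, ha⟩ := exists_invol_pow (h.odd d le_rfl) hg
  rw [mem_St4] at hg
  exact ⟨_, z, ha, hz, (Commute.pow_left (mul_inv_eq_iff_eq_mul.1 e) _).eq,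
    (odd_pow_smul hg.1 m).trans g1, (odd_pow_smul hg.2.1 m).trans g2,
    (odd_pow_smul hg.2.2.1 m).trans g3, (odd_pow_smul hg.2.2.2 m).trans g4, z1, z2, z3, z4⟩

theorem card_eq (hn : 8 ≤ Nat.card Ω) : Nat.card Ω = 11 := by
  obtain ⟨S, -, h3⟩ := Set.exists_subset_card_eq (n := 4) (s := (Set.univ : Set Ω))
    (by rw [Set.ncard_univ]; omega)
  obtain ⟨p, q, r, s, h4, h5, h6, h7, h8, h9, -⟩ := Set.ncard_eq_four.1 h3
  have d : D4 p q r s := ⟨h4, h5, h6, h7, h8, h9⟩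
  obtain ⟨a, z, ha, hz, c, a1, a2, a3, a4, z1, z2, z3, z4⟩ := h.exists_pair d
  have hb : a * z * (a * z) = 1 := by rw [mul_assoc, ← mul_assoc z, ← c, mul_assoc, hz, mul_one, ha]
  have ia : ∀ y : Ω, a • a • y = y := fun y => by rw [smul_smul, ha, one_smul]
  have iz : ∀ y : Ω, z • z • y = y := fun y => by rw [smul_smul, hz, one_smul]
  have ic : ∀ y : Ω, z • a • y = a • z • y := fun y => by rw [smul_smul, ← c, mul_smul]
  have b1 : (a * z) • p = p := by rw [mul_smul, z1, a2]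
  have b2 : (a * z) • q = q := by rw [mul_smul, z2, a1]
  have b3 : (a * z) • r = s := by rw [mul_smul, z3, a4]
  have zp : z • p ≠ p := z1 ▸ h4.symm
  have hf := h.fix_le hz (by rintro rfl; simp at zp)
  have inv := fun (t : G) (y : Ω) (ht : t * t = 1) (hy : t • y ≠ y) =>
    h.conj_inv (by omega) ht hz hy zp
  set f := (fixedBy Ω z).ncard
  set M := Nat.card ↥(centralizer {z} ⊓ stabilizer G p)
  have hf2 : 2 ≤ f := by
    rw [← (inv a p ha (a1 ▸ h4.symm)).1, ← Set.ncard_pair h9]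
    exact Set.ncard_le_ncard (Set.pair_subset a3 a4)
  have o1 := fun y => h.fix_or hb (fun e => h9 (by rw [← b3, e, one_smul]))
    (by rw [c, mul_assoc, c]) h4 b1 b2 z1 z2 (y := y)
  have o2 := fun y => h.fix_or ha (fun e => h4 (by rw [← a1, e, one_smul])) c h9 a3 a4 z3 z4 (y := y)
  set R := (fixedBy Ω z ∪ {p, q, r, s})ᶜ with hR
  have hRc : R.ncard = Nat.card Ω - (f + 4) := by
    rw [hR, Set.ncard_compl, Set.ncard_union_eq (by
      simp [z1, z2, z3, z4, h4, h9, h4.symm, h9.symm]), Set.ncard_def {p, q, r, s}, d.encard]; rfl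
  have hR' : ∀ x, x ∈ R ↔ a • x ≠ x ∧ z • x ≠ x ∧ a • z • x ≠ x := fun x => by
    simp only [hR, Set.mem_compl_iff, Set.mem_union, mem_fixedBy, Set.mem_insert_iff,
      Set.mem_singleton_iff, not_or]
    refine ⟨fun e => ⟨fun e' => ?_, e.1, fun e' => ?_⟩, fun e => ⟨e.2.1, ?_, ?_, ?_, ?_⟩⟩
    · have := o2 x e'; tauto
    · have := o1 x ((mul_smul _ _ _).trans e'); tauto
    all_goals rintro rfl; simp_all
  have hD : ∀ x ∈ R, D4 x (a • x) (z • x) (a • z • x) := fun x hx => by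
    obtain ⟨e1, e2, e3⟩ := (hR' x).1 hx
    exact ⟨e1.symm, e2.symm, e3.symm, fun e => e3 (by rw [← e, ia]),
      fun e => e2 ((smul_left_cancel_iff a).1 e).symm, fun e => e1 (by rw [← ic] at e; exact
        ((smul_left_cancel_iff z).1 e).symm)⟩
  obtain ⟨x, hx⟩ : R.Nonempty := by rw [← Set.ncard_pos]; omega
  have dx := hD x hx
  set W := centralizer {a} ⊓ centralizer {z}
  have k : ∀ g ∈ W, ∀ y : Ω, g • a • y = a • g • y ∧ g • z • y = z • g • y := fun g hg y =>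
    ⟨by rw [smul_smul, mem_centralizer_singleton_iff.1 hg.1, mul_smul],
      by rw [smul_smul, mem_centralizer_singleton_iff.1 hg.2, mul_smul]⟩
  have aW : a ∈ W := ⟨mem_centralizer_singleton_iff.2 rfl, mem_centralizer_singleton_iff.2 c⟩
  have zW : z ∈ W := ⟨mem_centralizer_singleton_iff.2 c.symm, mem_centralizer_singleton_iff.2 rfl⟩
  have w1 := ncard_mul_card W x (s := R) fun y => ⟨fun hy => by
    obtain ⟨g, e1, e2, e3, -⟩ := h.conj2 dx (hD y hy) ha hz ha hz c c fun g g1 g2 g3 g4 => by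
      simp only [mem_St4, mul_smul, inv_smul_eq_iff.2 g1.symm, inv_smul_eq_iff.2 g2.symm,
        inv_smul_eq_iff.2 g3.symm, inv_smul_eq_iff.2 g4.symm, ia, iz, ic, g1, g2, g3, g4, and_self]
    exact ⟨g, ⟨mem_centralizer_singleton_iff.2 (mul_inv_eq_iff_eq_mul.1 e1),
      mem_centralizer_singleton_iff.2 (mul_inv_eq_iff_eq_mul.1 e2)⟩, e3⟩, by
    rintro ⟨g, hg, rfl⟩
    simpa only [hR', ← (k g hg _).1, ← (k g hg _).2, ne_eq, smul_left_cancel_iff] using hx⟩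
  have w2 := ncard_mul_card W p (s := {p, q}) fun y => ⟨by
    rintro (rfl | rfl)
    exacts [⟨1, one_mem _, one_smul _ _⟩, ⟨a, aW, a1⟩], by
    rintro ⟨g, hg, rfl⟩
    rcases o1 (g • p) (by rw [mul_smul, ← (k g hg _).2, ← (k g hg _).1, z1, a2]) with e | e | e
    exacts [Or.inl e, Or.inr e, absurd ((smul_left_cancel_iff g).1 ((k g hg _).2.trans e)) zp]⟩
  have w3 := ncard_mul_card (W ⊓ stabilizer G p) r (s := {r, s}) fun y => ⟨by
    rintro (rfl | rfl)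
    exacts [⟨1, one_mem _, one_smul _ _⟩, ⟨a * z, ⟨mul_mem aW zW, b1⟩, b3⟩], by
    rintro ⟨g, ⟨hg, -⟩, rfl⟩
    rcases o2 (g • r) (by rw [← (k g hg _).1, a3]) with e | e | e
    exacts [Or.inl e, Or.inr e, absurd ((smul_left_cancel_iff g).1 ((k g hg _).2.trans e))
      (z3 ▸ h9.symm)]⟩
  have e1 : W ⊓ stabilizer G x =
      St4 G x (a • x) (z • x) (a • z • x) ⊓ centralizer {a} ⊓ centralizer {z} := by
    ext g
    rw [inf_assoc (St4 G _ _ _ _), mem_inf, mem_inf (p := St4 G _ _ _ _), mem_St4, mem_stabilizer_iff]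
    exact ⟨fun e => ⟨by simp only [(k g e.1 _).1, (k g e.1 _).2, e.2, and_self], e.1⟩,
      fun e => ⟨e.2, e.1.1⟩⟩
  have e2 : W ⊓ stabilizer G p ⊓ stabilizer G r = St4 G p q r s ⊓ centralizer {a} ⊓ centralizer {z} := by
    ext g
    rw [inf_assoc (St4 G p q r s), mem_inf, mem_inf, mem_inf (p := St4 G _ _ _ _), mem_St4,
      mem_stabilizer_iff, mem_stabilizer_iff]
    exact ⟨fun e => ⟨by simp only [← z1, ← z3, (k g e.1.1 _).2, e.1.2, e.2, and_self], e.1.1⟩,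
      fun e => ⟨⟨e.2, e.1.1⟩, e.1.2.2.1⟩⟩
  rw [e1, hRc] at w1
  rw [e2, Set.ncard_pair h9] at w3
  rw [← w3, Set.ncard_pair h4, ← w1] at w2
  have W1 := brauer_wielandt (h.odd d le_rfl) ha hz c (nrm ha fun g => by
    simp only [mem_St4, a1, a2, a3, a4]; tauto) (nrm hz fun g => by
    simp only [mem_St4, z1, z2, z3, z4]; tauto)
  have W2 := brauer_wielandt (h.odd dx le_rfl) ha hz c (nrm ha fun g => by
    simp only [mem_St4, ia]; tauto) (nrm hz fun g => by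
    simp only [mem_St4, ic, iz]; tauto)
  have sw : ∀ {p q r s p' q' r' s' : Ω}, (∀ g : G, g • p = p ∧ g • q = q ∧ g • r = r ∧ g • s = s ↔
      g • p' = p' ∧ g • q' = q' ∧ g • r' = r' ∧ g • s' = s') →
      St4 G p q r s = St4 G p' q' r' s' := fun e => by ext g; simp only [mem_St4, e]
  have A1 := h.typeA (p := p) (r := r) hz (z1.symm ▸ z3.symm ▸ d)
  have B1 := h.typeB (p := p) ha (a1.symm ▸ d) a3 a4
  have B2 := h.typeB (p := r) hb (b3.symm ▸ d.sw) b1 b2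
  have A2 := h.typeA ha dx
  have A3 := h.typeA (p := x) (r := a • x) hz
    (by rw [ic]; exact ⟨dx.ac, dx.ab, dx.ad, dx.bc.symm, dx.cd, dx.bd⟩)
  have A4 := h.typeA (p := x) (r := a • x) hb (by
    rw [mul_smul, mul_smul, ic, ia]; exact ⟨dx.ad, dx.ab, dx.ac, dx.bd.symm, dx.cd.symm, dx.bc⟩)
  rw [z1, z3] at A1
  rw [a1, (inv a p ha (a1 ▸ h4.symm)).1, (inv a p ha (a1 ▸ h4.symm)).2] at B1
  rw [b3, (inv _ r hb (b3 ▸ h9.symm)).1, (inv _ r hb (b3 ▸ h9.symm)).2,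
    sw (p' := p) (q' := q) (r' := r) (s' := s) (by tauto)] at B2
  rw [(inv a x ha dx.ab.symm).1, (inv a x ha dx.ab.symm).2] at A2
  rw [ic, (inv z x hz dx.ac.symm).2,
    sw (p' := x) (q' := a • x) (r' := z • x) (s' := a • z • x) (by tauto)] at A3
  have bx : (a * z) • x ≠ x := by rw [mul_smul]; exact dx.ad.symm
  rw [(inv _ x hb bx).1, (inv _ x hb bx).2, mul_smul, mul_smul, ic, ia,
    sw (p' := x) (q' := a • x) (r' := z • x) (s' := a • z • x) (by tauto)] at A4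
  rw [← h.card_St d dx] at W2
  have hA : 0 < Nat.card Ω - (f + 2) := by omega
  have q2 := Nat.eq_of_mul_eq_mul_left hA (A2.trans A1.symm)
  have q3 := Nat.eq_of_mul_eq_mul_left hA (A3.trans A1.symm)
  have q4 := Nat.eq_of_mul_eq_mul_left hA (A4.trans A1.symm)
  have q5 := Nat.eq_of_mul_eq_mul_left (by omega) (Nat.eq_of_mul_eq_mul_left (by omega)
    (B2.trans B1.symm))
  rw [q2, q3, q4] at W2
  rw [q5] at W1
  have p1 : 0 < Nat.card ↥(St4 G p q r s ⊓ centralizer {z}) := Nat.card_pos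
  have p2 : 0 < Nat.card ↥(St4 G p q r s ⊓ centralizer {a}) := Nat.card_pos
  have p3 : 0 < Nat.card ↥(St4 G p q r s ⊓ centralizer {a} ⊓ centralizer {z}) := Nat.card_pos
  replace B1 := B1.trans A1.symm
  generalize Nat.card ↥(St4 G p q r s ⊓ centralizer {z}) = A at *
  generalize Nat.card ↥(St4 G p q r s ⊓ centralizer {a}) = B at *
  generalize Nat.card ↥(St4 G p q r s ⊓ centralizer {a} ⊓ centralizer {z}) = C at *
  generalize Nat.card ↥(St4 G x (a • x) (z • x) (a • z • x) ⊓ centralizer {a} ⊓ centralizer {z}) =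
    C' at *
  have p4 : 0 < Nat.card (St4 G p q r s) := Nat.card_pos
  have q6 : C * A = C' * B := (Nat.pow_left_injective two_ne_zero) (Nat.eq_of_mul_eq_mul_left p4 (by
    simp only [mul_pow, ← mul_assoc]; rw [W1, W2]; ring))
  obtain ⟨n, hn⟩ : ∃ n, Nat.card Ω = n + (f + 4) := ⟨_, (Nat.sub_add_cancel (by omega)).symm⟩
  rw [hn, Nat.add_sub_cancel] at w2
  rw [hn, show n + (f + 4) - (f + 2) = n + 2 by omega] at B1
  have q7 : 4 * (n + 2) = f * (f - 1) * n := Nat.eq_of_mul_eq_mul_right (mul_pos p1 p3) (by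
    calc 4 * (n + 2) * (A * C) = 4 * C * ((n + 2) * A) := by ring
      _ = f * (f - 1) * (B * (2 * (2 * C))) := by rw [← B1]; ring
      _ = f * (f - 1) * n * (C' * B) := by rw [w2]; ring
      _ = _ := by rw [← q6, mul_comm C])
  obtain h2 | h2 : f = 2 ∨ f = 3 := by omega
  all_goals rw [h2] at q7 hn; omega

end H4
end H24
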