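import Cfsg.Agent.H24.Hall4
import Cfsg.Agent.H17.Gleason

/-! M. Hall's theorem, final form. -/

set_option autoImplicit false

namespace H24
open MulAction Subgroup Equiv

theorem index_fix {G Ω : Type*} [Group G] [MulAction G Ω] [Finite Ω] {k : ℕ}
    (h : IsMultiplyPretransitive G Ω k) {s : Set Ω} (hs : s.ncard = k) :
    Nat.card G = (Nat.card Ω).descFactorial k * Nat.card (fixingSubgroup G s) := by
  subst hs
  rw [Nat.descFactorial_eq_factorial_mul_choose, mul_comm (Nat.factorial _),
    ← h.index_of_fixingSubgroup_eq s, index_mul_card]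

variable {α : Type*} [Fintype α] [DecidableEq α] {G : Subgroup (Perm α)}

theorem eq_alt_or_top (h : alternatingGroup α ≤ G) : G = alternatingGroup α ∨ G = ⊤ := by
  rcases subsingleton_or_nontrivial α with _ | _
  · exact Or.inr (Subsingleton.elim _ _)
  have := index_dvd_of_le h
  rw [alternatingGroup.index_eq_two] at this
  exact (Nat.prime_two.eq_one_or_self_of_dvd _ this).symm.imp
    Perm.eq_alternatingGroup_of_index_eq_two index_eq_one.1

theorem H4.ne_top (h : H4 G α) (hn : 6 ≤ Fintype.card α) : G ≠ ⊤ := by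
  rintro rfl
  obtain ⟨e⟩ := Function.Embedding.nonempty_of_card_le (α := Fin 6) (β := α) (by simpa using hn)
  have := h.one ⟨swap (e 0) (e 1), trivial⟩ (e 2) (e 3) (e 4) (e 5)
    (by constructor <;> simp) (Subtype.ext (swap_mul_self _ _))
    (by simp [mem_St4, Subgroup.smul_def, swap_apply_of_ne_of_ne])
  simpa using congrArg Subtype.val this

theorem H4.not_alt (h : H4 G α) (hn : 8 ≤ Fintype.card α) : ¬ alternatingGroup α ≤ G := fun hG => by
  obtain ⟨e⟩ := Function.Embedding.nonempty_of_card_le (α := Fin 8) (β := α) (by simpa using hn)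
  have := h.one ⟨swap (e 0) (e 1) * swap (e 2) (e 3), hG (by simp [Perm.mem_alternatingGroup])⟩
    (e 4) (e 5) (e 6) (e 7) (by constructor <;> simp) (Subtype.ext (by
      change _ * _ * (_ * _) = 1
      have := swap_apply_apply (swap (e 2) (e 3)) (e 0) (e 1)
      rw [swap_inv] at this
      rw [mul_assoc, ← mul_assoc (swap (e 2) (e 3)), ← this]
      simp [swap_apply_of_ne_of_ne]))
    (by simp [mem_St4, Subgroup.smul_def, swap_apply_of_ne_of_ne])
  simpa [swap_apply_of_ne_of_ne] using congrArg (fun x : G => (x : Perm α) (e 0)) this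

theorem H4.card_eleven (h : H4 G α) (hn : Fintype.card α = 11) : Nat.card G = 7920 := by
  have hn' : Nat.card α = 11 := by simpa using hn
  obtain ⟨S, -, h3⟩ := Set.exists_subset_card_eq (n := 4) (s := (Set.univ : Set α))
    (by rw [Set.ncard_univ]; omega)
  have h1 := index_fix h.mt h3
  have h2 := H17.card_fix_dvd_factorial (G := G) S
  have hp := isPreprimitive_of_is_two_pretransitive (H17.mt_of_le (m := 2) h.mt (by omega) (by omega))
  have h4 : Odd (Nat.card (fixingSubgroup G S)) := by
    obtain ⟨p, q, r, s, h4, h5, h6, h7, h8, h9, rfl⟩ := Set.ncard_eq_four.1 h3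
    exact h.odd ⟨h4, h5, h6, h7, h8, h9⟩ fun g hg => by simpa [mem_St4, H17.mem_fix_iff] using hg
  have h7 : ¬ 7 ∣ Nat.card (fixingSubgroup G S) := fun e => h.not_alt (by omega)
    (H17.alt_le_of_prime_dvd G hp (by norm_num) (by omega) (by omega)
      (e.trans (card_subgroup_dvd_card _)))
  have h5 : ¬ 5 ∣ Nat.card (fixingSubgroup G S) := fun e => by
    have := Fact.mk Nat.prime_five
    obtain ⟨t, ht⟩ := exists_prime_orderOf_dvd_card' (G := fixingSubgroup G S) 5 e
    have h6 : (t.1.1 : Perm α).support.card ≤ 7 := by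
      have := Set.ncard_le_ncard (s := ((t.1.1 : Perm α).support : Set α)) (t := Sᶜ)
        fun x hx h => Perm.mem_support.1 hx (H17.mem_fix_iff.1 t.2 x h)
      rwa [Set.ncard_coe_finset, Set.ncard_compl, h3, hn'] at this
    obtain ⟨h8, h9⟩ := H17.isCycle_of_orderOf_prime (g := t.1.1) Nat.prime_five
      (by rw [orderOf_coe, orderOf_coe, ht]) (by omega)
    exact h.not_alt (by omega) (H17.jordan_prime_cycle G hp Nat.prime_five (by omega) h8 h9 t.1.2)
  have : Fact (Nat.Prime 11) := ⟨by norm_num⟩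
  obtain ⟨P⟩ : Nonempty (Sylow 11 G) := inferInstance
  obtain ⟨d, h8, h9, h10, -⟩ := H17.pd_card_normalizer hn' P
  have h11 := card_sylow_modEq_one 11 G
  have h12 : d ≠ 1 := by
    rintro rfl
    have := H17.pd_sylow_card hn' P
    rw [H17.pd_eq_top_of_self_normalizing hn' P (by simpa using h9), card_top, h1, hn'] at this
    simp [Nat.descFactorial] at this
    omega
  rw [hn', h3] at h2
  rw [hn'] at h1
  have h13 : Nat.card (fixingSubgroup G S) ∣ 3 ^ 2 := by
    exact (((h4.coprime_two_right.pow_right 4).mul_right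
      (Nat.prime_five.coprime_iff_not_dvd.2 h5).symm).mul_right
      ((by norm_num : Nat.Prime 7).coprime_iff_not_dvd.2 h7).symm).dvd_of_dvd_mul_left h2
  obtain ⟨i, hi, e⟩ := (Nat.dvd_prime_pow Nat.prime_three).1 h13
  have := Nat.le_of_dvd (by norm_num) h8
  rw [h1, e] at h10 ⊢
  unfold Nat.ModEq at h11
  simp only [Nat.descFactorial] at h10 ⊢
  interval_cases i <;> interval_cases d <;> omega

theorem H4.hall (h : H4 G α) (hn : 4 ≤ Fintype.card α) :
    ((Fintype.card α = 4 ∨ Fintype.card α = 5) ∧ G = ⊤) ∨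
    ((Fintype.card α = 6 ∨ Fintype.card α = 7) ∧ G = alternatingGroup α) ∨
    (Fintype.card α = 11 ∧ Nat.card G = 7920) := by
  have hc := Nat.card_eq_fintype_card (α := α)
  by_cases h1 : Fintype.card α ≤ 5
  · exact Or.inl ⟨by omega, Perm.eq_top_of_isMultiplyPretransitive
      (H17.mt_of_le h.mt (by omega) (by omega))⟩
  by_cases h2 : Fintype.card α ≤ 7
  · exact Or.inr (Or.inl ⟨by omega, (eq_alt_or_top (H17.alt_le_of_mt_small G (by omega) hn h.mt
      (by omega))).resolve_right (h.ne_top (by omega))⟩)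
  have h3 := hc ▸ h.card_eq (by omega)
  exact Or.inr (Or.inr ⟨h3, h.card_eleven h3⟩)

end H24
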