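import Cfsg.Agent.H17.Basic

/-! Homogeneous permutation groups: Wielandt's lemma. -/

set_option autoImplicit false

namespace H24
open MulAction Finset Pointwise

theorem choose_modEq_aux {p : ℕ} (hp : p.Prime) (c a : ℕ) :
    (p ^ a * (c + 1) - 1).choose (p ^ a) ≡ c [MOD p] := by
  have := Fact.mk hp
  induction a with
  | zero => simp [Nat.ModEq.refl]
  | succ a ih =>
    obtain ⟨m, hm⟩ : ∃ m, p ^ a * (c + 1) = m + 1 :=
      ⟨_, (Nat.sub_add_cancel (Nat.mul_pos (pow_pos hp.pos a) c.succ_pos)).symm⟩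
    have e : p ^ (a + 1) * (c + 1) - 1 = (p - 1) + p * m := by
      rw [pow_succ', mul_assoc, hm, mul_add, mul_one]
      have := hp.pos
      omega
    refine Choose.choose_modEq_choose_mod_mul_choose_div_nat.trans ?_
    rw [e, Nat.add_mul_div_left _ _ hp.pos, Nat.div_eq_of_lt (Nat.sub_lt hp.pos one_pos), zero_add,
      pow_succ', Nat.mul_mod_right, Nat.mul_div_cancel_left _ hp.pos, Nat.choose_zero_right, one_mul]
    rwa [hm, Nat.add_sub_cancel] at ih

variable {G Ω : Type*} [Group G] [MulAction G Ω] [DecidableEq Ω]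

variable (G Ω) in
/-- `k`-homogeneous -/
def Hom (k : ℕ) : Prop := ∀ s t : Finset Ω, s.card = k → t.card = k → ∃ g : G, g • s = t

theorem hom_iff {k : ℕ} : IsPretransitive G (Set.powersetCard Ω k) ↔ Hom G Ω k :=
  ⟨fun h s t hs ht => (h.exists_smul_eq ⟨s, hs⟩ ⟨t, ht⟩).imp fun _ e => congrArg Subtype.val e,
    fun h => ⟨fun s t => (h s t s.2 t.2).imp fun _ e => Subtype.ext e⟩⟩

theorem Hom.pred [Fintype Ω] {j : ℕ} (hj : 1 ≤ j) (h : Hom G Ω (j + 1))
    (hq : ∀ q : ℕ, IsPrimePow q → q ∣ j + 1 → j + q ≤ Fintype.card Ω) : Hom G Ω j := by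
  classical
  intro A B hA hB
  have hn : j + 1 ≤ Fintype.card Ω := by
    have hp := Nat.minFac_prime (show j + 1 ≠ 1 by omega)
    have := hq _ hp.isPrimePow (Nat.minFac_dvd _)
    have := hp.two_le
    omega
  let O : Finset Ω → Prop := fun C => ∃ g : G, g • A = C
  let m : Finset Ω → ℕ := fun S => #((S.powersetCard j).filter O)
  have h1 : ∀ S T : Finset Ω, #S = j + 1 → #T = j + 1 → m S ≤ m T := fun S T hS hT => by
    obtain ⟨g, rfl⟩ := h S T hS hT
    refine card_le_card_of_injOn (g • ·) (fun C hC => ?_) (MulAction.injective g).injOn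
    simp only [coe_filter, mem_powersetCard, Set.mem_setOf_eq] at hC ⊢
    obtain ⟨⟨h1, h2⟩, u, h3⟩ := hC
    exact ⟨⟨smul_finset_subset_smul_finset h1, by rw [card_smul_finset, h2]⟩, g * u,
      by rw [mul_smul, h3]⟩
  obtain ⟨S, hS, hS'⟩ := exists_superset_card_eq (s := A) (n := j + 1) (by omega) hn
  obtain ⟨S1, hS1, hS1'⟩ := exists_superset_card_eq (s := B) (n := j + 1) (by omega) hn
  have h2 : j + 1 ∣ m S1 := by
    refine (Nat.dvd_iff_prime_pow_dvd_dvd _ _).2 fun p a hp ha => ?_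
    rcases Nat.eq_zero_or_pos a with rfl | ha0
    · simp
    obtain ⟨b, c, hc, e⟩ := Nat.exists_eq_pow_mul_and_not_dvd (n := j + 1) j.succ_ne_zero p hp.ne_one
    have hab : a ≤ b := by
      rw [e] at ha
      exact (Nat.pow_dvd_pow_iff_le_right hp.one_lt).1
        (((hp.coprime_iff_not_dvd.2 hc).pow_left a).dvd_of_dvd_mul_right ha)
    refine (pow_dvd_pow p hab).trans ?_
    obtain ⟨T, -, hT⟩ := exists_subset_card_eq (s := (univ : Finset Ω)) (n := j + p ^ b)
      (hq _ (hp.isPrimePow.pow (by omega)) ⟨c, e⟩)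
    have h3 := card_mul_eq_card_mul (s := (T.powersetCard j).filter O) (t := T.powersetCard (j + 1))
      (fun C S => C ⊆ S) (m := p ^ b) (n := m S1) (fun C hC => by
        simp only [mem_filter, mem_powersetCard] at hC
        rw [bipartiteAbove, card_filter_powersetCard_subset _ _ _ hC.1.1 (by omega), hT, hC.1.2]
        simp) (fun S hS => by
        rw [mem_powersetCard] at hS
        rw [← le_antisymm (h1 S S1 hS.2 hS1') (h1 S1 S hS1' hS.2)]
        congr 1
        ext C
        simp only [bipartiteBelow, mem_filter, mem_powersetCard]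
        exact ⟨fun h => ⟨⟨h.2, h.1.1.2⟩, h.1.2⟩, fun h => ⟨⟨⟨h.1.1.trans hS.1, h.1.2⟩, h.2⟩, h.1.1⟩⟩)
    rw [card_powersetCard, hT] at h3
    have h4 := Nat.choose_succ_right_eq (j + p ^ b) j
    rw [Nat.add_sub_cancel_left, Nat.choose_symm_add (a := j)] at h4
    have h5 := choose_modEq_aux hp c b
    rw [show p ^ b * (c + 1) - 1 = j + p ^ b by rw [mul_add, ← e]; omega] at h5
    have h6 : (p ^ b).Coprime ((j + p ^ b).choose (p ^ b)) :=
      (hp.coprime_iff_not_dvd.2 fun h => hc ((h5.dvd_iff dvd_rfl).1 h)).pow_left b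
    refine h6.dvd_of_dvd_mul_right ⟨#((T.powersetCard j).filter O) * c, ?_⟩
    refine Nat.eq_of_mul_eq_mul_right (pow_pos hp.pos b) ?_
    rw [mul_assoc, ← h4, ← mul_assoc, mul_comm (m S1), ← h3, e]
    ring
  have h3 : 0 < m S1 := lt_of_lt_of_le (card_pos.2 ⟨A, mem_filter.2
    ⟨mem_powersetCard.2 ⟨hS, hA⟩, 1, one_smul _ _⟩⟩) (h1 S S1 hS' hS1')
  have h4 : (S1.powersetCard j).filter O = S1.powersetCard j :=
    eq_of_subset_of_card_le (filter_subset _ _) (by
      rw [card_powersetCard, hS1', Nat.choose_succ_self_right]; exact Nat.le_of_dvd h3 h2)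
  exact (mem_filter.1 (h4.ge (mem_powersetCard.2 ⟨hS1, hB⟩))).2

theorem Hom.of_le [Fintype Ω] {k j : ℕ} (h : Hom G Ω k) (hk : 2 * k ≤ Fintype.card Ω + 1)
    (hj : 1 ≤ j) (hjk : j ≤ k) : Hom G Ω j := by
  induction k with
  | zero => omega
  | succ k ih =>
    rcases hjk.eq_or_lt with rfl | h1
    · exact h
    · exact ih (h.pred (by omega) fun q _ hq => by
        have := Nat.le_of_dvd k.succ_pos hq; omega) (by omega) (by omega)

end H24
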