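import Cfsg.Agent.H24.LW1

/-! Jordan sets. -/

set_option autoImplicit false

namespace H24
open MulAction Subgroup Equiv Pointwise

universe u

section
variable {G Ω : Type*} [Group G] [MulAction G Ω]

variable (G) in
/-- Jordan set: the pointwise stabilizer of the complement is transitive on it -/
def JS (Γ : Finset Ω) : Prop := ∀ x ∈ Γ, ∀ y ∈ Γ, ∃ g : G, (∀ z ∉ Γ, g • z = z) ∧ g • x = y

theorem mem_of_fix {Γ : Finset Ω} {g : G} (hg : ∀ z ∉ Γ, g • z = z) {x : Ω} :
    g • x ∈ Γ ↔ x ∈ Γ :=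
  ⟨fun h => by_contra fun e => e (hg x e ▸ h), fun h => by_contra fun e =>
    e (by rwa [(smul_left_cancel_iff g).1 (hg _ e)])⟩

theorem JS.of_cover {S : Finset Ω} (c : Ω)
    (h : ∀ x ∈ S, ∃ T ⊆ S, JS G T ∧ c ∈ T ∧ x ∈ T) : JS G S := by
  have key : ∀ x ∈ S, ∃ g : G, (∀ z ∉ S, g • z = z) ∧ g • c = x := fun x hx => by
    obtain ⟨T, h1, h2, h3, h4⟩ := h x hx
    exact (h2 c h3 x h4).imp fun g e => ⟨fun z hz => e.1 z fun e' => hz (h1 e'), e.2⟩
  intro x hx y hy
  obtain ⟨u, hu, rfl⟩ := key x hx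
  obtain ⟨v, hv, rfl⟩ := key y hy
  exact ⟨v * u⁻¹, fun z hz => by rw [mul_smul, inv_smul_eq_iff.2 (hu z hz).symm, hv z hz],
    by rw [mul_smul, inv_smul_smul]⟩

theorem JS.iff_trans {Γ : Finset Ω} : JS G Γ ↔ IsPretransitive (fixingSubgroup G (Γ : Set Ω)ᶜ)
    (SubMulAction.ofFixingSubgroup G (Γ : Set Ω)ᶜ) := by
  refine ⟨fun h => ⟨fun x y => ?_⟩, fun h x hx y hy => ?_⟩
  · obtain ⟨g, h1, h2⟩ := h x (not_not.1 x.2) y (not_not.1 y.2)
    exact ⟨⟨g, H17.mem_fix_iff.2 h1⟩, Subtype.ext h2⟩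
  · obtain ⟨g, e⟩ := h.exists_smul_eq ⟨x, not_not.2 hx⟩ ⟨y, not_not.2 hy⟩
    exact ⟨g, H17.mem_fix_iff.1 g.2, congrArg Subtype.val e⟩

theorem JS.range {Γ : Finset Ω} (h : JS G Γ) : JS (toPermHom G Ω).range Γ := fun x hx y hy =>
  (h x hx y hy).elim fun g e => ⟨⟨toPermHom G Ω g, g, rfl⟩, e⟩

variable [DecidableEq Ω]

theorem smul_subset_of_fix {S Γ : Finset Ω} {g : G} (hg : ∀ z ∉ S, g • z = z) (h : Γ ⊆ S) :
    g • Γ ⊆ S := fun y hy => by
  obtain ⟨x, hx, rfl⟩ := Finset.mem_smul_finset.1 hy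
  exact (mem_of_fix hg).2 (h hx)

theorem smul_eq_of_fix {S : Finset Ω} {g : G} (hg : ∀ z ∉ S, g • z = z) : g • S = S :=
  Finset.eq_of_subset_of_card_le (smul_subset_of_fix hg le_rfl) (by simp)

theorem JS.smul {Γ : Finset Ω} (h : JS G Γ) (g : G) : JS G (g • Γ) := fun x hx y hy => by
  obtain ⟨x, hx', rfl⟩ := Finset.mem_smul_finset.1 hx
  obtain ⟨y, hy', rfl⟩ := Finset.mem_smul_finset.1 hy
  obtain ⟨u, h1, rfl⟩ := h x hx' y hy'
  refine ⟨g * u * g⁻¹, fun z hz => ?_, by simp [mul_smul]⟩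
  rw [mul_smul, mul_smul, h1 _ (by rwa [Finset.inv_smul_mem_iff]), smul_inv_smul]

theorem JS.union {Γ Δ : Finset Ω} (h : JS G Γ) (h' : JS G Δ) (hne : ¬ Disjoint Γ Δ) :
    JS G (Γ ∪ Δ) := by
  obtain ⟨c, h1, h2⟩ := Finset.not_disjoint_iff.1 hne
  exact JS.of_cover c fun x hx => (Finset.mem_union.1 hx).elim
    (fun e => ⟨Γ, Finset.subset_union_left, h, h1, e⟩)
    fun e => ⟨Δ, Finset.subset_union_right, h', h2, e⟩

theorem not_disjoint_of_card {S A B : Finset Ω} (hA : A ⊆ S) (hB : B ⊆ S)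
    (h : S.card < A.card + B.card) : ¬ Disjoint A B := fun e => by
  have := Finset.card_le_card (Finset.union_subset hA hB)
  rw [Finset.card_union_of_disjoint e] at this
  omega

theorem card_union_lt {A B : Finset Ω} (h : ¬ Disjoint A B) : (A ∪ B).card < A.card + B.card := by
  have := Finset.card_union_add_card_inter A B
  have := (Finset.not_disjoint_iff_nonempty_inter.1 h).card_pos
  omega

theorem JS.conj (S : Finset Ω) : ∀ {Γ Γ' : Finset Ω}, JS G S → JS G Γ → JS G Γ' → Γ ⊆ S →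
    Γ' ⊆ S → Γ'.card = Γ.card → Γ.Nonempty → ∃ g : G, (∀ z ∉ S, g • z = z) ∧ g • Γ' = Γ := by
  induction S using Finset.strongInduction with | H S ih =>
  intro Γ Γ' hS h h' hs hs' hc hne
  have c1 := Finset.card_le_card hs
  obtain e | e := c1.eq_or_lt
  · exact ⟨1, fun _ _ => one_smul _ _, by rw [one_smul, Finset.eq_of_subset_of_card_le hs e.ge,
      Finset.eq_of_subset_of_card_le hs' (hc.trans e).ge]⟩
  obtain ⟨g, hg, h1, h2⟩ : ∃ g : G, (∀ z ∉ S, g • z = z) ∧ ¬ Disjoint Γ (g • Γ') ∧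
      Γ ∪ g • Γ' ≠ S := by
    by_cases c : 2 * Γ.card ≤ S.card
    · obtain ⟨x, hx⟩ := hne
      obtain ⟨y, hy⟩ := Finset.card_pos.1 (hc ▸ Finset.card_pos.2 ⟨x, hx⟩ : 0 < Γ'.card)
      obtain ⟨g, hg, rfl⟩ := hS y (hs' hy) x (hs hx)
      have h1 : ¬ Disjoint Γ (g • Γ') :=
        Finset.not_disjoint_iff.2 ⟨_, hx, Finset.smul_mem_smul_finset hy⟩
      refine ⟨g, hg, h1, fun e => ?_⟩
      have := card_union_lt h1
      rw [e, Finset.card_smul_finset] at this
      omega
    · obtain ⟨x, hx, hx'⟩ := Finset.exists_mem_notMem_of_card_lt_card e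
      obtain ⟨y, hy, hy'⟩ := Finset.exists_mem_notMem_of_card_lt_card (hc.trans_lt e)
      obtain ⟨g, hg, rfl⟩ := hS y hy x hx
      refine ⟨g, hg, not_disjoint_of_card hs (smul_subset_of_fix hg hs')
        (by rw [Finset.card_smul_finset]; omega), fun e => ?_⟩
      rw [← e] at hx
      simp [hx', hy'] at hx
  have h3 : Γ ∪ g • Γ' ⊆ S := Finset.union_subset hs (smul_subset_of_fix hg hs')
  obtain ⟨u, hu, h4⟩ := ih _ (lt_of_le_of_ne h3 h2) (h.union (h'.smul g) h1) h (h'.smul g)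
    Finset.subset_union_left Finset.subset_union_right (by simp [hc]) hne
  exact ⟨u * g, fun z hz => by rw [mul_smul, hg z hz, hu z fun e => hz (h3 e)],
    by rw [mul_smul, h4]⟩

theorem isBlock_of {B : Finset Ω} (h : ∀ g : G, ¬ Disjoint B (g • B) → g • B = B) :
    IsBlock G (B : Set Ω) := isBlock_iff_smul_eq_or_disjoint.2 fun g => by
  rw [← Finset.coe_smul_finset, Finset.coe_inj, Finset.disjoint_coe, disjoint_comm]
  exact or_iff_not_imp_right.2 (h g)

variable [Fintype Ω]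

theorem prim_block [IsPreprimitive G Ω] {B : Finset Ω}
    (h : ∀ g : G, ¬ Disjoint B (g • B) → g • B = B) : B.card ≤ 1 ∨ B.card = Fintype.card Ω :=
  (IsPreprimitive.isTrivialBlock_of_isBlock (isBlock_of h)).imp
    (fun e => Finset.card_le_one.2 fun _ a _ b => e a b)
    fun e => by rw [Finset.coe_eq_univ.1 e, Finset.card_univ]

theorem JS.block_dvd {S D : Finset Ω} (h : JS G S) (hD : D ⊆ S) (hne : D.Nonempty)
    (hb : ∀ g : G, (∀ z ∉ S, g • z = z) → ¬ Disjoint D (g • D) → g • D = D) : D.card ∣ S.card := by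
  have := JS.iff_trans.1 h
  obtain ⟨x, hx⟩ := hne
  have := (isBlock_of (G := fixingSubgroup G (S : Set Ω)ᶜ) fun g =>
    hb g (H17.mem_fix_iff.1 g.2)).subtype_val_preimage
    (C := SubMulAction.ofFixingSubgroup G (S : Set Ω)ᶜ) |>.ncard_dvd_card
      ⟨⟨x, not_not.2 (hD hx)⟩, hx⟩
  erw [Set.ncard_preimage_of_injective_subset_range Subtype.val_injective
    (fun y hy => ⟨⟨y, not_not.2 (hD hy)⟩, rfl⟩), H17.card_ofFix, Set.ncard_compl,
    Nat.sub_sub_self (Set.ncard_le_card _)] at this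
  simpa using this

theorem JS.of_mt {k : ℕ} (h : IsMultiplyPretransitive G Ω (k + 1)) {s : Finset Ω}
    (hs : s.card = k) : JS G sᶜ := fun _ hx _ hy => by
  simpa using H17.mt_fix_trans h s hs (Finset.mem_compl.1 hx) (Finset.mem_compl.1 hy)

theorem JS.mt_succ {k : ℕ} (h : IsMultiplyPretransitive G Ω k) {s : Finset Ω}
    (hs : s.card + k = Fintype.card Ω) (hJ : JS G s) : IsMultiplyPretransitive G Ω (k + 1) :=
  H17.mt_succ_of_one h sᶜ (by rw [Finset.card_compl]; omega) fun a b ha hb => by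
    simpa using hJ a (by simpa using ha) b (by simpa using hb)

theorem JS.two (hG : IsPreprimitive G Ω) {Γ : Finset Ω} (h : JS G Γ) (h1 : 1 < Γ.card)
    (h2 : Γ.card < Fintype.card Ω) : IsMultiplyPretransitive G Ω 2 :=
  hG.is_two_pretransitive (n := Fintype.card Ω - Γ.card - 1)
    (by rw [Set.ncard_compl, Set.ncard_coe_finset, Nat.card_eq_fintype_card]; omega)
    (by rw [Nat.card_eq_fintype_card]; omega) (JS.iff_trans.1 h)

theorem JS.three (hG : IsPreprimitive G Ω) {Γ : Finset Ω} (h : JS G Γ) (h1 : 1 < Γ.card)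
    (h2 : 2 * Γ.card ≤ Fintype.card Ω) : IsMultiplyPretransitive G Ω 3 := by
  classical
  have t2 := h.two hG h1 (by omega)
  obtain ⟨A, hA, hmax⟩ := Finset.exists_max_image (Finset.univ.filter fun A : Finset Ω =>
    JS G A ∧ A.card + 2 ≤ Fintype.card Ω) Finset.card ⟨Γ, by simp [h]; omega⟩
  simp only [Finset.mem_filter, Finset.mem_univ, true_and, and_imp] at hA hmax
  have hΓ := hmax Γ h (by omega)
  have k1 : ∀ g : G, ∀ C, JS G C → ¬ Disjoint (g • A) C → (g • A ∪ C).card + 2 ≤ Fintype.card Ω →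
      C ⊆ g • A := fun g C hC e e' => Finset.union_eq_left.1 (Finset.eq_of_subset_of_card_le
        Finset.subset_union_left (by simpa using hmax _ ((hA.1.smul g).union hC e) e')).symm
  have k2 : Fintype.card Ω ≤ 2 * A.card := by_contra fun e => by
    have := prim_block (G := G) (B := A) fun g e' => (Finset.eq_of_subset_of_card_le
      (k1 g A hA.1 (fun e => e' e.symm) (by
        have := card_union_lt (fun e => e' e.symm : ¬ Disjoint (g • A) A)
        rw [Finset.card_smul_finset] at this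
        omega)) (by simp)).symm
    omega
  have c2 : ∀ {a b : Ω} {B C : Finset Ω}, a ≠ b → a ∉ B → b ∉ B → a ∉ C → b ∉ C →
      B ∪ C ⊆ ({a, b} : Finset Ω)ᶜ ∧ (({a, b} : Finset Ω)ᶜ).card + 2 = Fintype.card Ω :=
    fun {a b B C} e e1 e2 e3 e4 => ⟨fun x hx => by
      rw [Finset.mem_compl, Finset.mem_insert, Finset.mem_singleton]
      rintro (rfl | rfl) <;> simp_all, by
      rw [← Finset.card_pair e, Finset.card_compl_add_card]⟩
  have k4 : ∀ {a b : Ω} {g : G} {C : Finset Ω}, JS G C → a ≠ b → a ∉ g • A → b ∉ g • A → a ∉ C →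
      b ∉ C → ¬ Disjoint (g • A) C → C ⊆ g • A := fun hC e e1 e2 e3 e4 e5 => k1 _ _ hC e5 (by
    have := c2 e e1 e2 e3 e4
    have := Finset.card_le_card this.1
    omega)
  have k3 : ∀ {a b : Ω} {g u : G}, a ≠ b → a ∉ g • A → b ∉ g • A → a ∉ u • A → b ∉ u • A →
      u • A = g • A := fun e e1 e2 e3 e4 => Finset.eq_of_subset_of_card_le
    (k4 (hA.1.smul _) e e1 e2 e3 e4 (by
      have := c2 e e1 e2 e3 e4
      exact not_disjoint_of_card (Finset.union_subset_left this.1) (Finset.union_subset_right this.1)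
        (by simp only [Finset.card_smul_finset]; omega))) (by simp)
  obtain e | e := hA.2.eq_or_lt
  · exact hA.1.mt_succ t2 e
  exfalso
  have k5 : ∀ a b : Ω, a ≠ b → ∃ (g : G) (z : Ω), a ∉ g • A ∧ b ∉ g • A ∧ z ∉ g • A ∧ z ≠ a ∧
      z ≠ b := fun a b hab => by
    obtain ⟨x, y, z, hx, hy, hz, e1, e2, e3⟩ := Finset.two_lt_card_iff.1
      (show 2 < Aᶜ.card by rw [Finset.card_compl]; omega)
    obtain ⟨g, hg⟩ := H17.mt_iff.1 t2 _ _ (H17.inj2 e1) (H17.inj2 hab)
    obtain rfl : g • x = a := hg 0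
    obtain rfl : g • y = b := hg 1
    exact ⟨g, g • z, by simpa using hx, by simpa using hy, by simpa using hz,
      by simpa using e2.symm, by simpa using e3.symm⟩
  obtain ⟨x, hx, y, hy, hxy⟩ := Finset.one_lt_card.1 h1
  choose! g z hz using k5 x
  have ne : ∀ a, a ∉ Γ → x ≠ a := fun a ha e => ha (e ▸ hx)
  have k6 : ∀ u : G, ¬ Disjoint (u • A) Γ := fun u hu => by
    obtain ⟨a, ha⟩ := Finset.card_pos.1 (show 0 < (u • A).card by simp only [Finset.card_smul_finset]; omega)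
    have hΓ := fun {c} (e : c ∈ Γ) => Finset.disjoint_right.1 hu e
    have ha' := Finset.disjoint_left.1 hu ha
    obtain ⟨e1, e2, e3, e4, e5⟩ := hz a (ne a ha')
    by_cases c : z a ∈ u • A
    · by_cases c' : Disjoint (g a • A) Γ
      · exact e2 (k3 hxy e1 (Finset.disjoint_right.1 c' hy) (hΓ hx) (hΓ hy) ▸ ha)
      · exact e1 (k4 h e5 e3 e2 (Finset.disjoint_left.1 hu c) ha' c' hx)
    · exact e2 (k3 e4 e3 e1 c (hΓ hx) ▸ ha)
  have := Finset.card_le_card_of_injOn (s := Γᶜ) (t := Γ.erase x) z (fun a ha => by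
    have ha' := Finset.mem_compl.1 ha
    obtain ⟨e1, e2, e3, e4, e5⟩ := hz a (ne a ha')
    exact Finset.mem_erase.2 ⟨e4, by_contra fun c => e1 (k4 h e5 e3 e2 c ha' (k6 _) hx)⟩)
    fun a ha b hb e => by_contra fun c => by
      have ha' := Finset.mem_compl.1 ha
      have hb' := Finset.mem_compl.1 hb
      obtain ⟨e1, e2, e3, e4, -⟩ := hz a (ne a ha')
      obtain ⟨f1, f2, f3, -, -⟩ := hz b (ne b hb')
      exact e1 (k4 h c e2 (k3 e4 e3 e1 (e ▸ f3) f1 ▸ f2) ha' hb' (k6 _) hx)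
  rw [Finset.card_compl, Finset.card_erase_of_mem hx] at this
  omega

omit [Fintype Ω] in
theorem exists_ind {F : Finset Ω} {g : G} (hg : g • F = F) :
    ∃ σ : IndG G F, ∀ x : F, ((σ • x : F) : Ω) = g • (x : Ω) :=
  ⟨⟨resHom F ⟨g, hg⟩, range_resHom (G := G) F ▸ ⟨_, rfl⟩⟩, fun _ => rfl⟩

omit [Fintype Ω] in
theorem ind_exists {F : Finset Ω} (σ : IndG G F) :
    ∃ g : G, g • F = F ∧ ∀ x : F, g • (x : Ω) = (σ • x : F) := by
  obtain ⟨g, hg⟩ : (σ : Perm F) ∈ (resHom (G := G) F).range := by rw [range_resHom]; exact σ.2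
  exact ⟨g, g.2, fun x => by rw [← resHom_apply, hg]; rfl⟩

theorem smul_compl_eq {Γ : Finset Ω} {g : G} : g • Γᶜ = Γᶜ ↔ g • Γ = Γ := by
  simp only [Finset.ext_iff, ← Finset.inv_smul_mem_iff, Finset.mem_compl, not_iff_not]

theorem JS.ind_two (h3 : IsMultiplyPretransitive G Ω 3) {Γ : Finset Ω} (h : JS G Γ)
    (hne : Γ.Nonempty) : IsMultiplyPretransitive (IndG G Γᶜ) (Γᶜ : Finset Ω) 2 := by
  refine H17.mt_iff.2 fun x y hx hy => ?_
  have e : (y 0 : Ω) ≠ y 1 := fun e => absurd (hy (Subtype.ext e)) (by decide)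
  have h2 : ({(y 0 : Ω), (y 1 : Ω)} : Finset Ω) ⊆ Γᶜ := by
    simp only [Finset.insert_subset_iff, Finset.singleton_subset_iff]
    exact ⟨(y 0).2, (y 1).2⟩
  have := Finset.card_le_card h2
  have := hne.card_pos
  rw [Finset.card_pair e, Finset.card_compl] at *
  obtain ⟨g, hg⟩ := H17.mt_iff.1 (H17.mt_of_le (m := 2) h3 (by omega)
    (by rw [Nat.card_eq_fintype_card]; omega)) _ _ (Subtype.val_injective.comp hx)
    (Subtype.val_injective.comp hy)
  obtain ⟨u, hu, h4⟩ := JS.conj _ (JS.of_mt h3 (Finset.card_pair e)) h (h.smul g)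
    (Finset.subset_compl_comm.1 h2) (Finset.subset_compl_comm.1 (by
      simp only [Finset.insert_subset_iff, Finset.singleton_subset_iff, Finset.mem_compl]
      exact ⟨fun c => Finset.mem_compl.1 (x 0).2 ((Finset.smul_mem_smul_finset_iff g).1
        ((show g • (x 0 : Ω) = y 0 from hg 0) ▸ c :)), fun c => Finset.mem_compl.1 (x 1).2
        ((Finset.smul_mem_smul_finset_iff g).1
        ((show g • (x 1 : Ω) = y 1 from hg 1) ▸ c :))⟩)) (by simp) hne
  obtain ⟨σ, hσ⟩ := exists_ind (smul_compl_eq.2 ((mul_smul u g Γ).trans h4))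
  refine ⟨σ, fun i => Subtype.ext ?_⟩
  rw [hσ, mul_smul]
  exact (congrArg _ (hg i)).trans (hu _ (by fin_cases i <;> simp))

end

/-- Marggraf's theorem -/
theorem JS.alt (n : ℕ) : ∀ {α : Type u} [Fintype α] [DecidableEq α] {G : Subgroup (Perm α)},
    Fintype.card α = n → IsPreprimitive G α → ∀ {Γ : Finset α}, JS G Γ → 1 < Γ.card →
    2 * Γ.card < Fintype.card α → alternatingGroup α ≤ G := by
  induction n using Nat.strong_induction_on with | _ n ih =>
  intro α _ _ G hn hG Γ h h1 h2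
  classical
  have t3 := h.three hG h1 h2.le
  have hne : Γ.Nonempty := Finset.card_pos.1 (by omega)
  have i2 := h.ind_two t3 hne
  obtain ⟨g, hg, hmin⟩ := Finset.exists_min_image (Finset.univ.filter fun g : G =>
    ¬ Disjoint Γ (g • Γ) ∧ g • Γ ≠ Γ) (fun g => (Γ ∪ g • Γ).card) (by
      by_contra e
      have := prim_block (G := G) (B := Γ) fun g e' => by_contra fun e'' => e ⟨g, by simp [e', e'']⟩
      omega)
  simp only [Finset.mem_filter, Finset.mem_univ, true_and, and_imp] at hg hmin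
  have hJ := h.union (h.smul g) hg.1
  set S := Γ ∪ g • Γ
  have hS : Γ ⊆ S := Finset.subset_union_left
  have c1 : S.card < Γ.card + Γ.card := by simpa using card_union_lt hg.1
  have c2 : Γ.card < S.card := Finset.card_lt_card (lt_of_le_of_ne hS fun e => hg.2
    (Finset.eq_of_subset_of_card_le (Finset.union_eq_left.1 e.symm) (by simp)))
  have c3 := Finset.card_sdiff_add_card_eq_card hS
  set D := S \ Γ
  have hb : ∀ u : G, (∀ z ∉ S, u • z = z) → ¬ Disjoint D (u • D) → u • Γ = Γ := fun u hu e => by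
    by_contra c
    have e1 := smul_subset_of_fix hu hS
    have e2 := Finset.eq_of_subset_of_card_le (Finset.union_subset hS e1) (hmin u
      (not_disjoint_of_card hS e1 (by simpa using c1)) c)
    obtain ⟨x, hx, hx'⟩ := Finset.not_disjoint_iff.1 e
    rw [Finset.smul_finset_sdiff] at hx'
    have := (Finset.mem_sdiff.1 hx).1
    rw [← e2, Finset.mem_union] at this
    exact this.elim (Finset.mem_sdiff.1 hx).2 (Finset.mem_sdiff.1 hx').2
  have c4 := hJ.block_dvd (D := D) Finset.sdiff_subset (Finset.card_pos.1 (by omega))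
    fun u hu e => by rw [Finset.smul_finset_sdiff, hb u hu e, smul_eq_of_fix hu]
  have c5 : 2 * D.card ≤ Γ.card := by
    rw [← c3, Nat.dvd_add_right dvd_rfl] at c4
    obtain ⟨k, hk⟩ := c4
    have : 2 ≤ k := by_contra fun e => by
      obtain rfl | rfl : k = 0 ∨ k = 1 := by omega
      all_goals omega
    nlinarith
  have c6 : Fintype.card (Γᶜ : Finset α) + Γ.card = Fintype.card α := by
    rw [Fintype.card_coe, Finset.card_compl_add_card]
  have c7 : ∀ T : Finset α, Disjoint T Γ → (T.subtype (· ∈ Γᶜ)).card = T.card := fun T hT => by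
    rw [Finset.card_subtype, Finset.filter_true_of_mem]
    exact fun x hx => Finset.mem_compl.2 (Finset.disjoint_left.1 hT hx)
  have hd : IsMultiplyPretransitive (IndG G Γᶜ) (Γᶜ : Finset α) D.card := by
    by_cases c : D.card ≤ 2
    · exact H17.mt_of_le i2 c (by rw [Nat.card_eq_fintype_card]; omega)
    have := ih _ (by omega) rfl (isPreprimitive_of_is_two_pretransitive i2)
      (Γ := D.subtype (· ∈ Γᶜ)) (fun x hx y hy => by
        rw [Finset.mem_subtype] at hx hy
        obtain ⟨u, hu, e⟩ := hJ x (Finset.mem_sdiff.1 hx).1 y (Finset.mem_sdiff.1 hy).1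
        obtain ⟨σ, hσ⟩ := exists_ind (smul_compl_eq.2 (hb u hu (Finset.not_disjoint_iff.2
          ⟨_, hy, e ▸ Finset.smul_mem_smul_finset hx⟩)))
        exact ⟨σ, fun z hz => Subtype.ext ((hσ z).trans (hu _ fun e => hz (Finset.mem_subtype.2
          (Finset.mem_sdiff.2 ⟨e, Finset.mem_compl.1 z.2⟩)))), Subtype.ext ((hσ x).trans e)⟩)
      (by rw [c7 D Finset.sdiff_disjoint]; omega) (by rw [c7 D Finset.sdiff_disjoint]; omega)
    refine H17.mt_iff.2 fun x y hx hy => ?_
    obtain ⟨σ, hσ⟩ := H17.mt_iff.1 (H17.mt_of_le (alternatingGroup.isMultiplyPretransitive _)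
      (m := D.card) (by rw [Nat.card_eq_fintype_card]; omega) (Nat.sub_le _ _)) x y hx hy
    exact ⟨⟨σ, this σ.2⟩, hσ⟩
  have j1 : ∀ T : Finset α, Disjoint T Γ → T.card = D.card → JS G (Γ ∪ T) := fun T hT e => by
    obtain ⟨σ, hσ⟩ := hom_iff.1 (Set.powersetCard.isPretransitive_of_isMultiplyPretransitive _ hd)
      _ _ (c7 D Finset.sdiff_disjoint) ((c7 T hT).trans e)
    obtain ⟨u, hu, e'⟩ := ind_exists σ
    have : u • D = T := Finset.eq_of_subset_of_card_le (fun y hy => by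
      obtain ⟨x, hx, rfl⟩ := Finset.mem_smul_finset.1 hy
      rw [e' ⟨x, Finset.mem_compl.2 (Finset.mem_sdiff.1 hx).2⟩, ← Finset.mem_subtype, ← hσ]
      exact Finset.smul_mem_smul_finset (Finset.mem_subtype.2 hx)) (by simp [e])
    rw [← this, ← smul_compl_eq.1 hu, ← Finset.smul_finset_union, Finset.union_sdiff_of_subset hS]
    exact hJ.smul u
  obtain ⟨a, ha, b, hb', hab⟩ := Finset.one_lt_card.1 h1
  have j2 : ∀ T : Finset α, Disjoint T Γ → D.card ≤ T.card → JS G (Γ ∪ T) := fun T hT e =>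
    JS.of_cover a fun x hx => (Finset.mem_union.1 hx).elim
      (fun c => ⟨Γ, Finset.subset_union_left, h, ha, c⟩) fun c => by
        obtain ⟨U, h1, h2, h3⟩ := Finset.exists_subsuperset_card_eq
          (Finset.singleton_subset_iff.2 c) (n := D.card) (by rw [Finset.card_singleton]; omega) e
        exact ⟨_, Finset.union_subset_union_right h2, j1 U (hT.mono_left h2) h3, by simp [ha],
          by simp [h1 (Finset.mem_singleton_self x)]⟩
  have j3 : ∀ k, k + S.card ≤ Fintype.card α + 1 → IsMultiplyPretransitive G α k := fun k => by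
    induction k with
    | zero => exact fun _ => is_zero_pretransitive
    | succ k ih =>
      intro hk
      obtain ⟨T, h1, h2⟩ := Finset.exists_subset_card_eq (s := Γᶜ)
        (n := Fintype.card α - Γ.card - k) (by rw [Finset.card_compl]; omega)
      have h3 : Disjoint T Γ := Finset.disjoint_left.2 fun x hx => Finset.mem_compl.1 (h1 hx)
      exact (j2 T h3 (by omega)).mt_succ (ih (by omega))
        (by rw [Finset.card_union_of_disjoint h3.symm]; omega)
  obtain ⟨u, hu, e⟩ := h a ha b hb'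
  refine H17.bochert_alt G (k := Fintype.card α + 1 - S.card) (by omega) (by omega)
    (j3 _ (by omega)) u u.2 (fun e' => hab (by rw [← e]; show a = (u : Perm α) a; rw [e']; rfl))
    ((Finset.card_le_card fun x hx => by_contra fun c => Perm.mem_support.1 hx (hu x c)).trans_lt
      (by omega))

theorem JS.qp {G Ω : Type*} [Group G] [MulAction G Ω]
    (hqp : ∀ N : Subgroup G, N.Normal → N ≠ ⊥ → IsPretransitive N Ω) {Γ : Finset Ω} (h : JS G Γ)
    (h1 : 1 < Γ.card) {r : Ω → Ω → Prop} (hr : Equivalence r)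
    (hinv : ∀ (g : G) (x y : Ω), r x y → r (g • x) (g • y)) (hn : ¬ ∀ x y, r x y) :
    (∀ g : G, (∀ x, r x (g • x)) → g = 1) ∧ (¬ ∀ x ∈ Γ, ∀ y ∈ Γ, r x y) ∧
      ∀ x ∈ Γ, ∀ z, r x z → z ∈ Γ := by
  let K : Subgroup G := ⟨⟨⟨{g | ∀ x, r x (g • x)}, fun {a b} ha hb x =>
    hr.trans (hb x) (mul_smul a b x ▸ ha _)⟩, fun x => (one_smul G x).symm ▸ hr.refl x⟩,
    fun {a} ha x => hr.symm (by simpa using ha (a⁻¹ • x))⟩
  have k1 : ∀ g : G, (∀ x, r x (g • x)) → g = 1 := fun g hg => by_contra fun e => hn fun x y => by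
    obtain ⟨u, rfl⟩ := (hqp K ⟨fun a ha b x => by
      simpa [mul_smul] using hinv b _ _ (ha (b⁻¹ • x))⟩
      fun e' => e ((eq_bot_iff_forall _).1 e' g hg)).exists_smul_eq x y
    exact u.2 x
  have k2 : ¬ ∀ x ∈ Γ, ∀ y ∈ Γ, r x y := fun e => by
    obtain ⟨a, ha, b, hb, hab⟩ := Finset.one_lt_card.1 h1
    obtain ⟨g, hg, rfl⟩ := h a ha b hb
    refine hab ((one_smul G a).symm.trans (congrArg (· • a) (k1 g fun x => ?_).symm))
    by_cases c : x ∈ Γ
    · exact e _ c _ ((mem_of_fix hg).2 c)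
    · exact (hg x c).symm ▸ hr.refl x
  refine ⟨k1, k2, fun x hx z hz => by_contra fun c => k2 ?_⟩
  have : ∀ y ∈ Γ, r y z := fun y hy => by
    obtain ⟨g, hg, rfl⟩ := h x hx y hy
    exact hg z c ▸ hinv g _ _ hz
  exact fun a ha b hb => hr.trans (this a ha) (hr.symm (this b hb))

theorem JS.qp_trans {G Ω : Type*} [Group G] [MulAction G Ω]
    (hqp : ∀ N : Subgroup G, N.Normal → N ≠ ⊥ → IsPretransitive N Ω) {Γ : Finset Ω} (h : JS G Γ)
    (h1 : 1 < Γ.card) : IsPretransitive G Ω := by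
  obtain ⟨a, ha, b, hb, hab⟩ := Finset.one_lt_card.1 h1
  obtain ⟨g, -, rfl⟩ := h a ha b hb
  exact ⟨fun x y => ((hqp ⊤ inferInstance fun e => hab (by
    rw [(eq_bot_iff_forall _).1 e g (mem_top g), one_smul])).exists_smul_eq x y).elim
    fun u e => ⟨u, e⟩⟩

/-- action on the classes of an invariant equivalence relation -/
@[reducible] def qact (G : Type*) {Ω : Type*} [Group G] [MulAction G Ω] (r : Setoid Ω)
    (h : ∀ (g : G) (x y : Ω), r x y → r (g • x) (g • y)) : MulAction G (Quotient r) where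
  smul g := Quotient.map (g • ·) (h g)
  one_smul := by rintro ⟨x⟩; exact congrArg _ (one_smul _ _)
  mul_smul := by rintro a b ⟨x⟩; exact congrArg _ (mul_smul _ _ _)

theorem JS.alt_qp {G : Type*} [Group G] (n : ℕ) : ∀ {Ω : Type u} [MulAction G Ω] [Fintype Ω]
    [DecidableEq Ω], Fintype.card Ω = n →
    (∀ N : Subgroup G, N.Normal → N ≠ ⊥ → IsPretransitive N Ω) → ∀ {Γ : Finset Ω}, JS G Γ →
    1 < Γ.card → 2 * Γ.card < Fintype.card Ω → alternatingGroup Ω ≤ (toPermHom G Ω).range := by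
  induction n using Nat.strong_induction_on with | _ n ih =>
  intro Ω _ _ _ hn hqp Γ h h1 h2
  classical
  have := h.qp_trans hqp h1
  have : IsPreprimitive G Ω := H17.prim_of_rel fun r hr hinv => by_contra fun c => by
    rw [not_or] at c
    obtain ⟨k1, k2, k3⟩ := h.qp hqp h1 hr hinv c.2
    let s : Setoid Ω := ⟨r, hr⟩
    let := qact G s hinv
    let π := Quotient.mk s
    have e1 : ∀ (g : G) x, g • π x = π (g • x) := fun _ _ => rfl
    have e2 : ∀ {x y}, π x = π y ↔ r x y := Quotient.eq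
    obtain ⟨a, ha, b, hab, hr'⟩ : ∃ a ∈ Γ, ∃ b, a ≠ b ∧ r a b := by
      obtain ⟨c1, -⟩ := c
      push Not at c1
      obtain ⟨x, y, h3, h4⟩ := c1
      obtain ⟨a, ha⟩ := Finset.card_pos.1 (show 0 < Γ.card by omega)
      obtain ⟨g, rfl⟩ := exists_smul_eq G x a
      exact ⟨_, ha, g • y, by simpa using h4, hinv g _ _ h3⟩
    have e3 : ∀ x, (Finset.univ.filter (π · = π x)).card = (Finset.univ.filter (π · = π a)).card :=
      fun x => by
        obtain ⟨g, rfl⟩ := exists_smul_eq G a x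
        rw [← Finset.card_smul_finset g (Finset.univ.filter (π · = π a))]
        congr 1
        ext y
        simp [← Finset.inv_smul_mem_iff, ← e1, inv_smul_eq_iff]
    have e4 := Finset.mul_card_image_le_card (f := π) Γ (Finset.univ.filter (π · = π a)).card
      fun q hq => by
        obtain ⟨x, hx, rfl⟩ := Finset.mem_image.1 hq
        rw [← e3 x]
        exact Finset.card_le_card fun y hy => Finset.mem_filter.2
          ⟨k3 x hx y (e2.1 (Finset.mem_filter.1 hy).2.symm), (Finset.mem_filter.1 hy).2⟩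
    have e5 := Finset.card_le_mul_card_image_of_maps_to (f := π) (s := Finset.univ)
      (t := Finset.univ) (fun _ _ => Finset.mem_univ _) (Finset.univ.filter (π · = π a)).card
      (by rintro ⟨x⟩ -; exact (e3 x).le)
    rw [Finset.card_univ, Finset.card_univ] at e5
    have e6 : 2 * (Γ.image π).card < Fintype.card (Quotient s) := by
      refine Nat.lt_of_mul_lt_mul_left (a := (Finset.univ.filter (π · = π a)).card) ?_
      rw [mul_left_comm]; omega
    have e7 : 1 < (Γ.image π).card := by_contra fun e => k2 fun x hx y hy => e2.1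
      (Finset.card_le_one.1 (not_lt.1 e) _ (Finset.mem_image_of_mem π hx) _
        (Finset.mem_image_of_mem π hy))
    have e8 : ∀ g : G, (∀ z ∉ Γ, g • z = z) → ∀ q ∉ Γ.image π, g • q = q := by
      rintro g hg ⟨z⟩ hz
      exact congrArg π (hg z fun e => hz (Finset.mem_image_of_mem π e))
    have := ih _ (hn ▸ Fintype.card_lt_of_surjective_not_injective π Quotient.mk_surjective
      fun e => hab (e (e2.2 hr'))) rfl (fun N h3 h4 => ⟨by
        rintro ⟨x⟩ ⟨y⟩
        obtain ⟨g, rfl⟩ := (hqp N h3 h4).exists_smul_eq x y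
        exact ⟨g, rfl⟩⟩) (Γ := Γ.image π) (fun p hp q hq => by
        obtain ⟨x, hx, rfl⟩ := Finset.mem_image.1 hp
        obtain ⟨y, hy, rfl⟩ := Finset.mem_image.1 hq
        obtain ⟨g, hg, rfl⟩ := h x hx y hy
        exact ⟨g, e8 g hg, rfl⟩) e7 e6
    obtain ⟨p, hp, q, hq, hpq⟩ := Finset.one_lt_card.1 (show 1 < (Γ.image π)ᶜ.card by
      rw [Finset.card_compl]; omega)
    rw [Finset.mem_compl] at hp hq
    have ha' := Finset.mem_image_of_mem π ha
    have h3 : π a ≠ p := fun e => hp (e ▸ ha')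
    have h4 : π a ≠ q := fun e => hq (e ▸ ha')
    obtain ⟨g, hg⟩ := this (show swap (π a) p * swap (π a) q ∈ _ by simp [h3, h4])
    obtain ⟨u, hu, rfl⟩ := h a ha b (k3 a ha b hr')
    have h5 : toPermHom G _ (u * g) = toPermHom G (Quotient s) (g * u) := by
      have f1 : toPermHom G _ u (π a) = π a := (e2.2 hr').symm
      have f2 : toPermHom G _ u p = p := e8 u hu p hp
      have f3 : toPermHom G _ u q = q := e8 u hu q hq
      rw [map_mul, map_mul, hg, ← mul_assoc, mul_swap_eq_swap_mul (toPermHom G _ u), f1, f2, mul_assoc,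
        mul_swap_eq_swap_mul (toPermHom G _ u), f1, f3, mul_assoc]
    have h6 := k1 ((g * u)⁻¹ * (u * g)) fun x => e2.1 (by
      rw [← e1, mul_smul, eq_inv_smul_iff]; exact (Equiv.congr_fun h5 (π x)).symm)
    have h7 : g • p = π a := by
      have : toPermHom G _ g p = _ := Equiv.congr_fun hg p
      rwa [Perm.mul_apply, swap_apply_of_ne_of_ne h3.symm hpq, swap_apply_right] at this
    have h8 := hu (g⁻¹ • a) fun e => hp (by
      rw [← inv_smul_smul g p, h7]; exact Finset.mem_image_of_mem π e)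
    rw [inv_mul_eq_one] at h6
    exact hab (by rw [← smul_inv_smul g a, ← mul_smul u, ← h6, mul_smul, h8])
  exact JS.alt _ rfl H17.range_prim h.range h1 h2

end H24
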