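import Cfsg.Agent.H24.LA0

/-! Generated: relations for the centralizer of an element of order three. -/

set_option maxRecDepth 100000
set_option maxHeartbeats 4000000
set_option linter.unusedVariables false

open Subgroup
open scoped commutatorElement
namespace H24.L4
open H0 H0.PM H16 H19 H10.X

def QQ {G : Type*} [Group G] (z w a c f : G) : Prop :=
  z ^ 3 = 1 ∧
  w ^ 3 = 1 ∧
  a ^ 3 = 1 ∧
  c ^ 3 = 1 ∧
  f ^ 3 = 1 ∧
  w * z = z * w ∧
  a * z = z * a ∧
  c * z = z * c ∧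
  f * z = z * f ∧
  w * a = a * w ∧
  w * c = c * w ∧
  a * f = f * a ∧
  c * f = f * c ∧
  ⁅w, f⁆ = z ∧
  ⁅c, a⁆ = z ∧ True
def CC {G : Type*} [Group G] (z w a c f d m t : G) : Prop :=
  z ^ 3 = 1 ∧
  w ^ 3 = 1 ∧
  a ^ 3 = 1 ∧
  c ^ 3 = 1 ∧
  f ^ 3 = 1 ∧
  w * z = z * w ∧
  a * z = z * a ∧
  c * z = z * c ∧
  f * z = z * f ∧
  w * a = a * w ∧
  w * c = c * w ∧
  a * f = f * a ∧
  c * f = f * c ∧
  ⁅w, f⁆ = z ∧
  ⁅c, a⁆ = z ∧
  d ^ 3 = 1 ∧
  t * t = 1 ∧
  m * m = t ∧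
  (m * d) ^ 3 = 1 ∧
  d * z = z * d ∧
  m * z = z * m ∧
  d * t = t * d ∧
  d * w = w * d ∧
  d * c = c * d ∧
  d * a * d⁻¹ = a * w⁻¹ ∧
  d * f * d⁻¹ = f * c⁻¹ ∧
  m * w * m⁻¹ = a ∧
  m * a * m⁻¹ = w⁻¹ ∧
  m * c * m⁻¹ = f ∧
  m * f * m⁻¹ = c⁻¹ ∧
  t * z = z * t ∧
  t * w * t⁻¹ = w⁻¹ ∧
  t * a * t⁻¹ = a⁻¹ ∧
  t * c * t⁻¹ = c⁻¹ ∧
  t * f * t⁻¹ = f⁻¹ ∧ True
def SS {G : Type*} [Group G] (z w a c f d m t s : G) : Prop :=
  s * s = 1 ∧
  s * z * s⁻¹ = z⁻¹ ∧
  s * w * s⁻¹ = w⁻¹ ∧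
  s * c * s⁻¹ = c⁻¹ ∧
  s * d * s⁻¹ = d⁻¹ ∧
  s * m * s⁻¹ = m⁻¹ ∧
  s * a = a * s ∧
  s * f = f * s ∧
  s * t = t * s ∧ True
def NN {G : Type*} [Group G] (z w a c f d m t s n : G) : Prop :=
  n * n = 1 ∧
  n * z * n⁻¹ = w ∧
  n * a * n⁻¹ = a⁻¹ ∧
  n * c * n⁻¹ = d ∧
  (t * n) ^ 2 = s ∧
  (t * n * f⁻¹) ^ 3 = 1 ∧
  (m * n) ^ 3 = 1 ∧ True
def Q8 {G : Type*} [Group G] (m j d t : G) : Prop :=
  t * t = 1 ∧
  m * m = t ∧
  j * j = t ∧
  j * m * j⁻¹ = m⁻¹ ∧
  d * m * d⁻¹ = j ∧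
  d * j * d⁻¹ = j * m ∧
  d * t = t * d ∧ True
theorem Q8.map {G G' : Type*} [Group G] [Group G'] {m j d t : G} (h : Q8 m j d t) (φ : G →* G') :
    Q8 (φ m) (φ j) (φ d) (φ t) :=
  ⟨by simpa only [map_mul, map_pow, map_inv, map_one, map_commutatorElement] using congrArg φ h.1,
   by simpa only [map_mul, map_pow, map_inv, map_one, map_commutatorElement] using congrArg φ h.2.1,
   by simpa only [map_mul, map_pow, map_inv, map_one, map_commutatorElement] using congrArg φ h.2.2.1,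
   by simpa only [map_mul, map_pow, map_inv, map_one, map_commutatorElement] using congrArg φ h.2.2.2.1,
   by simpa only [map_mul, map_pow, map_inv, map_one, map_commutatorElement] using congrArg φ h.2.2.2.2.1,
   by simpa only [map_mul, map_pow, map_inv, map_one, map_commutatorElement] using congrArg φ h.2.2.2.2.2.1,
   by simpa only [map_mul, map_pow, map_inv, map_one, map_commutatorElement] using congrArg φ h.2.2.2.2.2.2.1, trivial⟩
theorem Q8.comap {G G' : Type*} [Group G] [Group G'] {m j d t : G} {φ : G →* G'} (hφ : Function.Injective φ)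
    (h : Q8 (φ m) (φ j) (φ d) (φ t)) : Q8 m j d t :=
  ⟨hφ (by simpa only [map_mul, map_pow, map_inv, map_one, map_commutatorElement] using h.1),
   hφ (by simpa only [map_mul, map_pow, map_inv, map_one, map_commutatorElement] using h.2.1),
   hφ (by simpa only [map_mul, map_pow, map_inv, map_one, map_commutatorElement] using h.2.2.1),
   hφ (by simpa only [map_mul, map_pow, map_inv, map_one, map_commutatorElement] using h.2.2.2.1),
   hφ (by simpa only [map_mul, map_pow, map_inv, map_one, map_commutatorElement] using h.2.2.2.2.1),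
   hφ (by simpa only [map_mul, map_pow, map_inv, map_one, map_commutatorElement] using h.2.2.2.2.2.1),
   hφ (by simpa only [map_mul, map_pow, map_inv, map_one, map_commutatorElement] using h.2.2.2.2.2.2.1), trivial⟩
noncomputable def q8_of_r_R : List (List ℕ) := [[0,1],
  [1,0],
  [2,3],
  [3,2],
  [4,5],
  [5,4],
  [6,7],
  [7,6],
  [8,8],
  [8,0,0],
  [8,3,8,2],
  [5,2,2,2],
  [7,2,0,2,0,2,0],
  [4,4,4],
  [6,6,6],
  [1,5,0,4],
  [1,7,0,6]]
theorem q8_of_r {G : Type*} [Group G] {m d y v t : G}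
    (h1 : t * t = 1)
    (h2 : m * m = t)
    (h3 : d * t = t * d)
    (h4 : d ^ 3 = y)
    (h5 : (m * d) ^ 3 = v)
    (h6 : y ^ 3 = 1)
    (h7 : v ^ 3 = 1)
    (h8 : y * m = m * y)
    (h9 : v * m = m * v) :
    Rels (nthG [m, m⁻¹, d, d⁻¹, y, y⁻¹, v, v⁻¹, t]) q8_of_r_R :=
  rels_of_eqs ((InvI.cons h1 InvI.nil) : InvI [m, d, y, v, t] [(nat_lit 4)])
    (AllEq.append (show AllEq [m, d, y, v, t] [((.mul (.v (nat_lit 4)) (.v (nat_lit 4))), .one)] from ⟨h1, trivial⟩)
    (AllEq.append (show AllEq [m, d, y, v, t] [((.mul (.v (nat_lit 0)) (.v (nat_lit 0))), (.v (nat_lit 4)))] from ⟨h2, trivial⟩)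
    (AllEq.append (show AllEq [m, d, y, v, t] [((.mul (.v (nat_lit 1)) (.v (nat_lit 4))), (.mul (.v (nat_lit 4)) (.v (nat_lit 1))))] from ⟨h3, trivial⟩)
    (AllEq.append (show AllEq [m, d, y, v, t] [((.pw (.v (nat_lit 1)) (nat_lit 3)), (.v (nat_lit 2)))] from ⟨h4, trivial⟩)
    (AllEq.append (show AllEq [m, d, y, v, t] [((.pw (.mul (.v (nat_lit 0)) (.v (nat_lit 1))) (nat_lit 3)), (.v (nat_lit 3)))] from ⟨h5, trivial⟩)
    (AllEq.append (show AllEq [m, d, y, v, t] [((.pw (.v (nat_lit 2)) (nat_lit 3)), .one)] from ⟨h6, trivial⟩)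
    (AllEq.append (show AllEq [m, d, y, v, t] [((.pw (.v (nat_lit 3)) (nat_lit 3)), .one)] from ⟨h7, trivial⟩)
    (AllEq.append (show AllEq [m, d, y, v, t] [((.mul (.v (nat_lit 2)) (.v (nat_lit 0))), (.mul (.v (nat_lit 0)) (.v (nat_lit 2))))] from ⟨h8, trivial⟩)
    (show AllEq [m, d, y, v, t] [((.mul (.v (nat_lit 3)) (.v (nat_lit 0))), (.mul (.v (nat_lit 0)) (.v (nat_lit 3))))] from ⟨h9, trivial⟩)))))))))
    [(.v (nat_lit 0)), (.inv (.v (nat_lit 0))), (.v (nat_lit 1)), (.inv (.v (nat_lit 1))), (.v (nat_lit 2)), (.inv (.v (nat_lit 2))), (.v (nat_lit 3)), (.inv (.v (nat_lit 3))), (.v (nat_lit 4))] (by decide +kernel)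
noncomputable def q8_of_2_0_S0 : List ℕ := [nat_lit 0xf00000700000c008014, nat_lit 0x13000001006012]
noncomputable def q8_of_2_0_S : List (List ℕ) := [q8_of_2_0_S0]
noncomputable def q8_of_2_0_defs : List ℕ := [(nat_lit 0x10000200300001003000000080000000000000)]
noncomputable def q8_of_2_0_recs : List ℕ := [(nat_lit 0x10000300004080000200003)]
noncomputable def q8_of_2_0_T : List (List ℕ × ℕ) := [([8,3,0,0,2], (nat_lit 0xc00001400000600000f000007))]
noncomputable def q8_of_2_0_D : H26.Dag := ⟨[1,0,3,2,5,4,7,6,8], [[0,1],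
  [1,0],
  [2,3],
  [3,2],
  [4,5],
  [5,4],
  [6,7],
  [7,6],
  [8,8],
  [8,0,0],
  [8,3,8,2]], [], q8_of_2_0_defs, q8_of_2_0_recs⟩
theorem q8_of_2_0_c : q8_of_2_0_D.check q8_of_2_0_S q8_of_2_0_T = true := by decide +kernel
theorem q8_of_2_0 {G : Type*} [Group G] {g : ℕ → G} (hR : Rels g q8_of_r_R) {H : Subgroup G}
    (hH : ∀ k ∈ [], g k ∈ H) : evA g [8,3,0,0,2] ∈ H :=
  mem_dag (K := 9) (J := [0,1,2,3,4,5,6,7,8,9,10]) (D := q8_of_2_0_D) (by decide +kernel) q8_of_2_0_c (by decide +kernel) hR hH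
theorem q8_of_2 {G : Type*} [Group G] {m d y v t : G}
    (h1 : t * t = 1)
    (h2 : m * m = t)
    (h3 : d * t = t * d)
    (h4 : d ^ 3 = y)
    (h5 : (m * d) ^ 3 = v)
    (h6 : y ^ 3 = 1)
    (h7 : v ^ 3 = 1)
    (h8 : y * m = m * y)
    (h9 : v * m = m * v) :
    d * m * d⁻¹ * (d * m * d⁻¹) = t :=
  mul_inv_eq_one.1 ((evA_eq_tm ((InvI.cons h1 InvI.nil) : InvI [m, d, y, v, t] [(nat_lit 4)]) [(.v (nat_lit 0)), (.inv (.v (nat_lit 0))), (.v (nat_lit 1)), (.inv (.v (nat_lit 1))), (.v (nat_lit 2)), (.inv (.v (nat_lit 2))), (.v (nat_lit 3)), (.inv (.v (nat_lit 3))), (.v (nat_lit 4))] [8,3,0,0,2] (.mul (.mul (.mul (.mul (.v (nat_lit 1)) (.v (nat_lit 0))) (.inv (.v (nat_lit 1)))) (.mul (.mul (.v (nat_lit 1)) (.v (nat_lit 0))) (.inv (.v (nat_lit 1))))) (.inv (.v (nat_lit 4)))) (by decide +kernel)).symm.trans (Subgroup.mem_bot.1 (q8_of_2_0 (q8_of_r h1 h2 h3 h4 h5 h6 h7 h8 h9) (H := ⊥) (List.forall_mem_nil _))))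
noncomputable def q8_of_3_0_S0 : List ℕ := [nat_lit 0x2300000800a012, nat_lit 0x33000008002012, nat_lit 0x3b00000700002c00601e, nat_lit 0x3f000007000030006020, nat_lit 0x4700000b000028002016, nat_lit 0x4f00000f00003c00a016, nat_lit 0x53000050000016004016, nat_lit 0x5b000018004012, nat_lit 0x5b00004c002012, nat_lit 0x5b00000f00000100c014, nat_lit 0x6300001300004800e01e, nat_lit 0x6b00001700005400801e, nat_lit 0x6f000017000058008020, nat_lit 0x7700001b00006400c016, nat_lit 0x7b000078000036002016, nat_lit 0x7f00001b000060004016, nat_lit 0x8700001f000068004016, nat_lit 0x6b000068000041004016, nat_lit 0x8b00002300002c00801e, nat_lit 0xa000049000012, nat_lit 0x8f000023000030008020, nat_lit 0xe000051000012, nat_lit 0x9f00009c00601c, nat_lit 0xa3000098004012, nat_lit 0xa3000027000034004014, nat_lit 0x6700001700000f00000500006100005e01a018, nat_lit 0x9f000098000065006020, nat_lit 0xab00000d002012, nat_lit 0xaf00003700000700000c000014000060000018,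 nat_lit 0xb30000b0000072008020, nat_lit 0x3f00000700000c000014000060000075004018, nat_lit 0xbb00004300004800001e, nat_lit 0x2a00007d00a012, nat_lit 0xbf0000210000260000230000300000a8012018, nat_lit 0xbf00002100002600002300002800009401a018, nat_lit 0x9f000094000089000086008020, nat_lit 0x8e000085000000, nat_lit 0x8e0000a7000006, nat_lit 0xc300004b000058006020, nat_lit 0xc700001600004e004014, nat_lit 0xc700004f00005c00c014, nat_lit 0xcb00002d004012, nat_lit 0xcb00001a00004e00c014, nat_lit 0xd3000031004012, nat_lit 0xd3000099002012, nat_lit 0x220000c40000b1002020, nat_lit 0xb50000220000c0000091000096000051004018, nat_lit 0xb70000560000b90000d3008014, nat_lit 0xcf0000bd0000b7000006, nat_lit 0xc10000cf000006, nat_lit 0xd7000075000012, nat_lit 0x5500007a0000c900c014, nat_lit 0xdb0000670000170000580000c500006d00e018, nat_lit 0xdf00006900005a008020, nat_lit 0xdf0000dc0000d200006e0000c6000031004018, nat_lit 0xe700007300007c00e01e, nat_lit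 0xeb0000e800601a, nat_lit 0xeb00007300008000801e, nat_lit 0xef0000dd004012, nat_lit 0xef00003a000082004014, nat_lit 0xd600009b00001100007d0000ed0000ea006018, nat_lit 0xe20000f10000da0000e4002016, nat_lit 0xf50000e6000000, nat_lit 0xf50000eb000008]
noncomputable def q8_of_3_0_S1 : List ℕ := [nat_lit 0xd700003d0000f90000e300006f00001d0000a1014018, nat_lit 0x9d0001010000cd000004, nat_lit 0xaa0001060000b9000004, nat_lit 0xa500010a0000ae000002, nat_lit 0x4500010e0000e4000006, nat_lit 0x880001120000fe00000a, nat_lit 0x83000116000073000002, nat_lit 0x119000083000002]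
noncomputable def q8_of_3_0_S : List (List ℕ) := [q8_of_3_0_S0, q8_of_3_0_S1]
noncomputable def q8_of_3_0_defs : List ℕ := [(nat_lit 0x80001e0050001c0040001c0020001b007000190010001900000017008000150020001500800014008000130070001200300012004000100030000f0070000d0000000d0080000b0020000b0080000900700009006000090010000900000009007000080050000800500007000000070050000600400006002000060010000600700005005000050030000500400004003000040080000300700003005000030030000300000003004000020000000200700001005000010020000100800000007000000050000000200000001000000020000500200004001000030010000200300001003000000000000000000000)]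
noncomputable def q8_of_3_0_recs : List ℕ := [(nat_lit 0x40001c00038000001f00038ff000380003a030003900037030002e0003b00000390003b000001f0003a05000390003a000001e00039020001b00037000002600037030002a00036020003500023080002c0003503000150000fff0000f00033ff000150002d020002300034070003400016010003000034000001b00034020002200032000001a00032020001600031030002200031010001500030030000b00027000002f00027ff000290002706000240002f01000290002f080002e0001801000110002e020002c0000f00000170002c07000170002b010000f0002a010001900027060002500019030000c0002800000250002807000260002708000230000f000000b0002308000220000e000000a0002202000210001a02000190002102000170001f03000180001e02000180001d00000150001b00000140001a000001100018020000800016010001200016000000500016020000e00014030000e00013030000900011010000b0000f010000a0000e01000010000c080000100008),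
  (nat_lit 0x10000700006ff0000600020ff0001c00007ff0003800021ff0001b0001aff0003400032ff0002300022ff0003100035)]
noncomputable def q8_of_3_0_T : List (List ℕ × ℕ) := [([0,3,1,2,0,3,0,2], (nat_lit 0xc00001400001c00011e00001f00001700000f000007))]
noncomputable def q8_of_3_0_D : H26.Dag := ⟨[1,0,3,2,5,4,7,6,8], [[0,1],
  [1,0],
  [2,3],
  [3,2],
  [4,5],
  [5,4],
  [6,7],
  [7,6],
  [8,8],
  [8,0,0],
  [8,3,8,2],
  [5,2,2,2],
  [7,2,0,2,0,2,0],
  [4,4,4],
  [6,6,6],
  [1,5,0,4],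
  [1,7,0,6]], [], q8_of_3_0_defs, q8_of_3_0_recs⟩
theorem q8_of_3_0_c : q8_of_3_0_D.check q8_of_3_0_S q8_of_3_0_T = true := by decide +kernel
theorem q8_of_3_0 {G : Type*} [Group G] {g : ℕ → G} (hR : Rels g q8_of_r_R) {H : Subgroup G}
    (hH : ∀ k ∈ [], g k ∈ H) : evA g [0,3,1,2,0,3,0,2] ∈ H :=
  mem_dag (K := 9) (J := [0,1,2,3,4,5,6,7,8,9,10,11,12,13,14,15,16]) (D := q8_of_3_0_D) (by decide +kernel) q8_of_3_0_c (by decide +kernel) hR hH
theorem q8_of_3 {G : Type*} [Group G] {m d y v t : G}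
    (h1 : t * t = 1)
    (h2 : m * m = t)
    (h3 : d * t = t * d)
    (h4 : d ^ 3 = y)
    (h5 : (m * d) ^ 3 = v)
    (h6 : y ^ 3 = 1)
    (h7 : v ^ 3 = 1)
    (h8 : y * m = m * y)
    (h9 : v * m = m * v) :
    d * m * d⁻¹ * m * (d * m * d⁻¹)⁻¹ = m⁻¹ :=
  mul_inv_eq_one.1 ((evA_eq_tm ((InvI.cons h1 InvI.nil) : InvI [m, d, y, v, t] [(nat_lit 4)]) [(.v (nat_lit 0)), (.inv (.v (nat_lit 0))), (.v (nat_lit 1)), (.inv (.v (nat_lit 1))), (.v (nat_lit 2)), (.inv (.v (nat_lit 2))), (.v (nat_lit 3)), (.inv (.v (nat_lit 3))), (.v (nat_lit 4))] [0,3,1,2,0,3,0,2] (.mul (.mul (.mul (.mul (.mul (.v (nat_lit 1)) (.v (nat_lit 0))) (.inv (.v (nat_lit 1)))) (.v (nat_lit 0))) (.inv (.mul (.mul (.v (nat_lit 1)) (.v (nat_lit 0))) (.inv (.v (nat_lit 1)))))) (.inv (.inv (.v (nat_lit 0))))) (by decide +kernel)).symm.trans (Subgroup.mem_bot.1 (q8_of_3_0 (q8_of_r h1 h2 h3 h4 h5 h6 h7 h8 h9) (H := ⊥) (List.forall_mem_nil _))))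
noncomputable def q8_of_5_0_S0 : List ℕ := [nat_lit 0x2700002400a012, nat_lit 0x2b000008000010000016, nat_lit 0x3300003000601a, nat_lit 0x33000008000010004016, nat_lit 0x37000024002012, nat_lit 0x3b00000c000012, nat_lit 0x3f00000700002c002016, nat_lit 0x4300001000000d004016, nat_lit 0x4f00000b00004000e01e, nat_lit 0x5300000b00004800e020, nat_lit 0x5b00000d00001d004016, nat_lit 0x900001d000029004016, nat_lit 0x67000018004012, nat_lit 0x6b00001c000012, nat_lit 0x6f00001300005000c016, nat_lit 0x6f00001300004c000016, nat_lit 0x7300007000003a002016, nat_lit 0x7b00001c004012, nat_lit 0x7b000013000015004014, nat_lit 0x8300001700000500e01e, nat_lit 0x8700001700005c00801e, nat_lit 0x8b00001700006000e020, nat_lit 0x4500004a00003b000010000060000055014018, nat_lit 0x8f000017000064008020, nat_lit 0x9700001b00007400e01e, nat_lit 0x9b00001b00007800e020, nat_lit 0xa300001f00008400c016, nat_lit 0xa70000a400006a002016, nat_lit 0xab00001f000080004016,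 nat_lit 0x87000080000071004016, nat_lit 0xbb00002300003000001e, nat_lit 0xbf0000bc00601a, nat_lit 0xbf00002300003400601e, nat_lit 0xc30000020000b4000014, nat_lit 0xc70000020000b8008014, nat_lit 0xcb00004d004012, nat_lit 0xcb00002b000038004014, nat_lit 0xcf000079002012, nat_lit 0xd3000081002012, nat_lit 0xd300000e00006800c014, nat_lit 0xd700003b00004000001e, nat_lit 0x220000a100a012, nat_lit 0xdb00003b000048000020, nat_lit 0xa90000db00004900004600005a000056006018, nat_lit 0x260000a900a012, nat_lit 0xdf000025004012, nat_lit 0xe700004b00000b0000070000240000b4002018, nat_lit 0x860000b9002012, nat_lit 0x260000470000070000240000b40000b9006018, nat_lit 0xe30000e80000bd00c020, nat_lit 0xef000057000060000020, nat_lit 0x560000c900a012, nat_lit 0xcd000059000035004014, nat_lit 0xf30000f000601c, nat_lit 0xf3000057000064006020, nat_lit 0x5e0000d900a012, nat_lit 0xf7000051004012, nat_lit 0xf700002d0000d0004014, nat_lit 0xfb0000c9002012, nat_lit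 0xfb0000ad0000e000c014, nat_lit 0xff0000d9002012, nat_lit 0xea0000d50000f100c020, nat_lit 0x10300006b000078000020, nat_lit 0xf90001030000d10000e90000ee0000b60000ec006018]
noncomputable def q8_of_5_0_S1 : List ℕ := [nat_lit 0xfe0000eb000006, nat_lit 0xf10000f50000ee0000b60001010000f9006018, nat_lit 0x660000f900a012, nat_lit 0xde000106000109004014, nat_lit 0x10700003e0000e400201e, nat_lit 0x10b000108002012, nat_lit 0x10b00003a0000a600c014, nat_lit 0x10f000061004012, nat_lit 0x10f0000420000a6004014, nat_lit 0x6a00004e0000190000a100012100011e01a018, nat_lit 0x1130001020000c2004016, nat_lit 0x117000065004012, nat_lit 0x1170001020000b2004014, nat_lit 0x12300010d00011c00e016, nat_lit 0x12700010d00011c002016, nat_lit 0x11f00011c000139002016, nat_lit 0x12b00012800601a, nat_lit 0x12b00006600011400801e, nat_lit 0x12f00009f0000a800001e, nat_lit 0xb700001100009100008e00006d00014901a018, nat_lit 0x13300009f0000ac00601e, nat_lit 0x13700009f0000b0006020,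 nat_lit 0x13700009f00001f00003100009d00009a004018, nat_lit 0x11b00008f00003100009d00009a000159000156008018, nat_lit 0x15d000139000004, nat_lit 0x15d00013500000a, nat_lit 0x13b00014900014d008020, nat_lit 0x8a000169004012, nat_lit 0x14300016600401a, nat_lit 0x14300016200013d002016, nat_lit 0x14200013d000175002016, nat_lit 0x147000085006012, nat_lit 0x1470000b900a012, nat_lit 0xb10000c2000181004014, nat_lit 0x14b0000b30000bc00c016, nat_lit 0x14b0000b30000b8000016, nat_lit 0x1520000750000e10000e6000096000189000018, nat_lit 0x191000152000140006020, nat_lit 0x19500018e00016900401e, nat_lit 0x14f00014c00018a002016, nat_lit 0x15a00007e00019d006016, nat_lit 0x1a200019e000189000016, nat_lit 0x1950001a500015600016600a01e, nat_lit 0x1720001a900019a000008, nat_lit 0x1ad000179000004, nat_lit 0xc60000be0001290001450001b100016d004018, nat_lit 0xc30000c80001b5000111000016, nat_lit 0x17e0001ba000115000002, nat_lit 0x1190001bd000185000006, nat_lit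 0x1220001c2000131000006, nat_lit 0x11d0001c600012e000002, nat_lit 0x1260001ca00009b00000c, nat_lit 0x930001cd0000a3000004, nat_lit 0x1d1000093000004]
noncomputable def q8_of_5_0_S : List (List ℕ) := [q8_of_5_0_S0, q8_of_5_0_S1]
noncomputable def q8_of_5_0_defs : List ℕ := [(nat_lit 0x80001800800017008000160070001500600015002000140060001200000012008000110060000e0040000e0080000c0080000b0080000a0030000900200009005000080040000800300008002000080070000700500007004000070020000700000007006000060040000600300006007000050060000500500005004000050030000500800004006000040040000400200004000000040080000300700003006000030050000300000003006000020040000200300002006000010050000100400001000000010080000000500000004000000020000000100000000000000020000500100004001000030020000200300001001000010030000000000000),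
  (nat_lit 0x40002c0020002c0010002c0040002b0070002a0070002900700027005000270040002700500026004000260030002600400023002000230080001d0050001d0080001c0080001b0000001b0060001a)]
noncomputable def q8_of_5_0_recs : List ℕ := [(nat_lit 0xff0003a0001d010001d00040060003f0003e010003c0003f02000370003e010003b0003e03000330003d00000210003d080003c0002301000180003c070003b0003c030001a0003b080003b0002201000170003b060003000038030003900014010003900030010002c00039000001400037080003600014030001700011010001100036080003500013010000f00035020001900034010002f00034010002e00033030000d00032000002000032080002d00031080002c00030010000c0002f050002e0002f010000b0002e020002a00021020001f0002a030002000029020002000028000001d00026000001c00025000001800023020002200006000001700022000001600021000000a00020030000e0001e00000060001e03000130001c05000120001b02000130001b08000060001a00000050001902000160000b020001000016000001100014000000f00013020000c00010030000a0000f08000020000e01000080000d02000030000c050000b0000c05000030000a080000800009),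
  (nat_lit 0x20000600007ff0000700024ff0000600028ff0002600025ff0004500043ff0003600035ff0004200051ff0004100030020003100038020004a0004eff0004e00050ff000480004f05000520004d03000530004d030002e00053050004e0004f010004f0005207000520004c050002d00052020002e0005203000510003608000390005101000300005103000500004a030004700050040004800050000004e00031000002d0004e05000480002b02000490002bff0002b00046020002f0004d010002b0004d010002a0004c060004b0002d01000290004b00000440004a05000490004a03000490004703000460004904000460004803000360004500000260004502000390004406000250002803000350004300000250004302000350004201000410004205000380004103000260002308000400002603000400003c03000140001d)]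
noncomputable def q8_of_5_0_T : List (List ℕ × ℕ) := [([3,1,2,1,3,3,0,2,2], (nat_lit 0x80000100000180000200001d600001b00001300000b000007))]
noncomputable def q8_of_5_0_D : H26.Dag := ⟨[1,0,3,2,5,4,7,6,8], [[0,1],
  [1,0],
  [2,3],
  [3,2],
  [4,5],
  [5,4],
  [6,7],
  [7,6],
  [8,8],
  [8,0,0],
  [8,3,8,2],
  [5,2,2,2],
  [7,2,0,2,0,2,0],
  [4,4,4],
  [6,6,6],
  [1,5,0,4],
  [1,7,0,6]], [], q8_of_5_0_defs, q8_of_5_0_recs⟩
theorem q8_of_5_0_c : q8_of_5_0_D.check q8_of_5_0_S q8_of_5_0_T = true := by decide +kernel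
theorem q8_of_5_0 {G : Type*} [Group G] {g : ℕ → G} (hR : Rels g q8_of_r_R) {H : Subgroup G}
    (hH : ∀ k ∈ [], g k ∈ H) : evA g [3,1,2,1,3,3,0,2,2] ∈ H :=
  mem_dag (K := 9) (J := [0,1,2,3,4,5,6,7,8,9,10,11,12,13,14,15,16]) (D := q8_of_5_0_D) (by decide +kernel) q8_of_5_0_c (by decide +kernel) hR hH
theorem q8_of_5 {G : Type*} [Group G] {m d y v t : G}
    (h1 : t * t = 1)
    (h2 : m * m = t)
    (h3 : d * t = t * d)
    (h4 : d ^ 3 = y)
    (h5 : (m * d) ^ 3 = v)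
    (h6 : y ^ 3 = 1)
    (h7 : v ^ 3 = 1)
    (h8 : y * m = m * y)
    (h9 : v * m = m * v) :
    d * (d * m * d⁻¹) * d⁻¹ = d * m * d⁻¹ * m :=
  mul_inv_eq_one.1 ((evA_eq_tm ((InvI.cons h1 InvI.nil) : InvI [m, d, y, v, t] [(nat_lit 4)]) [(.v (nat_lit 0)), (.inv (.v (nat_lit 0))), (.v (nat_lit 1)), (.inv (.v (nat_lit 1))), (.v (nat_lit 2)), (.inv (.v (nat_lit 2))), (.v (nat_lit 3)), (.inv (.v (nat_lit 3))), (.v (nat_lit 4))] [3,1,2,1,3,3,0,2,2] (.mul (.mul (.mul (.v (nat_lit 1)) (.mul (.mul (.v (nat_lit 1)) (.v (nat_lit 0))) (.inv (.v (nat_lit 1))))) (.inv (.v (nat_lit 1)))) (.inv (.mul (.mul (.mul (.v (nat_lit 1)) (.v (nat_lit 0))) (.inv (.v (nat_lit 1)))) (.v (nat_lit 0))))) (by decide +kernel)).symm.trans (Subgroup.mem_bot.1 (q8_of_5_0 (q8_of_r h1 h2 h3 h4 h5 h6 h7 h8 h9) (H := ⊥) (List.forall_mem_nil _))))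
theorem q8_of {G : Type*} [Group G] {m d y v t : G}
    (h1 : t * t = 1)
    (h2 : m * m = t)
    (h3 : d * t = t * d)
    (h4 : d ^ 3 = y)
    (h5 : (m * d) ^ 3 = v)
    (h6 : y ^ 3 = 1)
    (h7 : v ^ 3 = 1)
    (h8 : y * m = m * y)
    (h9 : v * m = m * v) :
    Q8 m (d * m * d⁻¹) d t :=
  ⟨h1,
   h2,
   q8_of_2 h1 h2 h3 h4 h5 h6 h7 h8 h9,
   q8_of_3 h1 h2 h3 h4 h5 h6 h7 h8 h9,
   rfl,
   q8_of_5 h1 h2 h3 h4 h5 h6 h7 h8 h9,
   h3, trivial⟩
noncomputable def q8_v_r_R : List (List ℕ) := [[0,1],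
  [1,0],
  [2,3],
  [3,2],
  [4,5],
  [5,4],
  [6,7],
  [7,6],
  [8,8],
  [8,0,0],
  [8,3,8,2],
  [5,2,2,2],
  [7,2,0,2,0,2,0],
  [4,4,4],
  [6,6,6],
  [1,5,0,4],
  [1,7,0,6]]
theorem q8_v_r {G : Type*} [Group G] {m d y v t : G}
    (h1 : t * t = 1)
    (h2 : m * m = t)
    (h3 : d * t = t * d)
    (h4 : d ^ 3 = y)
    (h5 : (m * d) ^ 3 = v)
    (h6 : y ^ 3 = 1)
    (h7 : v ^ 3 = 1)
    (h8 : y * m = m * y)
    (h9 : v * m = m * v) :
    Rels (nthG [m, m⁻¹, d, d⁻¹, y, y⁻¹, v, v⁻¹, t]) q8_v_r_R :=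
  rels_of_eqs ((InvI.cons h1 InvI.nil) : InvI [m, d, y, v, t] [(nat_lit 4)])
    (AllEq.append (show AllEq [m, d, y, v, t] [((.mul (.v (nat_lit 4)) (.v (nat_lit 4))), .one)] from ⟨h1, trivial⟩)
    (AllEq.append (show AllEq [m, d, y, v, t] [((.mul (.v (nat_lit 0)) (.v (nat_lit 0))), (.v (nat_lit 4)))] from ⟨h2, trivial⟩)
    (AllEq.append (show AllEq [m, d, y, v, t] [((.mul (.v (nat_lit 1)) (.v (nat_lit 4))), (.mul (.v (nat_lit 4)) (.v (nat_lit 1))))] from ⟨h3, trivial⟩)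
    (AllEq.append (show AllEq [m, d, y, v, t] [((.pw (.v (nat_lit 1)) (nat_lit 3)), (.v (nat_lit 2)))] from ⟨h4, trivial⟩)
    (AllEq.append (show AllEq [m, d, y, v, t] [((.pw (.mul (.v (nat_lit 0)) (.v (nat_lit 1))) (nat_lit 3)), (.v (nat_lit 3)))] from ⟨h5, trivial⟩)
    (AllEq.append (show AllEq [m, d, y, v, t] [((.pw (.v (nat_lit 2)) (nat_lit 3)), .one)] from ⟨h6, trivial⟩)
    (AllEq.append (show AllEq [m, d, y, v, t] [((.pw (.v (nat_lit 3)) (nat_lit 3)), .one)] from ⟨h7, trivial⟩)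
    (AllEq.append (show AllEq [m, d, y, v, t] [((.mul (.v (nat_lit 2)) (.v (nat_lit 0))), (.mul (.v (nat_lit 0)) (.v (nat_lit 2))))] from ⟨h8, trivial⟩)
    (show AllEq [m, d, y, v, t] [((.mul (.v (nat_lit 3)) (.v (nat_lit 0))), (.mul (.v (nat_lit 0)) (.v (nat_lit 3))))] from ⟨h9, trivial⟩)))))))))
    [(.v (nat_lit 0)), (.inv (.v (nat_lit 0))), (.v (nat_lit 1)), (.inv (.v (nat_lit 1))), (.v (nat_lit 2)), (.inv (.v (nat_lit 2))), (.v (nat_lit 3)), (.inv (.v (nat_lit 3))), (.v (nat_lit 4))] (by decide +kernel)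
noncomputable def q8_v_0_S0 : List ℕ := [nat_lit 0xf00000c00a012, nat_lit 0x1b00000800401a, nat_lit 0x2300002000601c, nat_lit 0x27000010004012, nat_lit 0x2b000007000018008016, nat_lit 0x13000018000011000016, nat_lit 0x2f00002c00001200e016, nat_lit 0x3b00000b000020000020, nat_lit 0x3f000002000034000014, nat_lit 0x43000002000038008014, nat_lit 0x4700000f00001c00e01e, nat_lit 0x4b00000f00002000e020, nat_lit 0x1e00002d000012, nat_lit 0x5300001300001c00c016, nat_lit 0x57000054000036002016, nat_lit 0x5b000050002012, nat_lit 0x6300006000a012, nat_lit 0x6b000060002012, nat_lit 0x6b00001700002800c014, nat_lit 0x7b00001500005000c01e, nat_lit 0x7f00001a00006000c01e, nat_lit 0x83000021008012, nat_lit 0x87000021006012, nat_lit 0x9300009000601c, nat_lit 0x97000025008012, nat_lit 0xa700002200008c000014, nat_lit 0xa700003f00004800c016, nat_lit 0xb30000310000a0000014, nat_lit 0xb70000310000a4008014, nat_lit 0xbb00002e00007800e01e, nat_lit 0xbf00004f00001300002000002d0000b8010018,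 nat_lit 0x790000bf00004f0000130000100000440000b0000018, nat_lit 0x7d000079000002, nat_lit 0x7d0000b7000004, nat_lit 0x7d000072000010, nat_lit 0x89000082004012, nat_lit 0x810000af000061004020, nat_lit 0x9b00009800009100008d00e020, nat_lit 0x9600008e000000, nat_lit 0x960000a3000004, nat_lit 0xc700004f00005800001e, nat_lit 0xcf0000cc004012, nat_lit 0xcf00005300005c004014, nat_lit 0xd700004500004a00000e00004000005901a018, nat_lit 0x930000880000ad006020, nat_lit 0xdb0000420000d4000014, nat_lit 0xdf00006300006800e020, nat_lit 0x8300003300000b0000180000680000b9014018, nat_lit 0x7300001d00003b0000340000840000be0000ba00a018, nat_lit 0xc1000073000004, nat_lit 0xeb00004e0000c4008016, nat_lit 0xef0000ec0000ca00e016, nat_lit 0xf30000520000d8008016, nat_lit 0xd30000d80000d1000016, nat_lit 0xf7000083000090000020, nat_lit 0xf70000560000ac00e020, nat_lit 0xd90000f70000be0000ba0000c600001d0000a0006018, nat_lit 0xe200009f000006, nat_lit 0xe200006d000010,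 nat_lit 0xe90000d90000de002012, nat_lit 0xed0000b3000006, nat_lit 0xfb000065008012, nat_lit 0x1030000e600009d000016, nat_lit 0x10b0000f20000bc00c016]
noncomputable def q8_v_0_S1 : List ℕ := [nat_lit 0x10b0000f2000085000016, nat_lit 0x10f0000bf0000c800c016, nat_lit 0x10f0000bf0000c4000016, nat_lit 0xce00010900a01a, nat_lit 0x113000110000106002016, nat_lit 0x1130000990000f900001e, nat_lit 0x11300008100010100e01e, nat_lit 0xe70000750000fd0001190001120000a200003a004018, nat_lit 0x6f00011d0000e700000e, nat_lit 0xe3000122000077000008, nat_lit 0x1250000e3000008, nat_lit 0x1190001120000a200003a000029000069000108000018, nat_lit 0x12d000119000002, nat_lit 0x1310001070000f5004020, nat_lit 0xff0000fc00013500011600e020, nat_lit 0x13a000115000000, nat_lit 0x13a000103000006, nat_lit 0x10e000106000111002016, nat_lit 0xd20000b100005e00014100013e00014500a018, nat_lit 0xcd0001490000d500e01e, nat_lit 0xb600014d004012, nat_lit 0xa50000aa00003e0000c40001510000db0000e0000018,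 nat_lit 0xcc0001560000ba000002, nat_lit 0x3500015a0000c6000006, nat_lit 0x500015e00012a00000a, nat_lit 0x16200006f00015e00000900000e, nat_lit 0x16600002300000c]
noncomputable def q8_v_0_S : List (List ℕ) := [q8_v_0_S0, q8_v_0_S1]
noncomputable def q8_v_0_defs : List ℕ := [(nat_lit 0x60002200000022006000200020001f0030001e0020001e0070001d0050001b006000180020001800300017002000170080001400100014004000130030001300200013004000120030001200200012006000100060000f0020000f0030000e0020000e0060000d0000000d0070000c0060000c0020000c0010000c0000000c0000000b0000000a004000070030000700600006008000050060000500100005000000050080000400400004002000040000000400600003004000030030000300200003006000020030000200200002003000010020000100800000007000000060000000400000003000000020000000100000000000000050000000000000),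
  (nat_lit 0x40002f0020002f0020002a0060002900200023)]
noncomputable def q8_v_0_recs : List ℕ := [(nat_lit 0x20002e0004205000260004000000290003e03000120002aff0002a0002c080002c00023030000e00023ff0002700023000002a0003d01000230003d050003c0003402000350003c04000300003b02000300003a020000700019ff000190001c020003700020000001900037080003400036010003500024060002100035030001600033000003200033010001500031020000e00026000002f00026ff000280002607000250002f000002f0002808000280002b02000120002b010002f0002bff0002b0002d000002d0002f000001d0002e08000280002d08000270002c020001100029080002200029000001000025070002300024010000f00021000000f0002004000170001f04000130001e02000090001a01000170001a08000170001801000130001603000060001502000060001408000120000e000000700012000000600011080000d00010080000c0000f01000070000e04000050000b050000a0000402000050000a000000300009070000700008040000100006080000200003),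
  (nat_lit 0x60000000001ff0000800001ff0001b00001ff0000700006ff0001900014ff0003700032000003000036000003400030010003b0003c03000440003b03000230003f00000440003fff000400003f070003e00044010004400041ff0004100042040001b00007ff0000700038ff0001d0001bff000060003900000420004401000400004403000310004405000430003b050003000043020003100043050002b00042)]
noncomputable def q8_v_0_T : List (List ℕ × ℕ) := [([5,6], (nat_lit 0x169000007))]
noncomputable def q8_v_0_D : H26.Dag := ⟨[1,0,3,2,5,4,7,6,8], [[0,1],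
  [1,0],
  [2,3],
  [3,2],
  [4,5],
  [5,4],
  [6,7],
  [7,6],
  [8,8],
  [8,0,0],
  [8,3,8,2],
  [5,2,2,2],
  [7,2,0,2,0,2,0],
  [4,4,4],
  [6,6,6],
  [1,5,0,4],
  [1,7,0,6]], [], q8_v_0_defs, q8_v_0_recs⟩
theorem q8_v_0_c : q8_v_0_D.check q8_v_0_S q8_v_0_T = true := by decide +kernel
theorem q8_v_0 {G : Type*} [Group G] {g : ℕ → G} (hR : Rels g q8_v_r_R) {H : Subgroup G}
    (hH : ∀ k ∈ [], g k ∈ H) : evA g [5,6] ∈ H :=
  mem_dag (K := 9) (J := [0,1,2,3,4,5,6,7,8,9,10,11,12,13,14,15,16]) (D := q8_v_0_D) (by decide +kernel) q8_v_0_c (by decide +kernel) hR hH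
theorem q8_v {G : Type*} [Group G] {m d y v t : G}
    (h1 : t * t = 1)
    (h2 : m * m = t)
    (h3 : d * t = t * d)
    (h4 : d ^ 3 = y)
    (h5 : (m * d) ^ 3 = v)
    (h6 : y ^ 3 = 1)
    (h7 : v ^ 3 = 1)
    (h8 : y * m = m * y)
    (h9 : v * m = m * v) :
    v = y :=
  mul_inv_eq_one.1 ((evA_eq_tm ((InvI.cons h1 InvI.nil) : InvI [m, d, y, v, t] [(nat_lit 4)]) [(.v (nat_lit 0)), (.inv (.v (nat_lit 0))), (.v (nat_lit 1)), (.inv (.v (nat_lit 1))), (.v (nat_lit 2)), (.inv (.v (nat_lit 2))), (.v (nat_lit 3)), (.inv (.v (nat_lit 3))), (.v (nat_lit 4))] [5,6] (.mul (.v (nat_lit 3)) (.inv (.v (nat_lit 2)))) (by decide +kernel)).symm.trans (Subgroup.mem_bot.1 (q8_v_0 (q8_v_r h1 h2 h3 h4 h5 h6 h7 h8 h9) (H := ⊥) (List.forall_mem_nil _))))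
noncomputable def tr00_r_R : List (List ℕ) := [[0,1],
  [1,0],
  [2,3],
  [3,2],
  [4,5],
  [5,4],
  [6,7],
  [7,6],
  [8,8],
  [8,0,0],
  [8,2,2],
  [0,3,0,2],
  [3,5,0,4],
  [3,1,5,2,4],
  [8,5,8,4],
  [6,6,6],
  [7,5,6,4],
  [7,8,6,8],
  [1,7,0,7,1,6,0,6],
  [3,6,2]]
theorem tr00_r {G : Type*} [Group G] {m j d v t : G}
    (h : Q8 m j d t)
    (v3 : v ^ 3 = 1)
    (dv : ⁅d, v⁆ = 1)
    (tv : ⁅t, v⁆ = 1)
    (vu : ⁅v, m * v * m⁻¹⁆ = 1)
    (e : j * v * j⁻¹ = 1 * 1) :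
    Rels (nthG [m, m⁻¹, j, j⁻¹, d, d⁻¹, v, v⁻¹, t]) tr00_r_R :=
  rels_of_eqs ((InvI.cons h.1 InvI.nil) : InvI [m, j, d, v, t] [(nat_lit 4)])
    (AllEq.append (show AllEq [m, j, d, v, t] [((.mul (.v (nat_lit 4)) (.v (nat_lit 4))), .one), ((.mul (.v (nat_lit 0)) (.v (nat_lit 0))), (.v (nat_lit 4))), ((.mul (.v (nat_lit 1)) (.v (nat_lit 1))), (.v (nat_lit 4))), ((.mul (.mul (.v (nat_lit 1)) (.v (nat_lit 0))) (.inv (.v (nat_lit 1)))), (.inv (.v (nat_lit 0)))), ((.mul (.mul (.v (nat_lit 2)) (.v (nat_lit 0))) (.inv (.v (nat_lit 2)))), (.v (nat_lit 1))), ((.mul (.mul (.v (nat_lit 2)) (.v (nat_lit 1))) (.inv (.v (nat_lit 2)))), (.mul (.v (nat_lit 1)) (.v (nat_lit 0)))), ((.mul (.v (nat_lit 2)) (.v (nat_lit 4))), (.mul (.v (nat_lit 4)) (.v (nat_lit 2))))] from h)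
    (AllEq.append (show AllEq [m, j, d, v, t] [((.pw (.v (nat_lit 3)) (nat_lit 3)), .one)] from ⟨v3, trivial⟩)
    (AllEq.append (show AllEq [m, j, d, v, t] [((.mul (.mul (.mul (.v (nat_lit 2)) (.v (nat_lit 3))) (.inv (.v (nat_lit 2)))) (.inv (.v (nat_lit 3)))), .one)] from ⟨dv, trivial⟩)
    (AllEq.append (show AllEq [m, j, d, v, t] [((.mul (.mul (.mul (.v (nat_lit 4)) (.v (nat_lit 3))) (.inv (.v (nat_lit 4)))) (.inv (.v (nat_lit 3)))), .one)] from ⟨tv, trivial⟩)
    (AllEq.append (show AllEq [m, j, d, v, t] [((.mul (.mul (.mul (.v (nat_lit 3)) (.mul (.mul (.v (nat_lit 0)) (.v (nat_lit 3))) (.inv (.v (nat_lit 0))))) (.inv (.v (nat_lit 3)))) (.inv (.mul (.mul (.v (nat_lit 0)) (.v (nat_lit 3))) (.inv (.v (nat_lit 0)))))), .one)] from ⟨vu, trivial⟩)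
    (show AllEq [m, j, d, v, t] [((.mul (.mul (.v (nat_lit 1)) (.v (nat_lit 3))) (.inv (.v (nat_lit 1)))), (.mul .one .one))] from ⟨e, trivial⟩))))))
    [(.v (nat_lit 0)), (.inv (.v (nat_lit 0))), (.v (nat_lit 1)), (.inv (.v (nat_lit 1))), (.v (nat_lit 2)), (.inv (.v (nat_lit 2))), (.v (nat_lit 3)), (.inv (.v (nat_lit 3))), (.v (nat_lit 4))] (by decide +kernel)
noncomputable def tr00_0_S0 : List ℕ := [nat_lit 0xc00000b004012]
noncomputable def tr00_0_S : List (List ℕ) := [tr00_0_S0]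
noncomputable def tr00_0_defs : List ℕ := [(nat_lit 0x2000010010000000000000)]
noncomputable def tr00_0_recs : List ℕ := [(nat_lit 0x60000100001)]
noncomputable def tr00_0_T : List (List ℕ × ℕ) := [([1,6,0], (nat_lit 0x8000001000007))]
noncomputable def tr00_0_D : H26.Dag := ⟨[1,0,3,2,5,4,7,6,8], [[0,1],
  [1,0],
  [2,3],
  [3,2],
  [4,5],
  [5,4],
  [6,7],
  [7,6],
  [8,8],
  [3,6,2]], [6,7], tr00_0_defs, tr00_0_recs⟩
theorem tr00_0_c : tr00_0_D.check tr00_0_S tr00_0_T = true := by decide +kernel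
theorem tr00_0 {G : Type*} [Group G] {g : ℕ → G} (hR : Rels g tr00_r_R) {H : Subgroup G}
    (hH : ∀ k ∈ [6,7], g k ∈ H) : evA g [1,6,0] ∈ H :=
  mem_dag (K := 9) (J := [0,1,2,3,4,5,6,7,8,19]) (D := tr00_0_D) (by decide +kernel) tr00_0_c (by decide +kernel) hR hH
theorem tr00 {G : Type*} [Group G] {m j d v t : G}
    (h : Q8 m j d t)
    (v3 : v ^ 3 = 1)
    (dv : ⁅d, v⁆ = 1)
    (tv : ⁅t, v⁆ = 1)
    (vu : ⁅v, m * v * m⁻¹⁆ = 1)
    (e : j * v * j⁻¹ = 1 * 1)
    {H : Subgroup G} (mv : v ∈ H) :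
    m * v * m⁻¹ ∈ H :=
  Eq.mp (congrArg (· ∈ H) (evA_eq_tm ((InvI.cons h.1 InvI.nil) : InvI [m, j, d, v, t] [(nat_lit 4)]) [(.v (nat_lit 0)), (.inv (.v (nat_lit 0))), (.v (nat_lit 1)), (.inv (.v (nat_lit 1))), (.v (nat_lit 2)), (.inv (.v (nat_lit 2))), (.v (nat_lit 3)), (.inv (.v (nat_lit 3))), (.v (nat_lit 4))] [1,6,0] (.mul (.mul (.v (nat_lit 0)) (.v (nat_lit 3))) (.inv (.v (nat_lit 0)))) (by decide +kernel))) (tr00_0 (tr00_r h v3 dv tv vu e) (H := H) (List.forall_mem_cons.2 ⟨mv, (List.forall_mem_cons.2 ⟨(H.inv_mem mv), (List.forall_mem_nil _)⟩)⟩))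
noncomputable def tr01_r_R : List (List ℕ) := [[0,1],
  [1,0],
  [2,3],
  [3,2],
  [4,5],
  [5,4],
  [6,7],
  [7,6],
  [8,8],
  [8,0,0],
  [8,2,2],
  [0,3,0,2],
  [3,5,0,4],
  [3,1,5,2,4],
  [8,5,8,4],
  [6,6,6],
  [7,5,6,4],
  [7,8,6,8],
  [1,7,0,7,1,6,0,6],
  [1,7,0,3,6,2]]
theorem tr01_r {G : Type*} [Group G] {m j d v t : G}
    (h : Q8 m j d t)
    (v3 : v ^ 3 = 1)
    (dv : ⁅d, v⁆ = 1)
    (tv : ⁅t, v⁆ = 1)
    (vu : ⁅v, m * v * m⁻¹⁆ = 1)
    (e : j * v * j⁻¹ = 1 * (m * v * m⁻¹)) :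
    Rels (nthG [m, m⁻¹, j, j⁻¹, d, d⁻¹, v, v⁻¹, t]) tr01_r_R :=
  rels_of_eqs ((InvI.cons h.1 InvI.nil) : InvI [m, j, d, v, t] [(nat_lit 4)])
    (AllEq.append (show AllEq [m, j, d, v, t] [((.mul (.v (nat_lit 4)) (.v (nat_lit 4))), .one), ((.mul (.v (nat_lit 0)) (.v (nat_lit 0))), (.v (nat_lit 4))), ((.mul (.v (nat_lit 1)) (.v (nat_lit 1))), (.v (nat_lit 4))), ((.mul (.mul (.v (nat_lit 1)) (.v (nat_lit 0))) (.inv (.v (nat_lit 1)))), (.inv (.v (nat_lit 0)))), ((.mul (.mul (.v (nat_lit 2)) (.v (nat_lit 0))) (.inv (.v (nat_lit 2)))), (.v (nat_lit 1))), ((.mul (.mul (.v (nat_lit 2)) (.v (nat_lit 1))) (.inv (.v (nat_lit 2)))), (.mul (.v (nat_lit 1)) (.v (nat_lit 0)))), ((.mul (.v (nat_lit 2)) (.v (nat_lit 4))), (.mul (.v (nat_lit 4)) (.v (nat_lit 2))))] from h)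
    (AllEq.append (show AllEq [m, j, d, v, t] [((.pw (.v (nat_lit 3)) (nat_lit 3)), .one)] from ⟨v3, trivial⟩)
    (AllEq.append (show AllEq [m, j, d, v, t] [((.mul (.mul (.mul (.v (nat_lit 2)) (.v (nat_lit 3))) (.inv (.v (nat_lit 2)))) (.inv (.v (nat_lit 3)))), .one)] from ⟨dv, trivial⟩)
    (AllEq.append (show AllEq [m, j, d, v, t] [((.mul (.mul (.mul (.v (nat_lit 4)) (.v (nat_lit 3))) (.inv (.v (nat_lit 4)))) (.inv (.v (nat_lit 3)))), .one)] from ⟨tv, trivial⟩)
    (AllEq.append (show AllEq [m, j, d, v, t] [((.mul (.mul (.mul (.v (nat_lit 3)) (.mul (.mul (.v (nat_lit 0)) (.v (nat_lit 3))) (.inv (.v (nat_lit 0))))) (.inv (.v (nat_lit 3)))) (.inv (.mul (.mul (.v (nat_lit 0)) (.v (nat_lit 3))) (.inv (.v (nat_lit 0)))))), .one)] from ⟨vu, trivial⟩)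
    (show AllEq [m, j, d, v, t] [((.mul (.mul (.v (nat_lit 1)) (.v (nat_lit 3))) (.inv (.v (nat_lit 1)))), (.mul .one (.mul (.mul (.v (nat_lit 0)) (.v (nat_lit 3))) (.inv (.v (nat_lit 0))))))] from ⟨e, trivial⟩))))))
    [(.v (nat_lit 0)), (.inv (.v (nat_lit 0))), (.v (nat_lit 1)), (.inv (.v (nat_lit 1))), (.v (nat_lit 2)), (.inv (.v (nat_lit 2))), (.v (nat_lit 3)), (.inv (.v (nat_lit 3))), (.v (nat_lit 4))] (by decide +kernel)
noncomputable def tr01_0_S0 : List ℕ := [nat_lit 0x1, nat_lit 0xf000002000010008016, nat_lit 0x1f00000b000010006012, nat_lit 0x1f00000b000008000014006014, nat_lit 0xd00000a00000600000900000e010018, nat_lit 0x1b000014000011000013004016, nat_lit 0x1700001500001b00000e, nat_lit 0x1900001700000e]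
noncomputable def tr01_0_S : List (List ℕ) := [tr01_0_S0]
noncomputable def tr01_0_defs : List ℕ := [(nat_lit 0x50000200700001006000010050000100500000002000000010000000000000)]
noncomputable def tr01_0_recs : List ℕ := [(nat_lit 0x70000100001ff0000100005ff0000100006060000400004030000400007010000300007060000300003060000000000)]
noncomputable def tr01_0_T : List (List ℕ × ℕ) := [([1,6,0], (nat_lit 0x800001e000007))]
noncomputable def tr01_0_D : H26.Dag := ⟨[1,0,3,2,5,4,7,6,8], [[0,1],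
  [1,0],
  [2,3],
  [3,2],
  [4,5],
  [5,4],
  [6,7],
  [7,6],
  [8,8],
  [3,5,0,4],
  [3,1,5,2,4],
  [7,5,6,4],
  [1,7,0,3,6,2]], [6,7], tr01_0_defs, tr01_0_recs⟩
theorem tr01_0_c : tr01_0_D.check tr01_0_S tr01_0_T = true := by decide +kernel
theorem tr01_0 {G : Type*} [Group G] {g : ℕ → G} (hR : Rels g tr01_r_R) {H : Subgroup G}
    (hH : ∀ k ∈ [6,7], g k ∈ H) : evA g [1,6,0] ∈ H :=
  mem_dag (K := 9) (J := [0,1,2,3,4,5,6,7,8,12,13,16,19]) (D := tr01_0_D) (by decide +kernel) tr01_0_c (by decide +kernel) hR hH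
theorem tr01 {G : Type*} [Group G] {m j d v t : G}
    (h : Q8 m j d t)
    (v3 : v ^ 3 = 1)
    (dv : ⁅d, v⁆ = 1)
    (tv : ⁅t, v⁆ = 1)
    (vu : ⁅v, m * v * m⁻¹⁆ = 1)
    (e : j * v * j⁻¹ = 1 * (m * v * m⁻¹))
    {H : Subgroup G} (mv : v ∈ H) :
    m * v * m⁻¹ ∈ H :=
  Eq.mp (congrArg (· ∈ H) (evA_eq_tm ((InvI.cons h.1 InvI.nil) : InvI [m, j, d, v, t] [(nat_lit 4)]) [(.v (nat_lit 0)), (.inv (.v (nat_lit 0))), (.v (nat_lit 1)), (.inv (.v (nat_lit 1))), (.v (nat_lit 2)), (.inv (.v (nat_lit 2))), (.v (nat_lit 3)), (.inv (.v (nat_lit 3))), (.v (nat_lit 4))] [1,6,0] (.mul (.mul (.v (nat_lit 0)) (.v (nat_lit 3))) (.inv (.v (nat_lit 0)))) (by decide +kernel))) (tr01_0 (tr01_r h v3 dv tv vu e) (H := H) (List.forall_mem_cons.2 ⟨mv, (List.forall_mem_cons.2 ⟨(H.inv_mem mv), (List.forall_mem_nil _)⟩)⟩))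
noncomputable def tr02_r_R : List (List ℕ) := [[0,1],
  [1,0],
  [2,3],
  [3,2],
  [4,5],
  [5,4],
  [6,7],
  [7,6],
  [8,8],
  [8,0,0],
  [8,2,2],
  [0,3,0,2],
  [3,5,0,4],
  [3,1,5,2,4],
  [8,5,8,4],
  [6,6,6],
  [7,5,6,4],
  [7,8,6,8],
  [1,7,0,7,1,6,0,6],
  [1,6,0,3,6,2]]
theorem tr02_r {G : Type*} [Group G] {m j d v t : G}
    (h : Q8 m j d t)
    (v3 : v ^ 3 = 1)
    (dv : ⁅d, v⁆ = 1)
    (tv : ⁅t, v⁆ = 1)
    (vu : ⁅v, m * v * m⁻¹⁆ = 1)
    (e : j * v * j⁻¹ = 1 * (m * v * m⁻¹)⁻¹) :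
    Rels (nthG [m, m⁻¹, j, j⁻¹, d, d⁻¹, v, v⁻¹, t]) tr02_r_R :=
  rels_of_eqs ((InvI.cons h.1 InvI.nil) : InvI [m, j, d, v, t] [(nat_lit 4)])
    (AllEq.append (show AllEq [m, j, d, v, t] [((.mul (.v (nat_lit 4)) (.v (nat_lit 4))), .one), ((.mul (.v (nat_lit 0)) (.v (nat_lit 0))), (.v (nat_lit 4))), ((.mul (.v (nat_lit 1)) (.v (nat_lit 1))), (.v (nat_lit 4))), ((.mul (.mul (.v (nat_lit 1)) (.v (nat_lit 0))) (.inv (.v (nat_lit 1)))), (.inv (.v (nat_lit 0)))), ((.mul (.mul (.v (nat_lit 2)) (.v (nat_lit 0))) (.inv (.v (nat_lit 2)))), (.v (nat_lit 1))), ((.mul (.mul (.v (nat_lit 2)) (.v (nat_lit 1))) (.inv (.v (nat_lit 2)))), (.mul (.v (nat_lit 1)) (.v (nat_lit 0)))), ((.mul (.v (nat_lit 2)) (.v (nat_lit 4))), (.mul (.v (nat_lit 4)) (.v (nat_lit 2))))] from h)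
    (AllEq.append (show AllEq [m, j, d, v, t] [((.pw (.v (nat_lit 3)) (nat_lit 3)), .one)] from ⟨v3, trivial⟩)
    (AllEq.append (show AllEq [m, j, d, v, t] [((.mul (.mul (.mul (.v (nat_lit 2)) (.v (nat_lit 3))) (.inv (.v (nat_lit 2)))) (.inv (.v (nat_lit 3)))), .one)] from ⟨dv, trivial⟩)
    (AllEq.append (show AllEq [m, j, d, v, t] [((.mul (.mul (.mul (.v (nat_lit 4)) (.v (nat_lit 3))) (.inv (.v (nat_lit 4)))) (.inv (.v (nat_lit 3)))), .one)] from ⟨tv, trivial⟩)
    (AllEq.append (show AllEq [m, j, d, v, t] [((.mul (.mul (.mul (.v (nat_lit 3)) (.mul (.mul (.v (nat_lit 0)) (.v (nat_lit 3))) (.inv (.v (nat_lit 0))))) (.inv (.v (nat_lit 3)))) (.inv (.mul (.mul (.v (nat_lit 0)) (.v (nat_lit 3))) (.inv (.v (nat_lit 0)))))), .one)] from ⟨vu, trivial⟩)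
    (show AllEq [m, j, d, v, t] [((.mul (.mul (.v (nat_lit 1)) (.v (nat_lit 3))) (.inv (.v (nat_lit 1)))), (.mul .one (.inv (.mul (.mul (.v (nat_lit 0)) (.v (nat_lit 3))) (.inv (.v (nat_lit 0)))))))] from ⟨e, trivial⟩))))))
    [(.v (nat_lit 0)), (.inv (.v (nat_lit 0))), (.v (nat_lit 1)), (.inv (.v (nat_lit 1))), (.v (nat_lit 2)), (.inv (.v (nat_lit 2))), (.v (nat_lit 3)), (.inv (.v (nat_lit 3))), (.v (nat_lit 4))] (by decide +kernel)
noncomputable def tr02_0_S0 : List ℕ := [nat_lit 0x1, nat_lit 0xf000002000010008016, nat_lit 0x1f00000b000010006012, nat_lit 0x1f00000b000008000014006014, nat_lit 0xd00000a00000500000900000e010018, nat_lit 0x1b000014000011000013004016, nat_lit 0x1700001500001b00000e, nat_lit 0x1900001700000e]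
noncomputable def tr02_0_S : List (List ℕ) := [tr02_0_S0]
noncomputable def tr02_0_defs : List ℕ := [(nat_lit 0x50000200700001006000010050000100500000002000000010000000000000)]
noncomputable def tr02_0_recs : List ℕ := [(nat_lit 0x70000100001ff0000100005ff0000100006060000400004030000400007010000300007060000300003060000000000)]
noncomputable def tr02_0_T : List (List ℕ × ℕ) := [([1,6,0], (nat_lit 0x800001e000007))]
noncomputable def tr02_0_D : H26.Dag := ⟨[1,0,3,2,5,4,7,6,8], [[0,1],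
  [1,0],
  [2,3],
  [3,2],
  [4,5],
  [5,4],
  [6,7],
  [7,6],
  [8,8],
  [3,5,0,4],
  [3,1,5,2,4],
  [7,5,6,4],
  [1,6,0,3,6,2]], [6,7], tr02_0_defs, tr02_0_recs⟩
theorem tr02_0_c : tr02_0_D.check tr02_0_S tr02_0_T = true := by decide +kernel
theorem tr02_0 {G : Type*} [Group G] {g : ℕ → G} (hR : Rels g tr02_r_R) {H : Subgroup G}
    (hH : ∀ k ∈ [6,7], g k ∈ H) : evA g [1,6,0] ∈ H :=
  mem_dag (K := 9) (J := [0,1,2,3,4,5,6,7,8,12,13,16,19]) (D := tr02_0_D) (by decide +kernel) tr02_0_c (by decide +kernel) hR hH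
theorem tr02 {G : Type*} [Group G] {m j d v t : G}
    (h : Q8 m j d t)
    (v3 : v ^ 3 = 1)
    (dv : ⁅d, v⁆ = 1)
    (tv : ⁅t, v⁆ = 1)
    (vu : ⁅v, m * v * m⁻¹⁆ = 1)
    (e : j * v * j⁻¹ = 1 * (m * v * m⁻¹)⁻¹)
    {H : Subgroup G} (mv : v ∈ H) :
    m * v * m⁻¹ ∈ H :=
  Eq.mp (congrArg (· ∈ H) (evA_eq_tm ((InvI.cons h.1 InvI.nil) : InvI [m, j, d, v, t] [(nat_lit 4)]) [(.v (nat_lit 0)), (.inv (.v (nat_lit 0))), (.v (nat_lit 1)), (.inv (.v (nat_lit 1))), (.v (nat_lit 2)), (.inv (.v (nat_lit 2))), (.v (nat_lit 3)), (.inv (.v (nat_lit 3))), (.v (nat_lit 4))] [1,6,0] (.mul (.mul (.v (nat_lit 0)) (.v (nat_lit 3))) (.inv (.v (nat_lit 0)))) (by decide +kernel))) (tr02_0 (tr02_r h v3 dv tv vu e) (H := H) (List.forall_mem_cons.2 ⟨mv, (List.forall_mem_cons.2 ⟨(H.inv_mem mv), (List.forall_mem_nil _)⟩)⟩))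
noncomputable def tr10_r_R : List (List ℕ) := [[0,1],
  [1,0],
  [2,3],
  [3,2],
  [4,5],
  [5,4],
  [6,7],
  [7,6],
  [8,8],
  [8,0,0],
  [8,2,2],
  [0,3,0,2],
  [3,5,0,4],
  [3,1,5,2,4],
  [8,5,8,4],
  [6,6,6],
  [7,5,6,4],
  [7,8,6,8],
  [1,7,0,7,1,6,0,6],
  [7,3,6,2]]
theorem tr10_r {G : Type*} [Group G] {m j d v t : G}
    (h : Q8 m j d t)
    (v3 : v ^ 3 = 1)
    (dv : ⁅d, v⁆ = 1)
    (tv : ⁅t, v⁆ = 1)
    (vu : ⁅v, m * v * m⁻¹⁆ = 1)
    (e : j * v * j⁻¹ = v * 1) :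
    Rels (nthG [m, m⁻¹, j, j⁻¹, d, d⁻¹, v, v⁻¹, t]) tr10_r_R :=
  rels_of_eqs ((InvI.cons h.1 InvI.nil) : InvI [m, j, d, v, t] [(nat_lit 4)])
    (AllEq.append (show AllEq [m, j, d, v, t] [((.mul (.v (nat_lit 4)) (.v (nat_lit 4))), .one), ((.mul (.v (nat_lit 0)) (.v (nat_lit 0))), (.v (nat_lit 4))), ((.mul (.v (nat_lit 1)) (.v (nat_lit 1))), (.v (nat_lit 4))), ((.mul (.mul (.v (nat_lit 1)) (.v (nat_lit 0))) (.inv (.v (nat_lit 1)))), (.inv (.v (nat_lit 0)))), ((.mul (.mul (.v (nat_lit 2)) (.v (nat_lit 0))) (.inv (.v (nat_lit 2)))), (.v (nat_lit 1))), ((.mul (.mul (.v (nat_lit 2)) (.v (nat_lit 1))) (.inv (.v (nat_lit 2)))), (.mul (.v (nat_lit 1)) (.v (nat_lit 0)))), ((.mul (.v (nat_lit 2)) (.v (nat_lit 4))), (.mul (.v (nat_lit 4)) (.v (nat_lit 2))))] from h)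
    (AllEq.append (show AllEq [m, j, d, v, t] [((.pw (.v (nat_lit 3)) (nat_lit 3)), .one)] from ⟨v3, trivial⟩)
    (AllEq.append (show AllEq [m, j, d, v, t] [((.mul (.mul (.mul (.v (nat_lit 2)) (.v (nat_lit 3))) (.inv (.v (nat_lit 2)))) (.inv (.v (nat_lit 3)))), .one)] from ⟨dv, trivial⟩)
    (AllEq.append (show AllEq [m, j, d, v, t] [((.mul (.mul (.mul (.v (nat_lit 4)) (.v (nat_lit 3))) (.inv (.v (nat_lit 4)))) (.inv (.v (nat_lit 3)))), .one)] from ⟨tv, trivial⟩)
    (AllEq.append (show AllEq [m, j, d, v, t] [((.mul (.mul (.mul (.v (nat_lit 3)) (.mul (.mul (.v (nat_lit 0)) (.v (nat_lit 3))) (.inv (.v (nat_lit 0))))) (.inv (.v (nat_lit 3)))) (.inv (.mul (.mul (.v (nat_lit 0)) (.v (nat_lit 3))) (.inv (.v (nat_lit 0)))))), .one)] from ⟨vu, trivial⟩)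
    (show AllEq [m, j, d, v, t] [((.mul (.mul (.v (nat_lit 1)) (.v (nat_lit 3))) (.inv (.v (nat_lit 1)))), (.mul (.v (nat_lit 3)) .one))] from ⟨e, trivial⟩))))))
    [(.v (nat_lit 0)), (.inv (.v (nat_lit 0))), (.v (nat_lit 1)), (.inv (.v (nat_lit 1))), (.v (nat_lit 2)), (.inv (.v (nat_lit 2))), (.v (nat_lit 3)), (.inv (.v (nat_lit 3))), (.v (nat_lit 4))] (by decide +kernel)
noncomputable def tr10_0_S0 : List ℕ := [nat_lit 0x1, nat_lit 0xb00000100000c000014, nat_lit 0xf00000700000c00e012, nat_lit 0xa000005000009008016, nat_lit 0x1000000d00000f006014]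
noncomputable def tr10_0_S : List (List ℕ) := [tr10_0_S0]
noncomputable def tr10_0_defs : List ℕ := [(nat_lit 0x400001004000000010000000000000)]
noncomputable def tr10_0_recs : List ℕ := [(nat_lit 0x70000100001060000300003020000200003070000200002060000000000)]
noncomputable def tr10_0_T : List (List ℕ × ℕ) := [([1,6,0], (nat_lit 0x8000012000007))]
noncomputable def tr10_0_D : H26.Dag := ⟨[1,0,3,2,5,4,7,6,8], [[0,1],
  [1,0],
  [2,3],
  [3,2],
  [4,5],
  [5,4],
  [6,7],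
  [7,6],
  [8,8],
  [3,5,0,4],
  [7,5,6,4],
  [7,3,6,2]], [6,7], tr10_0_defs, tr10_0_recs⟩
theorem tr10_0_c : tr10_0_D.check tr10_0_S tr10_0_T = true := by decide +kernel
theorem tr10_0 {G : Type*} [Group G] {g : ℕ → G} (hR : Rels g tr10_r_R) {H : Subgroup G}
    (hH : ∀ k ∈ [6,7], g k ∈ H) : evA g [1,6,0] ∈ H :=
  mem_dag (K := 9) (J := [0,1,2,3,4,5,6,7,8,12,16,19]) (D := tr10_0_D) (by decide +kernel) tr10_0_c (by decide +kernel) hR hH
theorem tr10 {G : Type*} [Group G] {m j d v t : G}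
    (h : Q8 m j d t)
    (v3 : v ^ 3 = 1)
    (dv : ⁅d, v⁆ = 1)
    (tv : ⁅t, v⁆ = 1)
    (vu : ⁅v, m * v * m⁻¹⁆ = 1)
    (e : j * v * j⁻¹ = v * 1)
    {H : Subgroup G} (mv : v ∈ H) :
    m * v * m⁻¹ ∈ H :=
  Eq.mp (congrArg (· ∈ H) (evA_eq_tm ((InvI.cons h.1 InvI.nil) : InvI [m, j, d, v, t] [(nat_lit 4)]) [(.v (nat_lit 0)), (.inv (.v (nat_lit 0))), (.v (nat_lit 1)), (.inv (.v (nat_lit 1))), (.v (nat_lit 2)), (.inv (.v (nat_lit 2))), (.v (nat_lit 3)), (.inv (.v (nat_lit 3))), (.v (nat_lit 4))] [1,6,0] (.mul (.mul (.v (nat_lit 0)) (.v (nat_lit 3))) (.inv (.v (nat_lit 0)))) (by decide +kernel))) (tr10_0 (tr10_r h v3 dv tv vu e) (H := H) (List.forall_mem_cons.2 ⟨mv, (List.forall_mem_cons.2 ⟨(H.inv_mem mv), (List.forall_mem_nil _)⟩)⟩))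
noncomputable def tr11_r_R : List (List ℕ) := [[0,1],
  [1,0],
  [2,3],
  [3,2],
  [4,5],
  [5,4],
  [6,7],
  [7,6],
  [8,8],
  [8,0,0],
  [8,2,2],
  [0,3,0,2],
  [3,5,0,4],
  [3,1,5,2,4],
  [8,5,8,4],
  [6,6,6],
  [7,5,6,4],
  [7,8,6,8],
  [1,7,0,7,1,6,0,6],
  [7,1,7,0,3,6,2]]
theorem tr11_r {G : Type*} [Group G] {m j d v t : G}
    (h : Q8 m j d t)
    (v3 : v ^ 3 = 1)
    (dv : ⁅d, v⁆ = 1)
    (tv : ⁅t, v⁆ = 1)
    (vu : ⁅v, m * v * m⁻¹⁆ = 1)
    (e : j * v * j⁻¹ = v * (m * v * m⁻¹)) :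
    Rels (nthG [m, m⁻¹, j, j⁻¹, d, d⁻¹, v, v⁻¹, t]) tr11_r_R :=
  rels_of_eqs ((InvI.cons h.1 InvI.nil) : InvI [m, j, d, v, t] [(nat_lit 4)])
    (AllEq.append (show AllEq [m, j, d, v, t] [((.mul (.v (nat_lit 4)) (.v (nat_lit 4))), .one), ((.mul (.v (nat_lit 0)) (.v (nat_lit 0))), (.v (nat_lit 4))), ((.mul (.v (nat_lit 1)) (.v (nat_lit 1))), (.v (nat_lit 4))), ((.mul (.mul (.v (nat_lit 1)) (.v (nat_lit 0))) (.inv (.v (nat_lit 1)))), (.inv (.v (nat_lit 0)))), ((.mul (.mul (.v (nat_lit 2)) (.v (nat_lit 0))) (.inv (.v (nat_lit 2)))), (.v (nat_lit 1))), ((.mul (.mul (.v (nat_lit 2)) (.v (nat_lit 1))) (.inv (.v (nat_lit 2)))), (.mul (.v (nat_lit 1)) (.v (nat_lit 0)))), ((.mul (.v (nat_lit 2)) (.v (nat_lit 4))), (.mul (.v (nat_lit 4)) (.v (nat_lit 2))))] from h)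
    (AllEq.append (show AllEq [m, j, d, v, t] [((.pw (.v (nat_lit 3)) (nat_lit 3)), .one)] from ⟨v3, trivial⟩)
    (AllEq.append (show AllEq [m, j, d, v, t] [((.mul (.mul (.mul (.v (nat_lit 2)) (.v (nat_lit 3))) (.inv (.v (nat_lit 2)))) (.inv (.v (nat_lit 3)))), .one)] from ⟨dv, trivial⟩)
    (AllEq.append (show AllEq [m, j, d, v, t] [((.mul (.mul (.mul (.v (nat_lit 4)) (.v (nat_lit 3))) (.inv (.v (nat_lit 4)))) (.inv (.v (nat_lit 3)))), .one)] from ⟨tv, trivial⟩)
    (AllEq.append (show AllEq [m, j, d, v, t] [((.mul (.mul (.mul (.v (nat_lit 3)) (.mul (.mul (.v (nat_lit 0)) (.v (nat_lit 3))) (.inv (.v (nat_lit 0))))) (.inv (.v (nat_lit 3)))) (.inv (.mul (.mul (.v (nat_lit 0)) (.v (nat_lit 3))) (.inv (.v (nat_lit 0)))))), .one)] from ⟨vu, trivial⟩)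
    (show AllEq [m, j, d, v, t] [((.mul (.mul (.v (nat_lit 1)) (.v (nat_lit 3))) (.inv (.v (nat_lit 1)))), (.mul (.v (nat_lit 3)) (.mul (.mul (.v (nat_lit 0)) (.v (nat_lit 3))) (.inv (.v (nat_lit 0))))))] from ⟨e, trivial⟩))))))
    [(.v (nat_lit 0)), (.inv (.v (nat_lit 0))), (.v (nat_lit 1)), (.inv (.v (nat_lit 1))), (.v (nat_lit 2)), (.inv (.v (nat_lit 2))), (.v (nat_lit 3)), (.inv (.v (nat_lit 3))), (.v (nat_lit 4))] (by decide +kernel)
noncomputable def tr11_0_S0 : List ℕ := [nat_lit 0x1, nat_lit 0xb000008000012, nat_lit 0x1300001000a014, nat_lit 0x17000008004012, nat_lit 0x17000014004014, nat_lit 0x1700000200001800801a, nat_lit 0x1b000005008014, nat_lit 0x1b00000d000012000016, nat_lit 0x1b00000700001000e016, nat_lit 0x23000020006018, nat_lit 0x2700000600002000c01a, nat_lit 0x2f00000a00002c00401a, nat_lit 0x3300001a00000b00000200000c00002801801c, nat_lit 0x3300001e00001100001600001200003001601c, nat_lit 0x2d000035004012, nat_lit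 0x29000031004014, nat_lit 0x2600003e00003900002b00002100003400003d01801c, nat_lit 0x4100002600004100002300000e, nat_lit 0x4500001f00000e]
noncomputable def tr11_0_S : List (List ℕ) := [tr11_0_S0]
noncomputable def tr11_0_defs : List ℕ := [(nat_lit 0x600006007000040070000300600002007000010060000100200001008000000030000000200000000000000010000000000000)]
noncomputable def tr11_0_recs : List ℕ := [(nat_lit 0x70000100001ff0000100007ff0000700008020000c00007000000c0000a000000b0000c02000090000c080000a0000b080000700009070000700008010000300006000000400006020000200006060000500005020000400005000000100005080000300004080000100002060000000000)]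
noncomputable def tr11_0_T : List (List ℕ × ℕ) := [([1,6,0], (nat_lit 0x800004a000007))]
noncomputable def tr11_0_D : H26.Dag := ⟨[1,0,3,2,5,4,7,6,8], [[0,1],
  [1,0],
  [2,3],
  [3,2],
  [4,5],
  [5,4],
  [6,7],
  [7,6],
  [8,8],
  [8,0,0],
  [8,2,2],
  [0,3,0,2],
  [6,6,6],
  [7,8,6,8],
  [7,1,7,0,3,6,2]], [6,7], tr11_0_defs, tr11_0_recs⟩
theorem tr11_0_c : tr11_0_D.check tr11_0_S tr11_0_T = true := by decide +kernel
theorem tr11_0 {G : Type*} [Group G] {g : ℕ → G} (hR : Rels g tr11_r_R) {H : Subgroup G}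
    (hH : ∀ k ∈ [6,7], g k ∈ H) : evA g [1,6,0] ∈ H :=
  mem_dag (K := 9) (J := [0,1,2,3,4,5,6,7,8,9,10,11,15,17,19]) (D := tr11_0_D) (by decide +kernel) tr11_0_c (by decide +kernel) hR hH
theorem tr11 {G : Type*} [Group G] {m j d v t : G}
    (h : Q8 m j d t)
    (v3 : v ^ 3 = 1)
    (dv : ⁅d, v⁆ = 1)
    (tv : ⁅t, v⁆ = 1)
    (vu : ⁅v, m * v * m⁻¹⁆ = 1)
    (e : j * v * j⁻¹ = v * (m * v * m⁻¹))
    {H : Subgroup G} (mv : v ∈ H) :
    m * v * m⁻¹ ∈ H :=
  Eq.mp (congrArg (· ∈ H) (evA_eq_tm ((InvI.cons h.1 InvI.nil) : InvI [m, j, d, v, t] [(nat_lit 4)]) [(.v (nat_lit 0)), (.inv (.v (nat_lit 0))), (.v (nat_lit 1)), (.inv (.v (nat_lit 1))), (.v (nat_lit 2)), (.inv (.v (nat_lit 2))), (.v (nat_lit 3)), (.inv (.v (nat_lit 3))), (.v (nat_lit 4))] [1,6,0] (.mul (.mul (.v (nat_lit 0)) (.v (nat_lit 3))) (.inv (.v (nat_lit 0)))) (by decide +kernel))) (tr11_0 (tr11_r h v3 dv tv vu e) (H := H) (List.forall_mem_cons.2 ⟨mv, (List.forall_mem_cons.2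 ⟨(H.inv_mem mv), (List.forall_mem_nil _)⟩)⟩))
noncomputable def tr12_r_R : List (List ℕ) := [[0,1],
  [1,0],
  [2,3],
  [3,2],
  [4,5],
  [5,4],
  [6,7],
  [7,6],
  [8,8],
  [8,0,0],
  [8,2,2],
  [0,3,0,2],
  [3,5,0,4],
  [3,1,5,2,4],
  [8,5,8,4],
  [6,6,6],
  [7,5,6,4],
  [7,8,6,8],
  [1,7,0,7,1,6,0,6],
  [7,1,6,0,3,6,2]]
theorem tr12_r {G : Type*} [Group G] {m j d v t : G}
    (h : Q8 m j d t)
    (v3 : v ^ 3 = 1)
    (dv : ⁅d, v⁆ = 1)
    (tv : ⁅t, v⁆ = 1)
    (vu : ⁅v, m * v * m⁻¹⁆ = 1)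
    (e : j * v * j⁻¹ = v * (m * v * m⁻¹)⁻¹) :
    Rels (nthG [m, m⁻¹, j, j⁻¹, d, d⁻¹, v, v⁻¹, t]) tr12_r_R :=
  rels_of_eqs ((InvI.cons h.1 InvI.nil) : InvI [m, j, d, v, t] [(nat_lit 4)])
    (AllEq.append (show AllEq [m, j, d, v, t] [((.mul (.v (nat_lit 4)) (.v (nat_lit 4))), .one), ((.mul (.v (nat_lit 0)) (.v (nat_lit 0))), (.v (nat_lit 4))), ((.mul (.v (nat_lit 1)) (.v (nat_lit 1))), (.v (nat_lit 4))), ((.mul (.mul (.v (nat_lit 1)) (.v (nat_lit 0))) (.inv (.v (nat_lit 1)))), (.inv (.v (nat_lit 0)))), ((.mul (.mul (.v (nat_lit 2)) (.v (nat_lit 0))) (.inv (.v (nat_lit 2)))), (.v (nat_lit 1))), ((.mul (.mul (.v (nat_lit 2)) (.v (nat_lit 1))) (.inv (.v (nat_lit 2)))), (.mul (.v (nat_lit 1)) (.v (nat_lit 0)))), ((.mul (.v (nat_lit 2)) (.v (nat_lit 4))), (.mul (.v (nat_lit 4)) (.v (nat_lit 2))))] from h)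
    (AllEq.append (show AllEq [m, j, d, v, t] [((.pw (.v (nat_lit 3)) (nat_lit 3)), .one)] from ⟨v3, trivial⟩)
    (AllEq.append (show AllEq [m, j, d, v, t] [((.mul (.mul (.mul (.v (nat_lit 2)) (.v (nat_lit 3))) (.inv (.v (nat_lit 2)))) (.inv (.v (nat_lit 3)))), .one)] from ⟨dv, trivial⟩)
    (AllEq.append (show AllEq [m, j, d, v, t] [((.mul (.mul (.mul (.v (nat_lit 4)) (.v (nat_lit 3))) (.inv (.v (nat_lit 4)))) (.inv (.v (nat_lit 3)))), .one)] from ⟨tv, trivial⟩)
    (AllEq.append (show AllEq [m, j, d, v, t] [((.mul (.mul (.mul (.v (nat_lit 3)) (.mul (.mul (.v (nat_lit 0)) (.v (nat_lit 3))) (.inv (.v (nat_lit 0))))) (.inv (.v (nat_lit 3)))) (.inv (.mul (.mul (.v (nat_lit 0)) (.v (nat_lit 3))) (.inv (.v (nat_lit 0)))))), .one)] from ⟨vu, trivial⟩)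
    (show AllEq [m, j, d, v, t] [((.mul (.mul (.v (nat_lit 1)) (.v (nat_lit 3))) (.inv (.v (nat_lit 1)))), (.mul (.v (nat_lit 3)) (.inv (.mul (.mul (.v (nat_lit 0)) (.v (nat_lit 3))) (.inv (.v (nat_lit 0)))))))] from ⟨e, trivial⟩))))))
    [(.v (nat_lit 0)), (.inv (.v (nat_lit 0))), (.v (nat_lit 1)), (.inv (.v (nat_lit 1))), (.v (nat_lit 2)), (.inv (.v (nat_lit 2))), (.v (nat_lit 3)), (.inv (.v (nat_lit 3))), (.v (nat_lit 4))] (by decide +kernel)
noncomputable def tr12_0_S0 : List ℕ := [nat_lit 0x1, nat_lit 0xb000008000012, nat_lit 0x1300001000a014, nat_lit 0x17000005008014, nat_lit 0x1700000700001000e016, nat_lit 0x1f00001c006018, nat_lit 0x2300000600001c00c01a, nat_lit 0x2b000028006018, nat_lit 0x2f00000a00002c00401a, nat_lit 0x3300000e00000b00000100000c00002401801c, nat_lit 0x19000025004014, nat_lit 0x2700001100003400002900001b00001800001200c01c, nat_lit 0x2d00002700002d00001d00000e, nat_lit 0xa000032000021000010, nat_lit 0x3600002f00000c,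 nat_lit 0x1b00000700000200001400003900001300000800c01c, nat_lit 0x3d00001b00003d00001500000e, nat_lit 0x4200001f00000c]
noncomputable def tr12_0_S : List (List ℕ) := [tr12_0_S0]
noncomputable def tr12_0_defs : List ℕ := [(nat_lit 0x600005007000040070000300600003006000020070000100600001002000010030000000200000000000000010000000000000)]
noncomputable def tr12_0_recs : List ℕ := [(nat_lit 0x60000100001ff0000700001ff0000100006060000400004ff0000b00004ff0000a00003ff0000300009020000c0000602000080000c080000a0000b07000090000a080000600008070000600007010000300005020000200005080000300004080000100002060000000000)]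
noncomputable def tr12_0_T : List (List ℕ × ℕ) := [([1,6,0], (nat_lit 0x8000045000007))]
noncomputable def tr12_0_D : H26.Dag := ⟨[1,0,3,2,5,4,7,6,8], [[0,1],
  [1,0],
  [2,3],
  [3,2],
  [4,5],
  [5,4],
  [6,7],
  [7,6],
  [8,8],
  [8,0,0],
  [8,2,2],
  [0,3,0,2],
  [6,6,6],
  [7,8,6,8],
  [7,1,6,0,3,6,2]], [6,7], tr12_0_defs, tr12_0_recs⟩
theorem tr12_0_c : tr12_0_D.check tr12_0_S tr12_0_T = true := by decide +kernel
theorem tr12_0 {G : Type*} [Group G] {g : ℕ → G} (hR : Rels g tr12_r_R) {H : Subgroup G}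
    (hH : ∀ k ∈ [6,7], g k ∈ H) : evA g [1,6,0] ∈ H :=
  mem_dag (K := 9) (J := [0,1,2,3,4,5,6,7,8,9,10,11,15,17,19]) (D := tr12_0_D) (by decide +kernel) tr12_0_c (by decide +kernel) hR hH
theorem tr12 {G : Type*} [Group G] {m j d v t : G}
    (h : Q8 m j d t)
    (v3 : v ^ 3 = 1)
    (dv : ⁅d, v⁆ = 1)
    (tv : ⁅t, v⁆ = 1)
    (vu : ⁅v, m * v * m⁻¹⁆ = 1)
    (e : j * v * j⁻¹ = v * (m * v * m⁻¹)⁻¹)
    {H : Subgroup G} (mv : v ∈ H) :
    m * v * m⁻¹ ∈ H :=
  Eq.mp (congrArg (· ∈ H) (evA_eq_tm ((InvI.cons h.1 InvI.nil) : InvI [m, j, d, v, t] [(nat_lit 4)]) [(.v (nat_lit 0)), (.inv (.v (nat_lit 0))), (.v (nat_lit 1)), (.inv (.v (nat_lit 1))), (.v (nat_lit 2)), (.inv (.v (nat_lit 2))), (.v (nat_lit 3)), (.inv (.v (nat_lit 3))), (.v (nat_lit 4))] [1,6,0] (.mul (.mul (.v (nat_lit 0)) (.v (nat_lit 3))) (.inv (.v (nat_lit 0)))) (by decide +kernel))) (tr12_0 (tr12_r h v3 dv tv vu e) (H := H) (List.forall_mem_cons.2 ⟨mv, (List.forall_mem_cons.2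 ⟨(H.inv_mem mv), (List.forall_mem_nil _)⟩)⟩))
noncomputable def tr20_r_R : List (List ℕ) := [[0,1],
  [1,0],
  [2,3],
  [3,2],
  [4,5],
  [5,4],
  [6,7],
  [7,6],
  [8,8],
  [8,0,0],
  [8,2,2],
  [0,3,0,2],
  [3,5,0,4],
  [3,1,5,2,4],
  [8,5,8,4],
  [6,6,6],
  [7,5,6,4],
  [7,8,6,8],
  [1,7,0,7,1,6,0,6],
  [6,3,6,2]]
theorem tr20_r {G : Type*} [Group G] {m j d v t : G}
    (h : Q8 m j d t)
    (v3 : v ^ 3 = 1)
    (dv : ⁅d, v⁆ = 1)
    (tv : ⁅t, v⁆ = 1)
    (vu : ⁅v, m * v * m⁻¹⁆ = 1)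
    (e : j * v * j⁻¹ = v⁻¹ * 1) :
    Rels (nthG [m, m⁻¹, j, j⁻¹, d, d⁻¹, v, v⁻¹, t]) tr20_r_R :=
  rels_of_eqs ((InvI.cons h.1 InvI.nil) : InvI [m, j, d, v, t] [(nat_lit 4)])
    (AllEq.append (show AllEq [m, j, d, v, t] [((.mul (.v (nat_lit 4)) (.v (nat_lit 4))), .one), ((.mul (.v (nat_lit 0)) (.v (nat_lit 0))), (.v (nat_lit 4))), ((.mul (.v (nat_lit 1)) (.v (nat_lit 1))), (.v (nat_lit 4))), ((.mul (.mul (.v (nat_lit 1)) (.v (nat_lit 0))) (.inv (.v (nat_lit 1)))), (.inv (.v (nat_lit 0)))), ((.mul (.mul (.v (nat_lit 2)) (.v (nat_lit 0))) (.inv (.v (nat_lit 2)))), (.v (nat_lit 1))), ((.mul (.mul (.v (nat_lit 2)) (.v (nat_lit 1))) (.inv (.v (nat_lit 2)))), (.mul (.v (nat_lit 1)) (.v (nat_lit 0)))), ((.mul (.v (nat_lit 2)) (.v (nat_lit 4))), (.mul (.v (nat_lit 4)) (.v (nat_lit 2))))] from h)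
    (AllEq.append (show AllEq [m, j, d, v, t] [((.pw (.v (nat_lit 3)) (nat_lit 3)), .one)] from ⟨v3, trivial⟩)
    (AllEq.append (show AllEq [m, j, d, v, t] [((.mul (.mul (.mul (.v (nat_lit 2)) (.v (nat_lit 3))) (.inv (.v (nat_lit 2)))) (.inv (.v (nat_lit 3)))), .one)] from ⟨dv, trivial⟩)
    (AllEq.append (show AllEq [m, j, d, v, t] [((.mul (.mul (.mul (.v (nat_lit 4)) (.v (nat_lit 3))) (.inv (.v (nat_lit 4)))) (.inv (.v (nat_lit 3)))), .one)] from ⟨tv, trivial⟩)
    (AllEq.append (show AllEq [m, j, d, v, t] [((.mul (.mul (.mul (.v (nat_lit 3)) (.mul (.mul (.v (nat_lit 0)) (.v (nat_lit 3))) (.inv (.v (nat_lit 0))))) (.inv (.v (nat_lit 3)))) (.inv (.mul (.mul (.v (nat_lit 0)) (.v (nat_lit 3))) (.inv (.v (nat_lit 0)))))), .one)] from ⟨vu, trivial⟩)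
    (show AllEq [m, j, d, v, t] [((.mul (.mul (.v (nat_lit 1)) (.v (nat_lit 3))) (.inv (.v (nat_lit 1)))), (.mul (.inv (.v (nat_lit 3))) .one))] from ⟨e, trivial⟩))))))
    [(.v (nat_lit 0)), (.inv (.v (nat_lit 0))), (.v (nat_lit 1)), (.inv (.v (nat_lit 1))), (.v (nat_lit 2)), (.inv (.v (nat_lit 2))), (.v (nat_lit 3)), (.inv (.v (nat_lit 3))), (.v (nat_lit 4))] (by decide +kernel)
noncomputable def tr20_0_S0 : List ℕ := [nat_lit 0x1, nat_lit 0xb00000100000c000014, nat_lit 0xf00000700000c00e012, nat_lit 0xa000006000009008016, nat_lit 0x1000000d00000f006014]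
noncomputable def tr20_0_S : List (List ℕ) := [tr20_0_S0]
noncomputable def tr20_0_defs : List ℕ := [(nat_lit 0x400001004000000010000000000000)]
noncomputable def tr20_0_recs : List ℕ := [(nat_lit 0x70000100001060000300003020000200003070000200002060000000000)]
noncomputable def tr20_0_T : List (List ℕ × ℕ) := [([1,6,0], (nat_lit 0x8000012000007))]
noncomputable def tr20_0_D : H26.Dag := ⟨[1,0,3,2,5,4,7,6,8], [[0,1],
  [1,0],
  [2,3],
  [3,2],
  [4,5],
  [5,4],
  [6,7],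
  [7,6],
  [8,8],
  [3,5,0,4],
  [7,5,6,4],
  [6,3,6,2]], [6,7], tr20_0_defs, tr20_0_recs⟩
theorem tr20_0_c : tr20_0_D.check tr20_0_S tr20_0_T = true := by decide +kernel
theorem tr20_0 {G : Type*} [Group G] {g : ℕ → G} (hR : Rels g tr20_r_R) {H : Subgroup G}
    (hH : ∀ k ∈ [6,7], g k ∈ H) : evA g [1,6,0] ∈ H :=
  mem_dag (K := 9) (J := [0,1,2,3,4,5,6,7,8,12,16,19]) (D := tr20_0_D) (by decide +kernel) tr20_0_c (by decide +kernel) hR hH
theorem tr20 {G : Type*} [Group G] {m j d v t : G}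
    (h : Q8 m j d t)
    (v3 : v ^ 3 = 1)
    (dv : ⁅d, v⁆ = 1)
    (tv : ⁅t, v⁆ = 1)
    (vu : ⁅v, m * v * m⁻¹⁆ = 1)
    (e : j * v * j⁻¹ = v⁻¹ * 1)
    {H : Subgroup G} (mv : v ∈ H) :
    m * v * m⁻¹ ∈ H :=
  Eq.mp (congrArg (· ∈ H) (evA_eq_tm ((InvI.cons h.1 InvI.nil) : InvI [m, j, d, v, t] [(nat_lit 4)]) [(.v (nat_lit 0)), (.inv (.v (nat_lit 0))), (.v (nat_lit 1)), (.inv (.v (nat_lit 1))), (.v (nat_lit 2)), (.inv (.v (nat_lit 2))), (.v (nat_lit 3)), (.inv (.v (nat_lit 3))), (.v (nat_lit 4))] [1,6,0] (.mul (.mul (.v (nat_lit 0)) (.v (nat_lit 3))) (.inv (.v (nat_lit 0)))) (by decide +kernel))) (tr20_0 (tr20_r h v3 dv tv vu e) (H := H) (List.forall_mem_cons.2 ⟨mv, (List.forall_mem_cons.2 ⟨(H.inv_mem mv), (List.forall_mem_nil _)⟩)⟩))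
noncomputable def tr21_r_R : List (List ℕ) := [[0,1],
  [1,0],
  [2,3],
  [3,2],
  [4,5],
  [5,4],
  [6,7],
  [7,6],
  [8,8],
  [8,0,0],
  [8,2,2],
  [0,3,0,2],
  [3,5,0,4],
  [3,1,5,2,4],
  [8,5,8,4],
  [6,6,6],
  [7,5,6,4],
  [7,8,6,8],
  [1,7,0,7,1,6,0,6],
  [6,1,7,0,3,6,2]]
theorem tr21_r {G : Type*} [Group G] {m j d v t : G}
    (h : Q8 m j d t)
    (v3 : v ^ 3 = 1)
    (dv : ⁅d, v⁆ = 1)
    (tv : ⁅t, v⁆ = 1)
    (vu : ⁅v, m * v * m⁻¹⁆ = 1)
    (e : j * v * j⁻¹ = v⁻¹ * (m * v * m⁻¹)) :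
    Rels (nthG [m, m⁻¹, j, j⁻¹, d, d⁻¹, v, v⁻¹, t]) tr21_r_R :=
  rels_of_eqs ((InvI.cons h.1 InvI.nil) : InvI [m, j, d, v, t] [(nat_lit 4)])
    (AllEq.append (show AllEq [m, j, d, v, t] [((.mul (.v (nat_lit 4)) (.v (nat_lit 4))), .one), ((.mul (.v (nat_lit 0)) (.v (nat_lit 0))), (.v (nat_lit 4))), ((.mul (.v (nat_lit 1)) (.v (nat_lit 1))), (.v (nat_lit 4))), ((.mul (.mul (.v (nat_lit 1)) (.v (nat_lit 0))) (.inv (.v (nat_lit 1)))), (.inv (.v (nat_lit 0)))), ((.mul (.mul (.v (nat_lit 2)) (.v (nat_lit 0))) (.inv (.v (nat_lit 2)))), (.v (nat_lit 1))), ((.mul (.mul (.v (nat_lit 2)) (.v (nat_lit 1))) (.inv (.v (nat_lit 2)))), (.mul (.v (nat_lit 1)) (.v (nat_lit 0)))), ((.mul (.v (nat_lit 2)) (.v (nat_lit 4))), (.mul (.v (nat_lit 4)) (.v (nat_lit 2))))] from h)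
    (AllEq.append (show AllEq [m, j, d, v, t] [((.pw (.v (nat_lit 3)) (nat_lit 3)), .one)] from ⟨v3, trivial⟩)
    (AllEq.append (show AllEq [m, j, d, v, t] [((.mul (.mul (.mul (.v (nat_lit 2)) (.v (nat_lit 3))) (.inv (.v (nat_lit 2)))) (.inv (.v (nat_lit 3)))), .one)] from ⟨dv, trivial⟩)
    (AllEq.append (show AllEq [m, j, d, v, t] [((.mul (.mul (.mul (.v (nat_lit 4)) (.v (nat_lit 3))) (.inv (.v (nat_lit 4)))) (.inv (.v (nat_lit 3)))), .one)] from ⟨tv, trivial⟩)
    (AllEq.append (show AllEq [m, j, d, v, t] [((.mul (.mul (.mul (.v (nat_lit 3)) (.mul (.mul (.v (nat_lit 0)) (.v (nat_lit 3))) (.inv (.v (nat_lit 0))))) (.inv (.v (nat_lit 3)))) (.inv (.mul (.mul (.v (nat_lit 0)) (.v (nat_lit 3))) (.inv (.v (nat_lit 0)))))), .one)] from ⟨vu, trivial⟩)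
    (show AllEq [m, j, d, v, t] [((.mul (.mul (.v (nat_lit 1)) (.v (nat_lit 3))) (.inv (.v (nat_lit 1)))), (.mul (.inv (.v (nat_lit 3))) (.mul (.mul (.v (nat_lit 0)) (.v (nat_lit 3))) (.inv (.v (nat_lit 0))))))] from ⟨e, trivial⟩))))))
    [(.v (nat_lit 0)), (.inv (.v (nat_lit 0))), (.v (nat_lit 1)), (.inv (.v (nat_lit 1))), (.v (nat_lit 2)), (.inv (.v (nat_lit 2))), (.v (nat_lit 3)), (.inv (.v (nat_lit 3))), (.v (nat_lit 4))] (by decide +kernel)
noncomputable def tr21_0_S0 : List ℕ := [nat_lit 0x1, nat_lit 0xf00000c00a014, nat_lit 0x13000008004012, nat_lit 0x13000010004014, nat_lit 0x13000002000014008018, nat_lit 0x1700000900000e000016, nat_lit 0x1700000700000c00e016, nat_lit 0x2700000600002400c018, nat_lit 0x2b00001600000d00001200000e00002801601a, nat_lit 0x1d000021004012, nat_lit 0x1f00001800002c00002500002300001900001700a01a, nat_lit 0x1b00002900001f00000e, nat_lit 0x2d00001b00000e]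
noncomputable def tr21_0_S : List (List ℕ) := [tr21_0_S0]
noncomputable def tr21_0_defs : List ℕ := [(nat_lit 0x60000500600003006000020070000100600001002000010080000000300000002000000010000000000000)]
noncomputable def tr21_0_recs : List ℕ := [(nat_lit 0x70000100001ff0000100006ff0000100007000000a0000800000090000a080000800009010000200005000000300005060000400004020000300004000000100004080000200003060000000000)]
noncomputable def tr21_0_T : List (List ℕ × ℕ) := [([1,6,0], (nat_lit 0x8000032000007))]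
noncomputable def tr21_0_D : H26.Dag := ⟨[1,0,3,2,5,4,7,6,8], [[0,1],
  [1,0],
  [2,3],
  [3,2],
  [4,5],
  [5,4],
  [6,7],
  [7,6],
  [8,8],
  [8,0,0],
  [8,2,2],
  [0,3,0,2],
  [7,8,6,8],
  [6,1,7,0,3,6,2]], [6,7], tr21_0_defs, tr21_0_recs⟩
theorem tr21_0_c : tr21_0_D.check tr21_0_S tr21_0_T = true := by decide +kernel
theorem tr21_0 {G : Type*} [Group G] {g : ℕ → G} (hR : Rels g tr21_r_R) {H : Subgroup G}
    (hH : ∀ k ∈ [6,7], g k ∈ H) : evA g [1,6,0] ∈ H :=
  mem_dag (K := 9) (J := [0,1,2,3,4,5,6,7,8,9,10,11,17,19]) (D := tr21_0_D) (by decide +kernel) tr21_0_c (by decide +kernel) hR hH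
theorem tr21 {G : Type*} [Group G] {m j d v t : G}
    (h : Q8 m j d t)
    (v3 : v ^ 3 = 1)
    (dv : ⁅d, v⁆ = 1)
    (tv : ⁅t, v⁆ = 1)
    (vu : ⁅v, m * v * m⁻¹⁆ = 1)
    (e : j * v * j⁻¹ = v⁻¹ * (m * v * m⁻¹))
    {H : Subgroup G} (mv : v ∈ H) :
    m * v * m⁻¹ ∈ H :=
  Eq.mp (congrArg (· ∈ H) (evA_eq_tm ((InvI.cons h.1 InvI.nil) : InvI [m, j, d, v, t] [(nat_lit 4)]) [(.v (nat_lit 0)), (.inv (.v (nat_lit 0))), (.v (nat_lit 1)), (.inv (.v (nat_lit 1))), (.v (nat_lit 2)), (.inv (.v (nat_lit 2))), (.v (nat_lit 3)), (.inv (.v (nat_lit 3))), (.v (nat_lit 4))] [1,6,0] (.mul (.mul (.v (nat_lit 0)) (.v (nat_lit 3))) (.inv (.v (nat_lit 0)))) (by decide +kernel))) (tr21_0 (tr21_r h v3 dv tv vu e) (H := H) (List.forall_mem_cons.2 ⟨mv, (List.forall_mem_cons.2 ⟨(H.inv_mem mv), (List.forall_mem_nil _)⟩)⟩))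
noncomputable def tr22_r_R : List (List ℕ) := [[0,1],
  [1,0],
  [2,3],
  [3,2],
  [4,5],
  [5,4],
  [6,7],
  [7,6],
  [8,8],
  [8,0,0],
  [8,2,2],
  [0,3,0,2],
  [3,5,0,4],
  [3,1,5,2,4],
  [8,5,8,4],
  [6,6,6],
  [7,5,6,4],
  [7,8,6,8],
  [1,7,0,7,1,6,0,6],
  [6,1,6,0,3,6,2]]
theorem tr22_r {G : Type*} [Group G] {m j d v t : G}
    (h : Q8 m j d t)
    (v3 : v ^ 3 = 1)
    (dv : ⁅d, v⁆ = 1)
    (tv : ⁅t, v⁆ = 1)
    (vu : ⁅v, m * v * m⁻¹⁆ = 1)
    (e : j * v * j⁻¹ = v⁻¹ * (m * v * m⁻¹)⁻¹) :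
    Rels (nthG [m, m⁻¹, j, j⁻¹, d, d⁻¹, v, v⁻¹, t]) tr22_r_R :=
  rels_of_eqs ((InvI.cons h.1 InvI.nil) : InvI [m, j, d, v, t] [(nat_lit 4)])
    (AllEq.append (show AllEq [m, j, d, v, t] [((.mul (.v (nat_lit 4)) (.v (nat_lit 4))), .one), ((.mul (.v (nat_lit 0)) (.v (nat_lit 0))), (.v (nat_lit 4))), ((.mul (.v (nat_lit 1)) (.v (nat_lit 1))), (.v (nat_lit 4))), ((.mul (.mul (.v (nat_lit 1)) (.v (nat_lit 0))) (.inv (.v (nat_lit 1)))), (.inv (.v (nat_lit 0)))), ((.mul (.mul (.v (nat_lit 2)) (.v (nat_lit 0))) (.inv (.v (nat_lit 2)))), (.v (nat_lit 1))), ((.mul (.mul (.v (nat_lit 2)) (.v (nat_lit 1))) (.inv (.v (nat_lit 2)))), (.mul (.v (nat_lit 1)) (.v (nat_lit 0)))), ((.mul (.v (nat_lit 2)) (.v (nat_lit 4))), (.mul (.v (nat_lit 4)) (.v (nat_lit 2))))] from h)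
    (AllEq.append (show AllEq [m, j, d, v, t] [((.pw (.v (nat_lit 3)) (nat_lit 3)), .one)] from ⟨v3, trivial⟩)
    (AllEq.append (show AllEq [m, j, d, v, t] [((.mul (.mul (.mul (.v (nat_lit 2)) (.v (nat_lit 3))) (.inv (.v (nat_lit 2)))) (.inv (.v (nat_lit 3)))), .one)] from ⟨dv, trivial⟩)
    (AllEq.append (show AllEq [m, j, d, v, t] [((.mul (.mul (.mul (.v (nat_lit 4)) (.v (nat_lit 3))) (.inv (.v (nat_lit 4)))) (.inv (.v (nat_lit 3)))), .one)] from ⟨tv, trivial⟩)
    (AllEq.append (show AllEq [m, j, d, v, t] [((.mul (.mul (.mul (.v (nat_lit 3)) (.mul (.mul (.v (nat_lit 0)) (.v (nat_lit 3))) (.inv (.v (nat_lit 0))))) (.inv (.v (nat_lit 3)))) (.inv (.mul (.mul (.v (nat_lit 0)) (.v (nat_lit 3))) (.inv (.v (nat_lit 0)))))), .one)] from ⟨vu, trivial⟩)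
    (show AllEq [m, j, d, v, t] [((.mul (.mul (.v (nat_lit 1)) (.v (nat_lit 3))) (.inv (.v (nat_lit 1)))), (.mul (.inv (.v (nat_lit 3))) (.inv (.mul (.mul (.v (nat_lit 0)) (.v (nat_lit 3))) (.inv (.v (nat_lit 0)))))))] from ⟨e, trivial⟩))))))
    [(.v (nat_lit 0)), (.inv (.v (nat_lit 0))), (.v (nat_lit 1)), (.inv (.v (nat_lit 1))), (.v (nat_lit 2)), (.inv (.v (nat_lit 2))), (.v (nat_lit 3)), (.inv (.v (nat_lit 3))), (.v (nat_lit 4))] (by decide +kernel)
noncomputable def tr22_0_S0 : List ℕ := [nat_lit 0x1, nat_lit 0xb000008000012, nat_lit 0x1300001000a014, nat_lit 0x17000008004012, nat_lit 0x17000014004014, nat_lit 0x17000002000018008018, nat_lit 0x1b000005008014, nat_lit 0x1b00000d000012000016, nat_lit 0x1b00000700001000e016, nat_lit 0x27000006000024004018, nat_lit 0x3300000a00002c004018, nat_lit 0x3700001a00000b00000100000c00002801801c, nat_lit 0x2500002d004014, nat_lit 0x3b00001e00001100001600001200003001601c, nat_lit 0x3700001e00003000003500003b00001e00003401801a,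 nat_lit 0x29000039004012, nat_lit 0x2c00003e00003700001b00002400003200003d00c01c, nat_lit 0x2200004200003e000002, nat_lit 0x1c000046000031000004, nat_lit 0x1f00004a00002300000e, nat_lit 0x4d00001f00000e]
noncomputable def tr22_0_S : List (List ℕ) := [tr22_0_S0]
noncomputable def tr22_0_defs : List ℕ := [(nat_lit 0x7000060060000600700004006000040070000300700002007000010060000100200001008000000030000000200000000000000010000000000000)]
noncomputable def tr22_0_recs : List ℕ := [(nat_lit 0x70000100001ff0000100007ff0000800001ff0000d00006ff0000a00003000000d0000a000000c0000d000000b0000e020000d0000802000090000d080000a0000c080000800009010000300006000000400006020000200006060000500005020000400005000000100005080000300004080000100002060000000000)]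
noncomputable def tr22_0_T : List (List ℕ × ℕ) := [([1,6,0], (nat_lit 0x8000052000007))]
noncomputable def tr22_0_D : H26.Dag := ⟨[1,0,3,2,5,4,7,6,8], [[0,1],
  [1,0],
  [2,3],
  [3,2],
  [4,5],
  [5,4],
  [6,7],
  [7,6],
  [8,8],
  [8,0,0],
  [8,2,2],
  [0,3,0,2],
  [7,8,6,8],
  [1,7,0,7,1,6,0,6],
  [6,1,6,0,3,6,2]], [6,7], tr22_0_defs, tr22_0_recs⟩
theorem tr22_0_c : tr22_0_D.check tr22_0_S tr22_0_T = true := by decide +kernel
theorem tr22_0 {G : Type*} [Group G] {g : ℕ → G} (hR : Rels g tr22_r_R) {H : Subgroup G}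
    (hH : ∀ k ∈ [6,7], g k ∈ H) : evA g [1,6,0] ∈ H :=
  mem_dag (K := 9) (J := [0,1,2,3,4,5,6,7,8,9,10,11,17,18,19]) (D := tr22_0_D) (by decide +kernel) tr22_0_c (by decide +kernel) hR hH
theorem tr22 {G : Type*} [Group G] {m j d v t : G}
    (h : Q8 m j d t)
    (v3 : v ^ 3 = 1)
    (dv : ⁅d, v⁆ = 1)
    (tv : ⁅t, v⁆ = 1)
    (vu : ⁅v, m * v * m⁻¹⁆ = 1)
    (e : j * v * j⁻¹ = v⁻¹ * (m * v * m⁻¹)⁻¹)
    {H : Subgroup G} (mv : v ∈ H) :
    m * v * m⁻¹ ∈ H :=
  Eq.mp (congrArg (· ∈ H) (evA_eq_tm ((InvI.cons h.1 InvI.nil) : InvI [m, j, d, v, t] [(nat_lit 4)]) [(.v (nat_lit 0)), (.inv (.v (nat_lit 0))), (.v (nat_lit 1)), (.inv (.v (nat_lit 1))), (.v (nat_lit 2)), (.inv (.v (nat_lit 2))), (.v (nat_lit 3)), (.inv (.v (nat_lit 3))), (.v (nat_lit 4))] [1,6,0] (.mul (.mul (.v (nat_lit 0)) (.v (nat_lit 3))) (.inv (.v (nat_lit 0)))) (by decide +kernel))) (tr22_0 (tr22_r h v3 dv tv vu e) (H := H) (List.forall_mem_cons.2 ⟨mv, (List.forall_mem_cons.2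 ⟨(H.inv_mem mv), (List.forall_mem_nil _)⟩)⟩))
theorem tr_cases {G : Type*} [Group G] {m j d v t : G}
    (h : Q8 m j d t)
    (v3 : v ^ 3 = 1)
    (dv : ⁅d, v⁆ = 1)
    (tv : ⁅t, v⁆ = 1)
    (vu : ⁅v, m * v * m⁻¹⁆ = 1) {p q : G} (hp : p = 1 ∨ p = v ∨ p = v⁻¹)
    (hq : q = 1 ∨ q = m * v * m⁻¹ ∨ q = (m * v * m⁻¹)⁻¹) (e : j * v * j⁻¹ = p * q) {H : Subgroup G} (mv : v ∈ H) :
    m * v * m⁻¹ ∈ H := by
  rcases hp with rfl | rfl | rfl <;> rcases hq with rfl | rfl | rfl
  exacts [tr00 h v3 dv tv vu e mv,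
    tr01 h v3 dv tv vu e mv,
    tr02 h v3 dv tv vu e mv,
    tr10 h v3 dv tv vu e mv,
    tr11 h v3 dv tv vu e mv,
    tr12 h v3 dv tv vu e mv,
    tr20 h v3 dv tv vu e mv,
    tr21 h v3 dv tv vu e mv,
    tr22 h v3 dv tv vu e mv]
def WW {G : Type*} [Group G] (m d t w a u : G) : Prop :=
  w ^ 3 = 1 ∧
  d * w = w * d ∧
  t * w * t⁻¹ = w⁻¹ ∧
  m * w * m⁻¹ = a ∧
  ⁅w, a⁆ = u ∧
  u ^ 3 = 1 ∧
  u * w = w * u ∧
  u * m = m * u ∧
  u * d = d * u ∧ True
def CY {G : Type*} [Group G] (m d w y : G) : Prop :=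
  y ^ 3 = 1 ∧
  y * w = w * y ∧
  y * m = m * y ∧
  y * d = d * y ∧ True
noncomputable def xc_r_R : List (List ℕ) := [[0,1],
  [1,0],
  [2,3],
  [3,2],
  [4,5],
  [5,4],
  [6,7],
  [7,6],
  [8,9],
  [9,8],
  [10,11],
  [11,10],
  [12,13],
  [13,12],
  [14,14],
  [14,0,0],
  [14,2,2],
  [0,3,0,2],
  [3,5,0,4],
  [3,1,5,2,4],
  [14,5,14,4],
  [6,6,6],
  [7,5,6,4],
  [6,14,6,14],
  [9,1,6,0],
  [11,9,7,8,6],
  [10,10,10],
  [7,11,6,10],
  [1,11,0,10],
  [5,11,4,10]]
theorem xc_r {G : Type*} [Group G] {m j d w a u y t : G}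
    (h : Q8 m j d t)
    (k : WW m d t w a u) :
    Rels (nthG [m, m⁻¹, j, j⁻¹, d, d⁻¹, w, w⁻¹, a, a⁻¹, u, u⁻¹, y, y⁻¹, t]) xc_r_R :=
  rels_of_eqs ((InvI.cons h.1 InvI.nil) : InvI [m, j, d, w, a, u, y, t] [(nat_lit 7)])
    (AllEq.append (show AllEq [m, j, d, w, a, u, y, t] [((.mul (.v (nat_lit 7)) (.v (nat_lit 7))), .one), ((.mul (.v (nat_lit 0)) (.v (nat_lit 0))), (.v (nat_lit 7))), ((.mul (.v (nat_lit 1)) (.v (nat_lit 1))), (.v (nat_lit 7))), ((.mul (.mul (.v (nat_lit 1)) (.v (nat_lit 0))) (.inv (.v (nat_lit 1)))), (.inv (.v (nat_lit 0)))), ((.mul (.mul (.v (nat_lit 2)) (.v (nat_lit 0))) (.inv (.v (nat_lit 2)))), (.v (nat_lit 1))), ((.mul (.mul (.v (nat_lit 2)) (.v (nat_lit 1))) (.inv (.v (nat_lit 2)))), (.mul (.v (nat_lit 1)) (.v (nat_lit 0)))), ((.mul (.v (nat_lit 2)) (.v (nat_lit 7))), (.mul (.v (nat_lit 7)) (.v (nat_lit 2))))] from h)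
    (show AllEq [m, j, d, w, a, u, y, t] [((.pw (.v (nat_lit 3)) (nat_lit 3)), .one), ((.mul (.v (nat_lit 2)) (.v (nat_lit 3))), (.mul (.v (nat_lit 3)) (.v (nat_lit 2)))), ((.mul (.mul (.v (nat_lit 7)) (.v (nat_lit 3))) (.inv (.v (nat_lit 7)))), (.inv (.v (nat_lit 3)))), ((.mul (.mul (.v (nat_lit 0)) (.v (nat_lit 3))) (.inv (.v (nat_lit 0)))), (.v (nat_lit 4))), ((.mul (.mul (.mul (.v (nat_lit 3)) (.v (nat_lit 4))) (.inv (.v (nat_lit 3)))) (.inv (.v (nat_lit 4)))), (.v (nat_lit 5))), ((.pw (.v (nat_lit 5)) (nat_lit 3)), .one), ((.mul (.v (nat_lit 5)) (.v (nat_lit 3))), (.mul (.v (nat_lit 3)) (.v (nat_lit 5)))), ((.mul (.v (nat_lit 5)) (.v (nat_lit 0))), (.mul (.v (nat_lit 0)) (.v (nat_lit 5)))), ((.mul (.v (nat_lit 5)) (.v (nat_lit 2))), (.mul (.v (nat_lit 2)) (.v (nat_lit 5))))] from k))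
    [(.v (nat_lit 0)), (.inv (.v (nat_lit 0))), (.v (nat_lit 1)), (.inv (.v (nat_lit 1))), (.v (nat_lit 2)), (.inv (.v (nat_lit 2))), (.v (nat_lit 3)), (.inv (.v (nat_lit 3))), (.v (nat_lit 4)), (.inv (.v (nat_lit 4))), (.v (nat_lit 5)), (.inv (.v (nat_lit 5))), (.v (nat_lit 6)), (.inv (.v (nat_lit 6))), (.v (nat_lit 7))] (by decide +kernel)
noncomputable def xc_0_S0 : List ℕ := [nat_lit 0x3300002b000023006022, nat_lit 0x3700002f000027006022, nat_lit 0x5700005400a01e, nat_lit 0x6300006000a01e, nat_lit 0x6700000700005c00e032, nat_lit 0x6f00006c00a01e, nat_lit 0x6f00000b00005800802c, nat_lit 0x900001900001600802a, nat_lit 0x7f00007c00a01e, nat_lit 0x7f00000f00006400802c, nat_lit 0xd00002500002200802a, nat_lit 0x8b000013000074008024, nat_lit 0x8f000017000084008024, nat_lit 0x9300000100a01e, nat_lit 0x34000035008020, nat_lit 0x9700002400a020, nat_lit 0x97000094000039008022, nat_lit 0x9f00001b00008c008028, nat_lit 0xa700000500a01e,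 nat_lit 0x38000049008020, nat_lit 0xab00002800a020, nat_lit 0xab0000a800004d008022, nat_lit 0xb300001f000090008028, nat_lit 0xbf0000230000a0006024, nat_lit 0x2d00004500005d00002c, nat_lit 0xcf0000270000b4006024, nat_lit 0xdb00002b0000bc00e024, nat_lit 0x9b0000240000bc00006900e026, nat_lit 0xdf00002b0000c800e034, nat_lit 0xe300002f0000cc00e024, nat_lit 0xaf0000280000cc00007500e026, nat_lit 0xe700002f0000d8008034, nat_lit 0xeb00000200009c000024, nat_lit 0x6900006d000081000022, nat_lit 0xef0000060000b0000024, nat_lit 0x75000079000089000022, nat_lit 0xf300004400004c00a022, nat_lit 0xf700003b0000ec000028, nat_lit 0xfb0000f400401e, nat_lit 0xfb00003b00003500802a, nat_lit 0xa300009400009d00009a00402c, nat_lit 0xa20000f3000000, nat_lit 0xa2000092000004, nat_lit 0xff00004800005000a022, nat_lit 0x10300003f0000f0000028, nat_lit 0x10700010000401e, nat_lit 0x10700003f00004900802a, nat_lit 0xb70000a80000b90000b600402c, nat_lit 0xbe0000ff000000,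 nat_lit 0xbe0000ae000004, nat_lit 0x11300004b00010c000024, nat_lit 0x11b00004f000110000024, nat_lit 0x12300005300005c000034, nat_lit 0x12700005f000068000034, nat_lit 0xd20000110000d500002c, nat_lit 0x12b00006b00007800402c, nat_lit 0x12f00001d000124000032, nat_lit 0xd90000e100012f00012c00a02e, nat_lit 0xe500012700002a002032, nat_lit 0x8700007c0000e90000de00e034, nat_lit 0xed000087000016, nat_lit 0x13300007300007800a028, nat_lit 0x830000f10000f500a036, nat_lit 0x13b000138006030]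
noncomputable def xc_0_S1 : List ℕ := [nat_lit 0x13b0001340000f9006032, nat_lit 0x13f0001010000fe008032, nat_lit 0x143000032000140008034, nat_lit 0x14700003e0000c400402a, nat_lit 0x14b0000420000e000e034, nat_lit 0x7100011100001e, nat_lit 0x14f00014c006030, nat_lit 0x1530000a60000f800e024, nat_lit 0x1530000aa0001140000ca00e026, nat_lit 0xca00012100011e000022, nat_lit 0x1570000520000d400a02a, nat_lit 0x15f00015c006030, nat_lit 0x15f0000560000e8008034, nat_lit 0x7d00013100001e, nat_lit 0x16300005a000144008032, nat_lit 0x1670000c200010400e024, nat_lit 0x1670000c600011c0000ce00e026, nat_lit 0xce00014100013e000022, nat_lit 0x16b0000bb0000c8000036, nat_lit 0x16f0000bf0000c400a028, nat_lit 0x16f00006100013800010500c02e, nat_lit 0x13a00010a00015100a02c, nat_lit 0x15500016300006500c034, nat_lit 0xd70000d000015900014e006036, nat_lit 0x10e00015d00013600001c, nat_lit 0x16200012e000016, nat_lit 0x165000147000150006032, nat_lit 0x11900016900015b000158008032,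 nat_lit 0x11600016e00012a00001c, nat_lit 0x1720000d300000e, nat_lit 0xcb00017500014900e028, nat_lit 0x17300008500016c000034, nat_lit 0x8d00017a00017d00e02c, nat_lit 0x17b000096000174000032, nat_lit 0xb200018200018500017b00017800e02e, nat_lit 0x18a000177000010, nat_lit 0x12600018d00014500602c, nat_lit 0x11f00011c00019100011300c028, nat_lit 0x11700019500011f00000c, nat_lit 0x19900011700000c]
noncomputable def xc_0_S : List (List ℕ) := [xc_0_S0, xc_0_S1]
noncomputable def xc_0_defs : List ℕ := [(nat_lit 0x10000f00e0000e0040000e0010000e0040000d0040000c00b0000b0040000b00a0000a0040000a00b0000900600009005000090040000900a0000800700008005000080040000800900007005000070040000700300007001000070090000600500006004000060030000600100006005000050050000400a000030050000300100003000000030070000200500002001000020000000200a00001001000010000000100a00000001000000000000000000011000000100020000f0020000e0060000d0060000c0030000b0030000a001000090010000800200007002000060070000500700004003000030030000200900001009000000070000000000000),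
  (nat_lit 0xa0003d0090003d00a0003a0070002f00a0002e0040002d00b0002c00b0002a00a0002a0070002a0040002800b0002500a000250060002500b0002300b0002000b0001c00a0001c0070001c00a0001a0090001a00a0001700a0001400600013004000130070001200400012004000110040001000e0000f0040000f)]
noncomputable def xc_0_recs : List ℕ := [(nat_lit 0xb0004d0004e0a0004c00020040001d0004c0b000030001dff0001d000210b0001e0004a060004a0004907000480004b010001d0004a09000490004801000190004901000160004803000430004603000420004402000130002d000000f0002dff0003f0002d060002900041000003f00041070003b0004002000130003f020001200028000000e00028ff0003c0002806000240003e000003c0003e070003a0003d02000120003c000003b00032030002b0003b000003a0002e03000260003a00000350003900000380002b020003200038000003100037000003600026020002e00036010002c00033090002f0001c01000270002f06000230002c000000b0002a0e000090002a02000290000b0e0000d00029060002200027000000a000250e000080002502000240000a0e0000c00024000002000023000001c00022060001e0001706000180001f0e0001e0001f060001a0001406000150001b0e0001a0001b0600016000190e00017000180e000140001501000070000d01000060000c),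
  (nat_lit 0x60001200013ff0001300045ff0001200047070004600044080003d00040ff0005d00040070005c0005e080005c0003b010005a0005c060005a00032070000900031ff0003400031ff00055000520700053000560b0005600051ff0005700051ff00030000350a000330005b000005b00058080004f0005b04000300005b05000310005a0000040000460000043000590200040000590600050000580e00057000350000039000570b00056000570e0003400055000003d00044000004200054020003d000540b00052000530e00052000310000037000520e0003000051000004f00050060004d0004f07000200004e)]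
noncomputable def xc_0_T : List (List ℕ × ℕ) := [([7,9,3,7,2,1,3,6,2,0,6,1,3,7,2,0,3,6,2,8], (nat_lit 0xc00001400001c00002400002c00003400003c00004400004c00019d00004f00004700003f00003700002f00002700001f00001700000f000007))]
noncomputable def xc_0_D : H26.Dag := ⟨[1,0,3,2,5,4,7,6,9,8,11,10,13,12,14], [[0,1],
  [1,0],
  [2,3],
  [3,2],
  [4,5],
  [5,4],
  [6,7],
  [7,6],
  [8,9],
  [9,8],
  [10,11],
  [11,10],
  [12,13],
  [13,12],
  [14,14],
  [14,0,0],
  [14,2,2],
  [0,3,0,2],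
  [3,5,0,4],
  [3,1,5,2,4],
  [7,5,6,4],
  [6,14,6,14],
  [9,1,6,0],
  [11,9,7,8,6],
  [10,10,10],
  [7,11,6,10],
  [1,11,0,10],
  [5,11,4,10]], [], xc_0_defs, xc_0_recs⟩
theorem xc_0_c : xc_0_D.check xc_0_S xc_0_T = true := by decide +kernel
theorem xc_0 {G : Type*} [Group G] {g : ℕ → G} (hR : Rels g xc_r_R) {H : Subgroup G}
    (hH : ∀ k ∈ [], g k ∈ H) : evA g [7,9,3,7,2,1,3,6,2,0,6,1,3,7,2,0,3,6,2,8] ∈ H :=
  mem_dag (K := 15) (J := [0,1,2,3,4,5,6,7,8,9,10,11,12,13,14,15,16,17,18,19,22,23,24,25,26,27,28,29]) (D := xc_0_D) (by decide +kernel) xc_0_c (by decide +kernel) hR hH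
noncomputable def xc_1_S0 : List ℕ := [nat_lit 0x5700000b000050008028, nat_lit 0x6700001700006000e024, nat_lit 0x6b00001b00006400e024, nat_lit 0x7700002700007000e020, nat_lit 0x6700002000007000000d00e022, nat_lit 0x8700002b00007400e020, nat_lit 0x6b00002400007400001500e022, nat_lit 0x9700002f00007c008020, nat_lit 0x9b00003300008c008020, nat_lit 0x9f000037000098006024, nat_lit 0xa300003b00009c006024, nat_lit 0xa700003f0000a0006020, nat_lit 0xb300004c00a01e, nat_lit 0xb70000430000a4006020, nat_lit 0xc70000470000ac004028, nat_lit 0xcb0000470000b0006030, nat_lit 0xd300004b0000bc002028, nat_lit 0xdb00004f00005400e020, nat_lit 0x5f00000f00005400004500e022, nat_lit 0xdf00005700005c00e020, nat_lit 0xdf0000020000dc00e024, nat_lit 0x6300001300005c00004d00e022, nat_lit 0x5500000900001a000028, nat_lit 0xe70000060000e400802e, nat_lit 0xeb0000110000e8006030, nat_lit 0xeb000077000084006032, nat_lit 0xef00007b00008000a024, nat_lit 0xf700007f00008400802e,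 nat_lit 0xfb000087000090002024, nat_lit 0xff00008b00009400e032, nat_lit 0x10300010000602c, nat_lit 0x10700001e0000f400e030, nat_lit 0x10b000022000104008030, nat_lit 0x10f00002600010800002e, nat_lit 0x11300002a00010c00602e, nat_lit 0x11700002e000110000030, nat_lit 0x7d00008500008d00e028, nat_lit 0x11b00011800602c, nat_lit 0x11b0000a70000b0008032, nat_lit 0x11f0000ab0000b000802e, nat_lit 0x1230000320000d0004026, nat_lit 0x1230000b30000c000c028, nat_lit 0xa50000a200801e, nat_lit 0x127000036000114006030, nat_lit 0x1270000b70000c4008032, nat_lit 0x810000890000ad00e028, nat_lit 0x12f0000bb0000c400602e, nat_lit 0x1330000bf0000bc00012c00002a, nat_lit 0x1370001340000be00802e, nat_lit 0x13b00003a000120006030, nat_lit 0x3e00009d0000c5000028, nat_lit 0x13f0000a9000134002028, nat_lit 0x1430000cf0000d800802e, nat_lit 0x1430000a9000138006030, nat_lit 0x14b0000d30000d000014000202a, nat_lit 0x14700014c0000da00a02e, nat_lit 0xbd0000cd0000dd008030,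 nat_lit 0xe10000c10000d5000028, nat_lit 0x14f000042000130006030, nat_lit 0x14f0001480000e60000d200402a, nat_lit 0x1530000490000e4006030, nat_lit 0x15300005100005a0000fc00402a, nat_lit 0xf50000f200005d000061004028, nat_lit 0x650000f9000072000008]
noncomputable def xc_1_S1 : List ℕ := [nat_lit 0x6e0000fe00008f00000c, nat_lit 0x930001010000f7000016, nat_lit 0x6a000105000075000008, nat_lit 0x10a000079000014, nat_lit 0x10d0000ef0000f400e02e, nat_lit 0x960000910001110000b600202a, nat_lit 0xba0000b100011500009a002024, nat_lit 0x3e0001190000e9000002, nat_lit 0xc900011e0000ee000010, nat_lit 0xd800012100013b000016, nat_lit 0x1260000c7000010]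
noncomputable def xc_1_S : List (List ℕ) := [xc_1_S0, xc_1_S1]
noncomputable def xc_1_defs : List ℕ := [(nat_lit 0xa000220060002100b0001f00a0001e0070001e00b0001d00b0001900b00017004000150040001300b00012008000120070001200b000110090001100b000100080001000600010005000100010001000b0000f0070000f0050000f0050000e0050000d0050000c0050000b00a0000a0060000a0050000a0040000a00b0000900700009005000090040000900400008004000070040000600400005004000040040000300400002001000020040000100100001000000100000000f0020000e0020000d0060000c0060000b0030000a003000090010000800100007002000060020000500700004007000030030000200300001009000010090000000000000),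
  (nat_lit 0xb0003600b0003400a000340070003400b000330080003300b0003100b0002f0060002f00b0002e0080002e00b0002d0060002c00b0002a00b0002900a0002900b0002800a0002700b0002600a0002500b00022)]
noncomputable def xc_1_recs : List ℕ := [(nat_lit 0xff0002300020ff0003a0003e090003e00054010003800054090003500053010004b0005309000500005100000510004a0a0004f00051070004f00052010004d00050060003500050010004c0004f090004e0003201000470004e060004a0004d0b0004a0004c07000300004b08000490004004000300004901000440004900000330002f000002f000480e0003300048060002b00047040002b000460b000450004608000450003c010004300045070004200044070004100043000004000042000003c000410b0003f0004004000240003f05000230003e06000200003d040001f0003b05000200003a01000390003a060003800039090002100037000003700018060003600037020001600037000003600017020001400036010002e00034010002b00032010002a0003101000280002d0e000120002c010002700029070002600028070002500027000002200026000001e0002500000210001a020001c00021000001d00019020001b0001d06000180001a060001700019060001300015),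
  (nat_lit 0x80001100012ff0003100012ff000350004eff0005300032ff0002b0004b070004900046060003c000400a000400003bff0003f0003bff0001f00024ff0000a0003d)]
noncomputable def xc_1_T : List (List ℕ × ℕ) := [([9,9,3,7,2,1,3,6,2,0,8,1,3,7,2,0,3,6,2,8], (nat_lit 0x800001000001800002000002800003000003800004000004800012900004b00004300003b00003300002b00002300001b00001300000b000007))]
noncomputable def xc_1_D : H26.Dag := ⟨[1,0,3,2,5,4,7,6,9,8,11,10,13,12,14], [[0,1],
  [1,0],
  [2,3],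
  [3,2],
  [4,5],
  [5,4],
  [6,7],
  [7,6],
  [8,9],
  [9,8],
  [10,11],
  [11,10],
  [12,13],
  [13,12],
  [14,14],
  [14,0,0],
  [3,5,0,4],
  [3,1,5,2,4],
  [7,5,6,4],
  [6,14,6,14],
  [9,1,6,0],
  [11,9,7,8,6],
  [10,10,10],
  [7,11,6,10],
  [1,11,0,10],
  [5,11,4,10]], [], xc_1_defs, xc_1_recs⟩
theorem xc_1_c : xc_1_D.check xc_1_S xc_1_T = true := by decide +kernel
theorem xc_1 {G : Type*} [Group G] {g : ℕ → G} (hR : Rels g xc_r_R) {H : Subgroup G}
    (hH : ∀ k ∈ [], g k ∈ H) : evA g [9,9,3,7,2,1,3,6,2,0,8,1,3,7,2,0,3,6,2,8] ∈ H :=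
  mem_dag (K := 15) (J := [0,1,2,3,4,5,6,7,8,9,10,11,12,13,14,15,18,19,22,23,24,25,26,27,28,29]) (D := xc_1_D) (by decide +kernel) xc_1_c (by decide +kernel) hR hH
noncomputable def xc_2_S0 : List ℕ := [nat_lit 0x3300002b000023006022, nat_lit 0x4700003f000037006022, nat_lit 0x5300004b000043008022, nat_lit 0x6700006400a01e, nat_lit 0x6b000008000020, nat_lit 0x7b00007800a01e, nat_lit 0x7b00000b00006800802e, nat_lit 0xd00001900001600802c, nat_lit 0x7f000014000020, nat_lit 0x8b00000f00007400e02a, nat_lit 0x8f00008800201e, nat_lit 0x8f000018002020, nat_lit 0x9700002d00002a00c022, nat_lit 0x9b00009800a01e, nat_lit 0x9f00000100a01e, nat_lit 0x34000039008020, nat_lit 0xa300002400a020, nat_lit 0xa30000a000003d008022, nat_lit 0xa700001b00009400e02a, nat_lit 0xb700000100201e, nat_lit 0xb7000024002020, nat_lit 0xbf0000bc00a01e, nat_lit 0xbf00001f00009c00802e, nat_lit 0x3500005900005600802c, nat_lit 0xcb0000bc00201e, nat_lit 0xcf00004100801e,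 nat_lit 0xcf00005100004e00c022, nat_lit 0xd30000230000ac006024, nat_lit 0xdb0000270000c4008024, nat_lit 0xdf00002b0000d800e032, nat_lit 0xe300000500a01e, nat_lit 0xeb0000020000a8000024, nat_lit 0xef00000900401e, nat_lit 0xef00003b00003900802c, nat_lit 0xaf0000a000008500008200402e, nat_lit 0x890000af000010, nat_lit 0xf300005800006000a022, nat_lit 0xf70000f400401e, nat_lit 0xf700004f00007900802c, nat_lit 0xe70000e400009900009600402e, nat_lit 0x9e000092000004, nat_lit 0xff00005b00008e0000b4010030, nat_lit 0x10700006700007000e024, nat_lit 0x10700000e000104000028, nat_lit 0x730000070000700000a900e026, nat_lit 0xad0000b100401e, nat_lit 0x10b000012000074000028, nat_lit 0xb60000b900601e, nat_lit 0x11300001d00010400002a, nat_lit 0x10f0000b50000c100202e, nat_lit 0x11700007b00008400e024, nat_lit 0x117000016000114000028, nat_lit 0xc60000cd00801e, nat_lit 0x930000130000840000c90000d100e026, nat_lit 0xd60000c6000002, nat_lit 0x11b000022000094000028,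 nat_lit 0xd90000dd00601e, nat_lit 0x11f00008700008c000024, nat_lit 0x1230000e500011f000031008026, nat_lit 0x12700012400401e, nat_lit 0x1270000260000b900602c, nat_lit 0xbe0000f10000ee00e02e, nat_lit 0x12b0000460000e000e032, nat_lit 0x750000f900001e]
noncomputable def xc_2_S1 : List ℕ := [nat_lit 0x12f00007d0000eb000069008026, nat_lit 0x13300013000401e, nat_lit 0x13300004a0000dd00602c, nat_lit 0xe200010900010600e02e, nat_lit 0x1370000ab0000b400e034, nat_lit 0x13b00005d0000e900002a, nat_lit 0x10d0000c20000f6000115012030, nat_lit 0x13c000119000102004034, nat_lit 0x12b00006500011d000061000032, nat_lit 0xcc0001210000fd00001c, nat_lit 0xc70001260000d7000014, nat_lit 0x1290000c7000014, nat_lit 0xc300012d0000d4004034, nat_lit 0x13700006d00013100007100e032, nat_lit 0xdc00013500011200000a, nat_lit 0x2f00013a0000a500000c, nat_lit 0xe700013e0000ff000010, nat_lit 0xfb0001410000a2000006, nat_lit 0x1450000fb000006]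
noncomputable def xc_2_S : List (List ℕ) := [xc_2_S0, xc_2_S1]
noncomputable def xc_2_defs : List ℕ := [(nat_lit 0x8000160020001600e000130010001300e0000e0040000c0090000b0010000b00a0000a0050000900a00008005000080000000800e0000700b0000700500007001000070000000700e0000600a00006009000060050000600400006003000060010000600100005000000050040000400e0000300400003000000030040000200200002001000020000000200400001004000000020000000100000000000000000001500700014002000130030001200600011000000100030000f0020000e0010000d0060000c0020000b0030000a007000090010000800300007002000060090000500700004002000030030000200700001009000000030000000000000),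
  (nat_lit 0x40002e00a0002a00e000290010002900a0002800e0002200100022004000210040001f0040001e0040001d0080001c0040001a0040001900400018)]
noncomputable def xc_2_recs : List ℕ := [(nat_lit 0xe0004a0003500000370004a0800048000400700042000490000048000490500025000480300022000470100046000440e0002400046010004400024ff00043000240000045000430e00044000450200020000450100044000430700040000440100042000400e0001c00042000001c0004000000410001c0e0004000041020001b00041060002c0003f020001700039ff0003c0003906000380003d000003c0003d02000170003c080000600014ff000140002b06000270003b00000140003b03000290003a0e0001100038000003500037000003000036010002a00034020000c00033000002800033010002e00032060002e0002506000260002f0e0002e0002f03000080002d010000c0002d060002400029000000a000280e000080002802000270000a0e0000c000270e0002500026020002100025030000500023010002100023060001c000220e000040001f060001d0001806000190001e0e0001d0001e0e000010001a0e0001800019000000e00014010000b0001101000060000c),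
  (nat_lit 0x30001600017ff000170003eff0001600039ff0003f0000bff0002c00009ff000360004d0b00034000300a0000700008ff0000800031ff0003500007ff000320004a0b000330002e0a0004e0004b07000480004e040002c0004d080004b0004407000460004c000004b0004c05000330004b)]
noncomputable def xc_2_T : List (List ℕ × ℕ) := [([3,7,2,9,3,7,2,1,3,6,2,0,3,6,2,1,3,7,2,0,3,6,2,8], (nat_lit 0xc00001400001c00002400002c00003400003c00004400004c00005400005c00014900005f00005700004f00004700003f00003700002f00002700001f00001700000f000007))]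
noncomputable def xc_2_D : H26.Dag := ⟨[1,0,3,2,5,4,7,6,9,8,11,10,13,12,14], [[0,1],
  [1,0],
  [2,3],
  [3,2],
  [4,5],
  [5,4],
  [6,7],
  [7,6],
  [8,9],
  [9,8],
  [10,11],
  [11,10],
  [12,13],
  [13,12],
  [14,14],
  [14,0,0],
  [14,2,2],
  [0,3,0,2],
  [3,5,0,4],
  [3,1,5,2,4],
  [14,5,14,4],
  [7,5,6,4],
  [6,14,6,14],
  [9,1,6,0],
  [11,9,7,8,6],
  [1,11,0,10],
  [5,11,4,10]], [], xc_2_defs, xc_2_recs⟩
theorem xc_2_c : xc_2_D.check xc_2_S xc_2_T = true := by decide +kernel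
theorem xc_2 {G : Type*} [Group G] {g : ℕ → G} (hR : Rels g xc_r_R) {H : Subgroup G}
    (hH : ∀ k ∈ [], g k ∈ H) : evA g [3,7,2,9,3,7,2,1,3,6,2,0,3,6,2,1,3,7,2,0,3,6,2,8] ∈ H :=
  mem_dag (K := 15) (J := [0,1,2,3,4,5,6,7,8,9,10,11,12,13,14,15,16,17,18,19,20,22,23,24,25,28,29]) (D := xc_2_D) (by decide +kernel) xc_2_c (by decide +kernel) hR hH
noncomputable def xc_3_S0 : List ℕ := [nat_lit 0x3300002b000023006022, nat_lit 0x4f00000700000c00a02c, nat_lit 0x57000014000020, nat_lit 0x5f00005400201e, nat_lit 0x5f000014004020, nat_lit 0x6300000f00004c008024, nat_lit 0x6700000900801e, nat_lit 0x6700001100000e004022, nat_lit 0x6700001300000500c022, nat_lit 0x6700001c00000100002c, nat_lit 0x6b00001300005c008024, nat_lit 0x73000017000064008028, nat_lit 0x7700001b00007000e030, nat_lit 0x7b00000100201e, nat_lit 0x7b00001b00000900602a, nat_lit 0x7f00001f000074006024, nat_lit 0x8300002800003000a02c, nat_lit 0x8b000038000020, nat_lit 0x9700004500801e,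 nat_lit 0x9b00004500601e, nat_lit 0x9f000037000090008024, nat_lit 0xa700003b00003500e02c, nat_lit 0xab00004400a020, nat_lit 0xbf00003f0000a4008030, nat_lit 0xc300005900801e, nat_lit 0xc700005900601e, nat_lit 0xcb0000430000b0006024, nat_lit 0xd30000470000bc006024, nat_lit 0xdb00004b00005000a028, nat_lit 0x6b00006800002200007100c026, nat_lit 0xeb000029000076000022, nat_lit 0xeb00005b00005400001d010026, nat_lit 0xef0000160000e0008032, nat_lit 0xf300001a0000e400a02c, nat_lit 0xf7000067000070000032, nat_lit 0xf700001a0000e800e032, nat_lit 0xf700002600003c0000b400202e, nat_lit 0xf30000f800009200a030, nat_lit 0x8d00008a00001e, nat_lit 0xfb00002e0000f0008030, nat_lit 0xff00003200009900602a, nat_lit 0x3a0000e80000a100c030, nat_lit 0x10300003e0000fc006032, nat_lit 0x10300007f000088008034, nat_lit 0x8100009d0000a900002c, nat_lit 0x107000083000088008030, nat_lit 0x107000042000094008032, nat_lit 0x10f00008f000094008034, nat_lit 0x11700011400a020,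 nat_lit 0x11b00004a00010c008032, nat_lit 0x11b0000970000a4006032, nat_lit 0xc90000c600a01e, nat_lit 0x11f00004e00010c006032, nat_lit 0xc60000d100a01e, nat_lit 0x123000052000110008032, nat_lit 0x12300009f0000a4008034, nat_lit 0xdd0000da0000be00011800e024, nat_lit 0xcd0000e20000c200001c, nat_lit 0xe6000113000006, nat_lit 0xba0000e90000d100a022, nat_lit 0xd60000ed004020, nat_lit 0x1270000560000a60000a200c02e, nat_lit 0x9100008e0000f500a02c, nat_lit 0xf9000095000086002032]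
noncomputable def xc_3_S1 : List ℕ := [nat_lit 0x12b0001280000fe006030, nat_lit 0x12b0000a70000b8006032, nat_lit 0x1330000af0000b8008034, nat_lit 0x13b00013800a020, nat_lit 0x13f00010500201e, nat_lit 0x13f00013c004020, nat_lit 0x1430000bb0000c0008034, nat_lit 0x14b000148002020, nat_lit 0x14b00005e0000ce00602a, nat_lit 0x14f000062000130008032, nat_lit 0x14f0000c30000d0006032, nat_lit 0x12900012600a01e, nat_lit 0x153000066000130006032, nat_lit 0x12600013100a01e, nat_lit 0x15700006a000134006032, nat_lit 0x1570000cb0000d0008034, nat_lit 0x13d00013a00010a000138000024, nat_lit 0x12d00014200010d00001c, nat_lit 0x146000115000006, nat_lit 0x11100014900013100a022, nat_lit 0x13600014d004020, nat_lit 0x15b00006e000144006032, nat_lit 0x15b0000d30000d8008034, nat_lit 0x15900015600011a000148000024, nat_lit 0x15e00011d000004, nat_lit 0x15f0000db0000e00000b200a02e, nat_lit 0xb60000ad000165004028, nat_lit 0x16300007e0000f400a028, nat_lit 0x16300007a00016000a02c,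 nat_lit 0xf200016a00017100016e004024, nat_lit 0x850001750000c6000002, nat_lit 0x10200017a00012100000e, nat_lit 0x15200017e000161000004, nat_lit 0xd800018100014f000016, nat_lit 0x1860000c3000002]
noncomputable def xc_3_S : List (List ℕ) := [xc_3_S0, xc_3_S1]
noncomputable def xc_3_defs : List ℕ := [(nat_lit 0xe0001d00b0001c00a000190070001900b000180020001600a000150090001500b000120070001200b000110050001100b0001000500010001000100000001000b0000f0050000f00b0000e0080000e0050000e0030000e0000000e00b0000d0050000d0010000d0000000d00b0000b0050000b0020000b00b00007007000070050000700e0000600a000060050000500a0000400500004000000040050000300e0000200500002002000020000000200700001005000010020000f0020000e0070000d0070000c0030000b0030000a009000090010000800000007002000060020000500700004007000030030000200300001009000000010000000000000),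
  (nat_lit 0x70003a0090003600b0003400b0003200b0003100b0003000e0002f0020002f00b0002e00e0002d0030002d0020002d00b0002b00b0002a00b000290070002900b0002700b0002600b00025003000240020002400b0002300b0002200b0002000b0001f)]
noncomputable def xc_3_recs : List ℕ := [(nat_lit 0xb000380004900000490002c080003900049020004100046020004700041030002400042ff0004400042ff00045000280400028000480000043000480e00047000460100042000470e00042000280100028000460000042000460e0004400045040002400043000002400041060002100041090004000037040002100040010003e000400a0003f0001e07000390003f060003b0003e0e0001b000390a0002c0003c070002c0003d00000390003d010001b0003d00000380003c00000370003b04000190003a00000360003a02000360001a040001300036010002e00034010002b00032010002a00031000002a0003006000280002f0e000100002a080001e000290000023000270100022000260000022000250e0000d00022000000b00020010001c0001f07000150001e010000c0001e060001b0001d06000180001c00000160001a090000c000190200013000190300014000190000015000190000012000180200004000170100014000170e000040001500000020001301000060000c),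
  (nat_lit 0x10001000011ff0003000011ff0003500053ff000520004aff0004200038ff0003c00046000005700058040003c00058050005700041060004000057020005200035ff0005100035040003500056010005000056020004a0005302000540004a030004f0004bff0004e0004bff0004d00033040003300055010004c000550e0005400053010004b000540e0004b00033010003300053000004b00053070004200052030005100052040002f00050020004e0004f010004a0004f0e0004d0004e040002d0004c010002d0004a07000380004a)]
noncomputable def xc_3_T : List (List ℕ × ℕ) := [([1,3,7,2,0,9,3,7,2,1,3,6,2,0,3,6,2,8], (nat_lit 0xc00001400001c00002400002c00003400003c00004400018900004700003f00003700002f00002700001f00001700000f000007))]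
noncomputable def xc_3_D : H26.Dag := ⟨[1,0,3,2,5,4,7,6,9,8,11,10,13,12,14], [[0,1],
  [1,0],
  [2,3],
  [3,2],
  [4,5],
  [5,4],
  [6,7],
  [7,6],
  [8,9],
  [9,8],
  [10,11],
  [11,10],
  [12,13],
  [13,12],
  [14,14],
  [14,0,0],
  [14,2,2],
  [0,3,0,2],
  [3,5,0,4],
  [3,1,5,2,4],
  [7,5,6,4],
  [6,14,6,14],
  [9,1,6,0],
  [11,9,7,8,6],
  [7,11,6,10],
  [1,11,0,10],
  [5,11,4,10]], [], xc_3_defs, xc_3_recs⟩
theorem xc_3_c : xc_3_D.check xc_3_S xc_3_T = true := by decide +kernel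
theorem xc_3 {G : Type*} [Group G] {g : ℕ → G} (hR : Rels g xc_r_R) {H : Subgroup G}
    (hH : ∀ k ∈ [], g k ∈ H) : evA g [1,3,7,2,0,9,3,7,2,1,3,6,2,0,3,6,2,8] ∈ H :=
  mem_dag (K := 15) (J := [0,1,2,3,4,5,6,7,8,9,10,11,12,13,14,15,16,17,18,19,22,23,24,25,27,28,29]) (D := xc_3_D) (by decide +kernel) xc_3_c (by decide +kernel) hR hH
theorem xc {G : Type*} [Group G] {m j d w a u y t : G}
    (h : Q8 m j d t)
    (k : WW m d t w a u) :
    a * (j * w * j⁻¹) * (m * (j * w * j⁻¹) * m⁻¹)⁻¹ * w = w * (a * (j * w * j⁻¹) * (m * (j * w * j⁻¹) * m⁻¹)⁻¹) ∧ a * (j * w * j⁻¹) * (m * (j * w * j⁻¹) * m⁻¹)⁻¹ * a = a * (a * (j * w * j⁻¹) * (m * (j * w * j⁻¹) * m⁻¹)⁻¹) ∧ a * (j * w * j⁻¹) * (m * (j * w * j⁻¹) * m⁻¹)⁻¹ * (j * w * j⁻¹) = j * w * j⁻¹ * (a * (j * w * j⁻¹) * (m * (j * w * j⁻¹) * m⁻¹)⁻¹) ∧ a * (j * w * j⁻¹) * (m * (j * w * j⁻¹) * m⁻¹)⁻¹ * (m * (j * w * j⁻¹) * m⁻¹) = m * (j * w * j⁻¹) * m⁻¹ * (a * (j * w * j⁻¹) * (m * (j * w * j⁻¹) * m⁻¹)⁻¹)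 :=
  ⟨mul_inv_eq_one.1 ((evA_eq_tm ((InvI.cons h.1 InvI.nil) : InvI [m, j, d, w, a, u, y, t] [(nat_lit 7)]) [(.v (nat_lit 0)), (.inv (.v (nat_lit 0))), (.v (nat_lit 1)), (.inv (.v (nat_lit 1))), (.v (nat_lit 2)), (.inv (.v (nat_lit 2))), (.v (nat_lit 3)), (.inv (.v (nat_lit 3))), (.v (nat_lit 4)), (.inv (.v (nat_lit 4))), (.v (nat_lit 5)), (.inv (.v (nat_lit 5))), (.v (nat_lit 6)), (.inv (.v (nat_lit 6))), (.v (nat_lit 7))] [7,9,3,7,2,1,3,6,2,0,6,1,3,7,2,0,3,6,2,8] (.mul (.mul (.mul (.mul (.v (nat_lit 4)) (.mul (.mul (.v (nat_lit 1)) (.v (nat_lit 3))) (.inv (.v (nat_lit 1))))) (.inv (.mul (.mul (.v (nat_lit 0)) (.mul (.mul (.v (nat_lit 1)) (.v (nat_lit 3))) (.inv (.v (nat_lit 1))))) (.inv (.v (nat_lit 0)))))) (.v (nat_lit 3))) (.inv (.mul (.v (nat_lit 3)) (.mul (.mul (.v (nat_lit 4)) (.mul (.mul (.v (nat_lit 1)) (.v (nat_lit 3))) (.inv (.v (nat_lit 1))))) (.inv (.mul (.mul (.v (nat_lit 0)) (.mul (.mul (.v (nat_lit 1)) (.v (nat_lit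 3))) (.inv (.v (nat_lit 1))))) (.inv (.v (nat_lit 0))))))))) (by decide +kernel)).symm.trans (Subgroup.mem_bot.1 (xc_0 (xc_r h k) (H := ⊥) (List.forall_mem_nil _)))),
   mul_inv_eq_one.1 ((evA_eq_tm ((InvI.cons h.1 InvI.nil) : InvI [m, j, d, w, a, u, y, t] [(nat_lit 7)]) [(.v (nat_lit 0)), (.inv (.v (nat_lit 0))), (.v (nat_lit 1)), (.inv (.v (nat_lit 1))), (.v (nat_lit 2)), (.inv (.v (nat_lit 2))), (.v (nat_lit 3)), (.inv (.v (nat_lit 3))), (.v (nat_lit 4)), (.inv (.v (nat_lit 4))), (.v (nat_lit 5)), (.inv (.v (nat_lit 5))), (.v (nat_lit 6)), (.inv (.v (nat_lit 6))), (.v (nat_lit 7))] [9,9,3,7,2,1,3,6,2,0,8,1,3,7,2,0,3,6,2,8] (.mul (.mul (.mul (.mul (.v (nat_lit 4)) (.mul (.mul (.v (nat_lit 1)) (.v (nat_lit 3))) (.inv (.v (nat_lit 1))))) (.inv (.mul (.mul (.v (nat_lit 0)) (.mul (.mul (.v (nat_lit 1)) (.v (nat_lit 3))) (.inv (.v (nat_lit 1))))) (.inv (.v (nat_lit 0)))))) (.v (nat_lit 4))) (.inv (.mul (.v (nat_lit 4)) (.mul (.mul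 (.v (nat_lit 4)) (.mul (.mul (.v (nat_lit 1)) (.v (nat_lit 3))) (.inv (.v (nat_lit 1))))) (.inv (.mul (.mul (.v (nat_lit 0)) (.mul (.mul (.v (nat_lit 1)) (.v (nat_lit 3))) (.inv (.v (nat_lit 1))))) (.inv (.v (nat_lit 0))))))))) (by decide +kernel)).symm.trans (Subgroup.mem_bot.1 (xc_1 (xc_r h k) (H := ⊥) (List.forall_mem_nil _)))),
   mul_inv_eq_one.1 ((evA_eq_tm ((InvI.cons h.1 InvI.nil) : InvI [m, j, d, w, a, u, y, t] [(nat_lit 7)]) [(.v (nat_lit 0)), (.inv (.v (nat_lit 0))), (.v (nat_lit 1)), (.inv (.v (nat_lit 1))), (.v (nat_lit 2)), (.inv (.v (nat_lit 2))), (.v (nat_lit 3)), (.inv (.v (nat_lit 3))), (.v (nat_lit 4)), (.inv (.v (nat_lit 4))), (.v (nat_lit 5)), (.inv (.v (nat_lit 5))), (.v (nat_lit 6)), (.inv (.v (nat_lit 6))), (.v (nat_lit 7))] [3,7,2,9,3,7,2,1,3,6,2,0,3,6,2,1,3,7,2,0,3,6,2,8] (.mul (.mul (.mul (.mul (.v (nat_lit 4)) (.mul (.mul (.v (nat_lit 1)) (.v (nat_lit 3))) (.inv (.v (nat_lit 1))))) (.inv (.mul (.mul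 (.v (nat_lit 0)) (.mul (.mul (.v (nat_lit 1)) (.v (nat_lit 3))) (.inv (.v (nat_lit 1))))) (.inv (.v (nat_lit 0)))))) (.mul (.mul (.v (nat_lit 1)) (.v (nat_lit 3))) (.inv (.v (nat_lit 1))))) (.inv (.mul (.mul (.mul (.v (nat_lit 1)) (.v (nat_lit 3))) (.inv (.v (nat_lit 1)))) (.mul (.mul (.v (nat_lit 4)) (.mul (.mul (.v (nat_lit 1)) (.v (nat_lit 3))) (.inv (.v (nat_lit 1))))) (.inv (.mul (.mul (.v (nat_lit 0)) (.mul (.mul (.v (nat_lit 1)) (.v (nat_lit 3))) (.inv (.v (nat_lit 1))))) (.inv (.v (nat_lit 0))))))))) (by decide +kernel)).symm.trans (Subgroup.mem_bot.1 (xc_2 (xc_r h k) (H := ⊥) (List.forall_mem_nil _)))),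
   mul_inv_eq_one.1 ((evA_eq_tm ((InvI.cons h.1 InvI.nil) : InvI [m, j, d, w, a, u, y, t] [(nat_lit 7)]) [(.v (nat_lit 0)), (.inv (.v (nat_lit 0))), (.v (nat_lit 1)), (.inv (.v (nat_lit 1))), (.v (nat_lit 2)), (.inv (.v (nat_lit 2))), (.v (nat_lit 3)), (.inv (.v (nat_lit 3))), (.v (nat_lit 4)), (.inv (.v (nat_lit 4))), (.v (nat_lit 5)), (.inv (.v (nat_lit 5))), (.v (nat_lit 6)), (.inv (.v (nat_lit 6))), (.v (nat_lit 7))] [1,3,7,2,0,9,3,7,2,1,3,6,2,0,3,6,2,8] (.mul (.mul (.mul (.mul (.v (nat_lit 4)) (.mul (.mul (.v (nat_lit 1)) (.v (nat_lit 3))) (.inv (.v (nat_lit 1))))) (.inv (.mul (.mul (.v (nat_lit 0)) (.mul (.mul (.v (nat_lit 1)) (.v (nat_lit 3))) (.inv (.v (nat_lit 1))))) (.inv (.v (nat_lit 0)))))) (.mul (.mul (.v (nat_lit 0)) (.mul (.mul (.v (nat_lit 1)) (.v (nat_lit 3))) (.inv (.v (nat_lit 1))))) (.inv (.v (nat_lit 0))))) (.inv (.mul (.mul (.mul (.v (nat_lit 0)) (.mul (.mul (.v (nat_lit 1)) (.v (nat_lit 3))) (.inv (.v (nat_lit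 1))))) (.inv (.v (nat_lit 0)))) (.mul (.mul (.v (nat_lit 4)) (.mul (.mul (.v (nat_lit 1)) (.v (nat_lit 3))) (.inv (.v (nat_lit 1))))) (.inv (.mul (.mul (.v (nat_lit 0)) (.mul (.mul (.v (nat_lit 1)) (.v (nat_lit 3))) (.inv (.v (nat_lit 1))))) (.inv (.v (nat_lit 0))))))))) (by decide +kernel)).symm.trans (Subgroup.mem_bot.1 (xc_3 (xc_r h k) (H := ⊥) (List.forall_mem_nil _))))⟩
noncomputable def xb_r_R : List (List ℕ) := [[0,1],
  [1,0],
  [2,3],
  [3,2],
  [4,5],
  [5,4],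
  [6,7],
  [7,6],
  [8,9],
  [9,8],
  [10,11],
  [11,10],
  [12,13],
  [13,12],
  [14,14],
  [14,0,0],
  [14,2,2],
  [0,3,0,2],
  [3,5,0,4],
  [3,1,5,2,4],
  [14,5,14,4],
  [6,6,6],
  [7,5,6,4],
  [6,14,6,14],
  [9,1,6,0],
  [11,9,7,8,6],
  [10,10,10],
  [7,11,6,10],
  [1,11,0,10],
  [5,11,4,10],
  [12,12,12],
  [7,13,6,12],
  [1,13,0,12],
  [5,13,4,12],
  [13,1,3,7,2,0,3,6,2,8]]
theorem xb_r {G : Type*} [Group G] {m j d w a u y t : G}
    (h : Q8 m j d t)
    (k : WW m d t w a u)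
    (l : CY m d w y)
    (e : a * (j * w * j⁻¹) * (m * (j * w * j⁻¹) * m⁻¹)⁻¹ = y) :
    Rels (nthG [m, m⁻¹, j, j⁻¹, d, d⁻¹, w, w⁻¹, a, a⁻¹, u, u⁻¹, y, y⁻¹, t]) xb_r_R :=
  rels_of_eqs ((InvI.cons h.1 InvI.nil) : InvI [m, j, d, w, a, u, y, t] [(nat_lit 7)])
    (AllEq.append (show AllEq [m, j, d, w, a, u, y, t] [((.mul (.v (nat_lit 7)) (.v (nat_lit 7))), .one), ((.mul (.v (nat_lit 0)) (.v (nat_lit 0))), (.v (nat_lit 7))), ((.mul (.v (nat_lit 1)) (.v (nat_lit 1))), (.v (nat_lit 7))), ((.mul (.mul (.v (nat_lit 1)) (.v (nat_lit 0))) (.inv (.v (nat_lit 1)))), (.inv (.v (nat_lit 0)))), ((.mul (.mul (.v (nat_lit 2)) (.v (nat_lit 0))) (.inv (.v (nat_lit 2)))), (.v (nat_lit 1))), ((.mul (.mul (.v (nat_lit 2)) (.v (nat_lit 1))) (.inv (.v (nat_lit 2)))), (.mul (.v (nat_lit 1)) (.v (nat_lit 0)))), ((.mul (.v (nat_lit 2)) (.v (nat_lit 7))), (.mul (.v (nat_lit 7)) (.v (nat_lit 2))))] from h)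
    (AllEq.append (show AllEq [m, j, d, w, a, u, y, t] [((.pw (.v (nat_lit 3)) (nat_lit 3)), .one), ((.mul (.v (nat_lit 2)) (.v (nat_lit 3))), (.mul (.v (nat_lit 3)) (.v (nat_lit 2)))), ((.mul (.mul (.v (nat_lit 7)) (.v (nat_lit 3))) (.inv (.v (nat_lit 7)))), (.inv (.v (nat_lit 3)))), ((.mul (.mul (.v (nat_lit 0)) (.v (nat_lit 3))) (.inv (.v (nat_lit 0)))), (.v (nat_lit 4))), ((.mul (.mul (.mul (.v (nat_lit 3)) (.v (nat_lit 4))) (.inv (.v (nat_lit 3)))) (.inv (.v (nat_lit 4)))), (.v (nat_lit 5))), ((.pw (.v (nat_lit 5)) (nat_lit 3)), .one), ((.mul (.v (nat_lit 5)) (.v (nat_lit 3))), (.mul (.v (nat_lit 3)) (.v (nat_lit 5)))), ((.mul (.v (nat_lit 5)) (.v (nat_lit 0))), (.mul (.v (nat_lit 0)) (.v (nat_lit 5)))), ((.mul (.v (nat_lit 5)) (.v (nat_lit 2))), (.mul (.v (nat_lit 2)) (.v (nat_lit 5))))] from k)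
    (AllEq.append (show AllEq [m, j, d, w, a, u, y, t] [((.pw (.v (nat_lit 6)) (nat_lit 3)), .one), ((.mul (.v (nat_lit 6)) (.v (nat_lit 3))), (.mul (.v (nat_lit 3)) (.v (nat_lit 6)))), ((.mul (.v (nat_lit 6)) (.v (nat_lit 0))), (.mul (.v (nat_lit 0)) (.v (nat_lit 6)))), ((.mul (.v (nat_lit 6)) (.v (nat_lit 2))), (.mul (.v (nat_lit 2)) (.v (nat_lit 6))))] from l)
    (show AllEq [m, j, d, w, a, u, y, t] [((.mul (.mul (.v (nat_lit 4)) (.mul (.mul (.v (nat_lit 1)) (.v (nat_lit 3))) (.inv (.v (nat_lit 1))))) (.inv (.mul (.mul (.v (nat_lit 0)) (.mul (.mul (.v (nat_lit 1)) (.v (nat_lit 3))) (.inv (.v (nat_lit 1))))) (.inv (.v (nat_lit 0)))))), (.v (nat_lit 6)))] from ⟨e, trivial⟩))))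
    [(.v (nat_lit 0)), (.inv (.v (nat_lit 0))), (.v (nat_lit 1)), (.inv (.v (nat_lit 1))), (.v (nat_lit 2)), (.inv (.v (nat_lit 2))), (.v (nat_lit 3)), (.inv (.v (nat_lit 3))), (.v (nat_lit 4)), (.inv (.v (nat_lit 4))), (.v (nat_lit 5)), (.inv (.v (nat_lit 5))), (.v (nat_lit 6)), (.inv (.v (nat_lit 6))), (.v (nat_lit 7))] (by decide +kernel)
noncomputable def xb_0_S0 : List ℕ := [nat_lit 0x1, nat_lit 0x1, nat_lit 0x1, nat_lit 0xb00000500000c000028, nat_lit 0xb00000200000c00c02a, nat_lit 0xf00000a000010008028, nat_lit 0x1300000100001400402c, nat_lit 0x1700001000401e, nat_lit 0x17000008004020, nat_lit 0x17000005000018008026, nat_lit 0x1b00000700000c00a022, nat_lit 0x1b00002100001e002022, nat_lit 0x1f000007000014008024, nat_lit 0x3200001a00003100402a, nat_lit 0x2000003500001f00c02c, nat_lit 0x3900001c00002e00001500002d00001b00002100002600002200202e, nat_lit 0x1b00003d00001c008028, nat_lit 0x700000c00001200000e00002900004100002a00000b00000800c02e]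
noncomputable def xb_0_S : List (List ℕ) := [xb_0_S0]
noncomputable def xb_0_defs : List ℕ := [(nat_lit 0x5000010010000100e000000050000000100000000000000030000000000000)]
noncomputable def xb_0_recs : List ℕ := [(nat_lit 0x700001000010600006000060900001000010c00001000010d00007000070000004000070300003000060200002000060600005000050200001000050000003000050d00004000040600003000030c00002000020900002000020800000000000600000000000c0000000000)]
noncomputable def xb_0_T : List (List ℕ × ℕ) := [([3,6,2], (nat_lit 0x8000046000007))]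
noncomputable def xb_0_D : H26.Dag := ⟨[1,0,3,2,5,4,7,6,9,8,11,10,13,12,14], [[0,1],
  [1,0],
  [2,3],
  [3,2],
  [4,5],
  [5,4],
  [6,7],
  [7,6],
  [8,9],
  [9,8],
  [10,11],
  [11,10],
  [12,13],
  [13,12],
  [14,14],
  [14,0,0],
  [14,2,2],
  [0,3,0,2],
  [3,5,0,4],
  [6,14,6,14],
  [9,1,6,0],
  [1,13,0,12],
  [5,13,4,12],
  [13,1,3,7,2,0,3,6,2,8]], [12,13,10,11,6,7,8,9], xb_0_defs, xb_0_recs⟩
theorem xb_0_c : xb_0_D.check xb_0_S xb_0_T = true := by decide +kernel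
theorem xb_0 {G : Type*} [Group G] {g : ℕ → G} (hR : Rels g xb_r_R) {H : Subgroup G}
    (hH : ∀ k ∈ [12,13,10,11,6,7,8,9], g k ∈ H) : evA g [3,6,2] ∈ H :=
  mem_dag (K := 15) (J := [0,1,2,3,4,5,6,7,8,9,10,11,12,13,14,15,16,17,18,23,24,32,33,34]) (D := xb_0_D) (by decide +kernel) xb_0_c (by decide +kernel) hR hH
theorem xb {G : Type*} [Group G] {m j d w a u y t : G}
    (h : Q8 m j d t)
    (k : WW m d t w a u)
    (l : CY m d w y)
    (e : a * (j * w * j⁻¹) * (m * (j * w * j⁻¹) * m⁻¹)⁻¹ = y)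
    {H : Subgroup G} (my : y ∈ H) (mu : u ∈ H) (mw : w ∈ H) (ma : a ∈ H) :
    j * w * j⁻¹ ∈ H :=
  Eq.mp (congrArg (· ∈ H) (evA_eq_tm ((InvI.cons h.1 InvI.nil) : InvI [m, j, d, w, a, u, y, t] [(nat_lit 7)]) [(.v (nat_lit 0)), (.inv (.v (nat_lit 0))), (.v (nat_lit 1)), (.inv (.v (nat_lit 1))), (.v (nat_lit 2)), (.inv (.v (nat_lit 2))), (.v (nat_lit 3)), (.inv (.v (nat_lit 3))), (.v (nat_lit 4)), (.inv (.v (nat_lit 4))), (.v (nat_lit 5)), (.inv (.v (nat_lit 5))), (.v (nat_lit 6)), (.inv (.v (nat_lit 6))), (.v (nat_lit 7))] [3,6,2] (.mul (.mul (.v (nat_lit 1)) (.v (nat_lit 3))) (.inv (.v (nat_lit 1)))) (by decide +kernel))) (xb_0 (xb_r h k l e) (H := H) (List.forall_mem_cons.2 ⟨my, (List.forall_mem_cons.2 ⟨(H.inv_mem my), (List.forall_mem_cons.2 ⟨mu, (List.forall_mem_cons.2 ⟨(H.inv_mem mu), (List.forall_mem_cons.2 ⟨mw, (List.forall_mem_cons.2 ⟨(H.inv_mem mw), (List.forall_mem_cons.2 ⟨ma, (List.forall_mem_cons.2 ⟨(H.inv_mem ma), (List.forall_mem_nil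 _)⟩)⟩)⟩)⟩)⟩)⟩)⟩)⟩))
noncomputable def nt00_r_R : List (List ℕ) := [[0,1],
  [1,0],
  [2,3],
  [3,2],
  [4,5],
  [5,4],
  [6,7],
  [7,6],
  [8,9],
  [9,8],
  [10,11],
  [11,10],
  [12,13],
  [13,12],
  [14,14],
  [14,0,0],
  [14,2,2],
  [0,3,0,2],
  [3,5,0,4],
  [3,1,5,2,4],
  [14,5,14,4],
  [6,6,6],
  [7,5,6,4],
  [6,14,6,14],
  [9,1,6,0],
  [11,9,7,8,6],
  [10,10,10],
  [7,11,6,10],
  [1,11,0,10],
  [5,11,4,10],
  [12,12,12],
  [7,13,6,12],
  [1,13,0,12],
  [5,13,4,12],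
  [13,3,6,2]]
theorem nt00_r {G : Type*} [Group G] {m j d w a u y t : G}
    (h : Q8 m j d t)
    (k : WW m d t w a u)
    (l : CY m d w y)
    (e : j * w * j⁻¹ = y * 1 * 1) :
    Rels (nthG [m, m⁻¹, j, j⁻¹, d, d⁻¹, w, w⁻¹, a, a⁻¹, u, u⁻¹, y, y⁻¹, t]) nt00_r_R :=
  rels_of_eqs ((InvI.cons h.1 InvI.nil) : InvI [m, j, d, w, a, u, y, t] [(nat_lit 7)])
    (AllEq.append (show AllEq [m, j, d, w, a, u, y, t] [((.mul (.v (nat_lit 7)) (.v (nat_lit 7))), .one), ((.mul (.v (nat_lit 0)) (.v (nat_lit 0))), (.v (nat_lit 7))), ((.mul (.v (nat_lit 1)) (.v (nat_lit 1))), (.v (nat_lit 7))), ((.mul (.mul (.v (nat_lit 1)) (.v (nat_lit 0))) (.inv (.v (nat_lit 1)))), (.inv (.v (nat_lit 0)))), ((.mul (.mul (.v (nat_lit 2)) (.v (nat_lit 0))) (.inv (.v (nat_lit 2)))), (.v (nat_lit 1))), ((.mul (.mul (.v (nat_lit 2)) (.v (nat_lit 1))) (.inv (.v (nat_lit 2)))), (.mul (.v (nat_lit 1)) (.v (nat_lit 0)))), ((.mul (.v (nat_lit 2)) (.v (nat_lit 7))), (.mul (.v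 (nat_lit 7)) (.v (nat_lit 2))))] from h)
    (AllEq.append (show AllEq [m, j, d, w, a, u, y, t] [((.pw (.v (nat_lit 3)) (nat_lit 3)), .one), ((.mul (.v (nat_lit 2)) (.v (nat_lit 3))), (.mul (.v (nat_lit 3)) (.v (nat_lit 2)))), ((.mul (.mul (.v (nat_lit 7)) (.v (nat_lit 3))) (.inv (.v (nat_lit 7)))), (.inv (.v (nat_lit 3)))), ((.mul (.mul (.v (nat_lit 0)) (.v (nat_lit 3))) (.inv (.v (nat_lit 0)))), (.v (nat_lit 4))), ((.mul (.mul (.mul (.v (nat_lit 3)) (.v (nat_lit 4))) (.inv (.v (nat_lit 3)))) (.inv (.v (nat_lit 4)))), (.v (nat_lit 5))), ((.pw (.v (nat_lit 5)) (nat_lit 3)), .one), ((.mul (.v (nat_lit 5)) (.v (nat_lit 3))), (.mul (.v (nat_lit 3)) (.v (nat_lit 5)))), ((.mul (.v (nat_lit 5)) (.v (nat_lit 0))), (.mul (.v (nat_lit 0)) (.v (nat_lit 5)))), ((.mul (.v (nat_lit 5)) (.v (nat_lit 2))), (.mul (.v (nat_lit 2)) (.v (nat_lit 5))))] from k)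
    (AllEq.append (show AllEq [m, j, d, w, a, u, y, t] [((.pw (.v (nat_lit 6)) (nat_lit 3)), .one), ((.mul (.v (nat_lit 6)) (.v (nat_lit 3))), (.mul (.v (nat_lit 3)) (.v (nat_lit 6)))), ((.mul (.v (nat_lit 6)) (.v (nat_lit 0))), (.mul (.v (nat_lit 0)) (.v (nat_lit 6)))), ((.mul (.v (nat_lit 6)) (.v (nat_lit 2))), (.mul (.v (nat_lit 2)) (.v (nat_lit 6))))] from l)
    (show AllEq [m, j, d, w, a, u, y, t] [((.mul (.mul (.v (nat_lit 1)) (.v (nat_lit 3))) (.inv (.v (nat_lit 1)))), (.mul (.mul (.v (nat_lit 6)) .one) .one))] from ⟨e, trivial⟩))))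
    [(.v (nat_lit 0)), (.inv (.v (nat_lit 0))), (.v (nat_lit 1)), (.inv (.v (nat_lit 1))), (.v (nat_lit 2)), (.inv (.v (nat_lit 2))), (.v (nat_lit 3)), (.inv (.v (nat_lit 3))), (.v (nat_lit 4)), (.inv (.v (nat_lit 4))), (.v (nat_lit 5)), (.inv (.v (nat_lit 5))), (.v (nat_lit 6)), (.inv (.v (nat_lit 6))), (.v (nat_lit 7))] (by decide +kernel)
noncomputable def nt00_0_S0 : List ℕ := [nat_lit 0x1, nat_lit 0x700000200000800c024, nat_lit 0x13000010006020, nat_lit 0x1700000700000c00001e, nat_lit 0x1700000600001800c026, nat_lit 0xd00001100000e006028, nat_lit 0xf00000c00001500000b00c022, nat_lit 0x1900000f00001900000900000e, nat_lit 0x1e00001300000c]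
noncomputable def nt00_0_S : List (List ℕ) := [nt00_0_S0]
noncomputable def nt00_0_defs : List ℕ := [(nat_lit 0x4000010070000000600000004000000000000000000000)]
noncomputable def nt00_0_recs : List ℕ := [(nat_lit 0x60000000000ff0000400000ff00000000030700002000020c00005000050300002000050700003000040c00001000010c0000000000)]
noncomputable def nt00_0_T : List (List ℕ × ℕ) := [([6], (nat_lit 0x21))]
noncomputable def nt00_0_D : H26.Dag := ⟨[1,0,3,2,5,4,7,6,9,8,11,10,13,12,14], [[0,1],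
  [1,0],
  [2,3],
  [3,2],
  [4,5],
  [5,4],
  [6,7],
  [7,6],
  [8,9],
  [9,8],
  [10,11],
  [11,10],
  [12,13],
  [13,12],
  [14,14],
  [3,5,0,4],
  [6,6,6],
  [7,5,6,4],
  [1,13,0,12],
  [5,13,4,12],
  [13,3,6,2]], [12,13,10,11], nt00_0_defs, nt00_0_recs⟩
theorem nt00_0_c : nt00_0_D.check nt00_0_S nt00_0_T = true := by decide +kernel
theorem nt00_0 {G : Type*} [Group G] {g : ℕ → G} (hR : Rels g nt00_r_R) {H : Subgroup G}
    (hH : ∀ k ∈ [12,13,10,11], g k ∈ H) : evA g [6] ∈ H :=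
  mem_dag (K := 15) (J := [0,1,2,3,4,5,6,7,8,9,10,11,12,13,14,18,21,22,32,33,34]) (D := nt00_0_D) (by decide +kernel) nt00_0_c (by decide +kernel) hR hH
theorem nt00 {G : Type*} [Group G] {m j d w a u y t : G}
    (h : Q8 m j d t)
    (k : WW m d t w a u)
    (l : CY m d w y)
    (e : j * w * j⁻¹ = y * 1 * 1)
    {H : Subgroup G} (my : y ∈ H) (mu : u ∈ H) :
    w ∈ H :=
  Eq.mp (congrArg (· ∈ H) (evA_eq_tm ((InvI.cons h.1 InvI.nil) : InvI [m, j, d, w, a, u, y, t] [(nat_lit 7)]) [(.v (nat_lit 0)), (.inv (.v (nat_lit 0))), (.v (nat_lit 1)), (.inv (.v (nat_lit 1))), (.v (nat_lit 2)), (.inv (.v (nat_lit 2))), (.v (nat_lit 3)), (.inv (.v (nat_lit 3))), (.v (nat_lit 4)), (.inv (.v (nat_lit 4))), (.v (nat_lit 5)), (.inv (.v (nat_lit 5))), (.v (nat_lit 6)), (.inv (.v (nat_lit 6))), (.v (nat_lit 7))] [6] (.v (nat_lit 3)) (by decide +kernel))) (nt00_0 (nt00_r h k l e) (H := H) (List.forall_mem_cons.2 ⟨my, (List.forall_mem_cons.2 ⟨(H.inv_mem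 my), (List.forall_mem_cons.2 ⟨mu, (List.forall_mem_cons.2 ⟨(H.inv_mem mu), (List.forall_mem_nil _)⟩)⟩)⟩)⟩))
noncomputable def nt01_r_R : List (List ℕ) := [[0,1],
  [1,0],
  [2,3],
  [3,2],
  [4,5],
  [5,4],
  [6,7],
  [7,6],
  [8,9],
  [9,8],
  [10,11],
  [11,10],
  [12,13],
  [13,12],
  [14,14],
  [14,0,0],
  [14,2,2],
  [0,3,0,2],
  [3,5,0,4],
  [3,1,5,2,4],
  [14,5,14,4],
  [6,6,6],
  [7,5,6,4],
  [6,14,6,14],
  [9,1,6,0],
  [11,9,7,8,6],
  [10,10,10],
  [7,11,6,10],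
  [1,11,0,10],
  [5,11,4,10],
  [12,12,12],
  [7,13,6,12],
  [1,13,0,12],
  [5,13,4,12],
  [13,9,3,6,2]]
theorem nt01_r {G : Type*} [Group G] {m j d w a u y t : G}
    (h : Q8 m j d t)
    (k : WW m d t w a u)
    (l : CY m d w y)
    (e : j * w * j⁻¹ = y * 1 * a) :
    Rels (nthG [m, m⁻¹, j, j⁻¹, d, d⁻¹, w, w⁻¹, a, a⁻¹, u, u⁻¹, y, y⁻¹, t]) nt01_r_R :=
  rels_of_eqs ((InvI.cons h.1 InvI.nil) : InvI [m, j, d, w, a, u, y, t] [(nat_lit 7)])
    (AllEq.append (show AllEq [m, j, d, w, a, u, y, t] [((.mul (.v (nat_lit 7)) (.v (nat_lit 7))), .one), ((.mul (.v (nat_lit 0)) (.v (nat_lit 0))), (.v (nat_lit 7))), ((.mul (.v (nat_lit 1)) (.v (nat_lit 1))), (.v (nat_lit 7))), ((.mul (.mul (.v (nat_lit 1)) (.v (nat_lit 0))) (.inv (.v (nat_lit 1)))), (.inv (.v (nat_lit 0)))), ((.mul (.mul (.v (nat_lit 2)) (.v (nat_lit 0))) (.inv (.v (nat_lit 2)))), (.v (nat_lit 1))), ((.mul (.mul (.v (nat_lit 2)) (.v (nat_lit 1))) (.inv (.v (nat_lit 2)))), (.mul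 (.v (nat_lit 1)) (.v (nat_lit 0)))), ((.mul (.v (nat_lit 2)) (.v (nat_lit 7))), (.mul (.v (nat_lit 7)) (.v (nat_lit 2))))] from h)
    (AllEq.append (show AllEq [m, j, d, w, a, u, y, t] [((.pw (.v (nat_lit 3)) (nat_lit 3)), .one), ((.mul (.v (nat_lit 2)) (.v (nat_lit 3))), (.mul (.v (nat_lit 3)) (.v (nat_lit 2)))), ((.mul (.mul (.v (nat_lit 7)) (.v (nat_lit 3))) (.inv (.v (nat_lit 7)))), (.inv (.v (nat_lit 3)))), ((.mul (.mul (.v (nat_lit 0)) (.v (nat_lit 3))) (.inv (.v (nat_lit 0)))), (.v (nat_lit 4))), ((.mul (.mul (.mul (.v (nat_lit 3)) (.v (nat_lit 4))) (.inv (.v (nat_lit 3)))) (.inv (.v (nat_lit 4)))), (.v (nat_lit 5))), ((.pw (.v (nat_lit 5)) (nat_lit 3)), .one), ((.mul (.v (nat_lit 5)) (.v (nat_lit 3))), (.mul (.v (nat_lit 3)) (.v (nat_lit 5)))), ((.mul (.v (nat_lit 5)) (.v (nat_lit 0))), (.mul (.v (nat_lit 0)) (.v (nat_lit 5)))), ((.mul (.v (nat_lit 5)) (.v (nat_lit 2))), (.mul (.v (nat_lit 2)) (.v (nat_lit 5))))] from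 k)
    (AllEq.append (show AllEq [m, j, d, w, a, u, y, t] [((.pw (.v (nat_lit 6)) (nat_lit 3)), .one), ((.mul (.v (nat_lit 6)) (.v (nat_lit 3))), (.mul (.v (nat_lit 3)) (.v (nat_lit 6)))), ((.mul (.v (nat_lit 6)) (.v (nat_lit 0))), (.mul (.v (nat_lit 0)) (.v (nat_lit 6)))), ((.mul (.v (nat_lit 6)) (.v (nat_lit 2))), (.mul (.v (nat_lit 2)) (.v (nat_lit 6))))] from l)
    (show AllEq [m, j, d, w, a, u, y, t] [((.mul (.mul (.v (nat_lit 1)) (.v (nat_lit 3))) (.inv (.v (nat_lit 1)))), (.mul (.mul (.v (nat_lit 6)) .one) (.v (nat_lit 4))))] from ⟨e, trivial⟩))))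
    [(.v (nat_lit 0)), (.inv (.v (nat_lit 0))), (.v (nat_lit 1)), (.inv (.v (nat_lit 1))), (.v (nat_lit 2)), (.inv (.v (nat_lit 2))), (.v (nat_lit 3)), (.inv (.v (nat_lit 3))), (.v (nat_lit 4)), (.inv (.v (nat_lit 4))), (.v (nat_lit 5)), (.inv (.v (nat_lit 5))), (.v (nat_lit 6)), (.inv (.v (nat_lit 6))), (.v (nat_lit 7))] (by decide +kernel)
noncomputable def nt01_0_S0 : List ℕ := [nat_lit 0x1, nat_lit 0xb00000800a01e, nat_lit 0x13000001000014004030, nat_lit 0x1b00000100001c00402c, nat_lit 0x1f00000c00401e, nat_lit 0x23000005008020, nat_lit 0x23000007000010000022, nat_lit 0x2b00000f000014006024, nat_lit 0x1e00000900001d00c02e, nat_lit 0x2c00002100002b002030, nat_lit 0x3300002500000f00001c008032, nat_lit 0x3700000e00003800402e, nat_lit 0x3b00003800401e, nat_lit 0x3b000029002020, nat_lit 0x3b00001b000020006028, nat_lit 0x2700001100003900003200202a, nat_lit 0x3e000031000002, nat_lit 0x3e00002d00003d000018, nat_lit 0x3f00001a00003000c02a,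 nat_lit 0x3f000016000028000046010032, nat_lit 0x3500004100004d00004a006022, nat_lit 0x5100002a000006, nat_lit 0x51000033000010, nat_lit 0x1a00005900004900602a, nat_lit 0x5d00004000005d002026, nat_lit 0x1900006100004a000002, nat_lit 0x10000066000056000004, nat_lit 0x1700006a00001b00000e, nat_lit 0x6d00001700000e]
noncomputable def nt01_0_S : List (List ℕ) := [nt01_0_S0]
noncomputable def nt01_0_defs : List ℕ := [(nat_lit 0x60000800e0000600100006009000030080000300500003008000020020000100e0000000700000006000000050000000200000001000000000000000000000)]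
noncomputable def nt01_0_recs : List ℕ := [(nat_lit 0x70000000000ff0000000005ff0000600000ff0000b00003ff000080000f070000f0000808000030000b03000060000bff0000b0000c02000090000f000000b0000f0c0000900009010000e00009ff0000d0000907000070000e030000c0000e000000d0000e0d0000d0000d03000060000c0d00003000030c0000a0000a01000040000a0000003000080200002000080000002000070d00006000060d00004000040e00001000020c0000000000)]
noncomputable def nt01_0_T : List (List ℕ × ℕ) := [([6], (nat_lit 0x72))]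
noncomputable def nt01_0_D : H26.Dag := ⟨[1,0,3,2,5,4,7,6,9,8,11,10,13,12,14], [[0,1],
  [1,0],
  [2,3],
  [3,2],
  [4,5],
  [5,4],
  [6,7],
  [7,6],
  [8,9],
  [9,8],
  [10,11],
  [11,10],
  [12,13],
  [13,12],
  [14,14],
  [14,0,0],
  [14,2,2],
  [0,3,0,2],
  [3,5,0,4],
  [6,6,6],
  [6,14,6,14],
  [9,1,6,0],
  [7,13,6,12],
  [1,13,0,12],
  [5,13,4,12],
  [13,9,3,6,2]], [12,13,10,11], nt01_0_defs, nt01_0_recs⟩
theorem nt01_0_c : nt01_0_D.check nt01_0_S nt01_0_T = true := by decide +kernel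
theorem nt01_0 {G : Type*} [Group G] {g : ℕ → G} (hR : Rels g nt01_r_R) {H : Subgroup G}
    (hH : ∀ k ∈ [12,13,10,11], g k ∈ H) : evA g [6] ∈ H :=
  mem_dag (K := 15) (J := [0,1,2,3,4,5,6,7,8,9,10,11,12,13,14,15,16,17,18,21,23,24,31,32,33,34]) (D := nt01_0_D) (by decide +kernel) nt01_0_c (by decide +kernel) hR hH
theorem nt01 {G : Type*} [Group G] {m j d w a u y t : G}
    (h : Q8 m j d t)
    (k : WW m d t w a u)
    (l : CY m d w y)
    (e : j * w * j⁻¹ = y * 1 * a)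
    {H : Subgroup G} (my : y ∈ H) (mu : u ∈ H) :
    w ∈ H :=
  Eq.mp (congrArg (· ∈ H) (evA_eq_tm ((InvI.cons h.1 InvI.nil) : InvI [m, j, d, w, a, u, y, t] [(nat_lit 7)]) [(.v (nat_lit 0)), (.inv (.v (nat_lit 0))), (.v (nat_lit 1)), (.inv (.v (nat_lit 1))), (.v (nat_lit 2)), (.inv (.v (nat_lit 2))), (.v (nat_lit 3)), (.inv (.v (nat_lit 3))), (.v (nat_lit 4)), (.inv (.v (nat_lit 4))), (.v (nat_lit 5)), (.inv (.v (nat_lit 5))), (.v (nat_lit 6)), (.inv (.v (nat_lit 6))), (.v (nat_lit 7))] [6] (.v (nat_lit 3)) (by decide +kernel))) (nt01_0 (nt01_r h k l e) (H := H) (List.forall_mem_cons.2 ⟨my, (List.forall_mem_cons.2 ⟨(H.inv_mem my), (List.forall_mem_cons.2 ⟨mu, (List.forall_mem_cons.2 ⟨(H.inv_mem mu), (List.forall_mem_nil _)⟩)⟩)⟩)⟩))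
noncomputable def nt02_r_R : List (List ℕ) := [[0,1],
  [1,0],
  [2,3],
  [3,2],
  [4,5],
  [5,4],
  [6,7],
  [7,6],
  [8,9],
  [9,8],
  [10,11],
  [11,10],
  [12,13],
  [13,12],
  [14,14],
  [14,0,0],
  [14,2,2],
  [0,3,0,2],
  [3,5,0,4],
  [3,1,5,2,4],
  [14,5,14,4],
  [6,6,6],
  [7,5,6,4],
  [6,14,6,14],
  [9,1,6,0],
  [11,9,7,8,6],
  [10,10,10],
  [7,11,6,10],
  [1,11,0,10],
  [5,11,4,10],
  [12,12,12],
  [7,13,6,12],
  [1,13,0,12],
  [5,13,4,12],
  [13,8,3,6,2]]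
theorem nt02_r {G : Type*} [Group G] {m j d w a u y t : G}
    (h : Q8 m j d t)
    (k : WW m d t w a u)
    (l : CY m d w y)
    (e : j * w * j⁻¹ = y * 1 * a⁻¹) :
    Rels (nthG [m, m⁻¹, j, j⁻¹, d, d⁻¹, w, w⁻¹, a, a⁻¹, u, u⁻¹, y, y⁻¹, t]) nt02_r_R :=
  rels_of_eqs ((InvI.cons h.1 InvI.nil) : InvI [m, j, d, w, a, u, y, t] [(nat_lit 7)])
    (AllEq.append (show AllEq [m, j, d, w, a, u, y, t] [((.mul (.v (nat_lit 7)) (.v (nat_lit 7))), .one), ((.mul (.v (nat_lit 0)) (.v (nat_lit 0))), (.v (nat_lit 7))), ((.mul (.v (nat_lit 1)) (.v (nat_lit 1))), (.v (nat_lit 7))), ((.mul (.mul (.v (nat_lit 1)) (.v (nat_lit 0))) (.inv (.v (nat_lit 1)))), (.inv (.v (nat_lit 0)))), ((.mul (.mul (.v (nat_lit 2)) (.v (nat_lit 0))) (.inv (.v (nat_lit 2)))), (.v (nat_lit 1))), ((.mul (.mul (.v (nat_lit 2)) (.v (nat_lit 1))) (.inv (.v (nat_lit 2)))), (.mul (.v (nat_lit 1)) (.v (nat_lit 0)))), ((.mul (.v (nat_lit 2)) (.v (nat_lit 7))), (.mul (.v (nat_lit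 7)) (.v (nat_lit 2))))] from h)
    (AllEq.append (show AllEq [m, j, d, w, a, u, y, t] [((.pw (.v (nat_lit 3)) (nat_lit 3)), .one), ((.mul (.v (nat_lit 2)) (.v (nat_lit 3))), (.mul (.v (nat_lit 3)) (.v (nat_lit 2)))), ((.mul (.mul (.v (nat_lit 7)) (.v (nat_lit 3))) (.inv (.v (nat_lit 7)))), (.inv (.v (nat_lit 3)))), ((.mul (.mul (.v (nat_lit 0)) (.v (nat_lit 3))) (.inv (.v (nat_lit 0)))), (.v (nat_lit 4))), ((.mul (.mul (.mul (.v (nat_lit 3)) (.v (nat_lit 4))) (.inv (.v (nat_lit 3)))) (.inv (.v (nat_lit 4)))), (.v (nat_lit 5))), ((.pw (.v (nat_lit 5)) (nat_lit 3)), .one), ((.mul (.v (nat_lit 5)) (.v (nat_lit 3))), (.mul (.v (nat_lit 3)) (.v (nat_lit 5)))), ((.mul (.v (nat_lit 5)) (.v (nat_lit 0))), (.mul (.v (nat_lit 0)) (.v (nat_lit 5)))), ((.mul (.v (nat_lit 5)) (.v (nat_lit 2))), (.mul (.v (nat_lit 2)) (.v (nat_lit 5))))] from k)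
    (AllEq.append (show AllEq [m, j, d, w, a, u, y, t] [((.pw (.v (nat_lit 6)) (nat_lit 3)), .one), ((.mul (.v (nat_lit 6)) (.v (nat_lit 3))), (.mul (.v (nat_lit 3)) (.v (nat_lit 6)))), ((.mul (.v (nat_lit 6)) (.v (nat_lit 0))), (.mul (.v (nat_lit 0)) (.v (nat_lit 6)))), ((.mul (.v (nat_lit 6)) (.v (nat_lit 2))), (.mul (.v (nat_lit 2)) (.v (nat_lit 6))))] from l)
    (show AllEq [m, j, d, w, a, u, y, t] [((.mul (.mul (.v (nat_lit 1)) (.v (nat_lit 3))) (.inv (.v (nat_lit 1)))), (.mul (.mul (.v (nat_lit 6)) .one) (.inv (.v (nat_lit 4)))))] from ⟨e, trivial⟩))))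
    [(.v (nat_lit 0)), (.inv (.v (nat_lit 0))), (.v (nat_lit 1)), (.inv (.v (nat_lit 1))), (.v (nat_lit 2)), (.inv (.v (nat_lit 2))), (.v (nat_lit 3)), (.inv (.v (nat_lit 3))), (.v (nat_lit 4)), (.inv (.v (nat_lit 4))), (.v (nat_lit 5)), (.inv (.v (nat_lit 5))), (.v (nat_lit 6)), (.inv (.v (nat_lit 6))), (.v (nat_lit 7))] (by decide +kernel)
noncomputable def nt02_0_S0 : List ℕ := [nat_lit 0x1, nat_lit 0xb00000800a01e, nat_lit 0x13000001000014004030, nat_lit 0x1700000200001800c02c, nat_lit 0x1b000018006026, nat_lit 0x1f00000c00401e, nat_lit 0x23000005008020, nat_lit 0x23000007000010000022, nat_lit 0x2b00000f000014006024, nat_lit 0x2200000900002100c02e, nat_lit 0x2c00002500002b002030, nat_lit 0x2f00002900000f00001c008032, nat_lit 0x3300000d00003400402e, nat_lit 0x3b00003400401e, nat_lit 0x3b000038002020, nat_lit 0x3b000017000020008028, nat_lit 0x2700001500003d00003600402a, nat_lit 0x42000035000002, nat_lit 0x42000031000041000018,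 nat_lit 0x3f00002d002020, nat_lit 0x3f00001200003c008028, nat_lit 0x4300001e00003000c02a, nat_lit 0x4300001a00002800004a010032, nat_lit 0x39000045000059000056006022, nat_lit 0x4e00005d000039000006, nat_lit 0x2d00005d000037000004, nat_lit 0x3d00006100005200000e, nat_lit 0x2000006a00006100003f00006600001c, nat_lit 0x6e00001700000e]
noncomputable def nt02_0_S : List (List ℕ) := [nt02_0_S0]
noncomputable def nt02_0_defs : List ℕ := [(nat_lit 0x60000800e0000600e0000500200005001000050080000300500003009000020020000100e0000000700000006000000050000000200000001000000000000000000000)]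
noncomputable def nt02_0_recs : List ℕ := [(nat_lit 0x70000000000ff0000500000ff0000e00007ff0000500006ff0000e0000fff0000b0000d020000900010000000b00010060000e0000f030000b0000f0c0000900009010000e00009ff0000c0000906000070000e030000d0000e000000c0000e0d0000c0000c03000060000b0d00003000030c0000a0000a01000040000a0000003000080200002000080000002000070700005000060c00005000050d00004000040e00001000020c0000000000)]
noncomputable def nt02_0_T : List (List ℕ × ℕ) := [([6], (nat_lit 0x72))]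
noncomputable def nt02_0_D : H26.Dag := ⟨[1,0,3,2,5,4,7,6,9,8,11,10,13,12,14], [[0,1],
  [1,0],
  [2,3],
  [3,2],
  [4,5],
  [5,4],
  [6,7],
  [7,6],
  [8,9],
  [9,8],
  [10,11],
  [11,10],
  [12,13],
  [13,12],
  [14,14],
  [14,0,0],
  [14,2,2],
  [0,3,0,2],
  [3,5,0,4],
  [6,6,6],
  [6,14,6,14],
  [9,1,6,0],
  [7,13,6,12],
  [1,13,0,12],
  [5,13,4,12],
  [13,8,3,6,2]], [12,13,10,11], nt02_0_defs, nt02_0_recs⟩
theorem nt02_0_c : nt02_0_D.check nt02_0_S nt02_0_T = true := by decide +kernel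
theorem nt02_0 {G : Type*} [Group G] {g : ℕ → G} (hR : Rels g nt02_r_R) {H : Subgroup G}
    (hH : ∀ k ∈ [12,13,10,11], g k ∈ H) : evA g [6] ∈ H :=
  mem_dag (K := 15) (J := [0,1,2,3,4,5,6,7,8,9,10,11,12,13,14,15,16,17,18,21,23,24,31,32,33,34]) (D := nt02_0_D) (by decide +kernel) nt02_0_c (by decide +kernel) hR hH
theorem nt02 {G : Type*} [Group G] {m j d w a u y t : G}
    (h : Q8 m j d t)
    (k : WW m d t w a u)
    (l : CY m d w y)
    (e : j * w * j⁻¹ = y * 1 * a⁻¹)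
    {H : Subgroup G} (my : y ∈ H) (mu : u ∈ H) :
    w ∈ H :=
  Eq.mp (congrArg (· ∈ H) (evA_eq_tm ((InvI.cons h.1 InvI.nil) : InvI [m, j, d, w, a, u, y, t] [(nat_lit 7)]) [(.v (nat_lit 0)), (.inv (.v (nat_lit 0))), (.v (nat_lit 1)), (.inv (.v (nat_lit 1))), (.v (nat_lit 2)), (.inv (.v (nat_lit 2))), (.v (nat_lit 3)), (.inv (.v (nat_lit 3))), (.v (nat_lit 4)), (.inv (.v (nat_lit 4))), (.v (nat_lit 5)), (.inv (.v (nat_lit 5))), (.v (nat_lit 6)), (.inv (.v (nat_lit 6))), (.v (nat_lit 7))] [6] (.v (nat_lit 3)) (by decide +kernel))) (nt02_0 (nt02_r h k l e) (H := H) (List.forall_mem_cons.2 ⟨my, (List.forall_mem_cons.2 ⟨(H.inv_mem my), (List.forall_mem_cons.2 ⟨mu, (List.forall_mem_cons.2 ⟨(H.inv_mem mu), (List.forall_mem_nil _)⟩)⟩)⟩)⟩))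
noncomputable def nt10_r_R : List (List ℕ) := [[0,1],
  [1,0],
  [2,3],
  [3,2],
  [4,5],
  [5,4],
  [6,7],
  [7,6],
  [8,9],
  [9,8],
  [10,11],
  [11,10],
  [12,13],
  [13,12],
  [14,14],
  [14,0,0],
  [14,2,2],
  [0,3,0,2],
  [3,5,0,4],
  [3,1,5,2,4],
  [14,5,14,4],
  [6,6,6],
  [7,5,6,4],
  [6,14,6,14],
  [9,1,6,0],
  [11,9,7,8,6],
  [10,10,10],
  [7,11,6,10],
  [1,11,0,10],
  [5,11,4,10],
  [12,12,12],
  [7,13,6,12],
  [1,13,0,12],
  [5,13,4,12],
  [13,7,3,6,2]]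
theorem nt10_r {G : Type*} [Group G] {m j d w a u y t : G}
    (h : Q8 m j d t)
    (k : WW m d t w a u)
    (l : CY m d w y)
    (e : j * w * j⁻¹ = y * w * 1) :
    Rels (nthG [m, m⁻¹, j, j⁻¹, d, d⁻¹, w, w⁻¹, a, a⁻¹, u, u⁻¹, y, y⁻¹, t]) nt10_r_R :=
  rels_of_eqs ((InvI.cons h.1 InvI.nil) : InvI [m, j, d, w, a, u, y, t] [(nat_lit 7)])
    (AllEq.append (show AllEq [m, j, d, w, a, u, y, t] [((.mul (.v (nat_lit 7)) (.v (nat_lit 7))), .one), ((.mul (.v (nat_lit 0)) (.v (nat_lit 0))), (.v (nat_lit 7))), ((.mul (.v (nat_lit 1)) (.v (nat_lit 1))), (.v (nat_lit 7))), ((.mul (.mul (.v (nat_lit 1)) (.v (nat_lit 0))) (.inv (.v (nat_lit 1)))), (.inv (.v (nat_lit 0)))), ((.mul (.mul (.v (nat_lit 2)) (.v (nat_lit 0))) (.inv (.v (nat_lit 2)))), (.v (nat_lit 1))), ((.mul (.mul (.v (nat_lit 2)) (.v (nat_lit 1))) (.inv (.v (nat_lit 2)))), (.mul (.v (nat_lit 1)) (.v (nat_lit 0)))), ((.mul (.v (nat_lit 2)) (.v (nat_lit 7))), (.mul (.v (nat_lit 7))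 (.v (nat_lit 2))))] from h)
    (AllEq.append (show AllEq [m, j, d, w, a, u, y, t] [((.pw (.v (nat_lit 3)) (nat_lit 3)), .one), ((.mul (.v (nat_lit 2)) (.v (nat_lit 3))), (.mul (.v (nat_lit 3)) (.v (nat_lit 2)))), ((.mul (.mul (.v (nat_lit 7)) (.v (nat_lit 3))) (.inv (.v (nat_lit 7)))), (.inv (.v (nat_lit 3)))), ((.mul (.mul (.v (nat_lit 0)) (.v (nat_lit 3))) (.inv (.v (nat_lit 0)))), (.v (nat_lit 4))), ((.mul (.mul (.mul (.v (nat_lit 3)) (.v (nat_lit 4))) (.inv (.v (nat_lit 3)))) (.inv (.v (nat_lit 4)))), (.v (nat_lit 5))), ((.pw (.v (nat_lit 5)) (nat_lit 3)), .one), ((.mul (.v (nat_lit 5)) (.v (nat_lit 3))), (.mul (.v (nat_lit 3)) (.v (nat_lit 5)))), ((.mul (.v (nat_lit 5)) (.v (nat_lit 0))), (.mul (.v (nat_lit 0)) (.v (nat_lit 5)))), ((.mul (.v (nat_lit 5)) (.v (nat_lit 2))), (.mul (.v (nat_lit 2)) (.v (nat_lit 5))))] from k)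
    (AllEq.append (show AllEq [m, j, d, w, a, u, y, t] [((.pw (.v (nat_lit 6)) (nat_lit 3)), .one), ((.mul (.v (nat_lit 6)) (.v (nat_lit 3))), (.mul (.v (nat_lit 3)) (.v (nat_lit 6)))), ((.mul (.v (nat_lit 6)) (.v (nat_lit 0))), (.mul (.v (nat_lit 0)) (.v (nat_lit 6)))), ((.mul (.v (nat_lit 6)) (.v (nat_lit 2))), (.mul (.v (nat_lit 2)) (.v (nat_lit 6))))] from l)
    (show AllEq [m, j, d, w, a, u, y, t] [((.mul (.mul (.v (nat_lit 1)) (.v (nat_lit 3))) (.inv (.v (nat_lit 1)))), (.mul (.mul (.v (nat_lit 6)) (.v (nat_lit 3))) .one))] from ⟨e, trivial⟩))))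
    [(.v (nat_lit 0)), (.inv (.v (nat_lit 0))), (.v (nat_lit 1)), (.inv (.v (nat_lit 1))), (.v (nat_lit 2)), (.inv (.v (nat_lit 2))), (.v (nat_lit 3)), (.inv (.v (nat_lit 3))), (.v (nat_lit 4)), (.inv (.v (nat_lit 4))), (.v (nat_lit 5)), (.inv (.v (nat_lit 5))), (.v (nat_lit 6)), (.inv (.v (nat_lit 6))), (.v (nat_lit 7))] (by decide +kernel)
noncomputable def nt10_0_S0 : List ℕ := [nat_lit 0x1, nat_lit 0xb00000800a01e, nat_lit 0xf00000100001000402a, nat_lit 0x1300000200001400c026, nat_lit 0x17000014006022, nat_lit 0x1b000007000010006020, nat_lit 0x1600000900001500c028, nat_lit 0x1c00001900001b00202a, nat_lit 0x1f00001d00002000c026, nat_lit 0x2100001f00000700001400202c, nat_lit 0x2300001d00000700001800802c, nat_lit 0x27000006000024004024, nat_lit 0x2700000b00001400000e01002c, nat_lit 0x2600003100002e00001e, nat_lit 0x2500003600002a000004, nat_lit 0x3a00001200003a00001700000e, nat_lit 0x3d00001300000e]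
noncomputable def nt10_0_S : List (List ℕ) := [nt10_0_S0]
noncomputable def nt10_0_defs : List ℕ := [(nat_lit 0x600002007000010060000100500001007000000060000000500000003000000020000000000000)]
noncomputable def nt10_0_recs : List ℕ := [(nat_lit 0x70000000000ff0000000004ff0000500004ff00008000070200004000090e00008000090300005000080300004000070c00007000070d00001000010c00006000060100003000060700004000050c00004000040d00003000030e00001000020c0000000000)]
noncomputable def nt10_0_T : List (List ℕ × ℕ) := [([6], (nat_lit 0x42))]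
noncomputable def nt10_0_D : H26.Dag := ⟨[1,0,3,2,5,4,7,6,9,8,11,10,13,12,14], [[0,1],
  [1,0],
  [2,3],
  [3,2],
  [4,5],
  [5,4],
  [6,7],
  [7,6],
  [8,9],
  [9,8],
  [10,11],
  [11,10],
  [12,13],
  [13,12],
  [14,14],
  [14,2,2],
  [3,5,0,4],
  [6,6,6],
  [6,14,6,14],
  [7,13,6,12],
  [1,13,0,12],
  [5,13,4,12],
  [13,7,3,6,2]], [12,13,10,11], nt10_0_defs, nt10_0_recs⟩
theorem nt10_0_c : nt10_0_D.check nt10_0_S nt10_0_T = true := by decide +kernel
theorem nt10_0 {G : Type*} [Group G] {g : ℕ → G} (hR : Rels g nt10_r_R) {H : Subgroup G}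
    (hH : ∀ k ∈ [12,13,10,11], g k ∈ H) : evA g [6] ∈ H :=
  mem_dag (K := 15) (J := [0,1,2,3,4,5,6,7,8,9,10,11,12,13,14,16,18,21,23,31,32,33,34]) (D := nt10_0_D) (by decide +kernel) nt10_0_c (by decide +kernel) hR hH
theorem nt10 {G : Type*} [Group G] {m j d w a u y t : G}
    (h : Q8 m j d t)
    (k : WW m d t w a u)
    (l : CY m d w y)
    (e : j * w * j⁻¹ = y * w * 1)
    {H : Subgroup G} (my : y ∈ H) (mu : u ∈ H) :
    w ∈ H :=
  Eq.mp (congrArg (· ∈ H) (evA_eq_tm ((InvI.cons h.1 InvI.nil) : InvI [m, j, d, w, a, u, y, t] [(nat_lit 7)]) [(.v (nat_lit 0)), (.inv (.v (nat_lit 0))), (.v (nat_lit 1)), (.inv (.v (nat_lit 1))), (.v (nat_lit 2)), (.inv (.v (nat_lit 2))), (.v (nat_lit 3)), (.inv (.v (nat_lit 3))), (.v (nat_lit 4)), (.inv (.v (nat_lit 4))), (.v (nat_lit 5)), (.inv (.v (nat_lit 5))), (.v (nat_lit 6)), (.inv (.v (nat_lit 6))), (.v (nat_lit 7))] [6] (.v (nat_lit 3)) (by decide +kernel))) (nt10_0 (nt10_r h k l e) (H :=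 H) (List.forall_mem_cons.2 ⟨my, (List.forall_mem_cons.2 ⟨(H.inv_mem my), (List.forall_mem_cons.2 ⟨mu, (List.forall_mem_cons.2 ⟨(H.inv_mem mu), (List.forall_mem_nil _)⟩)⟩)⟩)⟩))
noncomputable def nt11_r_R : List (List ℕ) := [[0,1],
  [1,0],
  [2,3],
  [3,2],
  [4,5],
  [5,4],
  [6,7],
  [7,6],
  [8,9],
  [9,8],
  [10,11],
  [11,10],
  [12,13],
  [13,12],
  [14,14],
  [14,0,0],
  [14,2,2],
  [0,3,0,2],
  [3,5,0,4],
  [3,1,5,2,4],
  [14,5,14,4],
  [6,6,6],
  [7,5,6,4],
  [6,14,6,14],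
  [9,1,6,0],
  [11,9,7,8,6],
  [10,10,10],
  [7,11,6,10],
  [1,11,0,10],
  [5,11,4,10],
  [12,12,12],
  [7,13,6,12],
  [1,13,0,12],
  [5,13,4,12],
  [13,7,9,3,6,2]]
theorem nt11_r {G : Type*} [Group G] {m j d w a u y t : G}
    (h : Q8 m j d t)
    (k : WW m d t w a u)
    (l : CY m d w y)
    (e : j * w * j⁻¹ = y * w * a) :
    Rels (nthG [m, m⁻¹, j, j⁻¹, d, d⁻¹, w, w⁻¹, a, a⁻¹, u, u⁻¹, y, y⁻¹, t]) nt11_r_R :=
  rels_of_eqs ((InvI.cons h.1 InvI.nil) : InvI [m, j, d, w, a, u, y, t] [(nat_lit 7)])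
    (AllEq.append (show AllEq [m, j, d, w, a, u, y, t] [((.mul (.v (nat_lit 7)) (.v (nat_lit 7))), .one), ((.mul (.v (nat_lit 0)) (.v (nat_lit 0))), (.v (nat_lit 7))), ((.mul (.v (nat_lit 1)) (.v (nat_lit 1))), (.v (nat_lit 7))), ((.mul (.mul (.v (nat_lit 1)) (.v (nat_lit 0))) (.inv (.v (nat_lit 1)))), (.inv (.v (nat_lit 0)))), ((.mul (.mul (.v (nat_lit 2)) (.v (nat_lit 0))) (.inv (.v (nat_lit 2)))), (.v (nat_lit 1))), ((.mul (.mul (.v (nat_lit 2)) (.v (nat_lit 1))) (.inv (.v (nat_lit 2)))), (.mul (.v (nat_lit 1)) (.v (nat_lit 0)))), ((.mul (.v (nat_lit 2)) (.v (nat_lit 7))), (.mul (.v (nat_lit 7)) (.v (nat_lit 2))))] from h)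
    (AllEq.append (show AllEq [m, j, d, w, a, u, y, t] [((.pw (.v (nat_lit 3)) (nat_lit 3)), .one), ((.mul (.v (nat_lit 2)) (.v (nat_lit 3))), (.mul (.v (nat_lit 3)) (.v (nat_lit 2)))), ((.mul (.mul (.v (nat_lit 7)) (.v (nat_lit 3))) (.inv (.v (nat_lit 7)))), (.inv (.v (nat_lit 3)))), ((.mul (.mul (.v (nat_lit 0)) (.v (nat_lit 3))) (.inv (.v (nat_lit 0)))), (.v (nat_lit 4))), ((.mul (.mul (.mul (.v (nat_lit 3)) (.v (nat_lit 4))) (.inv (.v (nat_lit 3)))) (.inv (.v (nat_lit 4)))), (.v (nat_lit 5))), ((.pw (.v (nat_lit 5)) (nat_lit 3)), .one), ((.mul (.v (nat_lit 5)) (.v (nat_lit 3))), (.mul (.v (nat_lit 3)) (.v (nat_lit 5)))), ((.mul (.v (nat_lit 5)) (.v (nat_lit 0))), (.mul (.v (nat_lit 0)) (.v (nat_lit 5)))), ((.mul (.v (nat_lit 5)) (.v (nat_lit 2))), (.mul (.v (nat_lit 2)) (.v (nat_lit 5))))] from k)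
    (AllEq.append (show AllEq [m, j, d, w, a, u, y, t] [((.pw (.v (nat_lit 6)) (nat_lit 3)), .one), ((.mul (.v (nat_lit 6)) (.v (nat_lit 3))), (.mul (.v (nat_lit 3)) (.v (nat_lit 6)))), ((.mul (.v (nat_lit 6)) (.v (nat_lit 0))), (.mul (.v (nat_lit 0)) (.v (nat_lit 6)))), ((.mul (.v (nat_lit 6)) (.v (nat_lit 2))), (.mul (.v (nat_lit 2)) (.v (nat_lit 6))))] from l)
    (show AllEq [m, j, d, w, a, u, y, t] [((.mul (.mul (.v (nat_lit 1)) (.v (nat_lit 3))) (.inv (.v (nat_lit 1)))), (.mul (.mul (.v (nat_lit 6)) (.v (nat_lit 3))) (.v (nat_lit 4))))] from ⟨e, trivial⟩))))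
    [(.v (nat_lit 0)), (.inv (.v (nat_lit 0))), (.v (nat_lit 1)), (.inv (.v (nat_lit 1))), (.v (nat_lit 2)), (.inv (.v (nat_lit 2))), (.v (nat_lit 3)), (.inv (.v (nat_lit 3))), (.v (nat_lit 4)), (.inv (.v (nat_lit 4))), (.v (nat_lit 5)), (.inv (.v (nat_lit 5))), (.v (nat_lit 6)), (.inv (.v (nat_lit 6))), (.v (nat_lit 7))] (by decide +kernel)
noncomputable def nt11_0_S0 : List ℕ := [nat_lit 0x1, nat_lit 0x1, nat_lit 0x700000600000800c036, nat_lit 0x700000200000800c03c, nat_lit 0xb00000800a01e, nat_lit 0xb00000500000c004036, nat_lit 0xb00000100000c00403c, nat_lit 0x1300001000a020, nat_lit 0x1700000600001800c038, nat_lit 0x1700000200001800c03e, nat_lit 0x1b00000500001c004038, nat_lit 0x1b00000100001c00403e, nat_lit 0x1f00000600002000c034, nat_lit 0x1f00000200002000c03a, nat_lit 0x2300002000602a, nat_lit 0x23000005000024004034, nat_lit 0x2300000100002400403a, nat_lit 0x2f00000c00401e, nat_lit 0x2f00000800201e, nat_lit 0x2f000014004020,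 nat_lit 0x2f000010002020, nat_lit 0x33000011008020, nat_lit 0x33000007000010000022, nat_lit 0x3300004900004e00e022, nat_lit 0x3700003400a020, nat_lit 0x37000007000014008022, nat_lit 0x37000049000052006022, nat_lit 0x3b000007000018000024, nat_lit 0x3b00000a00003c00c038, nat_lit 0x3b00000e00003c00c03e, nat_lit 0x47000007000020002030, nat_lit 0x7a00003200007900c036, nat_lit 0x7a00003600007900c03c, nat_lit 0x4b000007000024004030, nat_lit 0x7a00003900008500e030, nat_lit 0x8600003d00008500c036, nat_lit 0x8600004100008500c03c, nat_lit 0x4f00000b00001800e024, nat_lit 0x4f00001200003c000028, nat_lit 0x5700001200004400402e, nat_lit 0x5700000b00002800c030, nat_lit 0x5700001500005800c034, nat_lit 0x5700001900005800c03a, nat_lit 0xa10000a90000a200203c, nat_lit 0xa10000a50000a2002036, nat_lit 0xa100009e00801e, nat_lit 0x5b00005800602a, nat_lit 0x5b00001200004000a02e, nat_lit 0x5b00000b00002c00a030, nat_lit 0x5b00001a00005c00403a, nat_lit 0xc10000c50000c200c03c,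 nat_lit 0xc10000be00801e, nat_lit 0x6b00000f00001c006024, nat_lit 0xd20000290000d100c036, nat_lit 0xd200002d0000d100c03c, nat_lit 0x6c0000d900006b00203e, nat_lit 0x5a0000dd00005900a03c, nat_lit 0x5d0000e100005e00403c, nat_lit 0x6c0000d500006b002038, nat_lit 0x6a0000e900006900c036, nat_lit 0x5a0000e900005900a036, nat_lit 0x5d0000f100005e004036, nat_lit 0x6f0000e900007000c034, nat_lit 0x6f0000dd00007000c03a]
noncomputable def nt11_0_S1 : List ℕ := [nat_lit 0x7300007000602a, nat_lit 0x730000ea000074004034, nat_lit 0x730000de00007400403a, nat_lit 0x7f00001e000068000028, nat_lit 0x7f00001300001800009500e026, nat_lit 0x9900011100401e, nat_lit 0x10d00011500401e, nat_lit 0x8300001e00007400402e, nat_lit 0x8700001e00007000a02e, nat_lit 0x9300001700002400402c, nat_lit 0x9b00001b00002000c02c, nat_lit 0x9f00009c00602a, nat_lit 0x9f00001b00002400a02c, nat_lit 0x9f00002e0000a000403a, nat_lit 0xab0000a800a020, nat_lit 0xb300003200001f00002c008032,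 nat_lit 0x13e0000ca00013d00c03a, nat_lit 0xb70000a400401e, nat_lit 0xb70000ac004020, nat_lit 0xb700001f00003000802e, nat_lit 0x6300004500014d000146004030, nat_lit 0x1520000a3000000, nat_lit 0x152000145000002, nat_lit 0x870000e500004d00014d00014a008040, nat_lit 0x15d0000870000f600009000a032, nat_lit 0xbb00008500a01e, nat_lit 0xbb00003e0000bc004036, nat_lit 0xbb0000420000bc00403c, nat_lit 0xbf0000230000100000de00007400e040, nat_lit 0x7b0000e9000074000171008032, nat_lit 0xc30000230000280000b1010032, nat_lit 0x17a0000b2000179004034, nat_lit 0x17a0000ae00017900403a, nat_lit 0xaf0000390000c400017d010032, nat_lit 0x18600017e000185004034, nat_lit 0x270000200000b0000189010032, nat_lit 0x18d0000ad00018e00c03a, nat_lit 0x19100018d000027000014000084002040, nat_lit 0x11d000195002020, nat_lit 0x1820001850000af0000ac000162002040, nat_lit 0xc700003d00003a0000b4008032, nat_lit 0xc700002300000200001400008800c040, nat_lit 0x1210001a5002020, nat_lit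 0x1a10001a90000fd00006f00007c00a040, nat_lit 0xcb0000bc00401e, nat_lit 0xcb00003a0000b800802e, nat_lit 0xcb00002300003000602e, nat_lit 0x5f0000450001b90001b2002030, nat_lit 0x1be0000bb000000, nat_lit 0x1be0001b1000002, nat_lit 0x1be0001690001bd000014, nat_lit 0x1be00016d0001bd000018, nat_lit 0x1be00016600001c, nat_lit 0x15a0001b50001c5000030, nat_lit 0xcf00018e00019900010a00010200e040, nat_lit 0x1720001050001020001d9008032, nat_lit 0x7b0000700000f90001d900a032, nat_lit 0xd30000d000a020, nat_lit 0xdf0000dc00a020, nat_lit 0xdf00002b0000200000360000ac010040, nat_lit 0x1390001ed0001ea00802e, nat_lit 0xe70000ce00201e, nat_lit 0xe70000dc002020, nat_lit 0xeb00005a00007800c030]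
noncomputable def nt11_0_S2 : List ℕ := [nat_lit 0xef0000ec00602a, nat_lit 0xef00005a00007c00a030, nat_lit 0xef0000e10000f000403a, nat_lit 0x20500020900020600c03c, nat_lit 0x17500020d00017600403a, nat_lit 0x1e100020d0001e200203a, nat_lit 0xdb00013d0001ae00020d00017600e040, nat_lit 0x1dd0002110000bf00003a0000a8008040, nat_lit 0x2190001f100021d0001dd012032, nat_lit 0x176000221000175002034, nat_lit 0x2050002020001fe000030, nat_lit 0x229000225000176000219008032, nat_lit 0x2290001e20002150000cf00017900c040, nat_lit 0x19d00023100a020, nat_lit 0xf300005e000088004030, nat_lit 0x12100023900201e, nat_lit 0xf70000620000f000402e, nat_lit 0xf700006600008c00c030, nat_lit 0x24500024200801e, nat_lit 0x20500024900001e, nat_lit 0x24d0001ad004020, nat_lit 0x24d0001e20001e500602e, nat_lit 0xfb00006600009000a030, nat_lit 0x23500025900401e, nat_lit 0xff00006a000070002030, nat_lit 0x23d00026100a01e, nat_lit 0x10300006a000074004030, nat_lit 0x26200010100026900e030,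 nat_lit 0x26a00010900026900c03c, nat_lit 0x10700003b00004000202c, nat_lit 0xe30000ce00027500e024, nat_lit 0x10b00003b00004400402c, nat_lit 0xd70000b600027d00e024, nat_lit 0x1130001f50001fa006022, nat_lit 0x25d00022e000285000030, nat_lit 0x2890000fb0000ed00010400a032, nat_lit 0x1170000cd00013d002030, nat_lit 0x24600025200029100a022, nat_lit 0x29200014200029100c03c, nat_lit 0x470000380000f8000296000299012040, nat_lit 0x11b00009d008020, nat_lit 0x11b0000430000340000e10000f000e040, nat_lit 0xf30000f20000f00002a5008032, nat_lit 0x11f00004300004800007e010032, nat_lit 0x29d0002ad00802a, nat_lit 0x2ae0000810002ad00403a, nat_lit 0x28d0001130001180002b20002b5014040, nat_lit 0x12300004300000900004c00a032, nat_lit 0x2ae00008a00008e0002bd00c032, nat_lit 0x1270001d1006020, nat_lit 0x1270000910002bd0002c10002b9006040, nat_lit 0x2ca0002720002c900c03a, nat_lit 0x12b000086000125000024, nat_lit 0x10b00007600006e0000940002d1008040, nat_lit 0x2d500010b00007100011000a032,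 nat_lit 0x12f00009a00010c00402e, nat_lit 0x2820002dd006020, nat_lit 0x13300009a00010800a02e, nat_lit 0x27a0002e5006020, nat_lit 0x930000260000950001340002e9008040, nat_lit 0x2ed00009300002100009800a032, nat_lit 0x2f10000e300013d00202c, nat_lit 0x13b00005300005800c02c, nat_lit 0x13f00005300005c00a02c]
noncomputable def nt11_0_S3 : List ℕ := [nat_lit 0x14700005b0000600001ca010032, nat_lit 0x3020001cd00030100403a, nat_lit 0x26e0002c90002ce0002c600030100c040, nat_lit 0x309000265006020, nat_lit 0x1430002a10002a900030d000306012040, nat_lit 0x30100031100802a, nat_lit 0x14b00005b00001600006400a032, nat_lit 0x14b00005b0000190000550000f000c040, nat_lit 0x25100024a00031d00e022, nat_lit 0x14f0001c200012500e024, nat_lit 0x14f0001d200012c000028, nat_lit 0x14f0001ca00015000c038, nat_lit 0x15b00011a00011000a030, nat_lit 0x15f0000d200009c002030, nat_lit 0xa7000129000335002024, nat_lit 0x3390000a7000155000158006026, nat_lit 0x1630000d20000a0004030,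 nat_lit 0xbf000131000341002024, nat_lit 0x33600012d00034100e030, nat_lit 0x34200013500034100c03c, nat_lit 0x3450000bf0001c1000154006026, nat_lit 0x16700017600034600602c, nat_lit 0x16b00010e00015c00402e, nat_lit 0x16b00011200013800c030, nat_lit 0x35d00035a00801e, nat_lit 0x33100036100001e, nat_lit 0x3650002d900032900802e, nat_lit 0x32e000369000137000130004032, nat_lit 0x16f00011500010c004030, nat_lit 0x2de00037100201e, nat_lit 0x3750002e10000d70000d4008026, nat_lit 0x17300025600037900002c, nat_lit 0x36e00037600037d002030, nat_lit 0x2f6000251000174000381000326000026, nat_lit 0x1250003850002f6000008, nat_lit 0x1c200038a000322000000, nat_lit 0xbf00038a0001ae000006, nat_lit 0x31500038e00031a00000e, nat_lit 0x1d600038e00014b000012, nat_lit 0x167000391000346000008, nat_lit 0xb900039900039500031500000c, nat_lit 0x2fe000399000158000008, nat_lit 0x39d00035600000e, nat_lit 0x3a20001c2000000, nat_lit 0x2fa0003a2000154000008, nat_lit 0x3a600033d000004,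 nat_lit 0x3b2000351000004, nat_lit 0x1400003b600034a0003a900034e0003b9014040, nat_lit 0x540003be0002fa00000a, nat_lit 0xc0003c20003ae000002, nat_lit 0x1f0003c600002300000e, nat_lit 0x3c900001f00000e]
noncomputable def nt11_0_S : List (List ℕ) := [nt11_0_S0, nt11_0_S1, nt11_0_S2, nt11_0_S3]
noncomputable def nt11_0_defs : List ℕ := [(nat_lit 0x80000d0070000d0060000d0090000c0070000c0060000c00e0000a0040000a0030000a0020000a00400009003000090020000900e000080090000800800008002000080010000800e0000700900007008000070030000700200007001000070070000600600006009000050070000500900004008000040070000400600004004000040090000300800003007000030060000300500003004000030090000200800002007000020060000200500002004000020090000100800001007000010060000100400001003000010020000100e000000090000000800000007000000060000000500000004000000030000000200000001000000000000000000000),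
  (nat_lit 0x4000220090001f0060001f0050001e0090001a0080001a00700019005000180050001700400017009000160080001600800015007000140060001400800013007000130060001300400012003000120090001000800010002000100080000f0030000f0090000e0070000e0060000e0090000d)]
noncomputable def nt11_0_recs : List ℕ := [(nat_lit 0xc0001b0001b0a0001b0001b0b00004000040a0000c0000c0a0000d0000d0b00003000030d00004000040c0000c0000c0d00003000030c0001a0001a0a0001a0001a01000060001a000000f0000a0c0000a0000a0d0001600016000000a000160e0000f000160700015000160000010000090b00009000090d00009000090c00015000150a00015000150000009000150e00010000150e0000e000130200005000130c00012000120a00012000120800012000110100008000120c00011000110a00011000110100007000110c0000e0000e0a0000e0000e03000050000e01000030000d00000040000d0e0000c0000d01000040000c00000030000c02000020000c03000030000b02000040000b01000010000b00000020000b0d00008000080b00008000080700007000080c00007000070a00007000070d00006000060b00006000060c00005000050a00005000050e00003000040d00002000020b00002000020e00001000020c00001000010a00001000010a00000000000c0000000000),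
  (nat_lit 0x1d0003a030003600039010000f00039060003600029060002a000370e00036000370e000330003406000330001e07000330002f080001b000330900017000180e00012000170c00017000170a0001700017010003200017000000800017ff0002e00017070000b00032060002d00032000002e00032020001e0002c03000310001b030002100031070002c00031030002300030030002b0001c03000200002b0c0002b0002b060002b000090b0002b0002b06000300002b0d00030000300b0003000030060000900030070002f0001e080001c0002f0d0002e0002e0b0002e0002e0e000120002e06000230002a090002a00021010002d00018000000700018ff0002800018060000b0002d020002a0002d00000280002d0c0002c0002c070000a0002c0e000290002a0d00027000270400008000270700026000270400007000260500008000240e0001b000210e0001c00020000000e00019000001f0000e00000130001f0e000190001f0d0001c0001c0b0001c0001c070001b0001c),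
  (nat_lit 0x4000160004f04000150004e050002c00025060002500038090003800024030004c000380e000410004c030004b000350e000420004b06000430004a090004a0004203000240004a0c00049000490700040000490300017000490800048000470600012000480200047000400d000470004706000470004506000110004707000460003c080003b000460200015000460600045000110c000450004502000450003d010002c0004506000400004409000440003e010003600044020004200035050001000042020004100038050000f000410c000400004008000400003f010001c000400e0003f0003c010001b0003f000003e0001d00000230003e070003400022020002c000220e000220001e000003b0002200000220003d0e0003b0003d010003c0001b01000210003c0e0001d0002303000300001d07000360001d090001d0001e0b0001e0001e0a0002f0002f090002900033080002f000360d00033000330d0002f0002f0c0001e0001e0d0003b0003b000001e0003b070003a0003b),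
  (nat_lit 0x70000000000ff0000000007ff0000800000ff0001500002ff0004e0001402000580004e02000570004fff000540004e000000800015070005800058ff000550004fff0001700015ff0005800059ff0001600018ff0001800050ff0001e0002fff0005200017ff0002c00008ff0002400025010005c00053070005b0005c05000340005b010005b0004b01000420005b090004b0005306000530004d0e0004d0004300000560004d000004d0005a0e000560005a0700058000590300054000580c000580005808000580005705000580002f0100027000580300055000570500057000290100026000570000043000560a00053000530e0004a0005302000240005301000520002c030003b00052060001800052060005000017060005100050030003c0005103000510003f0d0005100051060001700051)]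
noncomputable def nt11_0_T : List (List ℕ × ℕ) := [([6], (nat_lit 0x3ce))]
noncomputable def nt11_0_D : H26.Dag := ⟨[1,0,3,2,5,4,7,6,9,8,11,10,13,12,14], [[0,1],
  [1,0],
  [2,3],
  [3,2],
  [4,5],
  [5,4],
  [6,7],
  [7,6],
  [8,9],
  [9,8],
  [10,11],
  [11,10],
  [12,13],
  [13,12],
  [14,14],
  [14,0,0],
  [14,2,2],
  [0,3,0,2],
  [3,5,0,4],
  [3,1,5,2,4],
  [14,5,14,4],
  [6,6,6],
  [7,5,6,4],
  [6,14,6,14],
  [9,1,6,0],
  [11,9,7,8,6],
  [7,11,6,10],
  [1,11,0,10],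
  [5,11,4,10],
  [7,13,6,12],
  [1,13,0,12],
  [5,13,4,12],
  [13,7,9,3,6,2]], [12,13,10,11], nt11_0_defs, nt11_0_recs⟩
theorem nt11_0_c : nt11_0_D.check nt11_0_S nt11_0_T = true := by decide +kernel
theorem nt11_0 {G : Type*} [Group G] {g : ℕ → G} (hR : Rels g nt11_r_R) {H : Subgroup G}
    (hH : ∀ k ∈ [12,13,10,11], g k ∈ H) : evA g [6] ∈ H :=
  mem_dag (K := 15) (J := [0,1,2,3,4,5,6,7,8,9,10,11,12,13,14,15,16,17,18,19,20,21,22,23,24,25,27,28,29,31,32,33,34]) (D := nt11_0_D) (by decide +kernel) nt11_0_c (by decide +kernel) hR hH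
theorem nt11 {G : Type*} [Group G] {m j d w a u y t : G}
    (h : Q8 m j d t)
    (k : WW m d t w a u)
    (l : CY m d w y)
    (e : j * w * j⁻¹ = y * w * a)
    {H : Subgroup G} (my : y ∈ H) (mu : u ∈ H) :
    w ∈ H :=
  Eq.mp (congrArg (· ∈ H) (evA_eq_tm ((InvI.cons h.1 InvI.nil) : InvI [m, j, d, w, a, u, y, t] [(nat_lit 7)]) [(.v (nat_lit 0)), (.inv (.v (nat_lit 0))), (.v (nat_lit 1)), (.inv (.v (nat_lit 1))), (.v (nat_lit 2)), (.inv (.v (nat_lit 2))), (.v (nat_lit 3)), (.inv (.v (nat_lit 3))), (.v (nat_lit 4)), (.inv (.v (nat_lit 4))), (.v (nat_lit 5)), (.inv (.v (nat_lit 5))), (.v (nat_lit 6)), (.inv (.v (nat_lit 6))), (.v (nat_lit 7))] [6] (.v (nat_lit 3)) (by decide +kernel))) (nt11_0 (nt11_r h k l e) (H := H) (List.forall_mem_cons.2 ⟨my, (List.forall_mem_cons.2 ⟨(H.inv_mem my), (List.forall_mem_cons.2 ⟨mu, (List.forall_mem_cons.2 ⟨(H.inv_mem mu), (List.forall_mem_nil _)⟩)⟩)⟩)⟩))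
noncomputable def nt12_r_R : List (List ℕ) := [[0,1],
  [1,0],
  [2,3],
  [3,2],
  [4,5],
  [5,4],
  [6,7],
  [7,6],
  [8,9],
  [9,8],
  [10,11],
  [11,10],
  [12,13],
  [13,12],
  [14,14],
  [14,0,0],
  [14,2,2],
  [0,3,0,2],
  [3,5,0,4],
  [3,1,5,2,4],
  [14,5,14,4],
  [6,6,6],
  [7,5,6,4],
  [6,14,6,14],
  [9,1,6,0],
  [11,9,7,8,6],
  [10,10,10],
  [7,11,6,10],
  [1,11,0,10],
  [5,11,4,10],
  [12,12,12],
  [7,13,6,12],
  [1,13,0,12],
  [5,13,4,12],
  [13,7,8,3,6,2]]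
theorem nt12_r {G : Type*} [Group G] {m j d w a u y t : G}
    (h : Q8 m j d t)
    (k : WW m d t w a u)
    (l : CY m d w y)
    (e : j * w * j⁻¹ = y * w * a⁻¹) :
    Rels (nthG [m, m⁻¹, j, j⁻¹, d, d⁻¹, w, w⁻¹, a, a⁻¹, u, u⁻¹, y, y⁻¹, t]) nt12_r_R :=
  rels_of_eqs ((InvI.cons h.1 InvI.nil) : InvI [m, j, d, w, a, u, y, t] [(nat_lit 7)])
    (AllEq.append (show AllEq [m, j, d, w, a, u, y, t] [((.mul (.v (nat_lit 7)) (.v (nat_lit 7))), .one), ((.mul (.v (nat_lit 0)) (.v (nat_lit 0))), (.v (nat_lit 7))), ((.mul (.v (nat_lit 1)) (.v (nat_lit 1))), (.v (nat_lit 7))), ((.mul (.mul (.v (nat_lit 1)) (.v (nat_lit 0))) (.inv (.v (nat_lit 1)))), (.inv (.v (nat_lit 0)))), ((.mul (.mul (.v (nat_lit 2)) (.v (nat_lit 0))) (.inv (.v (nat_lit 2)))), (.v (nat_lit 1))), ((.mul (.mul (.v (nat_lit 2)) (.v (nat_lit 1))) (.inv (.v (nat_lit 2)))), (.mul (.v (nat_lit 1)) (.v (nat_lit 0)))), ((.mul (.v (nat_lit 2)) (.v (nat_lit 7))), (.mul (.v (nat_lit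 7)) (.v (nat_lit 2))))] from h)
    (AllEq.append (show AllEq [m, j, d, w, a, u, y, t] [((.pw (.v (nat_lit 3)) (nat_lit 3)), .one), ((.mul (.v (nat_lit 2)) (.v (nat_lit 3))), (.mul (.v (nat_lit 3)) (.v (nat_lit 2)))), ((.mul (.mul (.v (nat_lit 7)) (.v (nat_lit 3))) (.inv (.v (nat_lit 7)))), (.inv (.v (nat_lit 3)))), ((.mul (.mul (.v (nat_lit 0)) (.v (nat_lit 3))) (.inv (.v (nat_lit 0)))), (.v (nat_lit 4))), ((.mul (.mul (.mul (.v (nat_lit 3)) (.v (nat_lit 4))) (.inv (.v (nat_lit 3)))) (.inv (.v (nat_lit 4)))), (.v (nat_lit 5))), ((.pw (.v (nat_lit 5)) (nat_lit 3)), .one), ((.mul (.v (nat_lit 5)) (.v (nat_lit 3))), (.mul (.v (nat_lit 3)) (.v (nat_lit 5)))), ((.mul (.v (nat_lit 5)) (.v (nat_lit 0))), (.mul (.v (nat_lit 0)) (.v (nat_lit 5)))), ((.mul (.v (nat_lit 5)) (.v (nat_lit 2))), (.mul (.v (nat_lit 2)) (.v (nat_lit 5))))] from k)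
    (AllEq.append (show AllEq [m, j, d, w, a, u, y, t] [((.pw (.v (nat_lit 6)) (nat_lit 3)), .one), ((.mul (.v (nat_lit 6)) (.v (nat_lit 3))), (.mul (.v (nat_lit 3)) (.v (nat_lit 6)))), ((.mul (.v (nat_lit 6)) (.v (nat_lit 0))), (.mul (.v (nat_lit 0)) (.v (nat_lit 6)))), ((.mul (.v (nat_lit 6)) (.v (nat_lit 2))), (.mul (.v (nat_lit 2)) (.v (nat_lit 6))))] from l)
    (show AllEq [m, j, d, w, a, u, y, t] [((.mul (.mul (.v (nat_lit 1)) (.v (nat_lit 3))) (.inv (.v (nat_lit 1)))), (.mul (.mul (.v (nat_lit 6)) (.v (nat_lit 3))) (.inv (.v (nat_lit 4)))))] from ⟨e, trivial⟩))))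
    [(.v (nat_lit 0)), (.inv (.v (nat_lit 0))), (.v (nat_lit 1)), (.inv (.v (nat_lit 1))), (.v (nat_lit 2)), (.inv (.v (nat_lit 2))), (.v (nat_lit 3)), (.inv (.v (nat_lit 3))), (.v (nat_lit 4)), (.inv (.v (nat_lit 4))), (.v (nat_lit 5)), (.inv (.v (nat_lit 5))), (.v (nat_lit 6)), (.inv (.v (nat_lit 6))), (.v (nat_lit 7))] (by decide +kernel)
noncomputable def nt12_0_S0 : List ℕ := [nat_lit 0x1, nat_lit 0x1, nat_lit 0xb00000500000c004034, nat_lit 0xb00000100000c004038, nat_lit 0x1300001000a020, nat_lit 0x1700000100001800403a, nat_lit 0x1b00000600001c00c032, nat_lit 0x1f00001c006028, nat_lit 0x2b00000c00401e, nat_lit 0x2f000007000010000022, nat_lit 0x3700000b00002400c02e, nat_lit 0x3700000900003800c032, nat_lit 0x2900002d00002a002034, nat_lit 0x3b00000b00002800a02e, nat_lit 0x3b00000e00003c004036, nat_lit 0x3500003900003600c038, nat_lit 0x4300000f000018006024, nat_lit 0x4300000f00000c000034006026, nat_lit 0x4200001500004100c038,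 nat_lit 0x4400004900004300203a, nat_lit 0x2600004d00002500a038, nat_lit 0x4700004d00004800c036, nat_lit 0x4b000048006028, nat_lit 0x4b00004e00004c004036, nat_lit 0x5300001200004c00402c, nat_lit 0x5700001200004800a02c, nat_lit 0x5b00001700002000a02a, nat_lit 0x6700001a00001b000028008030, nat_lit 0x6e00003e00006d00c036, nat_lit 0x5300001300002800006d00007201403c, nat_lit 0x75000062008020, nat_lit 0x6b00006000401e, nat_lit 0x6b00001b00002c00802c, nat_lit 0x3f00002100008100007e00402e, nat_lit 0x8600005f000000, nat_lit 0x6f00001f00001000004e00004c00e03c, nat_lit 0x7300007000a020, nat_lit 0x7700001f000024000031010030, nat_lit 0x7700001f00000200001400005800c03c, nat_lit 0x65000099002020, nat_lit 0x96000032000095004032, nat_lit 0x6300001d0000780000a1010030, nat_lit 0xa60000a20000a5004032, nat_lit 0x2300001c0000640000a9010030, nat_lit 0x4f00004800005600009e0000a500c03c, nat_lit 0x7b00001f00000500002800a030, nat_lit 0x7f00006d00007a00005e00005a00e03c,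 nat_lit 0x8300008000a020, nat_lit 0x8300003d0000b500007b00007400603c, nat_lit 0x910000c10000be00e02c, nat_lit 0x8e00005a0000b90000c5012030, nat_lit 0xc50000c90000c6004032, nat_lit 0x4f0000480000b90000cd010030, nat_lit 0xd20000ce0000d1004032, nat_lit 0x8e00004b0000500000d5010030, nat_lit 0x8700002600005000c02e, nat_lit 0x8700005200008800c036, nat_lit 0xdd0000e10000de002038, nat_lit 0x8b00003300003800c02a, nat_lit 0x8f00002e000037000040008030, nat_lit 0x630000890000ed00202e, nat_lit 0x9300004200005c00402e, nat_lit 0x6f0000690000f5002024, nat_lit 0x970000d90000fa00602a]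
noncomputable def nt12_0_S1 : List ℕ := [nat_lit 0x970000e600009800403a, nat_lit 0x8b0000450000940000fd00010101403c, nat_lit 0xf10000b10000980001050000ea008026, nat_lit 0x290001090000f1000002, nat_lit 0x10e0000ad00010e0000a600000e, nat_lit 0x24000112000077000010, nat_lit 0x11600001f00000c]
noncomputable def nt12_0_S : List (List ℕ) := [nt12_0_S0, nt12_0_S1]
noncomputable def nt12_0_defs : List ℕ := [(nat_lit 0x500013009000100090000d0060000c0060000b00300009002000090090000700800007003000070020000700e0000600900006008000060010000600700005007000040060000400800003007000030060000300500003009000020070000200600002005000020020000100e0000000900000008000000070000000600000005000000030000000200000001000000000000000000000)]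
noncomputable def nt12_0_recs : List ℕ := [(nat_lit 0x7000240002505000240001b010001600024010002300018070000f00023040000d000220d00013000130c000210002100000130002106000130001b0b0001300013060001f000130b0001f0001f0a0001b0001b070001f0001b070001c000200e0001f0002009000110001f06000090001e0300018000130600018000080b0001800018060001d000180b0001d0001d030001d0001103000150001d06000080001d0e0001b0001c09000120001b00000060000fff000170000f060000a0001a00000170001a0200012000190200019000140c00019000190700009000190400007000160e00011000150e00012000140d00012000120700011000120c00011000110c0000b0000b0d00003000030c0001000010030000c000100100005000100c00009000090d0000e0000e00000090000e0b00008000080a0000d0000d00000080000d00000030000b00000020000a0700006000070a00006000060d00005000050e00003000040d00002000020b00002000020a00000000000c0000000000),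
  (nat_lit 0x60000000000ff0000700000ff0001d00008ff0001800008ff0000d000230200025000220d0002500025)]
noncomputable def nt12_0_T : List (List ℕ × ℕ) := [([6], (nat_lit 0x119))]
noncomputable def nt12_0_D : H26.Dag := ⟨[1,0,3,2,5,4,7,6,9,8,11,10,13,12,14], [[0,1],
  [1,0],
  [2,3],
  [3,2],
  [4,5],
  [5,4],
  [6,7],
  [7,6],
  [8,9],
  [9,8],
  [10,11],
  [11,10],
  [12,13],
  [13,12],
  [14,14],
  [14,0,0],
  [14,2,2],
  [0,3,0,2],
  [3,5,0,4],
  [3,1,5,2,4],
  [6,6,6],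
  [7,5,6,4],
  [6,14,6,14],
  [9,1,6,0],
  [11,9,7,8,6],
  [7,11,6,10],
  [1,11,0,10],
  [7,13,6,12],
  [1,13,0,12],
  [5,13,4,12],
  [13,7,8,3,6,2]], [12,13,10,11], nt12_0_defs, nt12_0_recs⟩
theorem nt12_0_c : nt12_0_D.check nt12_0_S nt12_0_T = true := by decide +kernel
theorem nt12_0 {G : Type*} [Group G] {g : ℕ → G} (hR : Rels g nt12_r_R) {H : Subgroup G}
    (hH : ∀ k ∈ [12,13,10,11], g k ∈ H) : evA g [6] ∈ H :=
  mem_dag (K := 15) (J := [0,1,2,3,4,5,6,7,8,9,10,11,12,13,14,15,16,17,18,19,21,22,23,24,25,27,28,31,32,33,34]) (D := nt12_0_D) (by decide +kernel) nt12_0_c (by decide +kernel) hR hH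
theorem nt12 {G : Type*} [Group G] {m j d w a u y t : G}
    (h : Q8 m j d t)
    (k : WW m d t w a u)
    (l : CY m d w y)
    (e : j * w * j⁻¹ = y * w * a⁻¹)
    {H : Subgroup G} (my : y ∈ H) (mu : u ∈ H) :
    w ∈ H :=
  Eq.mp (congrArg (· ∈ H) (evA_eq_tm ((InvI.cons h.1 InvI.nil) : InvI [m, j, d, w, a, u, y, t] [(nat_lit 7)]) [(.v (nat_lit 0)), (.inv (.v (nat_lit 0))), (.v (nat_lit 1)), (.inv (.v (nat_lit 1))), (.v (nat_lit 2)), (.inv (.v (nat_lit 2))), (.v (nat_lit 3)), (.inv (.v (nat_lit 3))), (.v (nat_lit 4)), (.inv (.v (nat_lit 4))), (.v (nat_lit 5)), (.inv (.v (nat_lit 5))), (.v (nat_lit 6)), (.inv (.v (nat_lit 6))), (.v (nat_lit 7))] [6] (.v (nat_lit 3)) (by decide +kernel))) (nt12_0 (nt12_r h k l e) (H := H) (List.forall_mem_cons.2 ⟨my, (List.forall_mem_cons.2 ⟨(H.inv_mem my), (List.forall_mem_cons.2 ⟨mu, (List.forall_mem_cons.2 ⟨(H.inv_mem mu), (List.forall_mem_nil _)⟩)⟩)⟩)⟩))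
noncomputable def nt20_r_R : List (List ℕ) := [[0,1],
  [1,0],
  [2,3],
  [3,2],
  [4,5],
  [5,4],
  [6,7],
  [7,6],
  [8,9],
  [9,8],
  [10,11],
  [11,10],
  [12,13],
  [13,12],
  [14,14],
  [14,0,0],
  [14,2,2],
  [0,3,0,2],
  [3,5,0,4],
  [3,1,5,2,4],
  [14,5,14,4],
  [6,6,6],
  [7,5,6,4],
  [6,14,6,14],
  [9,1,6,0],
  [11,9,7,8,6],
  [10,10,10],
  [7,11,6,10],
  [1,11,0,10],
  [5,11,4,10],
  [12,12,12],
  [7,13,6,12],
  [1,13,0,12],
  [5,13,4,12],
  [13,6,3,6,2]]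
theorem nt20_r {G : Type*} [Group G] {m j d w a u y t : G}
    (h : Q8 m j d t)
    (k : WW m d t w a u)
    (l : CY m d w y)
    (e : j * w * j⁻¹ = y * w⁻¹ * 1) :
    Rels (nthG [m, m⁻¹, j, j⁻¹, d, d⁻¹, w, w⁻¹, a, a⁻¹, u, u⁻¹, y, y⁻¹, t]) nt20_r_R :=
  rels_of_eqs ((InvI.cons h.1 InvI.nil) : InvI [m, j, d, w, a, u, y, t] [(nat_lit 7)])
    (AllEq.append (show AllEq [m, j, d, w, a, u, y, t] [((.mul (.v (nat_lit 7)) (.v (nat_lit 7))), .one), ((.mul (.v (nat_lit 0)) (.v (nat_lit 0))), (.v (nat_lit 7))), ((.mul (.v (nat_lit 1)) (.v (nat_lit 1))), (.v (nat_lit 7))), ((.mul (.mul (.v (nat_lit 1)) (.v (nat_lit 0))) (.inv (.v (nat_lit 1)))), (.inv (.v (nat_lit 0)))), ((.mul (.mul (.v (nat_lit 2)) (.v (nat_lit 0))) (.inv (.v (nat_lit 2)))), (.v (nat_lit 1))), ((.mul (.mul (.v (nat_lit 2)) (.v (nat_lit 1))) (.inv (.v (nat_lit 2)))), (.mul (.v (nat_lit 1)) (.v (nat_lit 0)))), ((.mul (.v (nat_lit 2)) (.v (nat_lit 7))), (.mul (.v (nat_lit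 7)) (.v (nat_lit 2))))] from h)
    (AllEq.append (show AllEq [m, j, d, w, a, u, y, t] [((.pw (.v (nat_lit 3)) (nat_lit 3)), .one), ((.mul (.v (nat_lit 2)) (.v (nat_lit 3))), (.mul (.v (nat_lit 3)) (.v (nat_lit 2)))), ((.mul (.mul (.v (nat_lit 7)) (.v (nat_lit 3))) (.inv (.v (nat_lit 7)))), (.inv (.v (nat_lit 3)))), ((.mul (.mul (.v (nat_lit 0)) (.v (nat_lit 3))) (.inv (.v (nat_lit 0)))), (.v (nat_lit 4))), ((.mul (.mul (.mul (.v (nat_lit 3)) (.v (nat_lit 4))) (.inv (.v (nat_lit 3)))) (.inv (.v (nat_lit 4)))), (.v (nat_lit 5))), ((.pw (.v (nat_lit 5)) (nat_lit 3)), .one), ((.mul (.v (nat_lit 5)) (.v (nat_lit 3))), (.mul (.v (nat_lit 3)) (.v (nat_lit 5)))), ((.mul (.v (nat_lit 5)) (.v (nat_lit 0))), (.mul (.v (nat_lit 0)) (.v (nat_lit 5)))), ((.mul (.v (nat_lit 5)) (.v (nat_lit 2))), (.mul (.v (nat_lit 2)) (.v (nat_lit 5))))] from k)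
    (AllEq.append (show AllEq [m, j, d, w, a, u, y, t] [((.pw (.v (nat_lit 6)) (nat_lit 3)), .one), ((.mul (.v (nat_lit 6)) (.v (nat_lit 3))), (.mul (.v (nat_lit 3)) (.v (nat_lit 6)))), ((.mul (.v (nat_lit 6)) (.v (nat_lit 0))), (.mul (.v (nat_lit 0)) (.v (nat_lit 6)))), ((.mul (.v (nat_lit 6)) (.v (nat_lit 2))), (.mul (.v (nat_lit 2)) (.v (nat_lit 6))))] from l)
    (show AllEq [m, j, d, w, a, u, y, t] [((.mul (.mul (.v (nat_lit 1)) (.v (nat_lit 3))) (.inv (.v (nat_lit 1)))), (.mul (.mul (.v (nat_lit 6)) (.inv (.v (nat_lit 3)))) .one))] from ⟨e, trivial⟩))))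
    [(.v (nat_lit 0)), (.inv (.v (nat_lit 0))), (.v (nat_lit 1)), (.inv (.v (nat_lit 1))), (.v (nat_lit 2)), (.inv (.v (nat_lit 2))), (.v (nat_lit 3)), (.inv (.v (nat_lit 3))), (.v (nat_lit 4)), (.inv (.v (nat_lit 4))), (.v (nat_lit 5)), (.inv (.v (nat_lit 5))), (.v (nat_lit 6)), (.inv (.v (nat_lit 6))), (.v (nat_lit 7))] (by decide +kernel)
noncomputable def nt20_0_S0 : List ℕ := [nat_lit 0x1, nat_lit 0xb00000800a01e, nat_lit 0xf00000100001000402a, nat_lit 0x17000001000018004026, nat_lit 0x1b000007000010006020, nat_lit 0x1200000900001100c028, nat_lit 0x1c00001500001b00202a, nat_lit 0x1f00001900000700001800802c, nat_lit 0x23000020006022, nat_lit 0x2300001a000024004026, nat_lit 0x2600002300000700001400202c, nat_lit 0x27000006000024004024, nat_lit 0x2700000b00001800000d01002c, nat_lit 0x1e00003100002e00001e, nat_lit 0x1d00003600002a000004, nat_lit 0x3600002200003600002300000e, nat_lit 0x800003d00001e00003a000004, nat_lit 0x4200001300000e]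
noncomputable def nt20_0_S : List (List ℕ) := [nt20_0_S0]
noncomputable def nt20_0_defs : List ℕ := [(nat_lit 0x600002007000010060000100500001007000000060000000500000003000000020000000000000)]
noncomputable def nt20_0_recs : List ℕ := [(nat_lit 0x70000000000ff0000400000ff0000100007ff0000400005ff00008000070200005000090e00008000090300004000080d00008000080700007000080300005000070d00001000010c00006000060100003000060d00005000050d00003000030e00001000020c0000000000)]
noncomputable def nt20_0_T : List (List ℕ × ℕ) := [([6], (nat_lit 0x46))]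
noncomputable def nt20_0_D : H26.Dag := ⟨[1,0,3,2,5,4,7,6,9,8,11,10,13,12,14], [[0,1],
  [1,0],
  [2,3],
  [3,2],
  [4,5],
  [5,4],
  [6,7],
  [7,6],
  [8,9],
  [9,8],
  [10,11],
  [11,10],
  [12,13],
  [13,12],
  [14,14],
  [14,2,2],
  [3,5,0,4],
  [6,6,6],
  [6,14,6,14],
  [7,13,6,12],
  [1,13,0,12],
  [5,13,4,12],
  [13,6,3,6,2]], [12,13,10,11], nt20_0_defs, nt20_0_recs⟩
theorem nt20_0_c : nt20_0_D.check nt20_0_S nt20_0_T = true := by decide +kernel
theorem nt20_0 {G : Type*} [Group G] {g : ℕ → G} (hR : Rels g nt20_r_R) {H : Subgroup G}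
    (hH : ∀ k ∈ [12,13,10,11], g k ∈ H) : evA g [6] ∈ H :=
  mem_dag (K := 15) (J := [0,1,2,3,4,5,6,7,8,9,10,11,12,13,14,16,18,21,23,31,32,33,34]) (D := nt20_0_D) (by decide +kernel) nt20_0_c (by decide +kernel) hR hH
theorem nt20 {G : Type*} [Group G] {m j d w a u y t : G}
    (h : Q8 m j d t)
    (k : WW m d t w a u)
    (l : CY m d w y)
    (e : j * w * j⁻¹ = y * w⁻¹ * 1)
    {H : Subgroup G} (my : y ∈ H) (mu : u ∈ H) :
    w ∈ H :=
  Eq.mp (congrArg (· ∈ H) (evA_eq_tm ((InvI.cons h.1 InvI.nil) : InvI [m, j, d, w, a, u, y, t] [(nat_lit 7)]) [(.v (nat_lit 0)), (.inv (.v (nat_lit 0))), (.v (nat_lit 1)), (.inv (.v (nat_lit 1))), (.v (nat_lit 2)), (.inv (.v (nat_lit 2))), (.v (nat_lit 3)), (.inv (.v (nat_lit 3))), (.v (nat_lit 4)), (.inv (.v (nat_lit 4))), (.v (nat_lit 5)), (.inv (.v (nat_lit 5))), (.v (nat_lit 6)), (.inv (.v (nat_lit 6))), (.v (nat_lit 7))] [6] (.v (nat_lit 3)) (by decide +kernel))) (nt20_0 (nt20_r h k l e) (H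 := H) (List.forall_mem_cons.2 ⟨my, (List.forall_mem_cons.2 ⟨(H.inv_mem my), (List.forall_mem_cons.2 ⟨mu, (List.forall_mem_cons.2 ⟨(H.inv_mem mu), (List.forall_mem_nil _)⟩)⟩)⟩)⟩))
noncomputable def xa_r_R : List (List ℕ) := [[0,1],
  [1,0],
  [2,3],
  [3,2],
  [4,5],
  [5,4],
  [6,7],
  [7,6],
  [8,9],
  [9,8],
  [10,11],
  [11,10],
  [12,13],
  [13,12],
  [14,14],
  [14,0,0],
  [14,2,2],
  [0,3,0,2],
  [3,5,0,4],
  [3,1,5,2,4],
  [14,5,14,4],
  [6,6,6],
  [7,5,6,4],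
  [6,14,6,14],
  [9,1,6,0],
  [11,9,7,8,6],
  [10,10,10],
  [7,11,6,10],
  [1,11,0,10],
  [5,11,4,10],
  [12,12,12],
  [7,13,6,12],
  [1,13,0,12],
  [5,13,4,12],
  [13,6,9,3,6,2]]
theorem xa_r {G : Type*} [Group G] {m j d w a u y t : G}
    (h : Q8 m j d t)
    (k : WW m d t w a u)
    (l : CY m d w y)
    (e : j * w * j⁻¹ = y * w⁻¹ * a) :
    Rels (nthG [m, m⁻¹, j, j⁻¹, d, d⁻¹, w, w⁻¹, a, a⁻¹, u, u⁻¹, y, y⁻¹, t]) xa_r_R :=
  rels_of_eqs ((InvI.cons h.1 InvI.nil) : InvI [m, j, d, w, a, u, y, t] [(nat_lit 7)])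
    (AllEq.append (show AllEq [m, j, d, w, a, u, y, t] [((.mul (.v (nat_lit 7)) (.v (nat_lit 7))), .one), ((.mul (.v (nat_lit 0)) (.v (nat_lit 0))), (.v (nat_lit 7))), ((.mul (.v (nat_lit 1)) (.v (nat_lit 1))), (.v (nat_lit 7))), ((.mul (.mul (.v (nat_lit 1)) (.v (nat_lit 0))) (.inv (.v (nat_lit 1)))), (.inv (.v (nat_lit 0)))), ((.mul (.mul (.v (nat_lit 2)) (.v (nat_lit 0))) (.inv (.v (nat_lit 2)))), (.v (nat_lit 1))), ((.mul (.mul (.v (nat_lit 2)) (.v (nat_lit 1))) (.inv (.v (nat_lit 2)))), (.mul (.v (nat_lit 1)) (.v (nat_lit 0)))), ((.mul (.v (nat_lit 2)) (.v (nat_lit 7))), (.mul (.v (nat_lit 7)) (.v (nat_lit 2))))] from h)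
    (AllEq.append (show AllEq [m, j, d, w, a, u, y, t] [((.pw (.v (nat_lit 3)) (nat_lit 3)), .one), ((.mul (.v (nat_lit 2)) (.v (nat_lit 3))), (.mul (.v (nat_lit 3)) (.v (nat_lit 2)))), ((.mul (.mul (.v (nat_lit 7)) (.v (nat_lit 3))) (.inv (.v (nat_lit 7)))), (.inv (.v (nat_lit 3)))), ((.mul (.mul (.v (nat_lit 0)) (.v (nat_lit 3))) (.inv (.v (nat_lit 0)))), (.v (nat_lit 4))), ((.mul (.mul (.mul (.v (nat_lit 3)) (.v (nat_lit 4))) (.inv (.v (nat_lit 3)))) (.inv (.v (nat_lit 4)))), (.v (nat_lit 5))), ((.pw (.v (nat_lit 5)) (nat_lit 3)), .one), ((.mul (.v (nat_lit 5)) (.v (nat_lit 3))), (.mul (.v (nat_lit 3)) (.v (nat_lit 5)))), ((.mul (.v (nat_lit 5)) (.v (nat_lit 0))), (.mul (.v (nat_lit 0)) (.v (nat_lit 5)))), ((.mul (.v (nat_lit 5)) (.v (nat_lit 2))), (.mul (.v (nat_lit 2)) (.v (nat_lit 5))))] from k)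
    (AllEq.append (show AllEq [m, j, d, w, a, u, y, t] [((.pw (.v (nat_lit 6)) (nat_lit 3)), .one), ((.mul (.v (nat_lit 6)) (.v (nat_lit 3))), (.mul (.v (nat_lit 3)) (.v (nat_lit 6)))), ((.mul (.v (nat_lit 6)) (.v (nat_lit 0))), (.mul (.v (nat_lit 0)) (.v (nat_lit 6)))), ((.mul (.v (nat_lit 6)) (.v (nat_lit 2))), (.mul (.v (nat_lit 2)) (.v (nat_lit 6))))] from l)
    (show AllEq [m, j, d, w, a, u, y, t] [((.mul (.mul (.v (nat_lit 1)) (.v (nat_lit 3))) (.inv (.v (nat_lit 1)))), (.mul (.mul (.v (nat_lit 6)) (.inv (.v (nat_lit 3)))) (.v (nat_lit 4))))] from ⟨e, trivial⟩))))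
    [(.v (nat_lit 0)), (.inv (.v (nat_lit 0))), (.v (nat_lit 1)), (.inv (.v (nat_lit 1))), (.v (nat_lit 2)), (.inv (.v (nat_lit 2))), (.v (nat_lit 3)), (.inv (.v (nat_lit 3))), (.v (nat_lit 4)), (.inv (.v (nat_lit 4))), (.v (nat_lit 5)), (.inv (.v (nat_lit 5))), (.v (nat_lit 6)), (.inv (.v (nat_lit 6))), (.v (nat_lit 7))] (by decide +kernel)
noncomputable def xa_0_S0 : List ℕ := [nat_lit 0x1f00001c00a020, nat_lit 0x2300000b00001c00c022, nat_lit 0x2700002400a01e, nat_lit 0x2f00002c00a01e, nat_lit 0x2f000013000028008028, nat_lit 0x900001100000e008026, nat_lit 0x3b00003800a020, nat_lit 0x3b00001700000f00000700002001002a, nat_lit 0x100001d00001a008026, nat_lit 0x21000005000016002024, nat_lit 0x3300002c00002500003700e022, nat_lit 0x2900003300000a]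
noncomputable def xa_0_S : List (List ℕ) := [xa_0_S0]
noncomputable def xa_0_defs : List ℕ := [(nat_lit 0x30000500200005004000040010000400000004001000020000000200300000002000000090000300900002006000010050000000d0000000000000)]
noncomputable def xa_0_recs : List ℕ := [(nat_lit 0x50000400005ff000050000c050000a0000d060000d0000606000070000e0e0000d0000e060000a0000806000090000b0e0000a0000b0e00008000090400006000080e0000600007)]
noncomputable def xa_0_T : List (List ℕ × ℕ) := [([13,6,9,5,8,4], (nat_lit 0xc00001400002d00001700000f000007))]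
noncomputable def xa_0_D : H26.Dag := ⟨[1,0,3,2,5,4,7,6,9,8,11,10,13,12,14], [[0,1],
  [1,0],
  [2,3],
  [3,2],
  [4,5],
  [5,4],
  [6,7],
  [7,6],
  [8,9],
  [9,8],
  [10,11],
  [11,10],
  [12,13],
  [13,12],
  [14,14],
  [14,0,0],
  [14,2,2],
  [3,5,0,4],
  [7,5,6,4],
  [6,14,6,14],
  [9,1,6,0],
  [13,6,9,3,6,2]], [], xa_0_defs, xa_0_recs⟩
theorem xa_0_c : xa_0_D.check xa_0_S xa_0_T = true := by decide +kernel
theorem xa_0 {G : Type*} [Group G] {g : ℕ → G} (hR : Rels g xa_r_R) {H : Subgroup G}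
    (hH : ∀ k ∈ [], g k ∈ H) : evA g [13,6,9,5,8,4] ∈ H :=
  mem_dag (K := 15) (J := [0,1,2,3,4,5,6,7,8,9,10,11,12,13,14,15,16,18,22,23,24,34]) (D := xa_0_D) (by decide +kernel) xa_0_c (by decide +kernel) hR hH
theorem xa {G : Type*} [Group G] {m j d w a u y t : G}
    (h : Q8 m j d t)
    (k : WW m d t w a u)
    (l : CY m d w y)
    (e : j * w * j⁻¹ = y * w⁻¹ * a) :
    d * a * d⁻¹ = y * w⁻¹ * a :=
  mul_inv_eq_one.1 ((evA_eq_tm ((InvI.cons h.1 InvI.nil) : InvI [m, j, d, w, a, u, y, t] [(nat_lit 7)]) [(.v (nat_lit 0)), (.inv (.v (nat_lit 0))), (.v (nat_lit 1)), (.inv (.v (nat_lit 1))), (.v (nat_lit 2)), (.inv (.v (nat_lit 2))), (.v (nat_lit 3)), (.inv (.v (nat_lit 3))), (.v (nat_lit 4)), (.inv (.v (nat_lit 4))), (.v (nat_lit 5)), (.inv (.v (nat_lit 5))), (.v (nat_lit 6)), (.inv (.v (nat_lit 6))), (.v (nat_lit 7))] [13,6,9,5,8,4] (.mul (.mul (.mul (.v (nat_lit 2)) (.v (nat_lit 4))) (.inv (.v (nat_lit 2)))) (.inv (.mul (.mul (.v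 (nat_lit 6)) (.inv (.v (nat_lit 3)))) (.v (nat_lit 4))))) (by decide +kernel)).symm.trans (Subgroup.mem_bot.1 (xa_0 (xa_r h k l e) (H := ⊥) (List.forall_mem_nil _))))
noncomputable def nt22_r_R : List (List ℕ) := [[0,1],
  [1,0],
  [2,3],
  [3,2],
  [4,5],
  [5,4],
  [6,7],
  [7,6],
  [8,9],
  [9,8],
  [10,11],
  [11,10],
  [12,13],
  [13,12],
  [14,14],
  [14,0,0],
  [14,2,2],
  [0,3,0,2],
  [3,5,0,4],
  [3,1,5,2,4],
  [14,5,14,4],
  [6,6,6],
  [7,5,6,4],
  [6,14,6,14],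
  [9,1,6,0],
  [11,9,7,8,6],
  [10,10,10],
  [7,11,6,10],
  [1,11,0,10],
  [5,11,4,10],
  [12,12,12],
  [7,13,6,12],
  [1,13,0,12],
  [5,13,4,12],
  [13,6,8,3,6,2]]
theorem nt22_r {G : Type*} [Group G] {m j d w a u y t : G}
    (h : Q8 m j d t)
    (k : WW m d t w a u)
    (l : CY m d w y)
    (e : j * w * j⁻¹ = y * w⁻¹ * a⁻¹) :
    Rels (nthG [m, m⁻¹, j, j⁻¹, d, d⁻¹, w, w⁻¹, a, a⁻¹, u, u⁻¹, y, y⁻¹, t]) nt22_r_R :=
  rels_of_eqs ((InvI.cons h.1 InvI.nil) : InvI [m, j, d, w, a, u, y, t] [(nat_lit 7)])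
    (AllEq.append (show AllEq [m, j, d, w, a, u, y, t] [((.mul (.v (nat_lit 7)) (.v (nat_lit 7))), .one), ((.mul (.v (nat_lit 0)) (.v (nat_lit 0))), (.v (nat_lit 7))), ((.mul (.v (nat_lit 1)) (.v (nat_lit 1))), (.v (nat_lit 7))), ((.mul (.mul (.v (nat_lit 1)) (.v (nat_lit 0))) (.inv (.v (nat_lit 1)))), (.inv (.v (nat_lit 0)))), ((.mul (.mul (.v (nat_lit 2)) (.v (nat_lit 0))) (.inv (.v (nat_lit 2)))), (.v (nat_lit 1))), ((.mul (.mul (.v (nat_lit 2)) (.v (nat_lit 1))) (.inv (.v (nat_lit 2)))), (.mul (.v (nat_lit 1)) (.v (nat_lit 0)))), ((.mul (.v (nat_lit 2)) (.v (nat_lit 7))), (.mul (.v (nat_lit 7)) (.v (nat_lit 2))))] from h)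
    (AllEq.append (show AllEq [m, j, d, w, a, u, y, t] [((.pw (.v (nat_lit 3)) (nat_lit 3)), .one), ((.mul (.v (nat_lit 2)) (.v (nat_lit 3))), (.mul (.v (nat_lit 3)) (.v (nat_lit 2)))), ((.mul (.mul (.v (nat_lit 7)) (.v (nat_lit 3))) (.inv (.v (nat_lit 7)))), (.inv (.v (nat_lit 3)))), ((.mul (.mul (.v (nat_lit 0)) (.v (nat_lit 3))) (.inv (.v (nat_lit 0)))), (.v (nat_lit 4))), ((.mul (.mul (.mul (.v (nat_lit 3)) (.v (nat_lit 4))) (.inv (.v (nat_lit 3)))) (.inv (.v (nat_lit 4)))), (.v (nat_lit 5))), ((.pw (.v (nat_lit 5)) (nat_lit 3)), .one), ((.mul (.v (nat_lit 5)) (.v (nat_lit 3))), (.mul (.v (nat_lit 3)) (.v (nat_lit 5)))), ((.mul (.v (nat_lit 5)) (.v (nat_lit 0))), (.mul (.v (nat_lit 0)) (.v (nat_lit 5)))), ((.mul (.v (nat_lit 5)) (.v (nat_lit 2))), (.mul (.v (nat_lit 2)) (.v (nat_lit 5))))] from k)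
    (AllEq.append (show AllEq [m, j, d, w, a, u, y, t] [((.pw (.v (nat_lit 6)) (nat_lit 3)), .one), ((.mul (.v (nat_lit 6)) (.v (nat_lit 3))), (.mul (.v (nat_lit 3)) (.v (nat_lit 6)))), ((.mul (.v (nat_lit 6)) (.v (nat_lit 0))), (.mul (.v (nat_lit 0)) (.v (nat_lit 6)))), ((.mul (.v (nat_lit 6)) (.v (nat_lit 2))), (.mul (.v (nat_lit 2)) (.v (nat_lit 6))))] from l)
    (show AllEq [m, j, d, w, a, u, y, t] [((.mul (.mul (.v (nat_lit 1)) (.v (nat_lit 3))) (.inv (.v (nat_lit 1)))), (.mul (.mul (.v (nat_lit 6)) (.inv (.v (nat_lit 3)))) (.inv (.v (nat_lit 4)))))] from ⟨e, trivial⟩))))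
    [(.v (nat_lit 0)), (.inv (.v (nat_lit 0))), (.v (nat_lit 1)), (.inv (.v (nat_lit 1))), (.v (nat_lit 2)), (.inv (.v (nat_lit 2))), (.v (nat_lit 3)), (.inv (.v (nat_lit 3))), (.v (nat_lit 4)), (.inv (.v (nat_lit 4))), (.v (nat_lit 5)), (.inv (.v (nat_lit 5))), (.v (nat_lit 6)), (.inv (.v (nat_lit 6))), (.v (nat_lit 7))] (by decide +kernel)
noncomputable def nt22_0_S0 : List ℕ := [nat_lit 0x1, nat_lit 0x1, nat_lit 0xb00000800a01e, nat_lit 0xb00000500000c004036, nat_lit 0xb00000100000c00403a, nat_lit 0x1300001000a020, nat_lit 0x1b00000100001c00403c, nat_lit 0x1f00000600002000c034, nat_lit 0x1f00000200002000c038, nat_lit 0x2300002000602a, nat_lit 0x23000005000024004034, nat_lit 0x23000001000024004038, nat_lit 0x2f00000c00401e, nat_lit 0x33000007000010000022, nat_lit 0x37000007000018000024, nat_lit 0x43000007000020002030, nat_lit 0x3e00002200003d00c03a, nat_lit 0x4700000b00001800e024, nat_lit 0x4700000a000038000028, nat_lit 0x4f00000a00004000402e,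 nat_lit 0x4f00000b00002800c030, nat_lit 0x4f00000d00005000c034, nat_lit 0x51000055000052002036, nat_lit 0x5100004e00801e, nat_lit 0x5300005000602a, nat_lit 0x5300000a00003c00a02e, nat_lit 0x5300000b00002c00a030, nat_lit 0x5300000e000054004034, nat_lit 0x53000012000054004038, nat_lit 0x6900007100006a00c03a, nat_lit 0x6900006d00006a00c036, nat_lit 0x6900006600801e, nat_lit 0x69000062000052000030, nat_lit 0x5f00000f00001c006024, nat_lit 0x5f00000f00000c00004c006026, nat_lit 0x8600001900008500c03a, nat_lit 0x6000008d00005f00203c, nat_lit 0x3600009100003500a03a, nat_lit 0x6300009100006400c038, nat_lit 0x6700006400602a, nat_lit 0x67000092000068004038, nat_lit 0x6f00001600005c000028, nat_lit 0x6f00001300001800004500e026, nat_lit 0xa90000a600801e, nat_lit 0x490000a900401e, nat_lit 0xa50000b100401e, nat_lit 0x7300001600006800402e, nat_lit 0x7700001600006400a02e, nat_lit 0x7b00001700002000202c, nat_lit 0x7f00001700002400402c, nat_lit 0x8300001b00002400a02c,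 nat_lit 0x8700003d00a01e, nat_lit 0x8b00001f00000200001400007800c03e, nat_lit 0xbd0000d1002020, nat_lit 0x8f00001e00001f00002c008032, nat_lit 0xda00007a0000d900c034, nat_lit 0x9300008800401e, nat_lit 0x9300001f00003000802e, nat_lit 0x570000310000e50000e2004030, nat_lit 0xea000087000000, nat_lit 0xea0000ce00001c, nat_lit 0x9700002300001000009200006400e03e, nat_lit 0x9b00009800a020, nat_lit 0x9f000023000028000059010032]
noncomputable def nt22_0_S1 : List ℕ := [nat_lit 0xfe00005a0000fd004034, nat_lit 0x8b0000250000a0000101010032, nat_lit 0x106000102000105004034, nat_lit 0x2700002000008c000109010032, nat_lit 0x10d0000810000d90000dd00e032, nat_lit 0xa3000029000026000090008032, nat_lit 0xa300002300000500002c00a032, nat_lit 0x11a000075000119004038, nat_lit 0x7300001300002c00011900011d01403e, nat_lit 0x1210000ba008020, nat_lit 0x6b0000680000a100012500011600c03e, nat_lit 0xa700010e0000d500009900009d00e03e, nat_lit 0xab0000a800a020, nat_lit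 0xab00002700002400002d00009c01003e, nat_lit 0xf900013500013200802e, nat_lit 0x1390000f600009d00012d000032, nat_lit 0x13a00013e000139004034, nat_lit 0x6b0000640000f5000141010032, nat_lit 0xb300003600006c00c030, nat_lit 0xb30000960000b400c038, nat_lit 0x14900014d00014a00203a, nat_lit 0xb700003700004000402c, nat_lit 0xaf00005e00015500e024, nat_lit 0xbf00007d0000d9002030, nat_lit 0x15e0000de00015d00c036, nat_lit 0x1610000bf00003b000044002032, nat_lit 0xc300003e0000c1000024, nat_lit 0xc30000420000c400c03c, nat_lit 0xbb00003a00007c00016900016d01203e, nat_lit 0x1660000c400017100c02c, nat_lit 0xc700004a0000b800402e, nat_lit 0x15a000179006020, nat_lit 0xcb00004b00005000c02c, nat_lit 0xcf00005300000e00005800a032, nat_lit 0x1660000f100018500c02e, nat_lit 0x8f0000ed000185004030, nat_lit 0xd300005b00006800402c, nat_lit 0xd30000b60000bc00a030, nat_lit 0xd70000ad0000c8002030, nat_lit 0x17900019900201e, nat_lit 0xdb000086000084004030, nat_lit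 0x970000c90001a1002024, nat_lit 0xdf0001460001a600802c, nat_lit 0xdf0001520000e000403c, nat_lit 0xcb0000890000dc0001a90001ad01403e, nat_lit 0x18d0001290000e00001b1000182008026, nat_lit 0x510001b500018d000002, nat_lit 0x4d0001b500018900001c, nat_lit 0xa70001ba000129000006, nat_lit 0x10d0001ba00011500000e, nat_lit 0x280001ba000111000010, nat_lit 0x1560001be00017600000a, nat_lit 0x6c0001c100012e000010, nat_lit 0x270001ca0001c60000a3000012, nat_lit 0x19d0001ce000195000000, nat_lit 0x5b0001d200019100000a, nat_lit 0xc60001d50000b000000a, nat_lit 0xae0001de0001d900019a000000, nat_lit 0x450001e600017d0001e1000006, nat_lit 0x180001ea0000c6000008, nat_lit 0x1f0001ee00002300000e, nat_lit 0x1f100001f00000e]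
noncomputable def nt22_0_S : List (List ℕ) := [nt22_0_S0, nt22_0_S1]
noncomputable def nt22_0_defs : List ℕ := [(nat_lit 0x50001a009000170080001600700016009000140060001200600011004000100080000e0090000d0070000d0060000c0040000900300009002000090090000800800008003000080020000800e0000700900007008000070010000700700006007000050060000500700004006000040040000400800003007000030060000300500003004000030090000200700002006000020050000200400002008000010070000100600001004000010020000100e000000090000000800000007000000060000000500000004000000030000000200000001000000000000000000000)]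
noncomputable def nt22_0_recs : List ℕ := [(nat_lit 0x600009000270e00025000260900018000250e0001000015000000700015ff0002100015060000b000240000021000240a0002300023070000a00023030002200018030001d000220e000100002104000080002005000080001f05000070001e0e000180001d0e000190001c000000d00016000001b0000d00000160001100000110001b0e000160001b0d00019000190700018000190c00018000180c0000c0000c0d00003000030c000170001703000120001701000060001709000090000a000000e0000a0a0000a0000a0c0000a0000a0d00014000140b0001400014000000a000140e0000e00014070001300014000000f000090b00009000090a00013000130000009000130e0000f000130e0000d000110200005000110c000100001001000070001003000050000d00000030000c00000020000b0d00008000080b00008000080700007000080c00007000070a00007000070d00006000060e00003000040d00002000020b00002000020e00001000020a00000000000c0000000000),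
  (nat_lit 0x70000000000ff0000000007ff0000800000ff0001f00005ff0003100011ff0002b0001fff0003400016ff0003400035ff0000800009ff0001900003ff0002e0002dff0002200000ff0002800022ff0001a00029ff0002f0000fff0002300009ff00013000330200037000320d000370003706000360003705000360002501000200003601000350002d010003100035000002e000340500019000340100033000230e000330002f06000150003304000130003203000310002b0e0002d00031040002e0002f07000300002e0c0003000030030001e0003007000100002f0a0002f0002f01000230002f020002d0002b050000f0002d0d0001a0001a0c0002c0002c000001a0002c06000250001a0b00025000250b000290002906000290002506000260002a0e000290002a09000190002903000230001a02000190002802000280001c0d0002800028060000a000280700023000280800023000220600022000090b00022000220600027000220b0002700027)]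
noncomputable def nt22_0_T : List (List ℕ × ℕ) := [([6], (nat_lit 0x1f6))]
noncomputable def nt22_0_D : H26.Dag := ⟨[1,0,3,2,5,4,7,6,9,8,11,10,13,12,14], [[0,1],
  [1,0],
  [2,3],
  [3,2],
  [4,5],
  [5,4],
  [6,7],
  [7,6],
  [8,9],
  [9,8],
  [10,11],
  [11,10],
  [12,13],
  [13,12],
  [14,14],
  [14,0,0],
  [14,2,2],
  [0,3,0,2],
  [3,5,0,4],
  [3,1,5,2,4],
  [14,5,14,4],
  [6,6,6],
  [7,5,6,4],
  [6,14,6,14],
  [9,1,6,0],
  [11,9,7,8,6],
  [7,11,6,10],
  [1,11,0,10],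
  [7,13,6,12],
  [1,13,0,12],
  [5,13,4,12],
  [13,6,8,3,6,2]], [12,13,10,11], nt22_0_defs, nt22_0_recs⟩
theorem nt22_0_c : nt22_0_D.check nt22_0_S nt22_0_T = true := by decide +kernel
theorem nt22_0 {G : Type*} [Group G] {g : ℕ → G} (hR : Rels g nt22_r_R) {H : Subgroup G}
    (hH : ∀ k ∈ [12,13,10,11], g k ∈ H) : evA g [6] ∈ H :=
  mem_dag (K := 15) (J := [0,1,2,3,4,5,6,7,8,9,10,11,12,13,14,15,16,17,18,19,20,21,22,23,24,25,27,28,31,32,33,34]) (D := nt22_0_D) (by decide +kernel) nt22_0_c (by decide +kernel) hR hH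
theorem nt22 {G : Type*} [Group G] {m j d w a u y t : G}
    (h : Q8 m j d t)
    (k : WW m d t w a u)
    (l : CY m d w y)
    (e : j * w * j⁻¹ = y * w⁻¹ * a⁻¹)
    {H : Subgroup G} (my : y ∈ H) (mu : u ∈ H) :
    w ∈ H :=
  Eq.mp (congrArg (· ∈ H) (evA_eq_tm ((InvI.cons h.1 InvI.nil) : InvI [m, j, d, w, a, u, y, t] [(nat_lit 7)]) [(.v (nat_lit 0)), (.inv (.v (nat_lit 0))), (.v (nat_lit 1)), (.inv (.v (nat_lit 1))), (.v (nat_lit 2)), (.inv (.v (nat_lit 2))), (.v (nat_lit 3)), (.inv (.v (nat_lit 3))), (.v (nat_lit 4)), (.inv (.v (nat_lit 4))), (.v (nat_lit 5)), (.inv (.v (nat_lit 5))), (.v (nat_lit 6)), (.inv (.v (nat_lit 6))), (.v (nat_lit 7))] [6] (.v (nat_lit 3)) (by decide +kernel))) (nt22_0 (nt22_r h k l e) (H := H) (List.forall_mem_cons.2 ⟨my, (List.forall_mem_cons.2 ⟨(H.inv_mem my), (List.forall_mem_cons.2 ⟨mu, (List.forall_mem_cons.2 ⟨(H.inv_mem mu), (List.forall_mem_nil _)⟩)⟩)⟩)⟩))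
theorem nt_cases {G : Type*} [Group G] {m j d w a u y t : G}
    (h : Q8 m j d t)
    (k : WW m d t w a u)
    (l : CY m d w y) {p q : G} (hp : p = 1 ∨ p = w ∨ p = w⁻¹)
    (hq : q = 1 ∨ q = a ∨ q = a⁻¹) (e : j * w * j⁻¹ = y * p * q) {H : Subgroup G} (my : y ∈ H) (mu : u ∈ H) :
    w ∈ H ∨ d * a * d⁻¹ = y * w⁻¹ * a := by
  rcases hp with rfl | rfl | rfl <;> rcases hq with rfl | rfl | rfl
  exacts [.inl (nt00 h k l e my mu),
    .inl (nt01 h k l e my mu),
    .inl (nt02 h k l e my mu),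
    .inl (nt10 h k l e my mu),
    .inl (nt11 h k l e my mu),
    .inl (nt12 h k l e my mu),
    .inl (nt20 h k l e my mu),
    .inr (xa h k l e),
    .inl (nt22 h k l e my mu)]
noncomputable def ca_r_R : List (List ℕ) := [[0,1],
  [1,0],
  [2,3],
  [3,2],
  [4,5],
  [5,4],
  [6,7],
  [7,6],
  [8,9],
  [9,8],
  [10,11],
  [11,10],
  [7,2,5,1,4,0],
  [3,1,2,0],
  [1,7,0,6],
  [3,7,2,6],
  [5,7,4,6],
  [9,7,8,6],
  [11,5,9,4,8],
  [1,11,0,10],
  [9,11,8,10],
  [5,11,4,10],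
  [3,11,2,10],
  [3,9,2,8]]
theorem ca_r {G : Type*} [Group G] {d w a y q v : G}
    (e : d * a * d⁻¹ = y * w⁻¹ * a)
    (dw : d * w = w * d)
    (h1 : y * d = d * y)
    (h2 : y * w = w * y)
    (h3 : y * a = a * y)
    (h4 : y * q = q * y)
    (h5 : ⁅q, a⁆ = v)
    (h6 : v * d = d * v)
    (h7 : v * q = q * v)
    (h8 : v * a = a * v)
    (h9 : v * w = w * v)
    (qw : q * w = w * q) :
    Rels (nthG [d, d⁻¹, w, w⁻¹, a, a⁻¹, y, y⁻¹, q, q⁻¹, v, v⁻¹]) ca_r_R :=
  rels_of_eqs (InvI.nil : InvI [d, w, a, y, q, v] [])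
    (AllEq.append (show AllEq [d, w, a, y, q, v] [((.mul (.mul (.v (nat_lit 0)) (.v (nat_lit 2))) (.inv (.v (nat_lit 0)))), (.mul (.mul (.v (nat_lit 3)) (.inv (.v (nat_lit 1)))) (.v (nat_lit 2))))] from ⟨e, trivial⟩)
    (AllEq.append (show AllEq [d, w, a, y, q, v] [((.mul (.v (nat_lit 0)) (.v (nat_lit 1))), (.mul (.v (nat_lit 1)) (.v (nat_lit 0))))] from ⟨dw, trivial⟩)
    (AllEq.append (show AllEq [d, w, a, y, q, v] [((.mul (.v (nat_lit 3)) (.v (nat_lit 0))), (.mul (.v (nat_lit 0)) (.v (nat_lit 3))))] from ⟨h1, trivial⟩)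
    (AllEq.append (show AllEq [d, w, a, y, q, v] [((.mul (.v (nat_lit 3)) (.v (nat_lit 1))), (.mul (.v (nat_lit 1)) (.v (nat_lit 3))))] from ⟨h2, trivial⟩)
    (AllEq.append (show AllEq [d, w, a, y, q, v] [((.mul (.v (nat_lit 3)) (.v (nat_lit 2))), (.mul (.v (nat_lit 2)) (.v (nat_lit 3))))] from ⟨h3, trivial⟩)
    (AllEq.append (show AllEq [d, w, a, y, q, v] [((.mul (.v (nat_lit 3)) (.v (nat_lit 4))), (.mul (.v (nat_lit 4)) (.v (nat_lit 3))))] from ⟨h4, trivial⟩)
    (AllEq.append (show AllEq [d, w, a, y, q, v] [((.mul (.mul (.mul (.v (nat_lit 4)) (.v (nat_lit 2))) (.inv (.v (nat_lit 4)))) (.inv (.v (nat_lit 2)))), (.v (nat_lit 5)))] from ⟨h5, trivial⟩)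
    (AllEq.append (show AllEq [d, w, a, y, q, v] [((.mul (.v (nat_lit 5)) (.v (nat_lit 0))), (.mul (.v (nat_lit 0)) (.v (nat_lit 5))))] from ⟨h6, trivial⟩)
    (AllEq.append (show AllEq [d, w, a, y, q, v] [((.mul (.v (nat_lit 5)) (.v (nat_lit 4))), (.mul (.v (nat_lit 4)) (.v (nat_lit 5))))] from ⟨h7, trivial⟩)
    (AllEq.append (show AllEq [d, w, a, y, q, v] [((.mul (.v (nat_lit 5)) (.v (nat_lit 2))), (.mul (.v (nat_lit 2)) (.v (nat_lit 5))))] from ⟨h8, trivial⟩)
    (AllEq.append (show AllEq [d, w, a, y, q, v] [((.mul (.v (nat_lit 5)) (.v (nat_lit 1))), (.mul (.v (nat_lit 1)) (.v (nat_lit 5))))] from ⟨h9, trivial⟩)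
    (show AllEq [d, w, a, y, q, v] [((.mul (.v (nat_lit 4)) (.v (nat_lit 1))), (.mul (.v (nat_lit 1)) (.v (nat_lit 4))))] from ⟨qw, trivial⟩))))))))))))
    [(.v (nat_lit 0)), (.inv (.v (nat_lit 0))), (.v (nat_lit 1)), (.inv (.v (nat_lit 1))), (.v (nat_lit 2)), (.inv (.v (nat_lit 2))), (.v (nat_lit 3)), (.inv (.v (nat_lit 3))), (.v (nat_lit 4)), (.inv (.v (nat_lit 4))), (.v (nat_lit 5)), (.inv (.v (nat_lit 5)))] (by decide +kernel)
noncomputable def ca_0_S0 : List ℕ := [nat_lit 0x2f00000b00002c00a01a, nat_lit 0x3700001300003000a028, nat_lit 0x4300001b00003800401a, nat_lit 0x5300001f000040006022, nat_lit 0x5b00002300004c000024, nat_lit 0x6300002b000008000010000034002018, nat_lit 0x200006400001600a01c, nat_lit 0x6700001900000500401e, nat_lit 0x6b00003300001800003c002020, nat_lit 0x6700006c00002200a024, nat_lit 0x3f00003c000025008026, nat_lit 0x6f00000a00001d00001c, nat_lit 0xe00002a00002d00006f00004300004800e018, nat_lit 0x31000053000014,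 nat_lit 0x4f00003500004700004c002026, nat_lit 0x3900004f00000a, nat_lit 0x5f00002700003d00001100005b012020, nat_lit 0x5700004100005f000008, nat_lit 0x45000057000008]
noncomputable def ca_0_S : List (List ℕ) := [ca_0_S0]
noncomputable def ca_0_defs : List ℕ := [(nat_lit 0x60001000a0000c0090000c0060000a0040000900a000080050000800b000070040000700a00006005000060030000600b00005004000050030000400400003003000020030000000800007008000060000000500000004009000030090000200100001001000000050000000000000)]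
noncomputable def ca_0_recs : List ℕ := [(nat_lit 0x40000800009ff0000900015ff0000800017050000700012ff00012000130a0000700011ff000110001401000190001b04000190000f0a0000e00019090000e0001a070000d00019060000c0000b010000c00018090001200016010000f00014010000d00010080000b0000d000000a0000b)]
noncomputable def ca_0_T : List (List ℕ × ℕ) := [([5,1,9,0,8,4,9,1,8,0], (nat_lit 0xc00001400001c00002400004900002700001f00001700000f000007))]
noncomputable def ca_0_D : H26.Dag := ⟨[1,0,3,2,5,4,7,6,9,8,11,10], [[0,1],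
  [1,0],
  [2,3],
  [3,2],
  [4,5],
  [5,4],
  [6,7],
  [7,6],
  [8,9],
  [9,8],
  [10,11],
  [11,10],
  [7,2,5,1,4,0],
  [3,1,2,0],
  [1,7,0,6],
  [9,7,8,6],
  [11,5,9,4,8],
  [1,11,0,10],
  [9,11,8,10],
  [5,11,4,10],
  [3,9,2,8]], [], ca_0_defs, ca_0_recs⟩
theorem ca_0_c : ca_0_D.check ca_0_S ca_0_T = true := by decide +kernel
theorem ca_0 {G : Type*} [Group G] {g : ℕ → G} (hR : Rels g ca_r_R) {H : Subgroup G}
    (hH : ∀ k ∈ [], g k ∈ H) : evA g [5,1,9,0,8,4,9,1,8,0] ∈ H :=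
  mem_dag (K := 12) (J := [0,1,2,3,4,5,6,7,8,9,10,11,12,13,14,17,18,19,20,21,23]) (D := ca_0_D) (by decide +kernel) ca_0_c (by decide +kernel) hR hH
theorem ca {G : Type*} [Group G] {d w a y q v : G}
    (e : d * a * d⁻¹ = y * w⁻¹ * a)
    (dw : d * w = w * d)
    (h1 : y * d = d * y)
    (h2 : y * w = w * y)
    (h3 : y * a = a * y)
    (h4 : y * q = q * y)
    (h5 : ⁅q, a⁆ = v)
    (h6 : v * d = d * v)
    (h7 : v * q = q * v)
    (h8 : v * a = a * v)
    (h9 : v * w = w * v)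
    (qw : q * w = w * q) :
    ⁅d, q⁆ * a = a * ⁅d, q⁆ :=
  mul_inv_eq_one.1 ((evA_eq_tm (InvI.nil : InvI [d, w, a, y, q, v] []) [(.v (nat_lit 0)), (.inv (.v (nat_lit 0))), (.v (nat_lit 1)), (.inv (.v (nat_lit 1))), (.v (nat_lit 2)), (.inv (.v (nat_lit 2))), (.v (nat_lit 3)), (.inv (.v (nat_lit 3))), (.v (nat_lit 4)), (.inv (.v (nat_lit 4))), (.v (nat_lit 5)), (.inv (.v (nat_lit 5)))] [5,1,9,0,8,4,9,1,8,0] (.mul (.mul (.mul (.mul (.mul (.v (nat_lit 0)) (.v (nat_lit 4))) (.inv (.v (nat_lit 0)))) (.inv (.v (nat_lit 4)))) (.v (nat_lit 2))) (.inv (.mul (.v (nat_lit 2)) (.mul (.mul (.mul (.v (nat_lit 0)) (.v (nat_lit 4))) (.inv (.v (nat_lit 0)))) (.inv (.v (nat_lit 4))))))) (by decide +kernel)).symm.trans (Subgroup.mem_bot.1 (ca_0 (ca_r e dw h1 h2 h3 h4 h5 h6 h7 h8 h9 qw) (H := ⊥) (List.forall_mem_nil _))))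
noncomputable def wc_r_R : List (List ℕ) := [[0,1],
  [1,0],
  [2,3],
  [3,2],
  [4,5],
  [5,4],
  [6,7],
  [7,6],
  [8,9],
  [9,8],
  [10,11],
  [11,10],
  [7,2,5,1,4,0],
  [3,1,2,0],
  [1,7,0,6],
  [3,7,2,6],
  [5,7,4,6],
  [9,7,8,6],
  [11,5,9,4,8],
  [1,11,0,10],
  [9,11,8,10],
  [5,11,4,10],
  [3,11,2,10],
  [1,9,0,8]]
theorem wc_r {G : Type*} [Group G] {d w a y q v : G}
    (e : d * a * d⁻¹ = y * w⁻¹ * a)
    (dw : d * w = w * d)
    (h1 : y * d = d * y)
    (h2 : y * w = w * y)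
    (h3 : y * a = a * y)
    (h4 : y * q = q * y)
    (h5 : ⁅q, a⁆ = v)
    (h6 : v * d = d * v)
    (h7 : v * q = q * v)
    (h8 : v * a = a * v)
    (h9 : v * w = w * v)
    (qw : q * d = d * q) :
    Rels (nthG [d, d⁻¹, w, w⁻¹, a, a⁻¹, y, y⁻¹, q, q⁻¹, v, v⁻¹]) wc_r_R :=
  rels_of_eqs (InvI.nil : InvI [d, w, a, y, q, v] [])
    (AllEq.append (show AllEq [d, w, a, y, q, v] [((.mul (.mul (.v (nat_lit 0)) (.v (nat_lit 2))) (.inv (.v (nat_lit 0)))), (.mul (.mul (.v (nat_lit 3)) (.inv (.v (nat_lit 1)))) (.v (nat_lit 2))))] from ⟨e, trivial⟩)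
    (AllEq.append (show AllEq [d, w, a, y, q, v] [((.mul (.v (nat_lit 0)) (.v (nat_lit 1))), (.mul (.v (nat_lit 1)) (.v (nat_lit 0))))] from ⟨dw, trivial⟩)
    (AllEq.append (show AllEq [d, w, a, y, q, v] [((.mul (.v (nat_lit 3)) (.v (nat_lit 0))), (.mul (.v (nat_lit 0)) (.v (nat_lit 3))))] from ⟨h1, trivial⟩)
    (AllEq.append (show AllEq [d, w, a, y, q, v] [((.mul (.v (nat_lit 3)) (.v (nat_lit 1))), (.mul (.v (nat_lit 1)) (.v (nat_lit 3))))] from ⟨h2, trivial⟩)
    (AllEq.append (show AllEq [d, w, a, y, q, v] [((.mul (.v (nat_lit 3)) (.v (nat_lit 2))), (.mul (.v (nat_lit 2)) (.v (nat_lit 3))))] from ⟨h3, trivial⟩)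
    (AllEq.append (show AllEq [d, w, a, y, q, v] [((.mul (.v (nat_lit 3)) (.v (nat_lit 4))), (.mul (.v (nat_lit 4)) (.v (nat_lit 3))))] from ⟨h4, trivial⟩)
    (AllEq.append (show AllEq [d, w, a, y, q, v] [((.mul (.mul (.mul (.v (nat_lit 4)) (.v (nat_lit 2))) (.inv (.v (nat_lit 4)))) (.inv (.v (nat_lit 2)))), (.v (nat_lit 5)))] from ⟨h5, trivial⟩)
    (AllEq.append (show AllEq [d, w, a, y, q, v] [((.mul (.v (nat_lit 5)) (.v (nat_lit 0))), (.mul (.v (nat_lit 0)) (.v (nat_lit 5))))] from ⟨h6, trivial⟩)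
    (AllEq.append (show AllEq [d, w, a, y, q, v] [((.mul (.v (nat_lit 5)) (.v (nat_lit 4))), (.mul (.v (nat_lit 4)) (.v (nat_lit 5))))] from ⟨h7, trivial⟩)
    (AllEq.append (show AllEq [d, w, a, y, q, v] [((.mul (.v (nat_lit 5)) (.v (nat_lit 2))), (.mul (.v (nat_lit 2)) (.v (nat_lit 5))))] from ⟨h8, trivial⟩)
    (AllEq.append (show AllEq [d, w, a, y, q, v] [((.mul (.v (nat_lit 5)) (.v (nat_lit 1))), (.mul (.v (nat_lit 1)) (.v (nat_lit 5))))] from ⟨h9, trivial⟩)
    (show AllEq [d, w, a, y, q, v] [((.mul (.v (nat_lit 4)) (.v (nat_lit 0))), (.mul (.v (nat_lit 0)) (.v (nat_lit 4))))] from ⟨qw, trivial⟩))))))))))))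
    [(.v (nat_lit 0)), (.inv (.v (nat_lit 0))), (.v (nat_lit 1)), (.inv (.v (nat_lit 1))), (.v (nat_lit 2)), (.inv (.v (nat_lit 2))), (.v (nat_lit 3)), (.inv (.v (nat_lit 3))), (.v (nat_lit 4)), (.inv (.v (nat_lit 4))), (.v (nat_lit 5)), (.inv (.v (nat_lit 5)))] (by decide +kernel)
noncomputable def wc_0_S0 : List ℕ := [nat_lit 0x2700000700001c00801e, nat_lit 0x2b00000700002000e024, nat_lit 0x3300000b00001c00801a, nat_lit 0x3f00000f00002800801a, nat_lit 0x4700000f00002c00e028, nat_lit 0x4b00001300001c00601c, nat_lit 0x4f000013000020000026, nat_lit 0x4f000013000008000024002020, nat_lit 0x5300001700001c00801c, nat_lit 0x5f00002300002800601c, nat_lit 0x6300000200005800e024, nat_lit 0x6700000600005c00801e, nat_lit 0x6b00002f00003400000a00002100a018, nat_lit 0x7300003b00004400e02a, nat_lit 0x7700003b00004800e022, nat_lit 0x7b00000e00006400e028, nat_lit 0x7f00001200006800801a, nat_lit 0x83000016000058000026, nat_lit 0x83000016000001000025002020,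 nat_lit 0x1e00006000004900201e, nat_lit 0x4500004d00001a00005c00a01c, nat_lit 0x2a00005200002d000010, nat_lit 0x3e000056000041000004, nat_lit 0x5a00007f00000c, nat_lit 0x8700002200005800002900c020, nat_lit 0x8b00003200008800802a, nat_lit 0x3a00005d00003e000061000065006018, nat_lit 0x6f00006c00008c000069002020, nat_lit 0x7300007800006d00006f00c024, nat_lit 0x30000071000036000002, nat_lit 0x37000076000043000010, nat_lit 0x79000037000010]
noncomputable def wc_0_S : List (List ℕ) := [wc_0_S0]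
noncomputable def wc_0_defs : List ℕ := [(nat_lit 0x90001a0090001400a000120070001100a0000f00a0000e0080000e00a0000b0050000b0070000a00a00009007000080070000700a000060070000500a000040070000400a0000300800003007000030010000300900002007000020010000200a00001007000010040000100a0000000700000005000000040000000300001003000000090000000000000)]
noncomputable def wc_0_recs : List ℕ := [(nat_lit 0x80000200003ff000030000dff0001000002ff0000b0001c090001d0001b05000220001d00000210002204000180002106000110001eff0001f0001eff0001900018ff000160001507000200001309000170002005000150002002000190001f02000180001e00000110001d00000100001c00000140001a080001600019080001500018050000900017040000600014090000800013050000700013050000600012020000a0001102000090000f02000060000c08000070000a080000600009)]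
noncomputable def wc_0_T : List (List ℕ × ℕ) := [([9,3,8,2], (nat_lit 0xc00007d00000f000007))]
noncomputable def wc_0_D : H26.Dag := ⟨[1,0,3,2,5,4,7,6,9,8,11,10], [[0,1],
  [1,0],
  [2,3],
  [3,2],
  [4,5],
  [5,4],
  [6,7],
  [7,6],
  [8,9],
  [9,8],
  [10,11],
  [11,10],
  [7,2,5,1,4,0],
  [3,7,2,6],
  [5,7,4,6],
  [9,7,8,6],
  [11,5,9,4,8],
  [1,11,0,10],
  [9,11,8,10],
  [5,11,4,10],
  [3,11,2,10],
  [1,9,0,8]], [], wc_0_defs, wc_0_recs⟩
theorem wc_0_c : wc_0_D.check wc_0_S wc_0_T = true := by decide +kernel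
theorem wc_0 {G : Type*} [Group G] {g : ℕ → G} (hR : Rels g wc_r_R) {H : Subgroup G}
    (hH : ∀ k ∈ [], g k ∈ H) : evA g [9,3,8,2] ∈ H :=
  mem_dag (K := 12) (J := [0,1,2,3,4,5,6,7,8,9,10,11,12,15,16,17,18,19,20,21,22,23]) (D := wc_0_D) (by decide +kernel) wc_0_c (by decide +kernel) hR hH
theorem wc {G : Type*} [Group G] {d w a y q v : G}
    (e : d * a * d⁻¹ = y * w⁻¹ * a)
    (dw : d * w = w * d)
    (h1 : y * d = d * y)
    (h2 : y * w = w * y)
    (h3 : y * a = a * y)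
    (h4 : y * q = q * y)
    (h5 : ⁅q, a⁆ = v)
    (h6 : v * d = d * v)
    (h7 : v * q = q * v)
    (h8 : v * a = a * v)
    (h9 : v * w = w * v)
    (qw : q * d = d * q) :
    w * q = q * w :=
  mul_inv_eq_one.1 ((evA_eq_tm (InvI.nil : InvI [d, w, a, y, q, v] []) [(.v (nat_lit 0)), (.inv (.v (nat_lit 0))), (.v (nat_lit 1)), (.inv (.v (nat_lit 1))), (.v (nat_lit 2)), (.inv (.v (nat_lit 2))), (.v (nat_lit 3)), (.inv (.v (nat_lit 3))), (.v (nat_lit 4)), (.inv (.v (nat_lit 4))), (.v (nat_lit 5)), (.inv (.v (nat_lit 5)))] [9,3,8,2] (.mul (.mul (.v (nat_lit 1)) (.v (nat_lit 4))) (.inv (.mul (.v (nat_lit 4)) (.v (nat_lit 1))))) (by decide +kernel)).symm.trans (Subgroup.mem_bot.1 (wc_0 (wc_r e dw h1 h2 h3 h4 h5 h6 h7 h8 h9 qw) (H := ⊥) (List.forall_mem_nil _))))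
noncomputable def cube_r_R : List (List ℕ) := [[0,1],
  [1,0],
  [2,3],
  [3,2],
  [4,5],
  [5,4],
  [5,3,1,2,0],
  [1,5,0,4],
  [3,5,2,4],
  [4,4,4],
  [2,2,2]]
theorem cube_r {G : Type*} [Group G] {d q y : G}
    (e : ⁅d, q⁆ = y)
    (h1 : y * d = d * y)
    (h2 : y * q = q * y)
    (h3 : y ^ 3 = 1)
    (h4 : q ^ 3 = 1) :
    Rels (nthG [d, d⁻¹, q, q⁻¹, y, y⁻¹]) cube_r_R :=
  rels_of_eqs (InvI.nil : InvI [d, q, y] [])
    (AllEq.append (show AllEq [d, q, y] [((.mul (.mul (.mul (.v (nat_lit 0)) (.v (nat_lit 1))) (.inv (.v (nat_lit 0)))) (.inv (.v (nat_lit 1)))), (.v (nat_lit 2)))] from ⟨e, trivial⟩)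
    (AllEq.append (show AllEq [d, q, y] [((.mul (.v (nat_lit 2)) (.v (nat_lit 0))), (.mul (.v (nat_lit 0)) (.v (nat_lit 2))))] from ⟨h1, trivial⟩)
    (AllEq.append (show AllEq [d, q, y] [((.mul (.v (nat_lit 2)) (.v (nat_lit 1))), (.mul (.v (nat_lit 1)) (.v (nat_lit 2))))] from ⟨h2, trivial⟩)
    (AllEq.append (show AllEq [d, q, y] [((.pw (.v (nat_lit 2)) (nat_lit 3)), .one)] from ⟨h3, trivial⟩)
    (show AllEq [d, q, y] [((.pw (.v (nat_lit 1)) (nat_lit 3)), .one)] from ⟨h4, trivial⟩)))))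
    [(.v (nat_lit 0)), (.inv (.v (nat_lit 0))), (.v (nat_lit 1)), (.inv (.v (nat_lit 1))), (.v (nat_lit 2)), (.inv (.v (nat_lit 2)))] (by decide +kernel)
noncomputable def cube_0_S0 : List ℕ := [nat_lit 0x27000024006012, nat_lit 0x2b00000700002000e00e, nat_lit 0x1300000b00002000000500c00c, nat_lit 0x2700002c00000900a010, nat_lit 0x1b00000d000002004010, nat_lit 0x1700000f00002400001101000c]
noncomputable def cube_0_S : List (List ℕ) := [cube_0_S0]
noncomputable def cube_0_defs : List ℕ := [(nat_lit 0x40000100300001002000010040000000300004002000030010000200100001003000000010000000000000)]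
noncomputable def cube_0_recs : List ℕ := [(nat_lit 0x600005050000800006040000400009020000a0000400000070000a030000800009)]
noncomputable def cube_0_T : List (List ℕ × ℕ) := [([1,1,2,0,2,0,2], (nat_lit 0xc00001400001c00001500001700000f000007))]
noncomputable def cube_0_D : H26.Dag := ⟨[1,0,3,2,5,4], [[0,1],
  [1,0],
  [2,3],
  [3,2],
  [4,5],
  [5,4],
  [5,3,1,2,0],
  [1,5,0,4],
  [3,5,2,4],
  [2,2,2]], [], cube_0_defs, cube_0_recs⟩
theorem cube_0_c : cube_0_D.check cube_0_S cube_0_T = true := by decide +kernel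
theorem cube_0 {G : Type*} [Group G] {g : ℕ → G} (hR : Rels g cube_r_R) {H : Subgroup G}
    (hH : ∀ k ∈ [], g k ∈ H) : evA g [1,1,2,0,2,0,2] ∈ H :=
  mem_dag (K := 6) (J := [0,1,2,3,4,5,6,7,8,10]) (D := cube_0_D) (by decide +kernel) cube_0_c (by decide +kernel) hR hH
noncomputable def cube_1_S0 : List ℕ := [nat_lit 0x1f00000700000c00001400400c, nat_lit 0x23000018006014, nat_lit 0x2b000028006012, nat_lit 0x2b00000f00002000600e, nat_lit 0x2f00000100000d00000a00e00c, nat_lit 0x2300002800001100a010, nat_lit 0x1b00003000001500000600a00c]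
noncomputable def cube_1_S : List (List ℕ) := [cube_1_S0]
noncomputable def cube_1_defs : List ℕ := [(nat_lit 0x40050000300400003003000030050000100300004002000030000000200000001003000000000000000000000)]
noncomputable def cube_1_recs : List ℕ := [(nat_lit 0x500006040000b0000802000090000b01000070000a05000090000a030000500008030000400007)]
noncomputable def cube_1_T : List (List ℕ × ℕ) := [([0,0,2,1,2,1,2], (nat_lit 0xc00001400001c00001a00001700000f000007))]
noncomputable def cube_1_D : H26.Dag := ⟨[1,0,3,2,5,4], [[0,1],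
  [1,0],
  [2,3],
  [3,2],
  [4,5],
  [5,4],
  [5,3,1,2,0],
  [1,5,0,4],
  [3,5,2,4],
  [4,4,4],
  [2,2,2]], [], cube_1_defs, cube_1_recs⟩
theorem cube_1_c : cube_1_D.check cube_1_S cube_1_T = true := by decide +kernel
theorem cube_1 {G : Type*} [Group G] {g : ℕ → G} (hR : Rels g cube_r_R) {H : Subgroup G}
    (hH : ∀ k ∈ [], g k ∈ H) : evA g [0,0,2,1,2,1,2] ∈ H :=
  mem_dag (K := 6) (J := [0,1,2,3,4,5,6,7,8,9,10]) (D := cube_1_D) (by decide +kernel) cube_1_c (by decide +kernel) hR hH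
theorem cube {G : Type*} [Group G] {d q y : G}
    (e : ⁅d, q⁆ = y)
    (h1 : y * d = d * y)
    (h2 : y * q = q * y)
    (h3 : y ^ 3 = 1)
    (h4 : q ^ 3 = 1) :
    (q * d) ^ 3 = d ^ 3 ∧ (q * d⁻¹) ^ 3 = (d ^ 3)⁻¹ :=
  ⟨mul_inv_eq_one.1 ((evA_eq_tm (InvI.nil : InvI [d, q, y] []) [(.v (nat_lit 0)), (.inv (.v (nat_lit 0))), (.v (nat_lit 1)), (.inv (.v (nat_lit 1))), (.v (nat_lit 2)), (.inv (.v (nat_lit 2)))] [1,1,2,0,2,0,2] (.mul (.pw (.mul (.v (nat_lit 1)) (.v (nat_lit 0))) (nat_lit 3)) (.inv (.pw (.v (nat_lit 0)) (nat_lit 3)))) (by decide +kernel)).symm.trans (Subgroup.mem_bot.1 (cube_0 (cube_r e h1 h2 h3 h4) (H := ⊥) (List.forall_mem_nil _)))),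
   mul_inv_eq_one.1 ((evA_eq_tm (InvI.nil : InvI [d, q, y] []) [(.v (nat_lit 0)), (.inv (.v (nat_lit 0))), (.v (nat_lit 1)), (.inv (.v (nat_lit 1))), (.v (nat_lit 2)), (.inv (.v (nat_lit 2)))] [0,0,2,1,2,1,2] (.mul (.pw (.mul (.v (nat_lit 1)) (.inv (.v (nat_lit 0)))) (nat_lit 3)) (.inv (.inv (.pw (.v (nat_lit 0)) (nat_lit 3))))) (by decide +kernel)).symm.trans (Subgroup.mem_bot.1 (cube_1 (cube_r e h1 h2 h3 h4) (H := ⊥) (List.forall_mem_nil _))))⟩
noncomputable def nrm_r_R : List (List ℕ) := [[0,1],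
  [1,0],
  [2,3],
  [3,2],
  [4,5],
  [5,4],
  [6,7],
  [7,6],
  [8,8],
  [8,1,8,0],
  [5,2,8,2,8],
  [7,3,1,2,0],
  [4,4,4],
  [6,6,6],
  [1,5,0,4],
  [3,5,2,4],
  [8,5,8,4],
  [1,7,0,6],
  [3,7,2,6],
  [8,7,8,6],
  [7,5,6,4]]
theorem nrm_r {G : Type*} [Group G] {d c y v t : G}
    (tt : t * t = 1)
    (td : d * t = t * d)
    (e1 : t * c * t⁻¹ * c = y)
    (e2 : ⁅d, c⁆ = v)
    (h1 : y ^ 3 = 1)
    (h2 : v ^ 3 = 1)
    (k0 : y * d = d * y)
    (k1 : y * c = c * y)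
    (k2 : y * t = t * y)
    (k3 : v * d = d * v)
    (k4 : v * c = c * v)
    (k5 : v * t = t * v)
    (k6 : y * v = v * y) :
    Rels (nthG [d, d⁻¹, c, c⁻¹, y, y⁻¹, v, v⁻¹, t]) nrm_r_R :=
  rels_of_eqs ((InvI.cons tt InvI.nil) : InvI [d, c, y, v, t] [(nat_lit 4)])
    (AllEq.append (show AllEq [d, c, y, v, t] [((.mul (.v (nat_lit 4)) (.v (nat_lit 4))), .one)] from ⟨tt, trivial⟩)
    (AllEq.append (show AllEq [d, c, y, v, t] [((.mul (.v (nat_lit 0)) (.v (nat_lit 4))), (.mul (.v (nat_lit 4)) (.v (nat_lit 0))))] from ⟨td, trivial⟩)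
    (AllEq.append (show AllEq [d, c, y, v, t] [((.mul (.mul (.mul (.v (nat_lit 4)) (.v (nat_lit 1))) (.inv (.v (nat_lit 4)))) (.v (nat_lit 1))), (.v (nat_lit 2)))] from ⟨e1, trivial⟩)
    (AllEq.append (show AllEq [d, c, y, v, t] [((.mul (.mul (.mul (.v (nat_lit 0)) (.v (nat_lit 1))) (.inv (.v (nat_lit 0)))) (.inv (.v (nat_lit 1)))), (.v (nat_lit 3)))] from ⟨e2, trivial⟩)
    (AllEq.append (show AllEq [d, c, y, v, t] [((.pw (.v (nat_lit 2)) (nat_lit 3)), .one)] from ⟨h1, trivial⟩)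
    (AllEq.append (show AllEq [d, c, y, v, t] [((.pw (.v (nat_lit 3)) (nat_lit 3)), .one)] from ⟨h2, trivial⟩)
    (AllEq.append (show AllEq [d, c, y, v, t] [((.mul (.v (nat_lit 2)) (.v (nat_lit 0))), (.mul (.v (nat_lit 0)) (.v (nat_lit 2))))] from ⟨k0, trivial⟩)
    (AllEq.append (show AllEq [d, c, y, v, t] [((.mul (.v (nat_lit 2)) (.v (nat_lit 1))), (.mul (.v (nat_lit 1)) (.v (nat_lit 2))))] from ⟨k1, trivial⟩)
    (AllEq.append (show AllEq [d, c, y, v, t] [((.mul (.v (nat_lit 2)) (.v (nat_lit 4))), (.mul (.v (nat_lit 4)) (.v (nat_lit 2))))] from ⟨k2, trivial⟩)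
    (AllEq.append (show AllEq [d, c, y, v, t] [((.mul (.v (nat_lit 3)) (.v (nat_lit 0))), (.mul (.v (nat_lit 0)) (.v (nat_lit 3))))] from ⟨k3, trivial⟩)
    (AllEq.append (show AllEq [d, c, y, v, t] [((.mul (.v (nat_lit 3)) (.v (nat_lit 1))), (.mul (.v (nat_lit 1)) (.v (nat_lit 3))))] from ⟨k4, trivial⟩)
    (AllEq.append (show AllEq [d, c, y, v, t] [((.mul (.v (nat_lit 3)) (.v (nat_lit 4))), (.mul (.v (nat_lit 4)) (.v (nat_lit 3))))] from ⟨k5, trivial⟩)
    (show AllEq [d, c, y, v, t] [((.mul (.v (nat_lit 2)) (.v (nat_lit 3))), (.mul (.v (nat_lit 3)) (.v (nat_lit 2))))] from ⟨k6, trivial⟩)))))))))))))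
    [(.v (nat_lit 0)), (.inv (.v (nat_lit 0))), (.v (nat_lit 1)), (.inv (.v (nat_lit 1))), (.v (nat_lit 2)), (.inv (.v (nat_lit 2))), (.v (nat_lit 3)), (.inv (.v (nat_lit 3))), (.v (nat_lit 4))] (by decide +kernel)
noncomputable def nrm_0_S0 : List ℕ := [nat_lit 0x1b00000800001000e016, nat_lit 0x1f00001c006014, nat_lit 0x1f00000c000014008018, nat_lit 0x9000006000002000018006012]
noncomputable def nrm_0_S : List (List ℕ) := [nrm_0_S0]
noncomputable def nrm_0_defs : List ℕ := [(nat_lit 0x50000000400000008000030050000200400001008000000020000000000000)]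
noncomputable def nrm_0_recs : List ℕ := [(nat_lit 0x30000500004080000400007050000600007020000300006)]
noncomputable def nrm_0_T : List (List ℕ × ℕ) := [([2,4,8,2,4,8], (nat_lit 0xc00001400000e00001700000f000007))]
noncomputable def nrm_0_D : H26.Dag := ⟨[1,0,3,2,5,4,7,6,8], [[0,1],
  [1,0],
  [2,3],
  [3,2],
  [4,5],
  [5,4],
  [6,7],
  [7,6],
  [8,8],
  [5,2,8,2,8],
  [4,4,4],
  [3,5,2,4],
  [8,5,8,4]], [], nrm_0_defs, nrm_0_recs⟩
theorem nrm_0_c : nrm_0_D.check nrm_0_S nrm_0_T = true := by decide +kernel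
theorem nrm_0 {G : Type*} [Group G] {g : ℕ → G} (hR : Rels g nrm_r_R) {H : Subgroup G}
    (hH : ∀ k ∈ [], g k ∈ H) : evA g [2,4,8,2,4,8] ∈ H :=
  mem_dag (K := 9) (J := [0,1,2,3,4,5,6,7,8,10,12,15,16]) (D := nrm_0_D) (by decide +kernel) nrm_0_c (by decide +kernel) hR hH
noncomputable def nrm_1_S0 : List ℕ := [nat_lit 0x1300000b00000800801c, nat_lit 0x1b000008004018, nat_lit 0x2700000b00001c00e01c, nat_lit 0x2b00000f00000500801e, nat_lit 0x3300003000601a, nat_lit 0x3300000f000020008022, nat_lit 0x3b00001300002400a01e, nat_lit 0x3b00000200002000001500a016, nat_lit 0x1700003400001d004020, nat_lit 0x3f00003c000021000022, nat_lit 0x4300000d00002b00003800c014, nat_lit 0x47000019004018, nat_lit 0x4700002300002800e01e, nat_lit 0x4b00000a00004400c012, nat_lit 0x4f00002f000038004024, nat_lit 0x53000012000050004024, nat_lit 0x5300003300003800c024, nat_lit 0x5700001e00005400c012, nat_lit 0x5700002d00003200004c006014, nat_lit 0x3a000029000035000049000046002016,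 nat_lit 0x4e00003e00004e00004200000e, nat_lit 0x3800005100004e000053000010, nat_lit 0x1700005600001d000000, nat_lit 0x2600005a00003b000006, nat_lit 0x5d000026000006]
noncomputable def nrm_1_S : List (List ℕ) := [nrm_1_S0]
noncomputable def nrm_1_defs : List ℕ := [(nat_lit 0x80000e0080000c0080000b00800009004000080080000600600004003000040080000300700003006000030050000300400002003000020070000100400000001000030050000200300001001000000050000000000000)]
noncomputable def nrm_1_recs : List ℕ := [(nat_lit 0x30000500004ff000040000fff0000e00005ff0000c00003ff0000d00013ff0001400013030001200015000001400015060000d00014070001300014070000d00013000001000012020000900011040000e00011020000d0001003000050000f070000e00005000000c0000e04000080000e02000070000c070000b0000c02000060000a000000600009040000100006000000100004)]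
noncomputable def nrm_1_T : List (List ℕ × ℕ) := [([5,3,1,2,4,0], (nat_lit 0xc00001400006200001700000f000007))]
noncomputable def nrm_1_D : H26.Dag := ⟨[1,0,3,2,5,4,7,6,8], [[0,1],
  [1,0],
  [2,3],
  [3,2],
  [4,5],
  [5,4],
  [6,7],
  [7,6],
  [8,8],
  [8,1,8,0],
  [5,2,8,2,8],
  [7,3,1,2,0],
  [4,4,4],
  [6,6,6],
  [1,5,0,4],
  [3,5,2,4],
  [1,7,0,6],
  [3,7,2,6],
  [8,7,8,6]], [], nrm_1_defs, nrm_1_recs⟩
theorem nrm_1_c : nrm_1_D.check nrm_1_S nrm_1_T = true := by decide +kernel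
theorem nrm_1 {G : Type*} [Group G] {g : ℕ → G} (hR : Rels g nrm_r_R) {H : Subgroup G}
    (hH : ∀ k ∈ [], g k ∈ H) : evA g [5,3,1,2,4,0] ∈ H :=
  mem_dag (K := 9) (J := [0,1,2,3,4,5,6,7,8,9,10,11,12,13,14,15,17,18,19]) (D := nrm_1_D) (by decide +kernel) nrm_1_c (by decide +kernel) hR hH
theorem nrm {G : Type*} [Group G] {d c y v t : G}
    (tt : t * t = 1)
    (td : d * t = t * d)
    (e1 : t * c * t⁻¹ * c = y)
    (e2 : ⁅d, c⁆ = v)
    (h1 : y ^ 3 = 1)
    (h2 : v ^ 3 = 1)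
    (k0 : y * d = d * y)
    (k1 : y * c = c * y)
    (k2 : y * t = t * y)
    (k3 : v * d = d * v)
    (k4 : v * c = c * v)
    (k5 : v * t = t * v)
    (k6 : y * v = v * y) :
    t * (y * c) * t⁻¹ = (y * c)⁻¹ ∧ d * (y * c) = y * c * d :=
  ⟨mul_inv_eq_one.1 ((evA_eq_tm ((InvI.cons tt InvI.nil) : InvI [d, c, y, v, t] [(nat_lit 4)]) [(.v (nat_lit 0)), (.inv (.v (nat_lit 0))), (.v (nat_lit 1)), (.inv (.v (nat_lit 1))), (.v (nat_lit 2)), (.inv (.v (nat_lit 2))), (.v (nat_lit 3)), (.inv (.v (nat_lit 3))), (.v (nat_lit 4))] [2,4,8,2,4,8] (.mul (.mul (.mul (.v (nat_lit 4)) (.mul (.v (nat_lit 2)) (.v (nat_lit 1)))) (.inv (.v (nat_lit 4)))) (.inv (.inv (.mul (.v (nat_lit 2)) (.v (nat_lit 1)))))) (by decide +kernel)).symm.trans (Subgroup.mem_bot.1 (nrm_0 (nrm_r tt td e1 e2 h1 h2 k0 k1 k2 k3 k4 k5 k6) (H := ⊥) (List.forall_mem_nil _)))),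
   mul_inv_eq_one.1 ((evA_eq_tm ((InvI.cons tt InvI.nil) : InvI [d, c, y, v, t] [(nat_lit 4)]) [(.v (nat_lit 0)), (.inv (.v (nat_lit 0))), (.v (nat_lit 1)), (.inv (.v (nat_lit 1))), (.v (nat_lit 2)), (.inv (.v (nat_lit 2))), (.v (nat_lit 3)), (.inv (.v (nat_lit 3))), (.v (nat_lit 4))] [5,3,1,2,4,0] (.mul (.mul (.v (nat_lit 0)) (.mul (.v (nat_lit 2)) (.v (nat_lit 1)))) (.inv (.mul (.mul (.v (nat_lit 2)) (.v (nat_lit 1))) (.v (nat_lit 0))))) (by decide +kernel)).symm.trans (Subgroup.mem_bot.1 (nrm_1 (nrm_r tt td e1 e2 h1 h2 k0 k1 k2 k3 k4 k5 k6) (H := ⊥) (List.forall_mem_nil _))))⟩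
noncomputable def adjp_r_R : List (List ℕ) := [[0,1],
  [1,0],
  [2,3],
  [3,2],
  [4,5],
  [5,4],
  [6,7],
  [7,6],
  [8,8],
  [8,0,0],
  [2,2,2],
  [2,8,2,8],
  [4,8,4,8],
  [5,3,4,2],
  [1,3,0,3,1,2,0,2],
  [7,1,5,0,3,1,4,0,2],
  [6,6,6],
  [3,7,2,6],
  [5,7,4,6],
  [1,7,0,6],
  [7,1,5,0,5,1,4,0,4]]
theorem adjp_r {G : Type*} [Group G] {m w c z t : G}
    (tt : t * t = 1)
    (mm : m * m = t)
    (w3 : w ^ 3 = 1)
    (tw : t * w * t⁻¹ = w⁻¹)
    (tc : t * c * t⁻¹ = c⁻¹)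
    (wc : w * c = c * w)
    (wa : ⁅w, m * w * m⁻¹⁆ = 1)
    (wf : ⁅w, m * c * m⁻¹⁆ = z)
    (z3 : z ^ 3 = 1)
    (zw : z * w = w * z)
    (zc : z * c = c * z)
    (zm : z * m = m * z)
    (cf : ⁅c, m * c * m⁻¹⁆ = z) :
    Rels (nthG [m, m⁻¹, w, w⁻¹, c, c⁻¹, z, z⁻¹, t]) adjp_r_R :=
  rels_of_eqs ((InvI.cons tt InvI.nil) : InvI [m, w, c, z, t] [(nat_lit 4)])
    (AllEq.append (show AllEq [m, w, c, z, t] [((.mul (.v (nat_lit 4)) (.v (nat_lit 4))), .one)] from ⟨tt, trivial⟩)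
    (AllEq.append (show AllEq [m, w, c, z, t] [((.mul (.v (nat_lit 0)) (.v (nat_lit 0))), (.v (nat_lit 4)))] from ⟨mm, trivial⟩)
    (AllEq.append (show AllEq [m, w, c, z, t] [((.pw (.v (nat_lit 1)) (nat_lit 3)), .one)] from ⟨w3, trivial⟩)
    (AllEq.append (show AllEq [m, w, c, z, t] [((.mul (.mul (.v (nat_lit 4)) (.v (nat_lit 1))) (.inv (.v (nat_lit 4)))), (.inv (.v (nat_lit 1))))] from ⟨tw, trivial⟩)
    (AllEq.append (show AllEq [m, w, c, z, t] [((.mul (.mul (.v (nat_lit 4)) (.v (nat_lit 2))) (.inv (.v (nat_lit 4)))), (.inv (.v (nat_lit 2))))] from ⟨tc, trivial⟩)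
    (AllEq.append (show AllEq [m, w, c, z, t] [((.mul (.v (nat_lit 1)) (.v (nat_lit 2))), (.mul (.v (nat_lit 2)) (.v (nat_lit 1))))] from ⟨wc, trivial⟩)
    (AllEq.append (show AllEq [m, w, c, z, t] [((.mul (.mul (.mul (.v (nat_lit 1)) (.mul (.mul (.v (nat_lit 0)) (.v (nat_lit 1))) (.inv (.v (nat_lit 0))))) (.inv (.v (nat_lit 1)))) (.inv (.mul (.mul (.v (nat_lit 0)) (.v (nat_lit 1))) (.inv (.v (nat_lit 0)))))), .one)] from ⟨wa, trivial⟩)
    (AllEq.append (show AllEq [m, w, c, z, t] [((.mul (.mul (.mul (.v (nat_lit 1)) (.mul (.mul (.v (nat_lit 0)) (.v (nat_lit 2))) (.inv (.v (nat_lit 0))))) (.inv (.v (nat_lit 1)))) (.inv (.mul (.mul (.v (nat_lit 0)) (.v (nat_lit 2))) (.inv (.v (nat_lit 0)))))), (.v (nat_lit 3)))] from ⟨wf, trivial⟩)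
    (AllEq.append (show AllEq [m, w, c, z, t] [((.pw (.v (nat_lit 3)) (nat_lit 3)), .one)] from ⟨z3, trivial⟩)
    (AllEq.append (show AllEq [m, w, c, z, t] [((.mul (.v (nat_lit 3)) (.v (nat_lit 1))), (.mul (.v (nat_lit 1)) (.v (nat_lit 3))))] from ⟨zw, trivial⟩)
    (AllEq.append (show AllEq [m, w, c, z, t] [((.mul (.v (nat_lit 3)) (.v (nat_lit 2))), (.mul (.v (nat_lit 2)) (.v (nat_lit 3))))] from ⟨zc, trivial⟩)
    (AllEq.append (show AllEq [m, w, c, z, t] [((.mul (.v (nat_lit 3)) (.v (nat_lit 0))), (.mul (.v (nat_lit 0)) (.v (nat_lit 3))))] from ⟨zm, trivial⟩)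
    (show AllEq [m, w, c, z, t] [((.mul (.mul (.mul (.v (nat_lit 2)) (.mul (.mul (.v (nat_lit 0)) (.v (nat_lit 2))) (.inv (.v (nat_lit 0))))) (.inv (.v (nat_lit 2)))) (.inv (.mul (.mul (.v (nat_lit 0)) (.v (nat_lit 2))) (.inv (.v (nat_lit 0)))))), (.v (nat_lit 3)))] from ⟨cf, trivial⟩)))))))))))))
    [(.v (nat_lit 0)), (.inv (.v (nat_lit 0))), (.v (nat_lit 1)), (.inv (.v (nat_lit 1))), (.v (nat_lit 2)), (.inv (.v (nat_lit 2))), (.v (nat_lit 3)), (.inv (.v (nat_lit 3))), (.v (nat_lit 4))] (by decide +kernel)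
noncomputable def adjp_0_S0 : List ℕ := [nat_lit 0x33000008000012, nat_lit 0x3f000007000038008024, nat_lit 0x4700004400a012, nat_lit 0x4b00000b000038008022, nat_lit 0x4f000044002012, nat_lit 0x5300000f000040008022, nat_lit 0x5700000f000001006016, nat_lit 0x5b00001c000012, nat_lit 0x5f00005c002012, nat_lit 0x5f000013000050006014, nat_lit 0x6300002000a012, nat_lit 0x6b000017000054008020, nat_lit 0x6f000017000058006014, nat_lit 0x7700001f000068000024, nat_lit 0x7b00001f00006c006024, nat_lit 0x7f00002300001d006016, nat_lit 0x8700002700007800e022, nat_lit 0x8b00002700007c008022, nat_lit 0x8f000027000029006016, nat_lit 0x9300002b000080006014, nat_lit 0x9b00009800a012, nat_lit 0x9f00002f00008800e020, nat_lit 0xa3000098002012, nat_lit 0xa300002f000090006014, nat_lit 0xa700000200003c004014, nat_lit 0xa700001900003100e018, nat_lit 0xab000033000038006024, nat_lit 0x600006900a012, nat_lit 0xaf000005004012, nat_lit 0xb3000061006012, nat_lit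 0xb700003b000040008020, nat_lit 0xbf00000a0000bc00a014, nat_lit 0xc300004700004c008024, nat_lit 0xc7000081004012, nat_lit 0xc700000e0000b0006016, nat_lit 0xcb00001600006e006016, nat_lit 0x1a0000ac00008d002022, nat_lit 0xcf00001e000074004014, nat_lit 0xcf00003d00004d00e018, nat_lit 0xd300006300006800e024, nat_lit 0x3600009d000012, nat_lit 0xd70000d400601e, nat_lit 0xd700006300006c008024, nat_lit 0x3a0000a9000012, nat_lit 0xdb0000a9004012, nat_lit 0xdb00002e0000cc006014, nat_lit 0x320000920000b5002020, nat_lit 0xdf000095006012, nat_lit 0xe3000083000088000024, nat_lit 0xe70000c1002012, nat_lit 0xe70000420000a2006016, nat_lit 0x4a0000d40000c900c022, nat_lit 0xeb0000460000ae006016, nat_lit 0xca0000a50000d100c022, nat_lit 0xf30000560000e8006014, nat_lit 0x5e0000ce0000d900c020, nat_lit 0xf70000660000ba008022, nat_lit 0xfb0000b30000b8008024, nat_lit 0xfb0000760000f8006024, nat_lit 0xff00007d008012, nat_lit 0xff0000bb0000110000250000220000d00000bd01c01a,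 nat_lit 0xe600007a0000710000890000860000c30000c00000ed01801c, nat_lit 0x1000000f50000ea0000e20000b20000d10000d50000c601a026, nat_lit 0xef0000590000de0000da0000c60000f90001000000f20000be00c01c]
noncomputable def adjp_0_S1 : List ℕ := [nat_lit 0x990000fd0000ef00000a, nat_lit 0x94000102000051000010, nat_lit 0x10600009b000000]
noncomputable def adjp_0_S : List (List ℕ) := [adjp_0_S0, adjp_0_S1]
noncomputable def adjp_0_defs : List ℕ := [(nat_lit 0x2e0070002c0070002900800027005000250080002200800021006000200010001c0080001a00700018006000180020001600800014008000120070001100300011002000100070000e0010000e0080000d0070000c0020000c0080000b0060000b0010000b0000000b0080000a008000090070000900600009000000090080000800700007006000070030000600800005007000050060000500100005008000040000000400800003007000030080000200700002001000020000000200700001003000010070000000000000003000090030000800500007005000060000000500100004003000030030000200500001005000000010000000000000)]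
noncomputable def adjp_0_recs : List ℕ := [(nat_lit 0xff000330003b04000380002e040003f0003e02000370003f000002f0003f010003d0003e000002d0003e04000360003d060003c0002803000390003c060003a0003905000350003a06000390002305000340003901000380003901000210003801000330003707000360001b03000320003600000350003608000350001e000001a0003507000340003508000340001d000001900034040002400033080001c00033070003200015050002a00032050002b00031000003000031000001200030080002e0002f020000f0002d01000290002c000000f0002b080002a0000f010000d0002a040001b00029080000e00029030002300028010002500028020002100027080002500026030001f00024050001800023040001e00022040001d0002105000160001f010001a0001e01000190001d03000150001b02000140001a080000700018030001300017010001600017080000600016050000c00015040000f00014010001000013040000d00012080001000011000000d0000f08000010000c),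
  (nat_lit 0xb0000aff000260000aff0002500024)]
noncomputable def adjp_0_T : List (List ℕ × ℕ) := [([1,5,3,0,5,3,1,2,4,0,2,4], (nat_lit 0xc00001400001c00002400002c00010a00002f00002700001f00001700000f000007))]
noncomputable def adjp_0_D : H26.Dag := ⟨[1,0,3,2,5,4,7,6,8], [[0,1],
  [1,0],
  [2,3],
  [3,2],
  [4,5],
  [5,4],
  [6,7],
  [7,6],
  [8,8],
  [8,0,0],
  [2,8,2,8],
  [4,8,4,8],
  [5,3,4,2],
  [1,3,0,3,1,2,0,2],
  [7,1,5,0,3,1,4,0,2],
  [6,6,6],
  [3,7,2,6],
  [5,7,4,6],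
  [1,7,0,6],
  [7,1,5,0,5,1,4,0,4]], [], adjp_0_defs, adjp_0_recs⟩
theorem adjp_0_c : adjp_0_D.check adjp_0_S adjp_0_T = true := by decide +kernel
theorem adjp_0 {G : Type*} [Group G] {g : ℕ → G} (hR : Rels g adjp_r_R) {H : Subgroup G}
    (hH : ∀ k ∈ [], g k ∈ H) : evA g [1,5,3,0,5,3,1,2,4,0,2,4] ∈ H :=
  mem_dag (K := 9) (J := [0,1,2,3,4,5,6,7,8,9,11,12,13,14,15,16,17,18,19,20]) (D := adjp_0_D) (by decide +kernel) adjp_0_c (by decide +kernel) hR hH
noncomputable def adjp_1_S0 : List ℕ := [nat_lit 0x1b00000c000014004014, nat_lit 0x1b00000800001000c016, nat_lit 0x17000005000002008012]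
noncomputable def adjp_1_S : List (List ℕ) := [adjp_1_S0]
noncomputable def adjp_1_defs : List ℕ := [(nat_lit 0x400000008000030050000200400001008000000020000000000000)]
noncomputable def adjp_1_recs : List ℕ := [(nat_lit 0x20000400005020000300006080000400006)]
noncomputable def adjp_1_T : List (List ℕ × ℕ) := [([2,4,8,2,4,8], (nat_lit 0xc00001400000900001700000f000007))]
noncomputable def adjp_1_D : H26.Dag := ⟨[1,0,3,2,5,4,7,6,8], [[0,1],
  [1,0],
  [2,3],
  [3,2],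
  [4,5],
  [5,4],
  [6,7],
  [7,6],
  [8,8],
  [2,8,2,8],
  [4,8,4,8],
  [5,3,4,2]], [], adjp_1_defs, adjp_1_recs⟩
theorem adjp_1_c : adjp_1_D.check adjp_1_S adjp_1_T = true := by decide +kernel
theorem adjp_1 {G : Type*} [Group G] {g : ℕ → G} (hR : Rels g adjp_r_R) {H : Subgroup G}
    (hH : ∀ k ∈ [], g k ∈ H) : evA g [2,4,8,2,4,8] ∈ H :=
  mem_dag (K := 9) (J := [0,1,2,3,4,5,6,7,8,11,12,13]) (D := adjp_1_D) (by decide +kernel) adjp_1_c (by decide +kernel) hR hH
theorem adjp {G : Type*} [Group G] {m w c z t : G}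
    (tt : t * t = 1)
    (mm : m * m = t)
    (w3 : w ^ 3 = 1)
    (tw : t * w * t⁻¹ = w⁻¹)
    (tc : t * c * t⁻¹ = c⁻¹)
    (wc : w * c = c * w)
    (wa : ⁅w, m * w * m⁻¹⁆ = 1)
    (wf : ⁅w, m * c * m⁻¹⁆ = z)
    (z3 : z ^ 3 = 1)
    (zw : z * w = w * z)
    (zc : z * c = c * z)
    (zm : z * m = m * z)
    (cf : ⁅c, m * c * m⁻¹⁆ = z) :
    ⁅c * w, m * (c * w) * m⁻¹⁆ = 1 ∧ t * (c * w) * t⁻¹ = (c * w)⁻¹ :=
  ⟨mul_inv_eq_one.1 ((evA_eq_tm ((InvI.cons tt InvI.nil) : InvI [m, w, c, z, t] [(nat_lit 4)]) [(.v (nat_lit 0)), (.inv (.v (nat_lit 0))), (.v (nat_lit 1)), (.inv (.v (nat_lit 1))), (.v (nat_lit 2)), (.inv (.v (nat_lit 2))), (.v (nat_lit 3)), (.inv (.v (nat_lit 3))), (.v (nat_lit 4))] [1,5,3,0,5,3,1,2,4,0,2,4] (.mul (.mul (.mul (.mul (.mul (.v (nat_lit 2)) (.v (nat_lit 1))) (.mul (.mul (.v (nat_lit 0)) (.mul (.v (nat_lit 2)) (.v (nat_lit 1)))) (.inv (.v (nat_lit 0))))) (.inv (.mul (.v (nat_lit 2)) (.v (nat_lit 1))))) (.inv (.mul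 (.mul (.v (nat_lit 0)) (.mul (.v (nat_lit 2)) (.v (nat_lit 1)))) (.inv (.v (nat_lit 0)))))) (.inv .one)) (by decide +kernel)).symm.trans (Subgroup.mem_bot.1 (adjp_0 (adjp_r tt mm w3 tw tc wc wa wf z3 zw zc zm cf) (H := ⊥) (List.forall_mem_nil _)))),
   mul_inv_eq_one.1 ((evA_eq_tm ((InvI.cons tt InvI.nil) : InvI [m, w, c, z, t] [(nat_lit 4)]) [(.v (nat_lit 0)), (.inv (.v (nat_lit 0))), (.v (nat_lit 1)), (.inv (.v (nat_lit 1))), (.v (nat_lit 2)), (.inv (.v (nat_lit 2))), (.v (nat_lit 3)), (.inv (.v (nat_lit 3))), (.v (nat_lit 4))] [2,4,8,2,4,8] (.mul (.mul (.mul (.v (nat_lit 4)) (.mul (.v (nat_lit 2)) (.v (nat_lit 1)))) (.inv (.v (nat_lit 4)))) (.inv (.inv (.mul (.v (nat_lit 2)) (.v (nat_lit 1)))))) (by decide +kernel)).symm.trans (Subgroup.mem_bot.1 (adjp_1 (adjp_r tt mm w3 tw tc wc wa wf z3 zw zc zm cf) (H := ⊥) (List.forall_mem_nil _))))⟩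
noncomputable def adjm_r_R : List (List ℕ) := [[0,1],
  [1,0],
  [2,3],
  [3,2],
  [4,5],
  [5,4],
  [6,7],
  [7,6],
  [8,8],
  [8,0,0],
  [2,2,2],
  [2,8,2,8],
  [4,8,4,8],
  [5,3,4,2],
  [1,3,0,3,1,2,0,2],
  [7,1,5,0,3,1,4,0,2],
  [6,6,6],
  [3,7,2,6],
  [5,7,4,6],
  [1,7,0,6],
  [6,1,5,0,5,1,4,0,4]]
theorem adjm_r {G : Type*} [Group G] {m w c z t : G}
    (tt : t * t = 1)
    (mm : m * m = t)
    (w3 : w ^ 3 = 1)
    (tw : t * w * t⁻¹ = w⁻¹)
    (tc : t * c * t⁻¹ = c⁻¹)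
    (wc : w * c = c * w)
    (wa : ⁅w, m * w * m⁻¹⁆ = 1)
    (wf : ⁅w, m * c * m⁻¹⁆ = z)
    (z3 : z ^ 3 = 1)
    (zw : z * w = w * z)
    (zc : z * c = c * z)
    (zm : z * m = m * z)
    (cf : ⁅c, m * c * m⁻¹⁆ = z⁻¹) :
    Rels (nthG [m, m⁻¹, w, w⁻¹, c, c⁻¹, z, z⁻¹, t]) adjm_r_R :=
  rels_of_eqs ((InvI.cons tt InvI.nil) : InvI [m, w, c, z, t] [(nat_lit 4)])
    (AllEq.append (show AllEq [m, w, c, z, t] [((.mul (.v (nat_lit 4)) (.v (nat_lit 4))), .one)] from ⟨tt, trivial⟩)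
    (AllEq.append (show AllEq [m, w, c, z, t] [((.mul (.v (nat_lit 0)) (.v (nat_lit 0))), (.v (nat_lit 4)))] from ⟨mm, trivial⟩)
    (AllEq.append (show AllEq [m, w, c, z, t] [((.pw (.v (nat_lit 1)) (nat_lit 3)), .one)] from ⟨w3, trivial⟩)
    (AllEq.append (show AllEq [m, w, c, z, t] [((.mul (.mul (.v (nat_lit 4)) (.v (nat_lit 1))) (.inv (.v (nat_lit 4)))), (.inv (.v (nat_lit 1))))] from ⟨tw, trivial⟩)
    (AllEq.append (show AllEq [m, w, c, z, t] [((.mul (.mul (.v (nat_lit 4)) (.v (nat_lit 2))) (.inv (.v (nat_lit 4)))), (.inv (.v (nat_lit 2))))] from ⟨tc, trivial⟩)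
    (AllEq.append (show AllEq [m, w, c, z, t] [((.mul (.v (nat_lit 1)) (.v (nat_lit 2))), (.mul (.v (nat_lit 2)) (.v (nat_lit 1))))] from ⟨wc, trivial⟩)
    (AllEq.append (show AllEq [m, w, c, z, t] [((.mul (.mul (.mul (.v (nat_lit 1)) (.mul (.mul (.v (nat_lit 0)) (.v (nat_lit 1))) (.inv (.v (nat_lit 0))))) (.inv (.v (nat_lit 1)))) (.inv (.mul (.mul (.v (nat_lit 0)) (.v (nat_lit 1))) (.inv (.v (nat_lit 0)))))), .one)] from ⟨wa, trivial⟩)
    (AllEq.append (show AllEq [m, w, c, z, t] [((.mul (.mul (.mul (.v (nat_lit 1)) (.mul (.mul (.v (nat_lit 0)) (.v (nat_lit 2))) (.inv (.v (nat_lit 0))))) (.inv (.v (nat_lit 1)))) (.inv (.mul (.mul (.v (nat_lit 0)) (.v (nat_lit 2))) (.inv (.v (nat_lit 0)))))), (.v (nat_lit 3)))] from ⟨wf, trivial⟩)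
    (AllEq.append (show AllEq [m, w, c, z, t] [((.pw (.v (nat_lit 3)) (nat_lit 3)), .one)] from ⟨z3, trivial⟩)
    (AllEq.append (show AllEq [m, w, c, z, t] [((.mul (.v (nat_lit 3)) (.v (nat_lit 1))), (.mul (.v (nat_lit 1)) (.v (nat_lit 3))))] from ⟨zw, trivial⟩)
    (AllEq.append (show AllEq [m, w, c, z, t] [((.mul (.v (nat_lit 3)) (.v (nat_lit 2))), (.mul (.v (nat_lit 2)) (.v (nat_lit 3))))] from ⟨zc, trivial⟩)
    (AllEq.append (show AllEq [m, w, c, z, t] [((.mul (.v (nat_lit 3)) (.v (nat_lit 0))), (.mul (.v (nat_lit 0)) (.v (nat_lit 3))))] from ⟨zm, trivial⟩)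
    (show AllEq [m, w, c, z, t] [((.mul (.mul (.mul (.v (nat_lit 2)) (.mul (.mul (.v (nat_lit 0)) (.v (nat_lit 2))) (.inv (.v (nat_lit 0))))) (.inv (.v (nat_lit 2)))) (.inv (.mul (.mul (.v (nat_lit 0)) (.v (nat_lit 2))) (.inv (.v (nat_lit 0)))))), (.inv (.v (nat_lit 3))))] from ⟨cf, trivial⟩)))))))))))))
    [(.v (nat_lit 0)), (.inv (.v (nat_lit 0))), (.v (nat_lit 1)), (.inv (.v (nat_lit 1))), (.v (nat_lit 2)), (.inv (.v (nat_lit 2))), (.v (nat_lit 3)), (.inv (.v (nat_lit 3))), (.v (nat_lit 4))] (by decide +kernel)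
noncomputable def adjm_0_S0 : List ℕ := [nat_lit 0x33000008000012, nat_lit 0x4300000700003800e024, nat_lit 0x4700000700003c008024, nat_lit 0x4f00004c002012, nat_lit 0x5300000f00004400e022, nat_lit 0x5700000f000048008022, nat_lit 0x5b00000f000001006016, nat_lit 0x5f00001c000012, nat_lit 0x63000060002012, nat_lit 0x63000013000050008014, nat_lit 0x6700002000a012, nat_lit 0x6b000017000054000020, nat_lit 0x6f000017000058006020, nat_lit 0x7300001700005c008014, nat_lit 0x7b00001f000070006024, nat_lit 0x7f00002300001d006016, nat_lit 0x8700002700007c008022, nat_lit 0x8b000027000029006016, nat_lit 0x9300009000a012, nat_lit 0x97000094004012, nat_lit 0x9700002b000080008014, nat_lit 0x9b00002f00008c008014, nat_lit 0x9f00000200004000a014, nat_lit 0x9f000019000035008018, nat_lit 0xa3000033000038000024, nat_lit 0x600006100a012, nat_lit 0xa70000a400601e, nat_lit 0xa700003300003c006024, nat_lit 0xa00006d00a012, nat_lit 0xab000059008012, nat_lit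 0xb3000012000066006016, nat_lit 0x1a0000a400007900c022, nat_lit 0xb7000016000072006016, nat_lit 0x7a00006900008100c022, nat_lit 0xbb00001e00007800a014, nat_lit 0xbb00003d000051008018, nat_lit 0xbf000067000070008024, nat_lit 0x3a000091000012, nat_lit 0xc300002e0000b4008014, nat_lit 0x3600007e00009900a020, nat_lit 0xc7000039002012, nat_lit 0xc70000320000b8008014, nat_lit 0x9a0000860000a500a020, nat_lit 0xcb000089006012, nat_lit 0xcf000083000088006024, nat_lit 0xd30000b1002012, nat_lit 0xd3000042000096006016, nat_lit 0x460000c00000b9002022, nat_lit 0xdb00009f0000a400e020, nat_lit 0xdb00005e00009e00e022, nat_lit 0xdf0000760000dc00e024, nat_lit 0xe30000af00000d0000250000220000bc0000ad00c01a, nat_lit 0xe70000af00004b00000b0000340000a40000c10000c901801c, nat_lit 0xb20000420000a10000a90000c50000c90000d10000e7010026, nat_lit 0xd700004d00008d0000ad0000cd0000e30000d50000b50000bd00001c, nat_lit 0x560000d90000d7000004, nat_lit 0x490000dd00009b000010,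 nat_lit 0xe100008f000002]
noncomputable def adjm_0_S : List (List ℕ) := [adjm_0_S0]
noncomputable def adjm_0_defs : List ℕ := [(nat_lit 0x10002b0000002b0060002a006000270020002400800021007000200010001d0080001b0080001a00700019003000170080001500800014003000120000000f0070000c0060000c0030000c0080000b0080000a0010000a0000000a0080000900700009000000090080000800700007002000060080000500700005006000050010000500800004000000040080000300700003006000030080000200000002007000010060000100200001007000000060000000000000002000090020000800500007005000060000000500100004002000030020000200500001005000000010000000000000)]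
noncomputable def adjm_0_recs : List ℕ := [(nat_lit 0x10000a0000bff0000b00023ff0002400026ff0002200035050002b00033040003700039030003200038000003600037040003000036020002800036070003400022050002f00034010003300034010002100033010002e00032060003100030020002d00031010001e0003106000300001c020002c00030080002f0001e000001b0002f04000250002e080001d0002e060002d0002c05000290002d060002c0001605000280002c00000270002a080002900011010000e00029070002800029080002800010010000d00028040001c00027080000f00027020002200026020001f00025000002400025080002300024050001900022040001e0002105000170001f010001b0001e02000160001c03000150001b03000140001a080000700019020001300018010001700018080000600017050000c00016040001100015040001000014010001200013000000e00011000000d0001008000010000c)]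
noncomputable def adjm_0_T : List (List ℕ × ℕ) := [([1,5,2,0,5,2,1,3,4,0,3,4], (nat_lit 0xc00001400001c00002400002c0000e500002f00002700001f00001700000f000007))]
noncomputable def adjm_0_D : H26.Dag := ⟨[1,0,3,2,5,4,7,6,8], [[0,1],
  [1,0],
  [2,3],
  [3,2],
  [4,5],
  [5,4],
  [6,7],
  [7,6],
  [8,8],
  [8,0,0],
  [2,8,2,8],
  [4,8,4,8],
  [5,3,4,2],
  [1,3,0,3,1,2,0,2],
  [7,1,5,0,3,1,4,0,2],
  [6,6,6],
  [3,7,2,6],
  [5,7,4,6],
  [1,7,0,6],
  [6,1,5,0,5,1,4,0,4]], [], adjm_0_defs, adjm_0_recs⟩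
theorem adjm_0_c : adjm_0_D.check adjm_0_S adjm_0_T = true := by decide +kernel
theorem adjm_0 {G : Type*} [Group G] {g : ℕ → G} (hR : Rels g adjm_r_R) {H : Subgroup G}
    (hH : ∀ k ∈ [], g k ∈ H) : evA g [1,5,2,0,5,2,1,3,4,0,3,4] ∈ H :=
  mem_dag (K := 9) (J := [0,1,2,3,4,5,6,7,8,9,11,12,13,14,15,16,17,18,19,20]) (D := adjm_0_D) (by decide +kernel) adjm_0_c (by decide +kernel) hR hH
noncomputable def adjm_1_S0 : List ℕ := [nat_lit 0x1b00000c000014004014, nat_lit 0x1b000008000010002016, nat_lit 0x1700000500000200e012]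
noncomputable def adjm_1_S : List (List ℕ) := [adjm_1_S0]
noncomputable def adjm_1_defs : List ℕ := [(nat_lit 0x400000008000030050000200400001008000000030000000000000)]
noncomputable def adjm_1_recs : List ℕ := [(nat_lit 0x30000400005030000300006080000400006)]
noncomputable def adjm_1_T : List (List ℕ × ℕ) := [([3,4,8,3,4,8], (nat_lit 0xc00001400000900001700000f000007))]
noncomputable def adjm_1_D : H26.Dag := ⟨[1,0,3,2,5,4,7,6,8], [[0,1],
  [1,0],
  [2,3],
  [3,2],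
  [4,5],
  [5,4],
  [6,7],
  [7,6],
  [8,8],
  [2,8,2,8],
  [4,8,4,8],
  [5,3,4,2]], [], adjm_1_defs, adjm_1_recs⟩
theorem adjm_1_c : adjm_1_D.check adjm_1_S adjm_1_T = true := by decide +kernel
theorem adjm_1 {G : Type*} [Group G] {g : ℕ → G} (hR : Rels g adjm_r_R) {H : Subgroup G}
    (hH : ∀ k ∈ [], g k ∈ H) : evA g [3,4,8,3,4,8] ∈ H :=
  mem_dag (K := 9) (J := [0,1,2,3,4,5,6,7,8,11,12,13]) (D := adjm_1_D) (by decide +kernel) adjm_1_c (by decide +kernel) hR hH
theorem adjm {G : Type*} [Group G] {m w c z t : G}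
    (tt : t * t = 1)
    (mm : m * m = t)
    (w3 : w ^ 3 = 1)
    (tw : t * w * t⁻¹ = w⁻¹)
    (tc : t * c * t⁻¹ = c⁻¹)
    (wc : w * c = c * w)
    (wa : ⁅w, m * w * m⁻¹⁆ = 1)
    (wf : ⁅w, m * c * m⁻¹⁆ = z)
    (z3 : z ^ 3 = 1)
    (zw : z * w = w * z)
    (zc : z * c = c * z)
    (zm : z * m = m * z)
    (cf : ⁅c, m * c * m⁻¹⁆ = z⁻¹) :
    ⁅c * w⁻¹, m * (c * w⁻¹) * m⁻¹⁆ = 1 ∧ t * (c * w⁻¹) * t⁻¹ = (c * w⁻¹)⁻¹ :=
  ⟨mul_inv_eq_one.1 ((evA_eq_tm ((InvI.cons tt InvI.nil) : InvI [m, w, c, z, t] [(nat_lit 4)]) [(.v (nat_lit 0)), (.inv (.v (nat_lit 0))), (.v (nat_lit 1)), (.inv (.v (nat_lit 1))), (.v (nat_lit 2)), (.inv (.v (nat_lit 2))), (.v (nat_lit 3)), (.inv (.v (nat_lit 3))), (.v (nat_lit 4))] [1,5,2,0,5,2,1,3,4,0,3,4] (.mul (.mul (.mul (.mul (.mul (.v (nat_lit 2)) (.inv (.v (nat_lit 1)))) (.mul (.mul (.v (nat_lit 0)) (.mul (.v (nat_lit 2)) (.inv (.v (nat_lit 1))))) (.inv (.v (nat_lit 0))))) (.inv (.mul (.v (nat_lit 2)) (.inv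 (.v (nat_lit 1)))))) (.inv (.mul (.mul (.v (nat_lit 0)) (.mul (.v (nat_lit 2)) (.inv (.v (nat_lit 1))))) (.inv (.v (nat_lit 0)))))) (.inv .one)) (by decide +kernel)).symm.trans (Subgroup.mem_bot.1 (adjm_0 (adjm_r tt mm w3 tw tc wc wa wf z3 zw zc zm cf) (H := ⊥) (List.forall_mem_nil _)))),
   mul_inv_eq_one.1 ((evA_eq_tm ((InvI.cons tt InvI.nil) : InvI [m, w, c, z, t] [(nat_lit 4)]) [(.v (nat_lit 0)), (.inv (.v (nat_lit 0))), (.v (nat_lit 1)), (.inv (.v (nat_lit 1))), (.v (nat_lit 2)), (.inv (.v (nat_lit 2))), (.v (nat_lit 3)), (.inv (.v (nat_lit 3))), (.v (nat_lit 4))] [3,4,8,3,4,8] (.mul (.mul (.mul (.v (nat_lit 4)) (.mul (.v (nat_lit 2)) (.inv (.v (nat_lit 1))))) (.inv (.v (nat_lit 4)))) (.inv (.inv (.mul (.v (nat_lit 2)) (.inv (.v (nat_lit 1))))))) (by decide +kernel)).symm.trans (Subgroup.mem_bot.1 (adjm_1 (adjm_r tt mm w3 tw tc wc wa wf z3 zw zc zm cf) (H := ⊥) (List.forall_mem_nil _))))⟩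
noncomputable def cc_of_r_R : List (List ℕ) := [[0,1],
  [1,0],
  [2,3],
  [3,2],
  [4,5],
  [5,4],
  [6,7],
  [7,6],
  [8,9],
  [9,8],
  [10,11],
  [11,10],
  [12,13],
  [13,12],
  [14,15],
  [15,14],
  [16,17],
  [17,16],
  [18,18],
  [18,0,0],
  [18,3,18,2],
  [2,2,2],
  [2,0,2,0,2,0],
  [4,4,4],
  [5,3,4,2],
  [4,18,4,18],
  [7,1,4,0],
  [7,5,6,4],
  [8,8,8],
  [9,3,8,2],
  [8,18,8,18],
  [11,1,8,0],
  [11,9,10,8],
  [9,5,8,4],
  [13,11,5,10,4],
  [12,12,12],
  [5,13,4,12],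
  [1,13,0,12],
  [3,13,2,12],
  [9,13,8,12],
  [14,14,14],
  [5,15,4,14],
  [1,15,0,14],
  [3,15,2,14],
  [16,16,16],
  [9,17,8,16],
  [1,17,0,16],
  [3,17,2,16],
  [15,4,7,3,6,2],
  [17,8,11,3,10,2]]
theorem cc_of_r {G : Type*} [Group G] {m d w a c f z y v t : G}
    (tt : t * t = 1)
    (mm : m * m = t)
    (dt : d * t = t * d)
    (d3 : d ^ 3 = 1)
    (md : (m * d) ^ 3 = 1)
    (k : WW m d t w a 1)
    (l : WW m d t c f 1)
    (wc : w * c = c * w)
    (wf : ⁅w, f⁆ = z)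
    (hz : CY m d w z)
    (zc : z * c = c * z)
    (hy : CY m d w y)
    (hv : CY m d c v)
    (e1 : d * a * d⁻¹ = y * w⁻¹ * a)
    (e2 : d * f * d⁻¹ = v * c⁻¹ * f) :
    Rels (nthG [m, m⁻¹, d, d⁻¹, w, w⁻¹, a, a⁻¹, c, c⁻¹, f, f⁻¹, z, z⁻¹, y, y⁻¹, v, v⁻¹, t]) cc_of_r_R :=
  rels_of_eqs ((InvI.cons tt InvI.nil) : InvI [m, d, w, a, c, f, z, y, v, t] [(nat_lit 9)])
    (AllEq.append (show AllEq [m, d, w, a, c, f, z, y, v, t] [((.mul (.v (nat_lit 9)) (.v (nat_lit 9))), .one)] from ⟨tt, trivial⟩)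
    (AllEq.append (show AllEq [m, d, w, a, c, f, z, y, v, t] [((.mul (.v (nat_lit 0)) (.v (nat_lit 0))), (.v (nat_lit 9)))] from ⟨mm, trivial⟩)
    (AllEq.append (show AllEq [m, d, w, a, c, f, z, y, v, t] [((.mul (.v (nat_lit 1)) (.v (nat_lit 9))), (.mul (.v (nat_lit 9)) (.v (nat_lit 1))))] from ⟨dt, trivial⟩)
    (AllEq.append (show AllEq [m, d, w, a, c, f, z, y, v, t] [((.pw (.v (nat_lit 1)) (nat_lit 3)), .one)] from ⟨d3, trivial⟩)
    (AllEq.append (show AllEq [m, d, w, a, c, f, z, y, v, t] [((.pw (.mul (.v (nat_lit 0)) (.v (nat_lit 1))) (nat_lit 3)), .one)] from ⟨md, trivial⟩)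
    (AllEq.append (show AllEq [m, d, w, a, c, f, z, y, v, t] [((.pw (.v (nat_lit 2)) (nat_lit 3)), .one), ((.mul (.v (nat_lit 1)) (.v (nat_lit 2))), (.mul (.v (nat_lit 2)) (.v (nat_lit 1)))), ((.mul (.mul (.v (nat_lit 9)) (.v (nat_lit 2))) (.inv (.v (nat_lit 9)))), (.inv (.v (nat_lit 2)))), ((.mul (.mul (.v (nat_lit 0)) (.v (nat_lit 2))) (.inv (.v (nat_lit 0)))), (.v (nat_lit 3))), ((.mul (.mul (.mul (.v (nat_lit 2)) (.v (nat_lit 3))) (.inv (.v (nat_lit 2)))) (.inv (.v (nat_lit 3)))), .one), ((.pw .one (nat_lit 3)), .one), ((.mul .one (.v (nat_lit 2))), (.mul (.v (nat_lit 2)) .one)), ((.mul .one (.v (nat_lit 0))), (.mul (.v (nat_lit 0)) .one)), ((.mul .one (.v (nat_lit 1))), (.mul (.v (nat_lit 1)) .one))] from k)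
    (AllEq.append (show AllEq [m, d, w, a, c, f, z, y, v, t] [((.pw (.v (nat_lit 4)) (nat_lit 3)), .one), ((.mul (.v (nat_lit 1)) (.v (nat_lit 4))), (.mul (.v (nat_lit 4)) (.v (nat_lit 1)))), ((.mul (.mul (.v (nat_lit 9)) (.v (nat_lit 4))) (.inv (.v (nat_lit 9)))), (.inv (.v (nat_lit 4)))), ((.mul (.mul (.v (nat_lit 0)) (.v (nat_lit 4))) (.inv (.v (nat_lit 0)))), (.v (nat_lit 5))), ((.mul (.mul (.mul (.v (nat_lit 4)) (.v (nat_lit 5))) (.inv (.v (nat_lit 4)))) (.inv (.v (nat_lit 5)))), .one), ((.pw .one (nat_lit 3)), .one), ((.mul .one (.v (nat_lit 4))), (.mul (.v (nat_lit 4)) .one)), ((.mul .one (.v (nat_lit 0))), (.mul (.v (nat_lit 0)) .one)), ((.mul .one (.v (nat_lit 1))), (.mul (.v (nat_lit 1)) .one))] from l)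
    (AllEq.append (show AllEq [m, d, w, a, c, f, z, y, v, t] [((.mul (.v (nat_lit 2)) (.v (nat_lit 4))), (.mul (.v (nat_lit 4)) (.v (nat_lit 2))))] from ⟨wc, trivial⟩)
    (AllEq.append (show AllEq [m, d, w, a, c, f, z, y, v, t] [((.mul (.mul (.mul (.v (nat_lit 2)) (.v (nat_lit 5))) (.inv (.v (nat_lit 2)))) (.inv (.v (nat_lit 5)))), (.v (nat_lit 6)))] from ⟨wf, trivial⟩)
    (AllEq.append (show AllEq [m, d, w, a, c, f, z, y, v, t] [((.pw (.v (nat_lit 6)) (nat_lit 3)), .one), ((.mul (.v (nat_lit 6)) (.v (nat_lit 2))), (.mul (.v (nat_lit 2)) (.v (nat_lit 6)))), ((.mul (.v (nat_lit 6)) (.v (nat_lit 0))), (.mul (.v (nat_lit 0)) (.v (nat_lit 6)))), ((.mul (.v (nat_lit 6)) (.v (nat_lit 1))), (.mul (.v (nat_lit 1)) (.v (nat_lit 6))))] from hz)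
    (AllEq.append (show AllEq [m, d, w, a, c, f, z, y, v, t] [((.mul (.v (nat_lit 6)) (.v (nat_lit 4))), (.mul (.v (nat_lit 4)) (.v (nat_lit 6))))] from ⟨zc, trivial⟩)
    (AllEq.append (show AllEq [m, d, w, a, c, f, z, y, v, t] [((.pw (.v (nat_lit 7)) (nat_lit 3)), .one), ((.mul (.v (nat_lit 7)) (.v (nat_lit 2))), (.mul (.v (nat_lit 2)) (.v (nat_lit 7)))), ((.mul (.v (nat_lit 7)) (.v (nat_lit 0))), (.mul (.v (nat_lit 0)) (.v (nat_lit 7)))), ((.mul (.v (nat_lit 7)) (.v (nat_lit 1))), (.mul (.v (nat_lit 1)) (.v (nat_lit 7))))] from hy)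
    (AllEq.append (show AllEq [m, d, w, a, c, f, z, y, v, t] [((.pw (.v (nat_lit 8)) (nat_lit 3)), .one), ((.mul (.v (nat_lit 8)) (.v (nat_lit 4))), (.mul (.v (nat_lit 4)) (.v (nat_lit 8)))), ((.mul (.v (nat_lit 8)) (.v (nat_lit 0))), (.mul (.v (nat_lit 0)) (.v (nat_lit 8)))), ((.mul (.v (nat_lit 8)) (.v (nat_lit 1))), (.mul (.v (nat_lit 1)) (.v (nat_lit 8))))] from hv)
    (AllEq.append (show AllEq [m, d, w, a, c, f, z, y, v, t] [((.mul (.mul (.v (nat_lit 1)) (.v (nat_lit 3))) (.inv (.v (nat_lit 1)))), (.mul (.mul (.v (nat_lit 7)) (.inv (.v (nat_lit 2)))) (.v (nat_lit 3))))] from ⟨e1, trivial⟩)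
    (show AllEq [m, d, w, a, c, f, z, y, v, t] [((.mul (.mul (.v (nat_lit 1)) (.v (nat_lit 5))) (.inv (.v (nat_lit 1)))), (.mul (.mul (.v (nat_lit 8)) (.inv (.v (nat_lit 4)))) (.v (nat_lit 5))))] from ⟨e2, trivial⟩)))))))))))))))
    [(.v (nat_lit 0)), (.inv (.v (nat_lit 0))), (.v (nat_lit 1)), (.inv (.v (nat_lit 1))), (.v (nat_lit 2)), (.inv (.v (nat_lit 2))), (.v (nat_lit 3)), (.inv (.v (nat_lit 3))), (.v (nat_lit 4)), (.inv (.v (nat_lit 4))), (.v (nat_lit 5)), (.inv (.v (nat_lit 5))), (.v (nat_lit 6)), (.inv (.v (nat_lit 6))), (.v (nat_lit 7)), (.inv (.v (nat_lit 7))), (.v (nat_lit 8)), (.inv (.v (nat_lit 8))), (.v (nat_lit 9))] (by decide +kernel)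
noncomputable def cc_of_2_0_S0 : List ℕ := [nat_lit 0x13000007000010006028, nat_lit 0x1b00000b000010008028, nat_lit 0x2000005008026, nat_lit 0x1c000009000013000018000028, nat_lit 0xe00001700000e]
noncomputable def cc_of_2_0_S : List (List ℕ) := [cc_of_2_0_S0]
noncomputable def cc_of_2_0_defs : List ℕ := [(nat_lit 0x100002006000010010000100100000007000000060000000000000)]
noncomputable def cc_of_2_0_recs : List ℕ := [(nat_lit 0x70000100002ff0000500002040000600004040000300006050000300004)]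
noncomputable def cc_of_2_0_T : List (List ℕ × ℕ) := [([6,6,6], (nat_lit 0xc000012000007))]
noncomputable def cc_of_2_0_D : H26.Dag := ⟨[1,0,3,2,5,4,7,6,9,8,11,10,13,12,15,14,17,16,18], [[0,1],
  [1,0],
  [2,3],
  [3,2],
  [4,5],
  [5,4],
  [6,7],
  [7,6],
  [8,9],
  [9,8],
  [10,11],
  [11,10],
  [12,13],
  [13,12],
  [14,15],
  [15,14],
  [16,17],
  [17,16],
  [18,18],
  [4,4,4],
  [7,1,4,0]], [], cc_of_2_0_defs, cc_of_2_0_recs⟩
theorem cc_of_2_0_c : cc_of_2_0_D.check cc_of_2_0_S cc_of_2_0_T = true := by decide +kernel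
theorem cc_of_2_0 {G : Type*} [Group G] {g : ℕ → G} (hR : Rels g cc_of_r_R) {H : Subgroup G}
    (hH : ∀ k ∈ [], g k ∈ H) : evA g [6,6,6] ∈ H :=
  mem_dag (K := 19) (J := [0,1,2,3,4,5,6,7,8,9,10,11,12,13,14,15,16,17,18,23,26]) (D := cc_of_2_0_D) (by decide +kernel) cc_of_2_0_c (by decide +kernel) hR hH
theorem cc_of_2 {G : Type*} [Group G] {m d w a c f z y v t : G}
    (tt : t * t = 1)
    (mm : m * m = t)
    (dt : d * t = t * d)
    (d3 : d ^ 3 = 1)
    (md : (m * d) ^ 3 = 1)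
    (k : WW m d t w a 1)
    (l : WW m d t c f 1)
    (wc : w * c = c * w)
    (wf : ⁅w, f⁆ = z)
    (hz : CY m d w z)
    (zc : z * c = c * z)
    (hy : CY m d w y)
    (hv : CY m d c v)
    (e1 : d * a * d⁻¹ = y * w⁻¹ * a)
    (e2 : d * f * d⁻¹ = v * c⁻¹ * f) :
    a ^ 3 = 1 :=
  mul_inv_eq_one.1 ((evA_eq_tm ((InvI.cons tt InvI.nil) : InvI [m, d, w, a, c, f, z, y, v, t] [(nat_lit 9)]) [(.v (nat_lit 0)), (.inv (.v (nat_lit 0))), (.v (nat_lit 1)), (.inv (.v (nat_lit 1))), (.v (nat_lit 2)), (.inv (.v (nat_lit 2))), (.v (nat_lit 3)), (.inv (.v (nat_lit 3))), (.v (nat_lit 4)), (.inv (.v (nat_lit 4))), (.v (nat_lit 5)), (.inv (.v (nat_lit 5))), (.v (nat_lit 6)), (.inv (.v (nat_lit 6))), (.v (nat_lit 7)), (.inv (.v (nat_lit 7))), (.v (nat_lit 8)), (.inv (.v (nat_lit 8))), (.v (nat_lit 9))] [6,6,6] (.mul (.pw (.v (nat_lit 3)) (nat_lit 3)) (.inv .one)) (by decide +kernel)).symm.trans (Subgroup.mem_bot.1 (cc_of_2_0 (cc_of_r tt mm dt d3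 md k l wc wf hz zc hy hv e1 e2) (H := ⊥) (List.forall_mem_nil _))))
noncomputable def cc_of_4_0_S0 : List ℕ := [nat_lit 0x13000007000010006028, nat_lit 0x1b00000b000010008028, nat_lit 0x2000005008026, nat_lit 0x1c000009000013000018000028, nat_lit 0xe000017000016]
noncomputable def cc_of_4_0_S : List (List ℕ) := [cc_of_4_0_S0]
noncomputable def cc_of_4_0_defs : List ℕ := [(nat_lit 0x10000200a00001001000010010000000b0000000a0000000000000)]
noncomputable def cc_of_4_0_recs : List ℕ := [(nat_lit 0xb0000100002ff0000500002080000600004080000300006090000300004)]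
noncomputable def cc_of_4_0_T : List (List ℕ × ℕ) := [([10,10,10], (nat_lit 0xc000012000007))]
noncomputable def cc_of_4_0_D : H26.Dag := ⟨[1,0,3,2,5,4,7,6,9,8,11,10,13,12,15,14,17,16,18], [[0,1],
  [1,0],
  [2,3],
  [3,2],
  [4,5],
  [5,4],
  [6,7],
  [7,6],
  [8,9],
  [9,8],
  [10,11],
  [11,10],
  [12,13],
  [13,12],
  [14,15],
  [15,14],
  [16,17],
  [17,16],
  [18,18],
  [8,8,8],
  [11,1,8,0]], [], cc_of_4_0_defs, cc_of_4_0_recs⟩
theorem cc_of_4_0_c : cc_of_4_0_D.check cc_of_4_0_S cc_of_4_0_T = true := by decide +kernel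
theorem cc_of_4_0 {G : Type*} [Group G] {g : ℕ → G} (hR : Rels g cc_of_r_R) {H : Subgroup G}
    (hH : ∀ k ∈ [], g k ∈ H) : evA g [10,10,10] ∈ H :=
  mem_dag (K := 19) (J := [0,1,2,3,4,5,6,7,8,9,10,11,12,13,14,15,16,17,18,28,31]) (D := cc_of_4_0_D) (by decide +kernel) cc_of_4_0_c (by decide +kernel) hR hH
theorem cc_of_4 {G : Type*} [Group G] {m d w a c f z y v t : G}
    (tt : t * t = 1)
    (mm : m * m = t)
    (dt : d * t = t * d)
    (d3 : d ^ 3 = 1)
    (md : (m * d) ^ 3 = 1)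
    (k : WW m d t w a 1)
    (l : WW m d t c f 1)
    (wc : w * c = c * w)
    (wf : ⁅w, f⁆ = z)
    (hz : CY m d w z)
    (zc : z * c = c * z)
    (hy : CY m d w y)
    (hv : CY m d c v)
    (e1 : d * a * d⁻¹ = y * w⁻¹ * a)
    (e2 : d * f * d⁻¹ = v * c⁻¹ * f) :
    f ^ 3 = 1 :=
  mul_inv_eq_one.1 ((evA_eq_tm ((InvI.cons tt InvI.nil) : InvI [m, d, w, a, c, f, z, y, v, t] [(nat_lit 9)]) [(.v (nat_lit 0)), (.inv (.v (nat_lit 0))), (.v (nat_lit 1)), (.inv (.v (nat_lit 1))), (.v (nat_lit 2)), (.inv (.v (nat_lit 2))), (.v (nat_lit 3)), (.inv (.v (nat_lit 3))), (.v (nat_lit 4)), (.inv (.v (nat_lit 4))), (.v (nat_lit 5)), (.inv (.v (nat_lit 5))), (.v (nat_lit 6)), (.inv (.v (nat_lit 6))), (.v (nat_lit 7)), (.inv (.v (nat_lit 7))), (.v (nat_lit 8)), (.inv (.v (nat_lit 8))), (.v (nat_lit 9))] [10,10,10] (.mul (.pw (.v (nat_lit 5)) (nat_lit 3)) (.inv .one)) (by decide +kernel)).symm.trans (Subgroup.mem_bot.1 (cc_of_4_0 (cc_of_r tt mm dt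 d3 md k l wc wf hz zc hy hv e1 e2) (H := ⊥) (List.forall_mem_nil _))))
noncomputable def cc_of_5_0_S0 : List ℕ := [nat_lit 0xf00000700000c00a026]
noncomputable def cc_of_5_0_S : List (List ℕ) := [cc_of_5_0_S0]
noncomputable def cc_of_5_0_defs : List ℕ := [(nat_lit 0x5000010050000000d0000000000000)]
noncomputable def cc_of_5_0_recs : List ℕ := [(nat_lit 0xc0000200003)]
noncomputable def cc_of_5_0_T : List (List ℕ × ℕ) := [([13,5,12,4], (nat_lit 0xc00000100000f000007))]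
noncomputable def cc_of_5_0_D : H26.Dag := ⟨[1,0,3,2,5,4,7,6,9,8,11,10,13,12,15,14,17,16,18], [[0,1],
  [1,0],
  [2,3],
  [3,2],
  [4,5],
  [5,4],
  [6,7],
  [7,6],
  [8,9],
  [9,8],
  [10,11],
  [11,10],
  [12,13],
  [13,12],
  [14,15],
  [15,14],
  [16,17],
  [17,16],
  [18,18],
  [5,13,4,12]], [], cc_of_5_0_defs, cc_of_5_0_recs⟩
theorem cc_of_5_0_c : cc_of_5_0_D.check cc_of_5_0_S cc_of_5_0_T = true := by decide +kernel
theorem cc_of_5_0 {G : Type*} [Group G] {g : ℕ → G} (hR : Rels g cc_of_r_R) {H : Subgroup G}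
    (hH : ∀ k ∈ [], g k ∈ H) : evA g [13,5,12,4] ∈ H :=
  mem_dag (K := 19) (J := [0,1,2,3,4,5,6,7,8,9,10,11,12,13,14,15,16,17,18,36]) (D := cc_of_5_0_D) (by decide +kernel) cc_of_5_0_c (by decide +kernel) hR hH
theorem cc_of_5 {G : Type*} [Group G] {m d w a c f z y v t : G}
    (tt : t * t = 1)
    (mm : m * m = t)
    (dt : d * t = t * d)
    (d3 : d ^ 3 = 1)
    (md : (m * d) ^ 3 = 1)
    (k : WW m d t w a 1)
    (l : WW m d t c f 1)
    (wc : w * c = c * w)
    (wf : ⁅w, f⁆ = z)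
    (hz : CY m d w z)
    (zc : z * c = c * z)
    (hy : CY m d w y)
    (hv : CY m d c v)
    (e1 : d * a * d⁻¹ = y * w⁻¹ * a)
    (e2 : d * f * d⁻¹ = v * c⁻¹ * f) :
    w * z = z * w :=
  mul_inv_eq_one.1 ((evA_eq_tm ((InvI.cons tt InvI.nil) : InvI [m, d, w, a, c, f, z, y, v, t] [(nat_lit 9)]) [(.v (nat_lit 0)), (.inv (.v (nat_lit 0))), (.v (nat_lit 1)), (.inv (.v (nat_lit 1))), (.v (nat_lit 2)), (.inv (.v (nat_lit 2))), (.v (nat_lit 3)), (.inv (.v (nat_lit 3))), (.v (nat_lit 4)), (.inv (.v (nat_lit 4))), (.v (nat_lit 5)), (.inv (.v (nat_lit 5))), (.v (nat_lit 6)), (.inv (.v (nat_lit 6))), (.v (nat_lit 7)), (.inv (.v (nat_lit 7))), (.v (nat_lit 8)), (.inv (.v (nat_lit 8))), (.v (nat_lit 9))] [13,5,12,4] (.mul (.mul (.v (nat_lit 2)) (.v (nat_lit 6))) (.inv (.mul (.v (nat_lit 6)) (.v (nat_lit 2))))) (by decide +kernel)).symm.trans (Subgroup.mem_bot.1 (cc_of_5_0 (cc_of_r tt mm dt d3 md k l wc wf hz zc hy hv e1 e2) (H := ⊥) (List.forall_mem_nil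 _))))
noncomputable def cc_of_6_0_S0 : List ℕ := [nat_lit 0x1700000700001400a02a, nat_lit 0x1b00000b000014008026, nat_lit 0x2300000f000018008026, nat_lit 0x6000001000009004028, nat_lit 0x2400000d00001b00002000c02a, nat_lit 0x1200001f000018]
noncomputable def cc_of_6_0_S : List (List ℕ) := [cc_of_6_0_S0]
noncomputable def cc_of_6_0_defs : List ℕ := [(nat_lit 0x10000300d00002001000020010000100100000007000010070000000d0000000000000)]
noncomputable def cc_of_6_0_recs : List ℕ := [(nat_lit 0xc0000200003ff00007000030d00008000060400005000080400004000060c0000400005)]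
noncomputable def cc_of_6_0_T : List (List ℕ × ℕ) := [([13,7,12,6], (nat_lit 0xc00001500000f000007))]
noncomputable def cc_of_6_0_D : H26.Dag := ⟨[1,0,3,2,5,4,7,6,9,8,11,10,13,12,15,14,17,16,18], [[0,1],
  [1,0],
  [2,3],
  [3,2],
  [4,5],
  [5,4],
  [6,7],
  [7,6],
  [8,9],
  [9,8],
  [10,11],
  [11,10],
  [12,13],
  [13,12],
  [14,15],
  [15,14],
  [16,17],
  [17,16],
  [18,18],
  [7,1,4,0],
  [5,13,4,12],
  [1,13,0,12]], [], cc_of_6_0_defs, cc_of_6_0_recs⟩
theorem cc_of_6_0_c : cc_of_6_0_D.check cc_of_6_0_S cc_of_6_0_T = true := by decide +kernel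
theorem cc_of_6_0 {G : Type*} [Group G] {g : ℕ → G} (hR : Rels g cc_of_r_R) {H : Subgroup G}
    (hH : ∀ k ∈ [], g k ∈ H) : evA g [13,7,12,6] ∈ H :=
  mem_dag (K := 19) (J := [0,1,2,3,4,5,6,7,8,9,10,11,12,13,14,15,16,17,18,26,36,37]) (D := cc_of_6_0_D) (by decide +kernel) cc_of_6_0_c (by decide +kernel) hR hH
theorem cc_of_6 {G : Type*} [Group G] {m d w a c f z y v t : G}
    (tt : t * t = 1)
    (mm : m * m = t)
    (dt : d * t = t * d)
    (d3 : d ^ 3 = 1)
    (md : (m * d) ^ 3 = 1)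
    (k : WW m d t w a 1)
    (l : WW m d t c f 1)
    (wc : w * c = c * w)
    (wf : ⁅w, f⁆ = z)
    (hz : CY m d w z)
    (zc : z * c = c * z)
    (hy : CY m d w y)
    (hv : CY m d c v)
    (e1 : d * a * d⁻¹ = y * w⁻¹ * a)
    (e2 : d * f * d⁻¹ = v * c⁻¹ * f) :
    a * z = z * a :=
  mul_inv_eq_one.1 ((evA_eq_tm ((InvI.cons tt InvI.nil) : InvI [m, d, w, a, c, f, z, y, v, t] [(nat_lit 9)]) [(.v (nat_lit 0)), (.inv (.v (nat_lit 0))), (.v (nat_lit 1)), (.inv (.v (nat_lit 1))), (.v (nat_lit 2)), (.inv (.v (nat_lit 2))), (.v (nat_lit 3)), (.inv (.v (nat_lit 3))), (.v (nat_lit 4)), (.inv (.v (nat_lit 4))), (.v (nat_lit 5)), (.inv (.v (nat_lit 5))), (.v (nat_lit 6)), (.inv (.v (nat_lit 6))), (.v (nat_lit 7)), (.inv (.v (nat_lit 7))), (.v (nat_lit 8)), (.inv (.v (nat_lit 8))), (.v (nat_lit 9))] [13,7,12,6] (.mul (.mul (.v (nat_lit 3)) (.v (nat_lit 6))) (.inv (.mul (.v (nat_lit 6)) (.v (nat_lit 3))))) (by decide +kernel)).symm.trans (Subgroup.mem_bot.1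 (cc_of_6_0 (cc_of_r tt mm dt d3 md k l wc wf hz zc hy hv e1 e2) (H := ⊥) (List.forall_mem_nil _))))
noncomputable def cc_of_7_0_S0 : List ℕ := [nat_lit 0xf00000700000c00a026]
noncomputable def cc_of_7_0_S : List (List ℕ) := [cc_of_7_0_S0]
noncomputable def cc_of_7_0_defs : List ℕ := [(nat_lit 0x9000010090000000d0000000000000)]
noncomputable def cc_of_7_0_recs : List ℕ := [(nat_lit 0xc0000200003)]
noncomputable def cc_of_7_0_T : List (List ℕ × ℕ) := [([13,9,12,8], (nat_lit 0xc00000100000f000007))]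
noncomputable def cc_of_7_0_D : H26.Dag := ⟨[1,0,3,2,5,4,7,6,9,8,11,10,13,12,15,14,17,16,18], [[0,1],
  [1,0],
  [2,3],
  [3,2],
  [4,5],
  [5,4],
  [6,7],
  [7,6],
  [8,9],
  [9,8],
  [10,11],
  [11,10],
  [12,13],
  [13,12],
  [14,15],
  [15,14],
  [16,17],
  [17,16],
  [18,18],
  [9,13,8,12]], [], cc_of_7_0_defs, cc_of_7_0_recs⟩
theorem cc_of_7_0_c : cc_of_7_0_D.check cc_of_7_0_S cc_of_7_0_T = true := by decide +kernel
theorem cc_of_7_0 {G : Type*} [Group G] {g : ℕ → G} (hR : Rels g cc_of_r_R) {H : Subgroup G}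
    (hH : ∀ k ∈ [], g k ∈ H) : evA g [13,9,12,8] ∈ H :=
  mem_dag (K := 19) (J := [0,1,2,3,4,5,6,7,8,9,10,11,12,13,14,15,16,17,18,39]) (D := cc_of_7_0_D) (by decide +kernel) cc_of_7_0_c (by decide +kernel) hR hH
theorem cc_of_7 {G : Type*} [Group G] {m d w a c f z y v t : G}
    (tt : t * t = 1)
    (mm : m * m = t)
    (dt : d * t = t * d)
    (d3 : d ^ 3 = 1)
    (md : (m * d) ^ 3 = 1)
    (k : WW m d t w a 1)
    (l : WW m d t c f 1)
    (wc : w * c = c * w)
    (wf : ⁅w, f⁆ = z)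
    (hz : CY m d w z)
    (zc : z * c = c * z)
    (hy : CY m d w y)
    (hv : CY m d c v)
    (e1 : d * a * d⁻¹ = y * w⁻¹ * a)
    (e2 : d * f * d⁻¹ = v * c⁻¹ * f) :
    c * z = z * c :=
  mul_inv_eq_one.1 ((evA_eq_tm ((InvI.cons tt InvI.nil) : InvI [m, d, w, a, c, f, z, y, v, t] [(nat_lit 9)]) [(.v (nat_lit 0)), (.inv (.v (nat_lit 0))), (.v (nat_lit 1)), (.inv (.v (nat_lit 1))), (.v (nat_lit 2)), (.inv (.v (nat_lit 2))), (.v (nat_lit 3)), (.inv (.v (nat_lit 3))), (.v (nat_lit 4)), (.inv (.v (nat_lit 4))), (.v (nat_lit 5)), (.inv (.v (nat_lit 5))), (.v (nat_lit 6)), (.inv (.v (nat_lit 6))), (.v (nat_lit 7)), (.inv (.v (nat_lit 7))), (.v (nat_lit 8)), (.inv (.v (nat_lit 8))), (.v (nat_lit 9))] [13,9,12,8] (.mul (.mul (.v (nat_lit 4)) (.v (nat_lit 6))) (.inv (.mul (.v (nat_lit 6)) (.v (nat_lit 4))))) (by decide +kernel)).symm.trans (Subgroup.mem_bot.1 (cc_of_7_0 (cc_of_r tt mm dt d3 md k l wc wf hz zc hy hv e1 e2) (H := ⊥) (List.forall_mem_nil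 _))))
noncomputable def cc_of_8_0_S0 : List ℕ := [nat_lit 0x1700000700001400a028, nat_lit 0x1b00000b000014008026, nat_lit 0x2300000f000018008026, nat_lit 0x600000100000900402a, nat_lit 0x2400000d00001b00002000c028, nat_lit 0x1200001f000018]
noncomputable def cc_of_8_0_S : List (List ℕ) := [cc_of_8_0_S0]
noncomputable def cc_of_8_0_defs : List ℕ := [(nat_lit 0x10000300d0000200100002001000010010000000b0000100b0000000d0000000000000)]
noncomputable def cc_of_8_0_recs : List ℕ := [(nat_lit 0xc0000200003ff00007000030d00008000060800005000080800004000060c0000400005)]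
noncomputable def cc_of_8_0_T : List (List ℕ × ℕ) := [([13,11,12,10], (nat_lit 0xc00001500000f000007))]
noncomputable def cc_of_8_0_D : H26.Dag := ⟨[1,0,3,2,5,4,7,6,9,8,11,10,13,12,15,14,17,16,18], [[0,1],
  [1,0],
  [2,3],
  [3,2],
  [4,5],
  [5,4],
  [6,7],
  [7,6],
  [8,9],
  [9,8],
  [10,11],
  [11,10],
  [12,13],
  [13,12],
  [14,15],
  [15,14],
  [16,17],
  [17,16],
  [18,18],
  [11,1,8,0],
  [1,13,0,12],
  [9,13,8,12]], [], cc_of_8_0_defs, cc_of_8_0_recs⟩
theorem cc_of_8_0_c : cc_of_8_0_D.check cc_of_8_0_S cc_of_8_0_T = true := by decide +kernel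
theorem cc_of_8_0 {G : Type*} [Group G] {g : ℕ → G} (hR : Rels g cc_of_r_R) {H : Subgroup G}
    (hH : ∀ k ∈ [], g k ∈ H) : evA g [13,11,12,10] ∈ H :=
  mem_dag (K := 19) (J := [0,1,2,3,4,5,6,7,8,9,10,11,12,13,14,15,16,17,18,31,37,39]) (D := cc_of_8_0_D) (by decide +kernel) cc_of_8_0_c (by decide +kernel) hR hH
theorem cc_of_8 {G : Type*} [Group G] {m d w a c f z y v t : G}
    (tt : t * t = 1)
    (mm : m * m = t)
    (dt : d * t = t * d)
    (d3 : d ^ 3 = 1)
    (md : (m * d) ^ 3 = 1)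
    (k : WW m d t w a 1)
    (l : WW m d t c f 1)
    (wc : w * c = c * w)
    (wf : ⁅w, f⁆ = z)
    (hz : CY m d w z)
    (zc : z * c = c * z)
    (hy : CY m d w y)
    (hv : CY m d c v)
    (e1 : d * a * d⁻¹ = y * w⁻¹ * a)
    (e2 : d * f * d⁻¹ = v * c⁻¹ * f) :
    f * z = z * f :=
  mul_inv_eq_one.1 ((evA_eq_tm ((InvI.cons tt InvI.nil) : InvI [m, d, w, a, c, f, z, y, v, t] [(nat_lit 9)]) [(.v (nat_lit 0)), (.inv (.v (nat_lit 0))), (.v (nat_lit 1)), (.inv (.v (nat_lit 1))), (.v (nat_lit 2)), (.inv (.v (nat_lit 2))), (.v (nat_lit 3)), (.inv (.v (nat_lit 3))), (.v (nat_lit 4)), (.inv (.v (nat_lit 4))), (.v (nat_lit 5)), (.inv (.v (nat_lit 5))), (.v (nat_lit 6)), (.inv (.v (nat_lit 6))), (.v (nat_lit 7)), (.inv (.v (nat_lit 7))), (.v (nat_lit 8)), (.inv (.v (nat_lit 8))), (.v (nat_lit 9))] [13,11,12,10] (.mul (.mul (.v (nat_lit 5)) (.v (nat_lit 6))) (.inv (.mul (.v (nat_lit 6)) (.v (nat_lit 5))))) (by decide +kernel)).symm.trans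 (Subgroup.mem_bot.1 (cc_of_8_0 (cc_of_r tt mm dt d3 md k l wc wf hz zc hy hv e1 e2) (H := ⊥) (List.forall_mem_nil _))))
noncomputable def cc_of_9_0_S0 : List ℕ := [nat_lit 0xf00000700000c008026]
noncomputable def cc_of_9_0_S : List (List ℕ) := [cc_of_9_0_S0]
noncomputable def cc_of_9_0_defs : List ℕ := [(nat_lit 0x500001005000000070000000000000)]
noncomputable def cc_of_9_0_recs : List ℕ := [(nat_lit 0x60000200003)]
noncomputable def cc_of_9_0_T : List (List ℕ × ℕ) := [([7,5,6,4], (nat_lit 0xc00000100000f000007))]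
noncomputable def cc_of_9_0_D : H26.Dag := ⟨[1,0,3,2,5,4,7,6,9,8,11,10,13,12,15,14,17,16,18], [[0,1],
  [1,0],
  [2,3],
  [3,2],
  [4,5],
  [5,4],
  [6,7],
  [7,6],
  [8,9],
  [9,8],
  [10,11],
  [11,10],
  [12,13],
  [13,12],
  [14,15],
  [15,14],
  [16,17],
  [17,16],
  [18,18],
  [7,5,6,4]], [], cc_of_9_0_defs, cc_of_9_0_recs⟩
theorem cc_of_9_0_c : cc_of_9_0_D.check cc_of_9_0_S cc_of_9_0_T = true := by decide +kernel
theorem cc_of_9_0 {G : Type*} [Group G] {g : ℕ → G} (hR : Rels g cc_of_r_R) {H : Subgroup G}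
    (hH : ∀ k ∈ [], g k ∈ H) : evA g [7,5,6,4] ∈ H :=
  mem_dag (K := 19) (J := [0,1,2,3,4,5,6,7,8,9,10,11,12,13,14,15,16,17,18,27]) (D := cc_of_9_0_D) (by decide +kernel) cc_of_9_0_c (by decide +kernel) hR hH
theorem cc_of_9 {G : Type*} [Group G] {m d w a c f z y v t : G}
    (tt : t * t = 1)
    (mm : m * m = t)
    (dt : d * t = t * d)
    (d3 : d ^ 3 = 1)
    (md : (m * d) ^ 3 = 1)
    (k : WW m d t w a 1)
    (l : WW m d t c f 1)
    (wc : w * c = c * w)
    (wf : ⁅w, f⁆ = z)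
    (hz : CY m d w z)
    (zc : z * c = c * z)
    (hy : CY m d w y)
    (hv : CY m d c v)
    (e1 : d * a * d⁻¹ = y * w⁻¹ * a)
    (e2 : d * f * d⁻¹ = v * c⁻¹ * f) :
    w * a = a * w :=
  mul_inv_eq_one.1 ((evA_eq_tm ((InvI.cons tt InvI.nil) : InvI [m, d, w, a, c, f, z, y, v, t] [(nat_lit 9)]) [(.v (nat_lit 0)), (.inv (.v (nat_lit 0))), (.v (nat_lit 1)), (.inv (.v (nat_lit 1))), (.v (nat_lit 2)), (.inv (.v (nat_lit 2))), (.v (nat_lit 3)), (.inv (.v (nat_lit 3))), (.v (nat_lit 4)), (.inv (.v (nat_lit 4))), (.v (nat_lit 5)), (.inv (.v (nat_lit 5))), (.v (nat_lit 6)), (.inv (.v (nat_lit 6))), (.v (nat_lit 7)), (.inv (.v (nat_lit 7))), (.v (nat_lit 8)), (.inv (.v (nat_lit 8))), (.v (nat_lit 9))] [7,5,6,4] (.mul (.mul (.v (nat_lit 2)) (.v (nat_lit 3))) (.inv (.mul (.v (nat_lit 3)) (.v (nat_lit 2))))) (by decide +kernel)).symm.trans (Subgroup.mem_bot.1 (cc_of_9_0 (cc_of_r tt mm dt d3 md k l wc wf hz zc hy hv e1 e2) (H := ⊥) (List.forall_mem_nil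 _))))
noncomputable def cc_of_11_0_S0 : List ℕ := [nat_lit 0x17000007000014008028, nat_lit 0x1b00000b000014008026, nat_lit 0x2300000f000018008026, nat_lit 0x600000100000900602a, nat_lit 0x2400000d00001b00002000e028, nat_lit 0x1200001f000014]
noncomputable def cc_of_11_0_S : List (List ℕ) := [cc_of_11_0_S0]
noncomputable def cc_of_11_0_defs : List ℕ := [(nat_lit 0x10000300b00002001000020010000100100000007000010070000000b0000000000000)]
noncomputable def cc_of_11_0_recs : List ℕ := [(nat_lit 0xa0000200003ff0000700003090000800006040000500008040000400006080000400005)]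
noncomputable def cc_of_11_0_T : List (List ℕ × ℕ) := [([11,7,10,6], (nat_lit 0xc00001500000f000007))]
noncomputable def cc_of_11_0_D : H26.Dag := ⟨[1,0,3,2,5,4,7,6,9,8,11,10,13,12,15,14,17,16,18], [[0,1],
  [1,0],
  [2,3],
  [3,2],
  [4,5],
  [5,4],
  [6,7],
  [7,6],
  [8,9],
  [9,8],
  [10,11],
  [11,10],
  [12,13],
  [13,12],
  [14,15],
  [15,14],
  [16,17],
  [17,16],
  [18,18],
  [7,1,4,0],
  [11,1,8,0],
  [9,5,8,4]], [], cc_of_11_0_defs, cc_of_11_0_recs⟩
theorem cc_of_11_0_c : cc_of_11_0_D.check cc_of_11_0_S cc_of_11_0_T = true := by decide +kernel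
theorem cc_of_11_0 {G : Type*} [Group G] {g : ℕ → G} (hR : Rels g cc_of_r_R) {H : Subgroup G}
    (hH : ∀ k ∈ [], g k ∈ H) : evA g [11,7,10,6] ∈ H :=
  mem_dag (K := 19) (J := [0,1,2,3,4,5,6,7,8,9,10,11,12,13,14,15,16,17,18,26,31,33]) (D := cc_of_11_0_D) (by decide +kernel) cc_of_11_0_c (by decide +kernel) hR hH
theorem cc_of_11 {G : Type*} [Group G] {m d w a c f z y v t : G}
    (tt : t * t = 1)
    (mm : m * m = t)
    (dt : d * t = t * d)
    (d3 : d ^ 3 = 1)
    (md : (m * d) ^ 3 = 1)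
    (k : WW m d t w a 1)
    (l : WW m d t c f 1)
    (wc : w * c = c * w)
    (wf : ⁅w, f⁆ = z)
    (hz : CY m d w z)
    (zc : z * c = c * z)
    (hy : CY m d w y)
    (hv : CY m d c v)
    (e1 : d * a * d⁻¹ = y * w⁻¹ * a)
    (e2 : d * f * d⁻¹ = v * c⁻¹ * f) :
    a * f = f * a :=
  mul_inv_eq_one.1 ((evA_eq_tm ((InvI.cons tt InvI.nil) : InvI [m, d, w, a, c, f, z, y, v, t] [(nat_lit 9)]) [(.v (nat_lit 0)), (.inv (.v (nat_lit 0))), (.v (nat_lit 1)), (.inv (.v (nat_lit 1))), (.v (nat_lit 2)), (.inv (.v (nat_lit 2))), (.v (nat_lit 3)), (.inv (.v (nat_lit 3))), (.v (nat_lit 4)), (.inv (.v (nat_lit 4))), (.v (nat_lit 5)), (.inv (.v (nat_lit 5))), (.v (nat_lit 6)), (.inv (.v (nat_lit 6))), (.v (nat_lit 7)), (.inv (.v (nat_lit 7))), (.v (nat_lit 8)), (.inv (.v (nat_lit 8))), (.v (nat_lit 9))] [11,7,10,6] (.mul (.mul (.v (nat_lit 3)) (.v (nat_lit 5))) (.inv (.mul (.v (nat_lit 5)) (.v (nat_lit 3))))) (by decide +kernel)).symm.trans (Subgroup.mem_bot.1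 (cc_of_11_0 (cc_of_r tt mm dt d3 md k l wc wf hz zc hy hv e1 e2) (H := ⊥) (List.forall_mem_nil _))))
noncomputable def cc_of_12_0_S0 : List ℕ := [nat_lit 0xf00000700000c008026]
noncomputable def cc_of_12_0_S : List (List ℕ) := [cc_of_12_0_S0]
noncomputable def cc_of_12_0_defs : List ℕ := [(nat_lit 0x9000010090000000b0000000000000)]
noncomputable def cc_of_12_0_recs : List ℕ := [(nat_lit 0xa0000200003)]
noncomputable def cc_of_12_0_T : List (List ℕ × ℕ) := [([11,9,10,8], (nat_lit 0xc00000100000f000007))]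
noncomputable def cc_of_12_0_D : H26.Dag := ⟨[1,0,3,2,5,4,7,6,9,8,11,10,13,12,15,14,17,16,18], [[0,1],
  [1,0],
  [2,3],
  [3,2],
  [4,5],
  [5,4],
  [6,7],
  [7,6],
  [8,9],
  [9,8],
  [10,11],
  [11,10],
  [12,13],
  [13,12],
  [14,15],
  [15,14],
  [16,17],
  [17,16],
  [18,18],
  [11,9,10,8]], [], cc_of_12_0_defs, cc_of_12_0_recs⟩
theorem cc_of_12_0_c : cc_of_12_0_D.check cc_of_12_0_S cc_of_12_0_T = true := by decide +kernel
theorem cc_of_12_0 {G : Type*} [Group G] {g : ℕ → G} (hR : Rels g cc_of_r_R) {H : Subgroup G}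
    (hH : ∀ k ∈ [], g k ∈ H) : evA g [11,9,10,8] ∈ H :=
  mem_dag (K := 19) (J := [0,1,2,3,4,5,6,7,8,9,10,11,12,13,14,15,16,17,18,32]) (D := cc_of_12_0_D) (by decide +kernel) cc_of_12_0_c (by decide +kernel) hR hH
theorem cc_of_12 {G : Type*} [Group G] {m d w a c f z y v t : G}
    (tt : t * t = 1)
    (mm : m * m = t)
    (dt : d * t = t * d)
    (d3 : d ^ 3 = 1)
    (md : (m * d) ^ 3 = 1)
    (k : WW m d t w a 1)
    (l : WW m d t c f 1)
    (wc : w * c = c * w)
    (wf : ⁅w, f⁆ = z)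
    (hz : CY m d w z)
    (zc : z * c = c * z)
    (hy : CY m d w y)
    (hv : CY m d c v)
    (e1 : d * a * d⁻¹ = y * w⁻¹ * a)
    (e2 : d * f * d⁻¹ = v * c⁻¹ * f) :
    c * f = f * c :=
  mul_inv_eq_one.1 ((evA_eq_tm ((InvI.cons tt InvI.nil) : InvI [m, d, w, a, c, f, z, y, v, t] [(nat_lit 9)]) [(.v (nat_lit 0)), (.inv (.v (nat_lit 0))), (.v (nat_lit 1)), (.inv (.v (nat_lit 1))), (.v (nat_lit 2)), (.inv (.v (nat_lit 2))), (.v (nat_lit 3)), (.inv (.v (nat_lit 3))), (.v (nat_lit 4)), (.inv (.v (nat_lit 4))), (.v (nat_lit 5)), (.inv (.v (nat_lit 5))), (.v (nat_lit 6)), (.inv (.v (nat_lit 6))), (.v (nat_lit 7)), (.inv (.v (nat_lit 7))), (.v (nat_lit 8)), (.inv (.v (nat_lit 8))), (.v (nat_lit 9))] [11,9,10,8] (.mul (.mul (.v (nat_lit 4)) (.v (nat_lit 5))) (.inv (.mul (.v (nat_lit 5)) (.v (nat_lit 4))))) (by decide +kernel)).symm.trans (Subgroup.mem_bot.1 (cc_of_12_0 (cc_of_r tt mm dt d3 md k l wc wf hz zc hy hv e1 e2) (H := ⊥) (List.forall_mem_nil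 _))))
noncomputable def cc_of_14_0_S0 : List ℕ := [nat_lit 0x1b00000700001800c032, nat_lit 0x1f00001c00a026, nat_lit 0x2300000b00001800e02c, nat_lit 0x2700002400a026, nat_lit 0x2f00002c00a026, nat_lit 0x2f00000f00002000802a, nat_lit 0x5000015000012008028, nat_lit 0x3b00003800a026, nat_lit 0x3b00001300002800802a, nat_lit 0xd00002100001e008028, nat_lit 0x4300000100001a002030, nat_lit 0x2900004300000900002600402e, nat_lit 0x3f00003800002d00002b00c02c, nat_lit 0x3300003100003f000010, nat_lit 0x35000033000010]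
noncomputable def cc_of_14_0_S : List (List ℕ) := [cc_of_14_0_S0]
noncomputable def cc_of_14_0_defs : List ℕ := [(nat_lit 0x400005008000040010000400000004009000030010000300000003001000020000000200100001000000010000000000700002007000010090000000d0000000000000)]
noncomputable def cc_of_14_0_recs : List ℕ := [(nat_lit 0x80000300004ff000040000cff000030000f0b0000d0000a0d0000a00010040000d0000804000090000e120000d0000e040000a0000604000070000b120000a0000b1200008000090a00005000081200006000070c0000500006)]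
noncomputable def cc_of_14_0_T : List (List ℕ × ℕ) := [([13,7,9,6,8], (nat_lit 0xc00001400003a00000f000007))]
noncomputable def cc_of_14_0_D : H26.Dag := ⟨[1,0,3,2,5,4,7,6,9,8,11,10,13,12,15,14,17,16,18], [[0,1],
  [1,0],
  [2,3],
  [3,2],
  [4,5],
  [5,4],
  [6,7],
  [7,6],
  [8,9],
  [9,8],
  [10,11],
  [11,10],
  [12,13],
  [13,12],
  [14,15],
  [15,14],
  [16,17],
  [17,16],
  [18,18],
  [18,0,0],
  [4,18,4,18],
  [7,1,4,0],
  [11,1,8,0],
  [13,11,5,10,4],
  [5,13,4,12],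
  [1,13,0,12]], [], cc_of_14_0_defs, cc_of_14_0_recs⟩
theorem cc_of_14_0_c : cc_of_14_0_D.check cc_of_14_0_S cc_of_14_0_T = true := by decide +kernel
theorem cc_of_14_0 {G : Type*} [Group G] {g : ℕ → G} (hR : Rels g cc_of_r_R) {H : Subgroup G}
    (hH : ∀ k ∈ [], g k ∈ H) : evA g [13,7,9,6,8] ∈ H :=
  mem_dag (K := 19) (J := [0,1,2,3,4,5,6,7,8,9,10,11,12,13,14,15,16,17,18,19,25,26,31,34,36,37]) (D := cc_of_14_0_D) (by decide +kernel) cc_of_14_0_c (by decide +kernel) hR hH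
theorem cc_of_14 {G : Type*} [Group G] {m d w a c f z y v t : G}
    (tt : t * t = 1)
    (mm : m * m = t)
    (dt : d * t = t * d)
    (d3 : d ^ 3 = 1)
    (md : (m * d) ^ 3 = 1)
    (k : WW m d t w a 1)
    (l : WW m d t c f 1)
    (wc : w * c = c * w)
    (wf : ⁅w, f⁆ = z)
    (hz : CY m d w z)
    (zc : z * c = c * z)
    (hy : CY m d w y)
    (hv : CY m d c v)
    (e1 : d * a * d⁻¹ = y * w⁻¹ * a)
    (e2 : d * f * d⁻¹ = v * c⁻¹ * f) :
    ⁅c, a⁆ = z :=
  mul_inv_eq_one.1 ((evA_eq_tm ((InvI.cons tt InvI.nil) : InvI [m, d, w, a, c, f, z, y, v, t] [(nat_lit 9)]) [(.v (nat_lit 0)), (.inv (.v (nat_lit 0))), (.v (nat_lit 1)), (.inv (.v (nat_lit 1))), (.v (nat_lit 2)), (.inv (.v (nat_lit 2))), (.v (nat_lit 3)), (.inv (.v (nat_lit 3))), (.v (nat_lit 4)), (.inv (.v (nat_lit 4))), (.v (nat_lit 5)), (.inv (.v (nat_lit 5))), (.v (nat_lit 6)), (.inv (.v (nat_lit 6))), (.v (nat_lit 7)), (.inv (.v (nat_lit 7))), (.v (nat_lit 8)), (.inv (.v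 (nat_lit 8))), (.v (nat_lit 9))] [13,7,9,6,8] (.mul (.mul (.mul (.mul (.v (nat_lit 4)) (.v (nat_lit 3))) (.inv (.v (nat_lit 4)))) (.inv (.v (nat_lit 3)))) (.inv (.v (nat_lit 6)))) (by decide +kernel)).symm.trans (Subgroup.mem_bot.1 (cc_of_14_0 (cc_of_r tt mm dt d3 md k l wc wf hz zc hy hv e1 e2) (H := ⊥) (List.forall_mem_nil _))))
noncomputable def cc_of_19_0_S0 : List ℕ := [nat_lit 0xf00000700000c00a026]
noncomputable def cc_of_19_0_S : List (List ℕ) := [cc_of_19_0_S0]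
noncomputable def cc_of_19_0_defs : List ℕ := [(nat_lit 0x3000010030000000d0000000000000)]
noncomputable def cc_of_19_0_recs : List ℕ := [(nat_lit 0xc0000200003)]
noncomputable def cc_of_19_0_T : List (List ℕ × ℕ) := [([13,3,12,2], (nat_lit 0xc00000100000f000007))]
noncomputable def cc_of_19_0_D : H26.Dag := ⟨[1,0,3,2,5,4,7,6,9,8,11,10,13,12,15,14,17,16,18], [[0,1],
  [1,0],
  [2,3],
  [3,2],
  [4,5],
  [5,4],
  [6,7],
  [7,6],
  [8,9],
  [9,8],
  [10,11],
  [11,10],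
  [12,13],
  [13,12],
  [14,15],
  [15,14],
  [16,17],
  [17,16],
  [18,18],
  [3,13,2,12]], [], cc_of_19_0_defs, cc_of_19_0_recs⟩
theorem cc_of_19_0_c : cc_of_19_0_D.check cc_of_19_0_S cc_of_19_0_T = true := by decide +kernel
theorem cc_of_19_0 {G : Type*} [Group G] {g : ℕ → G} (hR : Rels g cc_of_r_R) {H : Subgroup G}
    (hH : ∀ k ∈ [], g k ∈ H) : evA g [13,3,12,2] ∈ H :=
  mem_dag (K := 19) (J := [0,1,2,3,4,5,6,7,8,9,10,11,12,13,14,15,16,17,18,38]) (D := cc_of_19_0_D) (by decide +kernel) cc_of_19_0_c (by decide +kernel) hR hH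
theorem cc_of_19 {G : Type*} [Group G] {m d w a c f z y v t : G}
    (tt : t * t = 1)
    (mm : m * m = t)
    (dt : d * t = t * d)
    (d3 : d ^ 3 = 1)
    (md : (m * d) ^ 3 = 1)
    (k : WW m d t w a 1)
    (l : WW m d t c f 1)
    (wc : w * c = c * w)
    (wf : ⁅w, f⁆ = z)
    (hz : CY m d w z)
    (zc : z * c = c * z)
    (hy : CY m d w y)
    (hv : CY m d c v)
    (e1 : d * a * d⁻¹ = y * w⁻¹ * a)
    (e2 : d * f * d⁻¹ = v * c⁻¹ * f) :
    d * z = z * d :=
  mul_inv_eq_one.1 ((evA_eq_tm ((InvI.cons tt InvI.nil) : InvI [m, d, w, a, c, f, z, y, v, t] [(nat_lit 9)]) [(.v (nat_lit 0)), (.inv (.v (nat_lit 0))), (.v (nat_lit 1)), (.inv (.v (nat_lit 1))), (.v (nat_lit 2)), (.inv (.v (nat_lit 2))), (.v (nat_lit 3)), (.inv (.v (nat_lit 3))), (.v (nat_lit 4)), (.inv (.v (nat_lit 4))), (.v (nat_lit 5)), (.inv (.v (nat_lit 5))), (.v (nat_lit 6)), (.inv (.v (nat_lit 6))), (.v (nat_lit 7)), (.inv (.v (nat_lit 7))), (.v (nat_lit 8)), (.inv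 (.v (nat_lit 8))), (.v (nat_lit 9))] [13,3,12,2] (.mul (.mul (.v (nat_lit 1)) (.v (nat_lit 6))) (.inv (.mul (.v (nat_lit 6)) (.v (nat_lit 1))))) (by decide +kernel)).symm.trans (Subgroup.mem_bot.1 (cc_of_19_0 (cc_of_r tt mm dt d3 md k l wc wf hz zc hy hv e1 e2) (H := ⊥) (List.forall_mem_nil _))))
noncomputable def cc_of_20_0_S0 : List ℕ := [nat_lit 0xf00000700000c00a026]
noncomputable def cc_of_20_0_S : List (List ℕ) := [cc_of_20_0_S0]
noncomputable def cc_of_20_0_defs : List ℕ := [(nat_lit 0x1000010010000000d0000000000000)]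
noncomputable def cc_of_20_0_recs : List ℕ := [(nat_lit 0xc0000200003)]
noncomputable def cc_of_20_0_T : List (List ℕ × ℕ) := [([13,1,12,0], (nat_lit 0xc00000100000f000007))]
noncomputable def cc_of_20_0_D : H26.Dag := ⟨[1,0,3,2,5,4,7,6,9,8,11,10,13,12,15,14,17,16,18], [[0,1],
  [1,0],
  [2,3],
  [3,2],
  [4,5],
  [5,4],
  [6,7],
  [7,6],
  [8,9],
  [9,8],
  [10,11],
  [11,10],
  [12,13],
  [13,12],
  [14,15],
  [15,14],
  [16,17],
  [17,16],
  [18,18],
  [1,13,0,12]], [], cc_of_20_0_defs, cc_of_20_0_recs⟩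
theorem cc_of_20_0_c : cc_of_20_0_D.check cc_of_20_0_S cc_of_20_0_T = true := by decide +kernel
theorem cc_of_20_0 {G : Type*} [Group G] {g : ℕ → G} (hR : Rels g cc_of_r_R) {H : Subgroup G}
    (hH : ∀ k ∈ [], g k ∈ H) : evA g [13,1,12,0] ∈ H :=
  mem_dag (K := 19) (J := [0,1,2,3,4,5,6,7,8,9,10,11,12,13,14,15,16,17,18,37]) (D := cc_of_20_0_D) (by decide +kernel) cc_of_20_0_c (by decide +kernel) hR hH
theorem cc_of_20 {G : Type*} [Group G] {m d w a c f z y v t : G}
    (tt : t * t = 1)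
    (mm : m * m = t)
    (dt : d * t = t * d)
    (d3 : d ^ 3 = 1)
    (md : (m * d) ^ 3 = 1)
    (k : WW m d t w a 1)
    (l : WW m d t c f 1)
    (wc : w * c = c * w)
    (wf : ⁅w, f⁆ = z)
    (hz : CY m d w z)
    (zc : z * c = c * z)
    (hy : CY m d w y)
    (hv : CY m d c v)
    (e1 : d * a * d⁻¹ = y * w⁻¹ * a)
    (e2 : d * f * d⁻¹ = v * c⁻¹ * f) :
    m * z = z * m :=
  mul_inv_eq_one.1 ((evA_eq_tm ((InvI.cons tt InvI.nil) : InvI [m, d, w, a, c, f, z, y, v, t] [(nat_lit 9)]) [(.v (nat_lit 0)), (.inv (.v (nat_lit 0))), (.v (nat_lit 1)), (.inv (.v (nat_lit 1))), (.v (nat_lit 2)), (.inv (.v (nat_lit 2))), (.v (nat_lit 3)), (.inv (.v (nat_lit 3))), (.v (nat_lit 4)), (.inv (.v (nat_lit 4))), (.v (nat_lit 5)), (.inv (.v (nat_lit 5))), (.v (nat_lit 6)), (.inv (.v (nat_lit 6))), (.v (nat_lit 7)), (.inv (.v (nat_lit 7))), (.v (nat_lit 8)), (.inv (.v (nat_lit 8))), (.v (nat_lit 9))] [13,1,12,0] (.mul (.mul (.v (nat_lit 0)) (.v (nat_lit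 6))) (.inv (.mul (.v (nat_lit 6)) (.v (nat_lit 0))))) (by decide +kernel)).symm.trans (Subgroup.mem_bot.1 (cc_of_20_0 (cc_of_r tt mm dt d3 md k l wc wf hz zc hy hv e1 e2) (H := ⊥) (List.forall_mem_nil _))))
noncomputable def cc_of_24_0_S0 : List ℕ := [nat_lit 0x1b00001800a026, nat_lit 0x3300003000a026, nat_lit 0x3300000700001c00802e, nat_lit 0x100000900000600802c, nat_lit 0x43000030002026, nat_lit 0x4b00004800a026, nat_lit 0x4f00000b00002400a02a, nat_lit 0x5300000b00002800e038, nat_lit 0x5700000f00003800602a, nat_lit 0x5b00000f00003c000034, nat_lit 0x5f00000f000040006034, nat_lit 0x6300000f00004400802c, nat_lit 0x6b00006800a026, nat_lit 0x6b00001300004c00802e, nat_lit 0x1500003500003200802c, nat_lit 0x73000013000050008030, nat_lit 0x7b000017000028000036, nat_lit 0x7f00001b00002c008036, nat_lit 0x8300001f00002c006034, nat_lit 0x6f00001300000b00002c00004900e03a, nat_lit 0x8700002300002c008034, nat_lit 0x8b000041002026, nat_lit 0x8f00004900004d00a030,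 nat_lit 0x8f00005100008700001900003d00c03a, nat_lit 0x9300000d00007c000034, nat_lit 0x9300002f00003c000036, nat_lit 0x97000094006032, nat_lit 0x9700002f000040006036, nat_lit 0x9b00000a000080008034, nat_lit 0x9b000033000040008036, nat_lit 0x7500007200004600009000e02e, nat_lit 0x7a00005e000006, nat_lit 0x2a00007a00005a00000a, nat_lit 0x8200006f000006, nat_lit 0x7700008500005f00005800e038, nat_lit 0x8900007700001e, nat_lit 0x9f000065002026, nat_lit 0x5600006100009100e02e, nat_lit 0xa300006d002026, nat_lit 0x9200006900009900c036, nat_lit 0x12000098000099002036, nat_lit 0xa7000047000054000036, nat_lit 0xab0000a5002026, nat_lit 0xab00001e00008c00c028, nat_lit 0xaf00008e000068002036, nat_lit 0xa700003a0000b100e034, nat_lit 0xb30000b0002026, nat_lit 0xb300005700006400c028, nat_lit 0xaa0000b60000b900e02e, nat_lit 0xb70000260000a000802c, nat_lit 0xbd0000c10000ae0000960000c500003a, nat_lit 0xa100002d0000ca0000c6006034, nat_lit 0xcd00009d0000cd0000a100001e,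 nat_lit 0x440000d10000cd0000a3000024, nat_lit 0x370000d600007e000004, nat_lit 0x220000da00007300000a, nat_lit 0xdd000057000004]
noncomputable def cc_of_24_0_S : List (List ℕ) := [cc_of_24_0_S0]
noncomputable def cc_of_24_0_defs : List ℕ := [(nat_lit 0x120001601200015000000150120001400e000110120000f0120000e00f0000c00f0000b00e0000b0070000a0120000900f0000800f0000700f0000600e0000500e00004005000040020000400100004000000040120000300f0000300e000030030000300e000020050000200100002000000020120000100f0000100e0000100300001001000010000000100f0000000e00000005000000040000000100000000000000070000200400001003000000070000000000000)]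
noncomputable def cc_of_24_0_recs : List ℕ := [(nat_lit 0x20000300004ff0000400015ff0001c0000dff0000f00001ff0001000027ff00027000280f0002d0001804000270002d060002c0002a02000180002c010002b0002c040002b000290f000190002b02000220002a01000290002a0100014000290f00028000100e00028000270100025000280600027000220100024000270f0000400015ff000150001d030000400017ff0001b00017030001c0000fff000230000f000000f00026040001f00026010000f000250f0002400025010000e00024050001e00024030001c00023040001b00023010001e00022040000a0002106000200001b050000a00020000000a0001f01000090001e06000130001c04000190001104000120001a12000190001a040001000018050000f00017050000e00016050000d00015020000900014020000800013120001100012010000b00010040000b0000504000060000c120000b0000c120000500006)]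
noncomputable def cc_of_24_0_T : List (List ℕ × ℕ) := [([7,4,3,6,2], (nat_lit 0xc0000140000e200000f000007))]
noncomputable def cc_of_24_0_D : H26.Dag := ⟨[1,0,3,2,5,4,7,6,9,8,11,10,13,12,15,14,17,16,18], [[0,1],
  [1,0],
  [2,3],
  [3,2],
  [4,5],
  [5,4],
  [6,7],
  [7,6],
  [8,9],
  [9,8],
  [10,11],
  [11,10],
  [12,13],
  [13,12],
  [14,15],
  [15,14],
  [16,17],
  [17,16],
  [18,18],
  [18,0,0],
  [18,3,18,2],
  [5,3,4,2],
  [4,18,4,18],
  [7,1,4,0],
  [7,5,6,4],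
  [14,14,14],
  [5,15,4,14],
  [1,15,0,14],
  [3,15,2,14],
  [15,4,7,3,6,2]], [], cc_of_24_0_defs, cc_of_24_0_recs⟩
theorem cc_of_24_0_c : cc_of_24_0_D.check cc_of_24_0_S cc_of_24_0_T = true := by decide +kernel
theorem cc_of_24_0 {G : Type*} [Group G] {g : ℕ → G} (hR : Rels g cc_of_r_R) {H : Subgroup G}
    (hH : ∀ k ∈ [], g k ∈ H) : evA g [7,4,3,6,2] ∈ H :=
  mem_dag (K := 19) (J := [0,1,2,3,4,5,6,7,8,9,10,11,12,13,14,15,16,17,18,19,20,24,25,26,27,40,41,42,43,48]) (D := cc_of_24_0_D) (by decide +kernel) cc_of_24_0_c (by decide +kernel) hR hH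
theorem cc_of_24 {G : Type*} [Group G] {m d w a c f z y v t : G}
    (tt : t * t = 1)
    (mm : m * m = t)
    (dt : d * t = t * d)
    (d3 : d ^ 3 = 1)
    (md : (m * d) ^ 3 = 1)
    (k : WW m d t w a 1)
    (l : WW m d t c f 1)
    (wc : w * c = c * w)
    (wf : ⁅w, f⁆ = z)
    (hz : CY m d w z)
    (zc : z * c = c * z)
    (hy : CY m d w y)
    (hv : CY m d c v)
    (e1 : d * a * d⁻¹ = y * w⁻¹ * a)
    (e2 : d * f * d⁻¹ = v * c⁻¹ * f) :
    d * a * d⁻¹ = a * w⁻¹ :=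
  mul_inv_eq_one.1 ((evA_eq_tm ((InvI.cons tt InvI.nil) : InvI [m, d, w, a, c, f, z, y, v, t] [(nat_lit 9)]) [(.v (nat_lit 0)), (.inv (.v (nat_lit 0))), (.v (nat_lit 1)), (.inv (.v (nat_lit 1))), (.v (nat_lit 2)), (.inv (.v (nat_lit 2))), (.v (nat_lit 3)), (.inv (.v (nat_lit 3))), (.v (nat_lit 4)), (.inv (.v (nat_lit 4))), (.v (nat_lit 5)), (.inv (.v (nat_lit 5))), (.v (nat_lit 6)), (.inv (.v (nat_lit 6))), (.v (nat_lit 7)), (.inv (.v (nat_lit 7))), (.v (nat_lit 8)), (.inv (.v (nat_lit 8))), (.v (nat_lit 9))] [7,4,3,6,2] (.mul (.mul (.mul (.v (nat_lit 1)) (.v (nat_lit 3))) (.inv (.v (nat_lit 1)))) (.inv (.mul (.v (nat_lit 3)) (.inv (.v (nat_lit 2)))))) (by decide +kernel)).symm.trans (Subgroup.mem_bot.1 (cc_of_24_0 (cc_of_r tt mm dt d3 md k l wc wf hz zc hy hv e1 e2) (H := ⊥) (List.forall_mem_nil _))))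
noncomputable def cc_of_25_0_S0 : List ℕ := [nat_lit 0x1b00001800a026, nat_lit 0x3300003000a026, nat_lit 0x3300000700001c00802e, nat_lit 0x100000900000600802c, nat_lit 0x43000030002026, nat_lit 0x4b00004800a026, nat_lit 0x4f00000b00002400a02a, nat_lit 0x5300000b00002800e038, nat_lit 0x5700000f00003800602a, nat_lit 0x5b00000f00003c000034, nat_lit 0x5f00000f000040006034, nat_lit 0x6300000f00004400802c, nat_lit 0x6b00006800a026, nat_lit 0x6b00001300004c00802e, nat_lit 0x1500003500003200802c, nat_lit 0x73000013000050008030, nat_lit 0x7b000017000028000036, nat_lit 0x7f00001b00002c008036, nat_lit 0x8300001f00002c006034, nat_lit 0x6f00001300000b00002c00004900e03a, nat_lit 0x8700002300002c008034, nat_lit 0x8b000041002026, nat_lit 0x8f00004900004d00a030, nat_lit 0x8f00005100008700001900003d00c03a, nat_lit 0x9300000d00007c000034, nat_lit 0x9300002f00003c000036, nat_lit 0x97000094006032, nat_lit 0x9700002f000040006036, nat_lit 0x9b00000a000080008034,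 nat_lit 0x9b000033000040008036, nat_lit 0x7500007200004600009000e02e, nat_lit 0x7a00005e000006, nat_lit 0x2a00007a00005a000012, nat_lit 0x8200006f000006, nat_lit 0x7700008500005f00005800e038, nat_lit 0x89000077000022, nat_lit 0x9f000065002026, nat_lit 0x5600006100009100e02e, nat_lit 0xa300006d002026, nat_lit 0x9200006900009900c036, nat_lit 0x12000098000099002036, nat_lit 0xa7000047000054000036, nat_lit 0xab0000a5002026, nat_lit 0xab00001e00008c00c028, nat_lit 0xaf00008e000068002036, nat_lit 0xa700003a0000b100e034, nat_lit 0xb30000b0002026, nat_lit 0xb300005700006400c028, nat_lit 0xaa0000b60000b900e02e, nat_lit 0xb70000260000a000802c, nat_lit 0xbd0000c10000ae0000960000c500003a, nat_lit 0xa100002d0000ca0000c6006034, nat_lit 0xcd00009d0000cd0000a1000022, nat_lit 0x440000d10000cd0000a3000024, nat_lit 0x370000d600007e000004, nat_lit 0x220000da000073000012, nat_lit 0xdd000057000004]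
noncomputable def cc_of_25_0_S : List (List ℕ) := [cc_of_25_0_S0]
noncomputable def cc_of_25_0_defs : List ℕ := [(nat_lit 0x1200016012000150000001501200014010000110120000f0120000e0110000c0110000b0100000b00b0000a01200009011000080110000701100006010000050100000400900004002000040010000400000004012000030110000301000003003000030100000200900002001000020000000201200001011000010100000100300001001000010000000101100000010000000090000000800000001000000000000000b00002008000010030000000b0000000000000)]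
noncomputable def cc_of_25_0_recs : List ℕ := [(nat_lit 0x20000300004ff0000400015ff0001c0000dff0000f00001ff0001000027ff0002700028110002d0001808000270002d0a0002c0002a02000180002c010002b0002c080002b0002911000190002b02000220002a01000290002a0100014000291100028000101000028000270100025000280a0002700022010002400027110000400015ff000150001d030000400017ff0001b00017030001c0000fff000230000f000000f00026080001f00026010000f00025110002400025010000e00024090001e00024030001c00023080001b00023010001e00022080000a000210a000200001b090000a00020000000a0001f01000090001e0a000130001c08000190001108000120001a12000190001a080001000018090000f00017090000e00016090000d00015020000900014020000800013120001100012010000b00010080000b0000508000060000c120000b0000c120000500006)]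
noncomputable def cc_of_25_0_T : List (List ℕ × ℕ) := [([11,8,3,10,2], (nat_lit 0xc0000140000e200000f000007))]
noncomputable def cc_of_25_0_D : H26.Dag := ⟨[1,0,3,2,5,4,7,6,9,8,11,10,13,12,15,14,17,16,18], [[0,1],
  [1,0],
  [2,3],
  [3,2],
  [4,5],
  [5,4],
  [6,7],
  [7,6],
  [8,9],
  [9,8],
  [10,11],
  [11,10],
  [12,13],
  [13,12],
  [14,15],
  [15,14],
  [16,17],
  [17,16],
  [18,18],
  [18,0,0],
  [18,3,18,2],
  [9,3,8,2],
  [8,18,8,18],
  [11,1,8,0],
  [11,9,10,8],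
  [16,16,16],
  [9,17,8,16],
  [1,17,0,16],
  [3,17,2,16],
  [17,8,11,3,10,2]], [], cc_of_25_0_defs, cc_of_25_0_recs⟩
theorem cc_of_25_0_c : cc_of_25_0_D.check cc_of_25_0_S cc_of_25_0_T = true := by decide +kernel
theorem cc_of_25_0 {G : Type*} [Group G] {g : ℕ → G} (hR : Rels g cc_of_r_R) {H : Subgroup G}
    (hH : ∀ k ∈ [], g k ∈ H) : evA g [11,8,3,10,2] ∈ H :=
  mem_dag (K := 19) (J := [0,1,2,3,4,5,6,7,8,9,10,11,12,13,14,15,16,17,18,19,20,29,30,31,32,44,45,46,47,49]) (D := cc_of_25_0_D) (by decide +kernel) cc_of_25_0_c (by decide +kernel) hR hH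
theorem cc_of_25 {G : Type*} [Group G] {m d w a c f z y v t : G}
    (tt : t * t = 1)
    (mm : m * m = t)
    (dt : d * t = t * d)
    (d3 : d ^ 3 = 1)
    (md : (m * d) ^ 3 = 1)
    (k : WW m d t w a 1)
    (l : WW m d t c f 1)
    (wc : w * c = c * w)
    (wf : ⁅w, f⁆ = z)
    (hz : CY m d w z)
    (zc : z * c = c * z)
    (hy : CY m d w y)
    (hv : CY m d c v)
    (e1 : d * a * d⁻¹ = y * w⁻¹ * a)
    (e2 : d * f * d⁻¹ = v * c⁻¹ * f) :
    d * f * d⁻¹ = f * c⁻¹ :=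
  mul_inv_eq_one.1 ((evA_eq_tm ((InvI.cons tt InvI.nil) : InvI [m, d, w, a, c, f, z, y, v, t] [(nat_lit 9)]) [(.v (nat_lit 0)), (.inv (.v (nat_lit 0))), (.v (nat_lit 1)), (.inv (.v (nat_lit 1))), (.v (nat_lit 2)), (.inv (.v (nat_lit 2))), (.v (nat_lit 3)), (.inv (.v (nat_lit 3))), (.v (nat_lit 4)), (.inv (.v (nat_lit 4))), (.v (nat_lit 5)), (.inv (.v (nat_lit 5))), (.v (nat_lit 6)), (.inv (.v (nat_lit 6))), (.v (nat_lit 7)), (.inv (.v (nat_lit 7))), (.v (nat_lit 8)), (.inv (.v (nat_lit 8))), (.v (nat_lit 9))] [11,8,3,10,2] (.mul (.mul (.mul (.v (nat_lit 1)) (.v (nat_lit 5))) (.inv (.v (nat_lit 1)))) (.inv (.mul (.v (nat_lit 5)) (.inv (.v (nat_lit 4)))))) (by decide +kernel)).symm.trans (Subgroup.mem_bot.1 (cc_of_25_0 (cc_of_r tt mm dt d3 md k l wc wf hz zc hy hv e1 e2) (H := ⊥) (List.forall_mem_nil _))))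
noncomputable def cc_of_27_0_S0 : List ℕ := [nat_lit 0x1300000c004026, nat_lit 0x17000010004026, nat_lit 0x17000007000014008028, nat_lit 0x100000900000600002a]
noncomputable def cc_of_27_0_S : List (List ℕ) := [cc_of_27_0_S0]
noncomputable def cc_of_27_0_defs : List ℕ := [(nat_lit 0x12000010120000000100001001000000040000000000000)]
noncomputable def cc_of_27_0_recs : List ℕ := [(nat_lit 0x70000300002040000400005000000300005000000200004)]
noncomputable def cc_of_27_0_T : List (List ℕ × ℕ) := [([4,1,6,0], (nat_lit 0xc00000e00000f000007))]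
noncomputable def cc_of_27_0_D : H26.Dag := ⟨[1,0,3,2,5,4,7,6,9,8,11,10,13,12,15,14,17,16,18], [[0,1],
  [1,0],
  [2,3],
  [3,2],
  [4,5],
  [5,4],
  [6,7],
  [7,6],
  [8,9],
  [9,8],
  [10,11],
  [11,10],
  [12,13],
  [13,12],
  [14,15],
  [15,14],
  [16,17],
  [17,16],
  [18,18],
  [18,0,0],
  [4,18,4,18],
  [7,1,4,0]], [], cc_of_27_0_defs, cc_of_27_0_recs⟩
theorem cc_of_27_0_c : cc_of_27_0_D.check cc_of_27_0_S cc_of_27_0_T = true := by decide +kernel
theorem cc_of_27_0 {G : Type*} [Group G] {g : ℕ → G} (hR : Rels g cc_of_r_R) {H : Subgroup G}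
    (hH : ∀ k ∈ [], g k ∈ H) : evA g [4,1,6,0] ∈ H :=
  mem_dag (K := 19) (J := [0,1,2,3,4,5,6,7,8,9,10,11,12,13,14,15,16,17,18,19,25,26]) (D := cc_of_27_0_D) (by decide +kernel) cc_of_27_0_c (by decide +kernel) hR hH
theorem cc_of_27 {G : Type*} [Group G] {m d w a c f z y v t : G}
    (tt : t * t = 1)
    (mm : m * m = t)
    (dt : d * t = t * d)
    (d3 : d ^ 3 = 1)
    (md : (m * d) ^ 3 = 1)
    (k : WW m d t w a 1)
    (l : WW m d t c f 1)
    (wc : w * c = c * w)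
    (wf : ⁅w, f⁆ = z)
    (hz : CY m d w z)
    (zc : z * c = c * z)
    (hy : CY m d w y)
    (hv : CY m d c v)
    (e1 : d * a * d⁻¹ = y * w⁻¹ * a)
    (e2 : d * f * d⁻¹ = v * c⁻¹ * f) :
    m * a * m⁻¹ = w⁻¹ :=
  mul_inv_eq_one.1 ((evA_eq_tm ((InvI.cons tt InvI.nil) : InvI [m, d, w, a, c, f, z, y, v, t] [(nat_lit 9)]) [(.v (nat_lit 0)), (.inv (.v (nat_lit 0))), (.v (nat_lit 1)), (.inv (.v (nat_lit 1))), (.v (nat_lit 2)), (.inv (.v (nat_lit 2))), (.v (nat_lit 3)), (.inv (.v (nat_lit 3))), (.v (nat_lit 4)), (.inv (.v (nat_lit 4))), (.v (nat_lit 5)), (.inv (.v (nat_lit 5))), (.v (nat_lit 6)), (.inv (.v (nat_lit 6))), (.v (nat_lit 7)), (.inv (.v (nat_lit 7))), (.v (nat_lit 8)), (.inv (.v (nat_lit 8))), (.v (nat_lit 9))] [4,1,6,0] (.mul (.mul (.mul (.v (nat_lit 0)) (.v (nat_lit 3))) (.inv (.v (nat_lit 0)))) (.inv (.inv (.v (nat_lit 2))))) (by decide +kernel)).symm.trans (Subgroup.mem_bot.1 (cc_of_27_0 (cc_of_r tt mm dt d3 md k l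 wc wf hz zc hy hv e1 e2) (H := ⊥) (List.forall_mem_nil _))))
noncomputable def cc_of_29_0_S0 : List ℕ := [nat_lit 0x1300000c004026, nat_lit 0x17000010004026, nat_lit 0x17000007000014008028, nat_lit 0x100000900000600002a]
noncomputable def cc_of_29_0_S : List (List ℕ) := [cc_of_29_0_S0]
noncomputable def cc_of_29_0_defs : List ℕ := [(nat_lit 0x12000010120000000100001001000000080000000000000)]
noncomputable def cc_of_29_0_recs : List ℕ := [(nat_lit 0xb0000300002080000400005000000300005000000200004)]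
noncomputable def cc_of_29_0_T : List (List ℕ × ℕ) := [([8,1,10,0], (nat_lit 0xc00000e00000f000007))]
noncomputable def cc_of_29_0_D : H26.Dag := ⟨[1,0,3,2,5,4,7,6,9,8,11,10,13,12,15,14,17,16,18], [[0,1],
  [1,0],
  [2,3],
  [3,2],
  [4,5],
  [5,4],
  [6,7],
  [7,6],
  [8,9],
  [9,8],
  [10,11],
  [11,10],
  [12,13],
  [13,12],
  [14,15],
  [15,14],
  [16,17],
  [17,16],
  [18,18],
  [18,0,0],
  [8,18,8,18],
  [11,1,8,0]], [], cc_of_29_0_defs, cc_of_29_0_recs⟩
theorem cc_of_29_0_c : cc_of_29_0_D.check cc_of_29_0_S cc_of_29_0_T = true := by decide +kernel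
theorem cc_of_29_0 {G : Type*} [Group G] {g : ℕ → G} (hR : Rels g cc_of_r_R) {H : Subgroup G}
    (hH : ∀ k ∈ [], g k ∈ H) : evA g [8,1,10,0] ∈ H :=
  mem_dag (K := 19) (J := [0,1,2,3,4,5,6,7,8,9,10,11,12,13,14,15,16,17,18,19,30,31]) (D := cc_of_29_0_D) (by decide +kernel) cc_of_29_0_c (by decide +kernel) hR hH
theorem cc_of_29 {G : Type*} [Group G] {m d w a c f z y v t : G}
    (tt : t * t = 1)
    (mm : m * m = t)
    (dt : d * t = t * d)
    (d3 : d ^ 3 = 1)
    (md : (m * d) ^ 3 = 1)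
    (k : WW m d t w a 1)
    (l : WW m d t c f 1)
    (wc : w * c = c * w)
    (wf : ⁅w, f⁆ = z)
    (hz : CY m d w z)
    (zc : z * c = c * z)
    (hy : CY m d w y)
    (hv : CY m d c v)
    (e1 : d * a * d⁻¹ = y * w⁻¹ * a)
    (e2 : d * f * d⁻¹ = v * c⁻¹ * f) :
    m * f * m⁻¹ = c⁻¹ :=
  mul_inv_eq_one.1 ((evA_eq_tm ((InvI.cons tt InvI.nil) : InvI [m, d, w, a, c, f, z, y, v, t] [(nat_lit 9)]) [(.v (nat_lit 0)), (.inv (.v (nat_lit 0))), (.v (nat_lit 1)), (.inv (.v (nat_lit 1))), (.v (nat_lit 2)), (.inv (.v (nat_lit 2))), (.v (nat_lit 3)), (.inv (.v (nat_lit 3))), (.v (nat_lit 4)), (.inv (.v (nat_lit 4))), (.v (nat_lit 5)), (.inv (.v (nat_lit 5))), (.v (nat_lit 6)), (.inv (.v (nat_lit 6))), (.v (nat_lit 7)), (.inv (.v (nat_lit 7))), (.v (nat_lit 8)), (.inv (.v (nat_lit 8))), (.v (nat_lit 9))] [8,1,10,0] (.mul (.mul (.mul (.v (nat_lit 0)) (.v (nat_lit 5))) (.inv (.v (nat_lit 0)))) (.inv (.inv (.v (nat_lit 4))))) (by decide +kernel)).symm.trans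 (Subgroup.mem_bot.1 (cc_of_29_0 (cc_of_r tt mm dt d3 md k l wc wf hz zc hy hv e1 e2) (H := ⊥) (List.forall_mem_nil _))))
noncomputable def cc_of_30_0_S0 : List ℕ := [nat_lit 0x1300000c008026, nat_lit 0x17000010008026, nat_lit 0x1700000700001400c028, nat_lit 0x1000009000006002028]
noncomputable def cc_of_30_0_S : List (List ℕ) := [cc_of_30_0_S0]
noncomputable def cc_of_30_0_defs : List ℕ := [(nat_lit 0x100000000012000010120000000d0000000000000)]
noncomputable def cc_of_30_0_recs : List ℕ := [(nat_lit 0xd00003000020c0000400005000000300005000000200004)]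
noncomputable def cc_of_30_0_T : List (List ℕ × ℕ) := [([13,18,12,18], (nat_lit 0xc00000e00000f000007))]
noncomputable def cc_of_30_0_D : H26.Dag := ⟨[1,0,3,2,5,4,7,6,9,8,11,10,13,12,15,14,17,16,18], [[0,1],
  [1,0],
  [2,3],
  [3,2],
  [4,5],
  [5,4],
  [6,7],
  [7,6],
  [8,9],
  [9,8],
  [10,11],
  [11,10],
  [12,13],
  [13,12],
  [14,15],
  [15,14],
  [16,17],
  [17,16],
  [18,18],
  [18,0,0],
  [1,13,0,12]], [], cc_of_30_0_defs, cc_of_30_0_recs⟩
theorem cc_of_30_0_c : cc_of_30_0_D.check cc_of_30_0_S cc_of_30_0_T = true := by decide +kernel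
theorem cc_of_30_0 {G : Type*} [Group G] {g : ℕ → G} (hR : Rels g cc_of_r_R) {H : Subgroup G}
    (hH : ∀ k ∈ [], g k ∈ H) : evA g [13,18,12,18] ∈ H :=
  mem_dag (K := 19) (J := [0,1,2,3,4,5,6,7,8,9,10,11,12,13,14,15,16,17,18,19,37]) (D := cc_of_30_0_D) (by decide +kernel) cc_of_30_0_c (by decide +kernel) hR hH
theorem cc_of_30 {G : Type*} [Group G] {m d w a c f z y v t : G}
    (tt : t * t = 1)
    (mm : m * m = t)
    (dt : d * t = t * d)
    (d3 : d ^ 3 = 1)
    (md : (m * d) ^ 3 = 1)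
    (k : WW m d t w a 1)
    (l : WW m d t c f 1)
    (wc : w * c = c * w)
    (wf : ⁅w, f⁆ = z)
    (hz : CY m d w z)
    (zc : z * c = c * z)
    (hy : CY m d w y)
    (hv : CY m d c v)
    (e1 : d * a * d⁻¹ = y * w⁻¹ * a)
    (e2 : d * f * d⁻¹ = v * c⁻¹ * f) :
    t * z = z * t :=
  mul_inv_eq_one.1 ((evA_eq_tm ((InvI.cons tt InvI.nil) : InvI [m, d, w, a, c, f, z, y, v, t] [(nat_lit 9)]) [(.v (nat_lit 0)), (.inv (.v (nat_lit 0))), (.v (nat_lit 1)), (.inv (.v (nat_lit 1))), (.v (nat_lit 2)), (.inv (.v (nat_lit 2))), (.v (nat_lit 3)), (.inv (.v (nat_lit 3))), (.v (nat_lit 4)), (.inv (.v (nat_lit 4))), (.v (nat_lit 5)), (.inv (.v (nat_lit 5))), (.v (nat_lit 6)), (.inv (.v (nat_lit 6))), (.v (nat_lit 7)), (.inv (.v (nat_lit 7))), (.v (nat_lit 8)), (.inv (.v (nat_lit 8))), (.v (nat_lit 9))] [13,18,12,18] (.mul (.mul (.v (nat_lit 9)) (.v (nat_lit 6))) (.inv (.mul (.v (nat_lit 6)) (.v (nat_lit 9))))) (by decide +kernel)).symm.trans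 (Subgroup.mem_bot.1 (cc_of_30_0 (cc_of_r tt mm dt d3 md k l wc wf hz zc hy hv e1 e2) (H := ⊥) (List.forall_mem_nil _))))
noncomputable def cc_of_32_0_S0 : List ℕ := [nat_lit 0x1300000c008026, nat_lit 0x1700001400a026, nat_lit 0x1b000010008026, nat_lit 0x1f00001c00a026, nat_lit 0x1f00000700001800602a, nat_lit 0x500001100000e00e028, nat_lit 0x900001500000200e02a]
noncomputable def cc_of_32_0_S : List (List ℕ) := [cc_of_32_0_S0]
noncomputable def cc_of_32_0_defs : List ℕ := [(nat_lit 0x10000100000001001000000000000001200001012000000060000000000000)]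
noncomputable def cc_of_32_0_recs : List ℕ := [(nat_lit 0x60000200003050000600004050000500007120000600007000000300006120000400005000000200004)]
noncomputable def cc_of_32_0_T : List (List ℕ × ℕ) := [([6,18,6,18], (nat_lit 0xc00001900000f000007))]
noncomputable def cc_of_32_0_D : H26.Dag := ⟨[1,0,3,2,5,4,7,6,9,8,11,10,13,12,15,14,17,16,18], [[0,1],
  [1,0],
  [2,3],
  [3,2],
  [4,5],
  [5,4],
  [6,7],
  [7,6],
  [8,9],
  [9,8],
  [10,11],
  [11,10],
  [12,13],
  [13,12],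
  [14,15],
  [15,14],
  [16,17],
  [17,16],
  [18,18],
  [18,0,0],
  [4,18,4,18],
  [7,1,4,0]], [], cc_of_32_0_defs, cc_of_32_0_recs⟩
theorem cc_of_32_0_c : cc_of_32_0_D.check cc_of_32_0_S cc_of_32_0_T = true := by decide +kernel
theorem cc_of_32_0 {G : Type*} [Group G] {g : ℕ → G} (hR : Rels g cc_of_r_R) {H : Subgroup G}
    (hH : ∀ k ∈ [], g k ∈ H) : evA g [6,18,6,18] ∈ H :=
  mem_dag (K := 19) (J := [0,1,2,3,4,5,6,7,8,9,10,11,12,13,14,15,16,17,18,19,25,26]) (D := cc_of_32_0_D) (by decide +kernel) cc_of_32_0_c (by decide +kernel) hR hH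
theorem cc_of_32 {G : Type*} [Group G] {m d w a c f z y v t : G}
    (tt : t * t = 1)
    (mm : m * m = t)
    (dt : d * t = t * d)
    (d3 : d ^ 3 = 1)
    (md : (m * d) ^ 3 = 1)
    (k : WW m d t w a 1)
    (l : WW m d t c f 1)
    (wc : w * c = c * w)
    (wf : ⁅w, f⁆ = z)
    (hz : CY m d w z)
    (zc : z * c = c * z)
    (hy : CY m d w y)
    (hv : CY m d c v)
    (e1 : d * a * d⁻¹ = y * w⁻¹ * a)
    (e2 : d * f * d⁻¹ = v * c⁻¹ * f) :
    t * a * t⁻¹ = a⁻¹ :=
  mul_inv_eq_one.1 ((evA_eq_tm ((InvI.cons tt InvI.nil) : InvI [m, d, w, a, c, f, z, y, v, t] [(nat_lit 9)]) [(.v (nat_lit 0)), (.inv (.v (nat_lit 0))), (.v (nat_lit 1)), (.inv (.v (nat_lit 1))), (.v (nat_lit 2)), (.inv (.v (nat_lit 2))), (.v (nat_lit 3)), (.inv (.v (nat_lit 3))), (.v (nat_lit 4)), (.inv (.v (nat_lit 4))), (.v (nat_lit 5)), (.inv (.v (nat_lit 5))), (.v (nat_lit 6)), (.inv (.v (nat_lit 6))), (.v (nat_lit 7)), (.inv (.v (nat_lit 7))), (.v (nat_lit 8)),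 (.inv (.v (nat_lit 8))), (.v (nat_lit 9))] [6,18,6,18] (.mul (.mul (.mul (.v (nat_lit 9)) (.v (nat_lit 3))) (.inv (.v (nat_lit 9)))) (.inv (.inv (.v (nat_lit 3))))) (by decide +kernel)).symm.trans (Subgroup.mem_bot.1 (cc_of_32_0 (cc_of_r tt mm dt d3 md k l wc wf hz zc hy hv e1 e2) (H := ⊥) (List.forall_mem_nil _))))
noncomputable def cc_of_34_0_S0 : List ℕ := [nat_lit 0x1300000c008026, nat_lit 0x1700001400a026, nat_lit 0x1b000010008026, nat_lit 0x1f00001c00a026, nat_lit 0x1f00000700001800602a, nat_lit 0x500001100000e00e028, nat_lit 0x900001500000200e02a]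
noncomputable def cc_of_34_0_S : List (List ℕ) := [cc_of_34_0_S0]
noncomputable def cc_of_34_0_defs : List ℕ := [(nat_lit 0x100001000000010010000000000000012000010120000000a0000000000000)]
noncomputable def cc_of_34_0_recs : List ℕ := [(nat_lit 0xa0000200003090000600004090000500007120000600007000000300006120000400005000000200004)]
noncomputable def cc_of_34_0_T : List (List ℕ × ℕ) := [([10,18,10,18], (nat_lit 0xc00001900000f000007))]
noncomputable def cc_of_34_0_D : H26.Dag := ⟨[1,0,3,2,5,4,7,6,9,8,11,10,13,12,15,14,17,16,18], [[0,1],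
  [1,0],
  [2,3],
  [3,2],
  [4,5],
  [5,4],
  [6,7],
  [7,6],
  [8,9],
  [9,8],
  [10,11],
  [11,10],
  [12,13],
  [13,12],
  [14,15],
  [15,14],
  [16,17],
  [17,16],
  [18,18],
  [18,0,0],
  [8,18,8,18],
  [11,1,8,0]], [], cc_of_34_0_defs, cc_of_34_0_recs⟩
theorem cc_of_34_0_c : cc_of_34_0_D.check cc_of_34_0_S cc_of_34_0_T = true := by decide +kernel
theorem cc_of_34_0 {G : Type*} [Group G] {g : ℕ → G} (hR : Rels g cc_of_r_R) {H : Subgroup G}
    (hH : ∀ k ∈ [], g k ∈ H) : evA g [10,18,10,18] ∈ H :=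
  mem_dag (K := 19) (J := [0,1,2,3,4,5,6,7,8,9,10,11,12,13,14,15,16,17,18,19,30,31]) (D := cc_of_34_0_D) (by decide +kernel) cc_of_34_0_c (by decide +kernel) hR hH
theorem cc_of_34 {G : Type*} [Group G] {m d w a c f z y v t : G}
    (tt : t * t = 1)
    (mm : m * m = t)
    (dt : d * t = t * d)
    (d3 : d ^ 3 = 1)
    (md : (m * d) ^ 3 = 1)
    (k : WW m d t w a 1)
    (l : WW m d t c f 1)
    (wc : w * c = c * w)
    (wf : ⁅w, f⁆ = z)
    (hz : CY m d w z)
    (zc : z * c = c * z)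
    (hy : CY m d w y)
    (hv : CY m d c v)
    (e1 : d * a * d⁻¹ = y * w⁻¹ * a)
    (e2 : d * f * d⁻¹ = v * c⁻¹ * f) :
    t * f * t⁻¹ = f⁻¹ :=
  mul_inv_eq_one.1 ((evA_eq_tm ((InvI.cons tt InvI.nil) : InvI [m, d, w, a, c, f, z, y, v, t] [(nat_lit 9)]) [(.v (nat_lit 0)), (.inv (.v (nat_lit 0))), (.v (nat_lit 1)), (.inv (.v (nat_lit 1))), (.v (nat_lit 2)), (.inv (.v (nat_lit 2))), (.v (nat_lit 3)), (.inv (.v (nat_lit 3))), (.v (nat_lit 4)), (.inv (.v (nat_lit 4))), (.v (nat_lit 5)), (.inv (.v (nat_lit 5))), (.v (nat_lit 6)), (.inv (.v (nat_lit 6))), (.v (nat_lit 7)), (.inv (.v (nat_lit 7))), (.v (nat_lit 8)), (.inv (.v (nat_lit 8))), (.v (nat_lit 9))] [10,18,10,18] (.mul (.mul (.mul (.v (nat_lit 9)) (.v (nat_lit 5))) (.inv (.v (nat_lit 9)))) (.inv (.inv (.v (nat_lit 5))))) (by decide +kernel)).symm.trans (Subgroup.mem_bot.1 (cc_of_34_0 (cc_of_r tt mm dt d3 md k l wc wf hz zc hy hv e1 e2) (H := ⊥) (List.forall_mem_nil _))))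
theorem cc_of {G : Type*} [Group G] {m d w a c f z y v t : G}
    (tt : t * t = 1)
    (mm : m * m = t)
    (dt : d * t = t * d)
    (d3 : d ^ 3 = 1)
    (md : (m * d) ^ 3 = 1)
    (k : WW m d t w a 1)
    (l : WW m d t c f 1)
    (wc : w * c = c * w)
    (wf : ⁅w, f⁆ = z)
    (hz : CY m d w z)
    (zc : z * c = c * z)
    (hy : CY m d w y)
    (hv : CY m d c v)
    (e1 : d * a * d⁻¹ = y * w⁻¹ * a)
    (e2 : d * f * d⁻¹ = v * c⁻¹ * f) :
    CC z w a c f d m t :=
  ⟨hz.1,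
   k.1,
   cc_of_2 tt mm dt d3 md k l wc wf hz zc hy hv e1 e2,
   l.1,
   cc_of_4 tt mm dt d3 md k l wc wf hz zc hy hv e1 e2,
   cc_of_5 tt mm dt d3 md k l wc wf hz zc hy hv e1 e2,
   cc_of_6 tt mm dt d3 md k l wc wf hz zc hy hv e1 e2,
   cc_of_7 tt mm dt d3 md k l wc wf hz zc hy hv e1 e2,
   cc_of_8 tt mm dt d3 md k l wc wf hz zc hy hv e1 e2,
   cc_of_9 tt mm dt d3 md k l wc wf hz zc hy hv e1 e2,
   wc,
   cc_of_11 tt mm dt d3 md k l wc wf hz zc hy hv e1 e2,
   cc_of_12 tt mm dt d3 md k l wc wf hz zc hy hv e1 e2,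
   wf,
   cc_of_14 tt mm dt d3 md k l wc wf hz zc hy hv e1 e2,
   d3,
   tt,
   mm,
   md,
   cc_of_19 tt mm dt d3 md k l wc wf hz zc hy hv e1 e2,
   cc_of_20 tt mm dt d3 md k l wc wf hz zc hy hv e1 e2,
   dt,
   k.2.1,
   l.2.1,
   cc_of_24 tt mm dt d3 md k l wc wf hz zc hy hv e1 e2,
   cc_of_25 tt mm dt d3 md k l wc wf hz zc hy hv e1 e2,
   k.2.2.2.1,
   cc_of_27 tt mm dt d3 md k l wc wf hz zc hy hv e1 e2,
   l.2.2.2.1,
   cc_of_29 tt mm dt d3 md k l wc wf hz zc hy hv e1 e2,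
   cc_of_30 tt mm dt d3 md k l wc wf hz zc hy hv e1 e2,
   k.2.2.1,
   cc_of_32 tt mm dt d3 md k l wc wf hz zc hy hv e1 e2,
   l.2.2.1,
   cc_of_34 tt mm dt d3 md k l wc wf hz zc hy hv e1 e2, trivial⟩

end H24.L4
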