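import Cfsg.Agent.H24.LA1g

/-! Generated: the centralizer of the element of order three. -/

set_option maxRecDepth 100000
set_option maxHeartbeats 4000000
set_option linter.unusedVariables false

open Subgroup
open scoped commutatorElement
namespace H24.L4
open H0 H0.PM H16 H19 H10.X

theorem CC.map {G G' : Type*} [Group G] [Group G'] {z w a c f d m t : G} (h : CC z w a c f d m t) (φ : G →* G') :
    CC (φ z) (φ w) (φ a) (φ c) (φ f) (φ d) (φ m) (φ t) :=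
  ⟨by simpa only [map_mul, map_pow, map_inv, map_one, map_commutatorElement] using congrArg φ h.1,
   by simpa only [map_mul, map_pow, map_inv, map_one, map_commutatorElement] using congrArg φ h.2.1,
   by simpa only [map_mul, map_pow, map_inv, map_one, map_commutatorElement] using congrArg φ h.2.2.1,
   by simpa only [map_mul, map_pow, map_inv, map_one, map_commutatorElement] using congrArg φ h.2.2.2.1,
   by simpa only [map_mul, map_pow, map_inv, map_one, map_commutatorElement] using congrArg φ h.2.2.2.2.1,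
   by simpa only [map_mul, map_pow, map_inv, map_one, map_commutatorElement] using congrArg φ h.2.2.2.2.2.1,
   by simpa only [map_mul, map_pow, map_inv, map_one, map_commutatorElement] using congrArg φ h.2.2.2.2.2.2.1,
   by simpa only [map_mul, map_pow, map_inv, map_one, map_commutatorElement] using congrArg φ h.2.2.2.2.2.2.2.1,
   by simpa only [map_mul, map_pow, map_inv, map_one, map_commutatorElement] using congrArg φ h.2.2.2.2.2.2.2.2.1,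
   by simpa only [map_mul, map_pow, map_inv, map_one, map_commutatorElement] using congrArg φ h.2.2.2.2.2.2.2.2.2.1,
   by simpa only [map_mul, map_pow, map_inv, map_one, map_commutatorElement] using congrArg φ h.2.2.2.2.2.2.2.2.2.2.1,
   by simpa only [map_mul, map_pow, map_inv, map_one, map_commutatorElement] using congrArg φ h.2.2.2.2.2.2.2.2.2.2.2.1,
   by simpa only [map_mul, map_pow, map_inv, map_one, map_commutatorElement] using congrArg φ h.2.2.2.2.2.2.2.2.2.2.2.2.1,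
   by simpa only [map_mul, map_pow, map_inv, map_one, map_commutatorElement] using congrArg φ h.2.2.2.2.2.2.2.2.2.2.2.2.2.1,
   by simpa only [map_mul, map_pow, map_inv, map_one, map_commutatorElement] using congrArg φ h.2.2.2.2.2.2.2.2.2.2.2.2.2.2.1,
   by simpa only [map_mul, map_pow, map_inv, map_one, map_commutatorElement] using congrArg φ h.2.2.2.2.2.2.2.2.2.2.2.2.2.2.2.1,
   by simpa only [map_mul, map_pow, map_inv, map_one, map_commutatorElement] using congrArg φ h.2.2.2.2.2.2.2.2.2.2.2.2.2.2.2.2.1,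
   by simpa only [map_mul, map_pow, map_inv, map_one, map_commutatorElement] using congrArg φ h.2.2.2.2.2.2.2.2.2.2.2.2.2.2.2.2.2.1,
   by simpa only [map_mul, map_pow, map_inv, map_one, map_commutatorElement] using congrArg φ h.2.2.2.2.2.2.2.2.2.2.2.2.2.2.2.2.2.2.1,
   by simpa only [map_mul, map_pow, map_inv, map_one, map_commutatorElement] using congrArg φ h.2.2.2.2.2.2.2.2.2.2.2.2.2.2.2.2.2.2.2.1,
   by simpa only [map_mul, map_pow, map_inv, map_one, map_commutatorElement] using congrArg φ h.2.2.2.2.2.2.2.2.2.2.2.2.2.2.2.2.2.2.2.2.1,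
   by simpa only [map_mul, map_pow, map_inv, map_one, map_commutatorElement] using congrArg φ h.2.2.2.2.2.2.2.2.2.2.2.2.2.2.2.2.2.2.2.2.2.1,
   by simpa only [map_mul, map_pow, map_inv, map_one, map_commutatorElement] using congrArg φ h.2.2.2.2.2.2.2.2.2.2.2.2.2.2.2.2.2.2.2.2.2.2.1,
   by simpa only [map_mul, map_pow, map_inv, map_one, map_commutatorElement] using congrArg φ h.2.2.2.2.2.2.2.2.2.2.2.2.2.2.2.2.2.2.2.2.2.2.2.1,
   by simpa only [map_mul, map_pow, map_inv, map_one, map_commutatorElement] using congrArg φ h.2.2.2.2.2.2.2.2.2.2.2.2.2.2.2.2.2.2.2.2.2.2.2.2.1,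
   by simpa only [map_mul, map_pow, map_inv, map_one, map_commutatorElement] using congrArg φ h.2.2.2.2.2.2.2.2.2.2.2.2.2.2.2.2.2.2.2.2.2.2.2.2.2.1,
   by simpa only [map_mul, map_pow, map_inv, map_one, map_commutatorElement] using congrArg φ h.2.2.2.2.2.2.2.2.2.2.2.2.2.2.2.2.2.2.2.2.2.2.2.2.2.2.1,
   by simpa only [map_mul, map_pow, map_inv, map_one, map_commutatorElement] using congrArg φ h.2.2.2.2.2.2.2.2.2.2.2.2.2.2.2.2.2.2.2.2.2.2.2.2.2.2.2.1,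
   by simpa only [map_mul, map_pow, map_inv, map_one, map_commutatorElement] using congrArg φ h.2.2.2.2.2.2.2.2.2.2.2.2.2.2.2.2.2.2.2.2.2.2.2.2.2.2.2.2.1,
   by simpa only [map_mul, map_pow, map_inv, map_one, map_commutatorElement] using congrArg φ h.2.2.2.2.2.2.2.2.2.2.2.2.2.2.2.2.2.2.2.2.2.2.2.2.2.2.2.2.2.1,
   by simpa only [map_mul, map_pow, map_inv, map_one, map_commutatorElement] using congrArg φ h.2.2.2.2.2.2.2.2.2.2.2.2.2.2.2.2.2.2.2.2.2.2.2.2.2.2.2.2.2.2.1,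
   by simpa only [map_mul, map_pow, map_inv, map_one, map_commutatorElement] using congrArg φ h.2.2.2.2.2.2.2.2.2.2.2.2.2.2.2.2.2.2.2.2.2.2.2.2.2.2.2.2.2.2.2.1,
   by simpa only [map_mul, map_pow, map_inv, map_one, map_commutatorElement] using congrArg φ h.2.2.2.2.2.2.2.2.2.2.2.2.2.2.2.2.2.2.2.2.2.2.2.2.2.2.2.2.2.2.2.2.1,
   by simpa only [map_mul, map_pow, map_inv, map_one, map_commutatorElement] using congrArg φ h.2.2.2.2.2.2.2.2.2.2.2.2.2.2.2.2.2.2.2.2.2.2.2.2.2.2.2.2.2.2.2.2.2.1,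
   by simpa only [map_mul, map_pow, map_inv, map_one, map_commutatorElement] using congrArg φ h.2.2.2.2.2.2.2.2.2.2.2.2.2.2.2.2.2.2.2.2.2.2.2.2.2.2.2.2.2.2.2.2.2.2.1, trivial⟩
theorem CC.comap {G G' : Type*} [Group G] [Group G'] {z w a c f d m t : G} {φ : G →* G'} (hφ : Function.Injective φ)
    (h : CC (φ z) (φ w) (φ a) (φ c) (φ f) (φ d) (φ m) (φ t)) : CC z w a c f d m t :=
  ⟨hφ (by simpa only [map_mul, map_pow, map_inv, map_one, map_commutatorElement] using h.1),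
   hφ (by simpa only [map_mul, map_pow, map_inv, map_one, map_commutatorElement] using h.2.1),
   hφ (by simpa only [map_mul, map_pow, map_inv, map_one, map_commutatorElement] using h.2.2.1),
   hφ (by simpa only [map_mul, map_pow, map_inv, map_one, map_commutatorElement] using h.2.2.2.1),
   hφ (by simpa only [map_mul, map_pow, map_inv, map_one, map_commutatorElement] using h.2.2.2.2.1),
   hφ (by simpa only [map_mul, map_pow, map_inv, map_one, map_commutatorElement] using h.2.2.2.2.2.1),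
   hφ (by simpa only [map_mul, map_pow, map_inv, map_one, map_commutatorElement] using h.2.2.2.2.2.2.1),
   hφ (by simpa only [map_mul, map_pow, map_inv, map_one, map_commutatorElement] using h.2.2.2.2.2.2.2.1),
   hφ (by simpa only [map_mul, map_pow, map_inv, map_one, map_commutatorElement] using h.2.2.2.2.2.2.2.2.1),
   hφ (by simpa only [map_mul, map_pow, map_inv, map_one, map_commutatorElement] using h.2.2.2.2.2.2.2.2.2.1),
   hφ (by simpa only [map_mul, map_pow, map_inv, map_one, map_commutatorElement] using h.2.2.2.2.2.2.2.2.2.2.1),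
   hφ (by simpa only [map_mul, map_pow, map_inv, map_one, map_commutatorElement] using h.2.2.2.2.2.2.2.2.2.2.2.1),
   hφ (by simpa only [map_mul, map_pow, map_inv, map_one, map_commutatorElement] using h.2.2.2.2.2.2.2.2.2.2.2.2.1),
   hφ (by simpa only [map_mul, map_pow, map_inv, map_one, map_commutatorElement] using h.2.2.2.2.2.2.2.2.2.2.2.2.2.1),
   hφ (by simpa only [map_mul, map_pow, map_inv, map_one, map_commutatorElement] using h.2.2.2.2.2.2.2.2.2.2.2.2.2.2.1),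
   hφ (by simpa only [map_mul, map_pow, map_inv, map_one, map_commutatorElement] using h.2.2.2.2.2.2.2.2.2.2.2.2.2.2.2.1),
   hφ (by simpa only [map_mul, map_pow, map_inv, map_one, map_commutatorElement] using h.2.2.2.2.2.2.2.2.2.2.2.2.2.2.2.2.1),
   hφ (by simpa only [map_mul, map_pow, map_inv, map_one, map_commutatorElement] using h.2.2.2.2.2.2.2.2.2.2.2.2.2.2.2.2.2.1),
   hφ (by simpa only [map_mul, map_pow, map_inv, map_one, map_commutatorElement] using h.2.2.2.2.2.2.2.2.2.2.2.2.2.2.2.2.2.2.1),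
   hφ (by simpa only [map_mul, map_pow, map_inv, map_one, map_commutatorElement] using h.2.2.2.2.2.2.2.2.2.2.2.2.2.2.2.2.2.2.2.1),
   hφ (by simpa only [map_mul, map_pow, map_inv, map_one, map_commutatorElement] using h.2.2.2.2.2.2.2.2.2.2.2.2.2.2.2.2.2.2.2.2.1),
   hφ (by simpa only [map_mul, map_pow, map_inv, map_one, map_commutatorElement] using h.2.2.2.2.2.2.2.2.2.2.2.2.2.2.2.2.2.2.2.2.2.1),
   hφ (by simpa only [map_mul, map_pow, map_inv, map_one, map_commutatorElement] using h.2.2.2.2.2.2.2.2.2.2.2.2.2.2.2.2.2.2.2.2.2.2.1),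
   hφ (by simpa only [map_mul, map_pow, map_inv, map_one, map_commutatorElement] using h.2.2.2.2.2.2.2.2.2.2.2.2.2.2.2.2.2.2.2.2.2.2.2.1),
   hφ (by simpa only [map_mul, map_pow, map_inv, map_one, map_commutatorElement] using h.2.2.2.2.2.2.2.2.2.2.2.2.2.2.2.2.2.2.2.2.2.2.2.2.1),
   hφ (by simpa only [map_mul, map_pow, map_inv, map_one, map_commutatorElement] using h.2.2.2.2.2.2.2.2.2.2.2.2.2.2.2.2.2.2.2.2.2.2.2.2.2.1),
   hφ (by simpa only [map_mul, map_pow, map_inv, map_one, map_commutatorElement] using h.2.2.2.2.2.2.2.2.2.2.2.2.2.2.2.2.2.2.2.2.2.2.2.2.2.2.1),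
   hφ (by simpa only [map_mul, map_pow, map_inv, map_one, map_commutatorElement] using h.2.2.2.2.2.2.2.2.2.2.2.2.2.2.2.2.2.2.2.2.2.2.2.2.2.2.2.1),
   hφ (by simpa only [map_mul, map_pow, map_inv, map_one, map_commutatorElement] using h.2.2.2.2.2.2.2.2.2.2.2.2.2.2.2.2.2.2.2.2.2.2.2.2.2.2.2.2.1),
   hφ (by simpa only [map_mul, map_pow, map_inv, map_one, map_commutatorElement] using h.2.2.2.2.2.2.2.2.2.2.2.2.2.2.2.2.2.2.2.2.2.2.2.2.2.2.2.2.2.1),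
   hφ (by simpa only [map_mul, map_pow, map_inv, map_one, map_commutatorElement] using h.2.2.2.2.2.2.2.2.2.2.2.2.2.2.2.2.2.2.2.2.2.2.2.2.2.2.2.2.2.2.1),
   hφ (by simpa only [map_mul, map_pow, map_inv, map_one, map_commutatorElement] using h.2.2.2.2.2.2.2.2.2.2.2.2.2.2.2.2.2.2.2.2.2.2.2.2.2.2.2.2.2.2.2.1),
   hφ (by simpa only [map_mul, map_pow, map_inv, map_one, map_commutatorElement] using h.2.2.2.2.2.2.2.2.2.2.2.2.2.2.2.2.2.2.2.2.2.2.2.2.2.2.2.2.2.2.2.2.1),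
   hφ (by simpa only [map_mul, map_pow, map_inv, map_one, map_commutatorElement] using h.2.2.2.2.2.2.2.2.2.2.2.2.2.2.2.2.2.2.2.2.2.2.2.2.2.2.2.2.2.2.2.2.2.1),
   hφ (by simpa only [map_mul, map_pow, map_inv, map_one, map_commutatorElement] using h.2.2.2.2.2.2.2.2.2.2.2.2.2.2.2.2.2.2.2.2.2.2.2.2.2.2.2.2.2.2.2.2.2.2.1), trivial⟩
noncomputable def cc_mir_r_R : List (List ℕ) := [[0,1],
  [1,0],
  [2,3],
  [3,2],
  [4,5],
  [5,4],
  [6,7],
  [7,6],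
  [8,9],
  [9,8],
  [10,11],
  [11,10],
  [12,12],
  [13,14],
  [14,13],
  [0,0,0],
  [2,2,2],
  [4,4,4],
  [6,6,6],
  [8,8,8],
  [1,3,0,2],
  [1,5,0,4],
  [1,7,0,6],
  [1,9,0,8],
  [5,3,4,2],
  [7,3,6,2],
  [9,5,8,4],
  [9,7,8,6],
  [1,9,3,8,2],
  [1,5,7,4,6],
  [10,10,10],
  [12,13,13],
  [10,13,10,13,10,13],
  [1,11,0,10],
  [1,14,0,13],
  [12,11,12,10],
  [3,11,2,10],
  [7,11,6,10],
  [5,2,11,4,10],
  [9,6,11,8,10],
  [5,14,2,13],
  [2,14,4,13],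
  [9,14,6,13],
  [6,14,8,13],
  [1,12,0,12],
  [2,12,2,12],
  [4,12,4,12],
  [6,12,6,12],
  [8,12,8,12]]
theorem cc_mir_r {G : Type*} [Group G] {z w a c f d t m : G}
    (h : CC z w a c f d m t) :
    Rels (nthG [z, z⁻¹, w, w⁻¹, a, a⁻¹, c, c⁻¹, f, f⁻¹, d, d⁻¹, t, m, m⁻¹]) cc_mir_r_R :=
  rels_of_eqs ((InvI.cons h.2.2.2.2.2.2.2.2.2.2.2.2.2.2.2.2.1 InvI.nil) : InvI [z, w, a, c, f, d, t, m] [(nat_lit 6)])
    (show AllEq [z, w, a, c, f, d, t, m] [((.pw (.v (nat_lit 0)) (nat_lit 3)), .one), ((.pw (.v (nat_lit 1)) (nat_lit 3)), .one), ((.pw (.v (nat_lit 2)) (nat_lit 3)), .one), ((.pw (.v (nat_lit 3)) (nat_lit 3)), .one), ((.pw (.v (nat_lit 4)) (nat_lit 3)), .one), ((.mul (.v (nat_lit 1)) (.v (nat_lit 0))), (.mul (.v (nat_lit 0)) (.v (nat_lit 1)))), ((.mul (.v (nat_lit 2)) (.v (nat_lit 0))), (.mul (.v (nat_lit 0)) (.v (nat_lit 2)))), ((.mul (.v (nat_lit 3)) (.v (nat_lit 0))), (.mul (.v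 (nat_lit 0)) (.v (nat_lit 3)))), ((.mul (.v (nat_lit 4)) (.v (nat_lit 0))), (.mul (.v (nat_lit 0)) (.v (nat_lit 4)))), ((.mul (.v (nat_lit 1)) (.v (nat_lit 2))), (.mul (.v (nat_lit 2)) (.v (nat_lit 1)))), ((.mul (.v (nat_lit 1)) (.v (nat_lit 3))), (.mul (.v (nat_lit 3)) (.v (nat_lit 1)))), ((.mul (.v (nat_lit 2)) (.v (nat_lit 4))), (.mul (.v (nat_lit 4)) (.v (nat_lit 2)))), ((.mul (.v (nat_lit 3)) (.v (nat_lit 4))), (.mul (.v (nat_lit 4)) (.v (nat_lit 3)))), ((.mul (.mul (.mul (.v (nat_lit 1)) (.v (nat_lit 4))) (.inv (.v (nat_lit 1)))) (.inv (.v (nat_lit 4)))), (.v (nat_lit 0))), ((.mul (.mul (.mul (.v (nat_lit 3)) (.v (nat_lit 2))) (.inv (.v (nat_lit 3)))) (.inv (.v (nat_lit 2)))), (.v (nat_lit 0))), ((.pw (.v (nat_lit 5)) (nat_lit 3)), .one), ((.mul (.v (nat_lit 6)) (.v (nat_lit 6))), .one), ((.mul (.v (nat_lit 7)) (.v (nat_lit 7))), (.v (nat_lit 6))), ((.pw (.mul (.v (nat_lit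 7)) (.v (nat_lit 5))) (nat_lit 3)), .one), ((.mul (.v (nat_lit 5)) (.v (nat_lit 0))), (.mul (.v (nat_lit 0)) (.v (nat_lit 5)))), ((.mul (.v (nat_lit 7)) (.v (nat_lit 0))), (.mul (.v (nat_lit 0)) (.v (nat_lit 7)))), ((.mul (.v (nat_lit 5)) (.v (nat_lit 6))), (.mul (.v (nat_lit 6)) (.v (nat_lit 5)))), ((.mul (.v (nat_lit 5)) (.v (nat_lit 1))), (.mul (.v (nat_lit 1)) (.v (nat_lit 5)))), ((.mul (.v (nat_lit 5)) (.v (nat_lit 3))), (.mul (.v (nat_lit 3)) (.v (nat_lit 5)))), ((.mul (.mul (.v (nat_lit 5)) (.v (nat_lit 2))) (.inv (.v (nat_lit 5)))), (.mul (.v (nat_lit 2)) (.inv (.v (nat_lit 1))))), ((.mul (.mul (.v (nat_lit 5)) (.v (nat_lit 4))) (.inv (.v (nat_lit 5)))), (.mul (.v (nat_lit 4)) (.inv (.v (nat_lit 3))))), ((.mul (.mul (.v (nat_lit 7)) (.v (nat_lit 1))) (.inv (.v (nat_lit 7)))), (.v (nat_lit 2))), ((.mul (.mul (.v (nat_lit 7)) (.v (nat_lit 2))) (.inv (.v (nat_lit 7)))), (.inv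 (.v (nat_lit 1)))), ((.mul (.mul (.v (nat_lit 7)) (.v (nat_lit 3))) (.inv (.v (nat_lit 7)))), (.v (nat_lit 4))), ((.mul (.mul (.v (nat_lit 7)) (.v (nat_lit 4))) (.inv (.v (nat_lit 7)))), (.inv (.v (nat_lit 3)))), ((.mul (.v (nat_lit 6)) (.v (nat_lit 0))), (.mul (.v (nat_lit 0)) (.v (nat_lit 6)))), ((.mul (.mul (.v (nat_lit 6)) (.v (nat_lit 1))) (.inv (.v (nat_lit 6)))), (.inv (.v (nat_lit 1)))), ((.mul (.mul (.v (nat_lit 6)) (.v (nat_lit 2))) (.inv (.v (nat_lit 6)))), (.inv (.v (nat_lit 2)))), ((.mul (.mul (.v (nat_lit 6)) (.v (nat_lit 3))) (.inv (.v (nat_lit 6)))), (.inv (.v (nat_lit 3)))), ((.mul (.mul (.v (nat_lit 6)) (.v (nat_lit 4))) (.inv (.v (nat_lit 6)))), (.inv (.v (nat_lit 4))))] from h)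
    [(.v (nat_lit 0)), (.inv (.v (nat_lit 0))), (.v (nat_lit 1)), (.inv (.v (nat_lit 1))), (.v (nat_lit 2)), (.inv (.v (nat_lit 2))), (.v (nat_lit 3)), (.inv (.v (nat_lit 3))), (.v (nat_lit 4)), (.inv (.v (nat_lit 4))), (.v (nat_lit 5)), (.inv (.v (nat_lit 5))), (.v (nat_lit 6)), (.v (nat_lit 7)), (.inv (.v (nat_lit 7)))] (by decide +kernel)
noncomputable def cc_mir_10_0_S0 : List ℕ := [nat_lit 0xf00000700000c00a01e]
noncomputable def cc_mir_10_0_S : List (List ℕ) := [cc_mir_10_0_S0]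
noncomputable def cc_mir_10_0_defs : List ℕ := [(nat_lit 0x700001007000000030000000000000)]
noncomputable def cc_mir_10_0_recs : List ℕ := [(nat_lit 0x20000200003)]
noncomputable def cc_mir_10_0_T : List (List ℕ × ℕ) := [([3,7,2,6], (nat_lit 0xc00000100000f000007))]
noncomputable def cc_mir_10_0_D : H26.Dag := ⟨[1,0,3,2,5,4,7,6,9,8,11,10,12,14,13], [[0,1],
  [1,0],
  [2,3],
  [3,2],
  [4,5],
  [5,4],
  [6,7],
  [7,6],
  [8,9],
  [9,8],
  [10,11],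
  [11,10],
  [12,12],
  [13,14],
  [14,13],
  [7,3,6,2]], [], cc_mir_10_0_defs, cc_mir_10_0_recs⟩
theorem cc_mir_10_0_c : cc_mir_10_0_D.check cc_mir_10_0_S cc_mir_10_0_T = true := by decide +kernel
theorem cc_mir_10_0 {G : Type*} [Group G] {g : ℕ → G} (hR : Rels g cc_mir_r_R) {H : Subgroup G}
    (hH : ∀ k ∈ [], g k ∈ H) : evA g [3,7,2,6] ∈ H :=
  mem_dag (K := 15) (J := [0,1,2,3,4,5,6,7,8,9,10,11,12,13,14,25]) (D := cc_mir_10_0_D) (by decide +kernel) cc_mir_10_0_c (by decide +kernel) hR hH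
theorem cc_mir_10 {G : Type*} [Group G] {z w a c f d t m : G}
    (h : CC z w a c f d m t) :
    c * w = w * c :=
  mul_inv_eq_one.1 ((evA_eq_tm ((InvI.cons h.2.2.2.2.2.2.2.2.2.2.2.2.2.2.2.2.1 InvI.nil) : InvI [z, w, a, c, f, d, t, m] [(nat_lit 6)]) [(.v (nat_lit 0)), (.inv (.v (nat_lit 0))), (.v (nat_lit 1)), (.inv (.v (nat_lit 1))), (.v (nat_lit 2)), (.inv (.v (nat_lit 2))), (.v (nat_lit 3)), (.inv (.v (nat_lit 3))), (.v (nat_lit 4)), (.inv (.v (nat_lit 4))), (.v (nat_lit 5)), (.inv (.v (nat_lit 5))), (.v (nat_lit 6)), (.v (nat_lit 7)), (.inv (.v (nat_lit 7)))] [3,7,2,6] (.mul (.mul (.v (nat_lit 3)) (.v (nat_lit 1))) (.inv (.mul (.v (nat_lit 1)) (.v (nat_lit 3))))) (by decide +kernel)).symm.trans (Subgroup.mem_bot.1 (cc_mir_10_0 (cc_mir_r h) (H := ⊥) (List.forall_mem_nil _))))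
noncomputable def cc_mir_11_0_S0 : List ℕ := [nat_lit 0xf00000700000c00a01e]
noncomputable def cc_mir_11_0_S : List (List ℕ) := [cc_mir_11_0_S0]
noncomputable def cc_mir_11_0_defs : List ℕ := [(nat_lit 0x900001009000000050000000000000)]
noncomputable def cc_mir_11_0_recs : List ℕ := [(nat_lit 0x40000200003)]
noncomputable def cc_mir_11_0_T : List (List ℕ × ℕ) := [([5,9,4,8], (nat_lit 0xc00000100000f000007))]
noncomputable def cc_mir_11_0_D : H26.Dag := ⟨[1,0,3,2,5,4,7,6,9,8,11,10,12,14,13], [[0,1],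
  [1,0],
  [2,3],
  [3,2],
  [4,5],
  [5,4],
  [6,7],
  [7,6],
  [8,9],
  [9,8],
  [10,11],
  [11,10],
  [12,12],
  [13,14],
  [14,13],
  [9,5,8,4]], [], cc_mir_11_0_defs, cc_mir_11_0_recs⟩
theorem cc_mir_11_0_c : cc_mir_11_0_D.check cc_mir_11_0_S cc_mir_11_0_T = true := by decide +kernel
theorem cc_mir_11_0 {G : Type*} [Group G] {g : ℕ → G} (hR : Rels g cc_mir_r_R) {H : Subgroup G}
    (hH : ∀ k ∈ [], g k ∈ H) : evA g [5,9,4,8] ∈ H :=
  mem_dag (K := 15) (J := [0,1,2,3,4,5,6,7,8,9,10,11,12,13,14,26]) (D := cc_mir_11_0_D) (by decide +kernel) cc_mir_11_0_c (by decide +kernel) hR hH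
theorem cc_mir_11 {G : Type*} [Group G] {z w a c f d t m : G}
    (h : CC z w a c f d m t) :
    f * a = a * f :=
  mul_inv_eq_one.1 ((evA_eq_tm ((InvI.cons h.2.2.2.2.2.2.2.2.2.2.2.2.2.2.2.2.1 InvI.nil) : InvI [z, w, a, c, f, d, t, m] [(nat_lit 6)]) [(.v (nat_lit 0)), (.inv (.v (nat_lit 0))), (.v (nat_lit 1)), (.inv (.v (nat_lit 1))), (.v (nat_lit 2)), (.inv (.v (nat_lit 2))), (.v (nat_lit 3)), (.inv (.v (nat_lit 3))), (.v (nat_lit 4)), (.inv (.v (nat_lit 4))), (.v (nat_lit 5)), (.inv (.v (nat_lit 5))), (.v (nat_lit 6)), (.v (nat_lit 7)), (.inv (.v (nat_lit 7)))] [5,9,4,8] (.mul (.mul (.v (nat_lit 4)) (.v (nat_lit 2))) (.inv (.mul (.v (nat_lit 2)) (.v (nat_lit 4))))) (by decide +kernel)).symm.trans (Subgroup.mem_bot.1 (cc_mir_11_0 (cc_mir_r h) (H := ⊥) (List.forall_mem_nil _))))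
theorem cc_mir {G : Type*} [Group G] {z w a c f d t m : G}
    (h : CC z w a c f d m t) :
    CC z c f w a d m t :=
  ⟨h.1,
   h.2.2.2.1,
   h.2.2.2.2.1,
   h.2.1,
   h.2.2.1,
   h.2.2.2.2.2.2.2.1,
   h.2.2.2.2.2.2.2.2.1,
   h.2.2.2.2.2.1,
   h.2.2.2.2.2.2.1,
   h.2.2.2.2.2.2.2.2.2.2.2.2.1,
   cc_mir_10 h,
   cc_mir_11 h,
   h.2.2.2.2.2.2.2.2.2.1,
   h.2.2.2.2.2.2.2.2.2.2.2.2.2.2.1,
   h.2.2.2.2.2.2.2.2.2.2.2.2.2.1,
   h.2.2.2.2.2.2.2.2.2.2.2.2.2.2.2.1,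
   h.2.2.2.2.2.2.2.2.2.2.2.2.2.2.2.2.1,
   h.2.2.2.2.2.2.2.2.2.2.2.2.2.2.2.2.2.1,
   h.2.2.2.2.2.2.2.2.2.2.2.2.2.2.2.2.2.2.1,
   h.2.2.2.2.2.2.2.2.2.2.2.2.2.2.2.2.2.2.2.1,
   h.2.2.2.2.2.2.2.2.2.2.2.2.2.2.2.2.2.2.2.2.1,
   h.2.2.2.2.2.2.2.2.2.2.2.2.2.2.2.2.2.2.2.2.2.1,
   h.2.2.2.2.2.2.2.2.2.2.2.2.2.2.2.2.2.2.2.2.2.2.2.1,
   h.2.2.2.2.2.2.2.2.2.2.2.2.2.2.2.2.2.2.2.2.2.2.1,
   h.2.2.2.2.2.2.2.2.2.2.2.2.2.2.2.2.2.2.2.2.2.2.2.2.2.1,
   h.2.2.2.2.2.2.2.2.2.2.2.2.2.2.2.2.2.2.2.2.2.2.2.2.1,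
   h.2.2.2.2.2.2.2.2.2.2.2.2.2.2.2.2.2.2.2.2.2.2.2.2.2.2.2.2.1,
   h.2.2.2.2.2.2.2.2.2.2.2.2.2.2.2.2.2.2.2.2.2.2.2.2.2.2.2.2.2.1,
   h.2.2.2.2.2.2.2.2.2.2.2.2.2.2.2.2.2.2.2.2.2.2.2.2.2.2.1,
   h.2.2.2.2.2.2.2.2.2.2.2.2.2.2.2.2.2.2.2.2.2.2.2.2.2.2.2.1,
   h.2.2.2.2.2.2.2.2.2.2.2.2.2.2.2.2.2.2.2.2.2.2.2.2.2.2.2.2.2.2.1,
   h.2.2.2.2.2.2.2.2.2.2.2.2.2.2.2.2.2.2.2.2.2.2.2.2.2.2.2.2.2.2.2.2.2.1,
   h.2.2.2.2.2.2.2.2.2.2.2.2.2.2.2.2.2.2.2.2.2.2.2.2.2.2.2.2.2.2.2.2.2.2.1,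
   h.2.2.2.2.2.2.2.2.2.2.2.2.2.2.2.2.2.2.2.2.2.2.2.2.2.2.2.2.2.2.2.1,
   h.2.2.2.2.2.2.2.2.2.2.2.2.2.2.2.2.2.2.2.2.2.2.2.2.2.2.2.2.2.2.2.2.1, trivial⟩
noncomputable def cc_sym_r_R : List (List ℕ) := [[0,1],
  [1,0],
  [2,3],
  [3,2],
  [4,5],
  [5,4],
  [6,7],
  [7,6],
  [8,9],
  [9,8],
  [10,11],
  [11,10],
  [12,12],
  [13,14],
  [14,13],
  [0,0,0],
  [2,2,2],
  [4,4,4],
  [6,6,6],
  [8,8,8],
  [1,3,0,2],
  [1,5,0,4],
  [1,7,0,6],
  [1,9,0,8],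
  [5,3,4,2],
  [7,3,6,2],
  [9,5,8,4],
  [9,7,8,6],
  [1,9,3,8,2],
  [1,5,7,4,6],
  [10,10,10],
  [12,13,13],
  [10,13,10,13,10,13],
  [1,11,0,10],
  [1,14,0,13],
  [12,11,12,10],
  [3,11,2,10],
  [7,11,6,10],
  [5,2,11,4,10],
  [9,6,11,8,10],
  [5,14,2,13],
  [2,14,4,13],
  [9,14,6,13],
  [6,14,8,13],
  [1,12,0,12],
  [2,12,2,12],
  [4,12,4,12],
  [6,12,6,12],
  [8,12,8,12]]
theorem cc_sym_r {G : Type*} [Group G] {z w a c f d t m : G}
    (h : CC z w a c f d m t) :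
    Rels (nthG [z, z⁻¹, w, w⁻¹, a, a⁻¹, c, c⁻¹, f, f⁻¹, d, d⁻¹, t, m, m⁻¹]) cc_sym_r_R :=
  rels_of_eqs ((InvI.cons h.2.2.2.2.2.2.2.2.2.2.2.2.2.2.2.2.1 InvI.nil) : InvI [z, w, a, c, f, d, t, m] [(nat_lit 6)])
    (show AllEq [z, w, a, c, f, d, t, m] [((.pw (.v (nat_lit 0)) (nat_lit 3)), .one), ((.pw (.v (nat_lit 1)) (nat_lit 3)), .one), ((.pw (.v (nat_lit 2)) (nat_lit 3)), .one), ((.pw (.v (nat_lit 3)) (nat_lit 3)), .one), ((.pw (.v (nat_lit 4)) (nat_lit 3)), .one), ((.mul (.v (nat_lit 1)) (.v (nat_lit 0))), (.mul (.v (nat_lit 0)) (.v (nat_lit 1)))), ((.mul (.v (nat_lit 2)) (.v (nat_lit 0))), (.mul (.v (nat_lit 0)) (.v (nat_lit 2)))), ((.mul (.v (nat_lit 3)) (.v (nat_lit 0))), (.mul (.v (nat_lit 0)) (.v (nat_lit 3)))), ((.mul (.v (nat_lit 4)) (.v (nat_lit 0))), (.mul (.v (nat_lit 0)) (.v (nat_lit 4)))), ((.mul (.v (nat_lit 1)) (.v (nat_lit 2))), (.mul (.v (nat_lit 2)) (.v (nat_lit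 1)))), ((.mul (.v (nat_lit 1)) (.v (nat_lit 3))), (.mul (.v (nat_lit 3)) (.v (nat_lit 1)))), ((.mul (.v (nat_lit 2)) (.v (nat_lit 4))), (.mul (.v (nat_lit 4)) (.v (nat_lit 2)))), ((.mul (.v (nat_lit 3)) (.v (nat_lit 4))), (.mul (.v (nat_lit 4)) (.v (nat_lit 3)))), ((.mul (.mul (.mul (.v (nat_lit 1)) (.v (nat_lit 4))) (.inv (.v (nat_lit 1)))) (.inv (.v (nat_lit 4)))), (.v (nat_lit 0))), ((.mul (.mul (.mul (.v (nat_lit 3)) (.v (nat_lit 2))) (.inv (.v (nat_lit 3)))) (.inv (.v (nat_lit 2)))), (.v (nat_lit 0))), ((.pw (.v (nat_lit 5)) (nat_lit 3)), .one), ((.mul (.v (nat_lit 6)) (.v (nat_lit 6))), .one), ((.mul (.v (nat_lit 7)) (.v (nat_lit 7))), (.v (nat_lit 6))), ((.pw (.mul (.v (nat_lit 7)) (.v (nat_lit 5))) (nat_lit 3)), .one), ((.mul (.v (nat_lit 5)) (.v (nat_lit 0))), (.mul (.v (nat_lit 0)) (.v (nat_lit 5)))), ((.mul (.v (nat_lit 7)) (.v (nat_lit 0))), (.mul (.v (nat_lit 0)) (.v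 (nat_lit 7)))), ((.mul (.v (nat_lit 5)) (.v (nat_lit 6))), (.mul (.v (nat_lit 6)) (.v (nat_lit 5)))), ((.mul (.v (nat_lit 5)) (.v (nat_lit 1))), (.mul (.v (nat_lit 1)) (.v (nat_lit 5)))), ((.mul (.v (nat_lit 5)) (.v (nat_lit 3))), (.mul (.v (nat_lit 3)) (.v (nat_lit 5)))), ((.mul (.mul (.v (nat_lit 5)) (.v (nat_lit 2))) (.inv (.v (nat_lit 5)))), (.mul (.v (nat_lit 2)) (.inv (.v (nat_lit 1))))), ((.mul (.mul (.v (nat_lit 5)) (.v (nat_lit 4))) (.inv (.v (nat_lit 5)))), (.mul (.v (nat_lit 4)) (.inv (.v (nat_lit 3))))), ((.mul (.mul (.v (nat_lit 7)) (.v (nat_lit 1))) (.inv (.v (nat_lit 7)))), (.v (nat_lit 2))), ((.mul (.mul (.v (nat_lit 7)) (.v (nat_lit 2))) (.inv (.v (nat_lit 7)))), (.inv (.v (nat_lit 1)))), ((.mul (.mul (.v (nat_lit 7)) (.v (nat_lit 3))) (.inv (.v (nat_lit 7)))), (.v (nat_lit 4))), ((.mul (.mul (.v (nat_lit 7)) (.v (nat_lit 4))) (.inv (.v (nat_lit 7)))), (.inv (.v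 (nat_lit 3)))), ((.mul (.v (nat_lit 6)) (.v (nat_lit 0))), (.mul (.v (nat_lit 0)) (.v (nat_lit 6)))), ((.mul (.mul (.v (nat_lit 6)) (.v (nat_lit 1))) (.inv (.v (nat_lit 6)))), (.inv (.v (nat_lit 1)))), ((.mul (.mul (.v (nat_lit 6)) (.v (nat_lit 2))) (.inv (.v (nat_lit 6)))), (.inv (.v (nat_lit 2)))), ((.mul (.mul (.v (nat_lit 6)) (.v (nat_lit 3))) (.inv (.v (nat_lit 6)))), (.inv (.v (nat_lit 3)))), ((.mul (.mul (.v (nat_lit 6)) (.v (nat_lit 4))) (.inv (.v (nat_lit 6)))), (.inv (.v (nat_lit 4))))] from h)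
    [(.v (nat_lit 0)), (.inv (.v (nat_lit 0))), (.v (nat_lit 1)), (.inv (.v (nat_lit 1))), (.v (nat_lit 2)), (.inv (.v (nat_lit 2))), (.v (nat_lit 3)), (.inv (.v (nat_lit 3))), (.v (nat_lit 4)), (.inv (.v (nat_lit 4))), (.v (nat_lit 5)), (.inv (.v (nat_lit 5))), (.v (nat_lit 6)), (.v (nat_lit 7)), (.inv (.v (nat_lit 7)))] (by decide +kernel)
noncomputable def cc_sym_0_0_S0 : List ℕ := [nat_lit 0xb00000800401e]
noncomputable def cc_sym_0_0_S : List (List ℕ) := [cc_sym_0_0_S0]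
noncomputable def cc_sym_0_0_defs : List ℕ := [(nat_lit 0x10000000000000)]
noncomputable def cc_sym_0_0_recs : List ℕ := [(nat_lit 0x100002)]
noncomputable def cc_sym_0_0_T : List (List ℕ × ℕ) := [([1,1,1], (nat_lit 0xc000002000007))]
noncomputable def cc_sym_0_0_D : H26.Dag := ⟨[1,0,3,2,5,4,7,6,9,8,11,10,12,14,13], [[0,1],
  [1,0],
  [2,3],
  [3,2],
  [4,5],
  [5,4],
  [6,7],
  [7,6],
  [8,9],
  [9,8],
  [10,11],
  [11,10],
  [12,12],
  [13,14],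
  [14,13],
  [0,0,0]], [], cc_sym_0_0_defs, cc_sym_0_0_recs⟩
theorem cc_sym_0_0_c : cc_sym_0_0_D.check cc_sym_0_0_S cc_sym_0_0_T = true := by decide +kernel
theorem cc_sym_0_0 {G : Type*} [Group G] {g : ℕ → G} (hR : Rels g cc_sym_r_R) {H : Subgroup G}
    (hH : ∀ k ∈ [], g k ∈ H) : evA g [1,1,1] ∈ H :=
  mem_dag (K := 15) (J := [0,1,2,3,4,5,6,7,8,9,10,11,12,13,14,15]) (D := cc_sym_0_0_D) (by decide +kernel) cc_sym_0_0_c (by decide +kernel) hR hH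
theorem cc_sym_0 {G : Type*} [Group G] {z w a c f d t m : G}
    (h : CC z w a c f d m t) :
    z⁻¹ ^ 3 = 1 :=
  mul_inv_eq_one.1 ((evA_eq_tm ((InvI.cons h.2.2.2.2.2.2.2.2.2.2.2.2.2.2.2.2.1 InvI.nil) : InvI [z, w, a, c, f, d, t, m] [(nat_lit 6)]) [(.v (nat_lit 0)), (.inv (.v (nat_lit 0))), (.v (nat_lit 1)), (.inv (.v (nat_lit 1))), (.v (nat_lit 2)), (.inv (.v (nat_lit 2))), (.v (nat_lit 3)), (.inv (.v (nat_lit 3))), (.v (nat_lit 4)), (.inv (.v (nat_lit 4))), (.v (nat_lit 5)), (.inv (.v (nat_lit 5))), (.v (nat_lit 6)), (.v (nat_lit 7)), (.inv (.v (nat_lit 7)))] [1,1,1] (.mul (.pw (.inv (.v (nat_lit 0))) (nat_lit 3)) (.inv .one)) (by decide +kernel)).symm.trans (Subgroup.mem_bot.1 (cc_sym_0_0 (cc_sym_r h) (H := ⊥) (List.forall_mem_nil _))))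
noncomputable def cc_sym_3_0_S0 : List ℕ := [nat_lit 0xb00000800401e]
noncomputable def cc_sym_3_0_S : List (List ℕ) := [cc_sym_3_0_S0]
noncomputable def cc_sym_3_0_defs : List ℕ := [(nat_lit 0x6000000070000000000000)]
noncomputable def cc_sym_3_0_recs : List ℕ := [(nat_lit 0x60000100002)]
noncomputable def cc_sym_3_0_T : List (List ℕ × ℕ) := [([7,7,7], (nat_lit 0xc000002000007))]
noncomputable def cc_sym_3_0_D : H26.Dag := ⟨[1,0,3,2,5,4,7,6,9,8,11,10,12,14,13], [[0,1],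
  [1,0],
  [2,3],
  [3,2],
  [4,5],
  [5,4],
  [6,7],
  [7,6],
  [8,9],
  [9,8],
  [10,11],
  [11,10],
  [12,12],
  [13,14],
  [14,13],
  [6,6,6]], [], cc_sym_3_0_defs, cc_sym_3_0_recs⟩
theorem cc_sym_3_0_c : cc_sym_3_0_D.check cc_sym_3_0_S cc_sym_3_0_T = true := by decide +kernel
theorem cc_sym_3_0 {G : Type*} [Group G] {g : ℕ → G} (hR : Rels g cc_sym_r_R) {H : Subgroup G}
    (hH : ∀ k ∈ [], g k ∈ H) : evA g [7,7,7] ∈ H :=
  mem_dag (K := 15) (J := [0,1,2,3,4,5,6,7,8,9,10,11,12,13,14,18]) (D := cc_sym_3_0_D) (by decide +kernel) cc_sym_3_0_c (by decide +kernel) hR hH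
theorem cc_sym_3 {G : Type*} [Group G] {z w a c f d t m : G}
    (h : CC z w a c f d m t) :
    c⁻¹ ^ 3 = 1 :=
  mul_inv_eq_one.1 ((evA_eq_tm ((InvI.cons h.2.2.2.2.2.2.2.2.2.2.2.2.2.2.2.2.1 InvI.nil) : InvI [z, w, a, c, f, d, t, m] [(nat_lit 6)]) [(.v (nat_lit 0)), (.inv (.v (nat_lit 0))), (.v (nat_lit 1)), (.inv (.v (nat_lit 1))), (.v (nat_lit 2)), (.inv (.v (nat_lit 2))), (.v (nat_lit 3)), (.inv (.v (nat_lit 3))), (.v (nat_lit 4)), (.inv (.v (nat_lit 4))), (.v (nat_lit 5)), (.inv (.v (nat_lit 5))), (.v (nat_lit 6)), (.v (nat_lit 7)), (.inv (.v (nat_lit 7)))] [7,7,7] (.mul (.pw (.inv (.v (nat_lit 3))) (nat_lit 3)) (.inv .one)) (by decide +kernel)).symm.trans (Subgroup.mem_bot.1 (cc_sym_3_0 (cc_sym_r h) (H := ⊥) (List.forall_mem_nil _))))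
noncomputable def cc_sym_4_0_S0 : List ℕ := [nat_lit 0xb00000800401e]
noncomputable def cc_sym_4_0_S : List (List ℕ) := [cc_sym_4_0_S0]
noncomputable def cc_sym_4_0_defs : List ℕ := [(nat_lit 0x8000000090000000000000)]
noncomputable def cc_sym_4_0_recs : List ℕ := [(nat_lit 0x80000100002)]
noncomputable def cc_sym_4_0_T : List (List ℕ × ℕ) := [([9,9,9], (nat_lit 0xc000002000007))]
noncomputable def cc_sym_4_0_D : H26.Dag := ⟨[1,0,3,2,5,4,7,6,9,8,11,10,12,14,13], [[0,1],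
  [1,0],
  [2,3],
  [3,2],
  [4,5],
  [5,4],
  [6,7],
  [7,6],
  [8,9],
  [9,8],
  [10,11],
  [11,10],
  [12,12],
  [13,14],
  [14,13],
  [8,8,8]], [], cc_sym_4_0_defs, cc_sym_4_0_recs⟩
theorem cc_sym_4_0_c : cc_sym_4_0_D.check cc_sym_4_0_S cc_sym_4_0_T = true := by decide +kernel
theorem cc_sym_4_0 {G : Type*} [Group G] {g : ℕ → G} (hR : Rels g cc_sym_r_R) {H : Subgroup G}
    (hH : ∀ k ∈ [], g k ∈ H) : evA g [9,9,9] ∈ H :=
  mem_dag (K := 15) (J := [0,1,2,3,4,5,6,7,8,9,10,11,12,13,14,19]) (D := cc_sym_4_0_D) (by decide +kernel) cc_sym_4_0_c (by decide +kernel) hR hH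
theorem cc_sym_4 {G : Type*} [Group G] {z w a c f d t m : G}
    (h : CC z w a c f d m t) :
    f⁻¹ ^ 3 = 1 :=
  mul_inv_eq_one.1 ((evA_eq_tm ((InvI.cons h.2.2.2.2.2.2.2.2.2.2.2.2.2.2.2.2.1 InvI.nil) : InvI [z, w, a, c, f, d, t, m] [(nat_lit 6)]) [(.v (nat_lit 0)), (.inv (.v (nat_lit 0))), (.v (nat_lit 1)), (.inv (.v (nat_lit 1))), (.v (nat_lit 2)), (.inv (.v (nat_lit 2))), (.v (nat_lit 3)), (.inv (.v (nat_lit 3))), (.v (nat_lit 4)), (.inv (.v (nat_lit 4))), (.v (nat_lit 5)), (.inv (.v (nat_lit 5))), (.v (nat_lit 6)), (.v (nat_lit 7)), (.inv (.v (nat_lit 7)))] [9,9,9] (.mul (.pw (.inv (.v (nat_lit 4))) (nat_lit 3)) (.inv .one)) (by decide +kernel)).symm.trans (Subgroup.mem_bot.1 (cc_sym_4_0 (cc_sym_r h) (H := ⊥) (List.forall_mem_nil _))))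
noncomputable def cc_sym_5_0_S0 : List ℕ := [nat_lit 0xf00000700000c00601e]
noncomputable def cc_sym_5_0_S : List (List ℕ) := [cc_sym_5_0_S0]
noncomputable def cc_sym_5_0_defs : List ℕ := [(nat_lit 0x300001003000000000000000000000)]
noncomputable def cc_sym_5_0_recs : List ℕ := [(nat_lit 0x10000200003)]
noncomputable def cc_sym_5_0_T : List (List ℕ × ℕ) := [([0,3,1,2], (nat_lit 0xc00000100000f000007))]
noncomputable def cc_sym_5_0_D : H26.Dag := ⟨[1,0,3,2,5,4,7,6,9,8,11,10,12,14,13], [[0,1],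
  [1,0],
  [2,3],
  [3,2],
  [4,5],
  [5,4],
  [6,7],
  [7,6],
  [8,9],
  [9,8],
  [10,11],
  [11,10],
  [12,12],
  [13,14],
  [14,13],
  [1,3,0,2]], [], cc_sym_5_0_defs, cc_sym_5_0_recs⟩
theorem cc_sym_5_0_c : cc_sym_5_0_D.check cc_sym_5_0_S cc_sym_5_0_T = true := by decide +kernel
theorem cc_sym_5_0 {G : Type*} [Group G] {g : ℕ → G} (hR : Rels g cc_sym_r_R) {H : Subgroup G}
    (hH : ∀ k ∈ [], g k ∈ H) : evA g [0,3,1,2] ∈ H :=
  mem_dag (K := 15) (J := [0,1,2,3,4,5,6,7,8,9,10,11,12,13,14,20]) (D := cc_sym_5_0_D) (by decide +kernel) cc_sym_5_0_c (by decide +kernel) hR hH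
theorem cc_sym_5 {G : Type*} [Group G] {z w a c f d t m : G}
    (h : CC z w a c f d m t) :
    w * z⁻¹ = z⁻¹ * w :=
  mul_inv_eq_one.1 ((evA_eq_tm ((InvI.cons h.2.2.2.2.2.2.2.2.2.2.2.2.2.2.2.2.1 InvI.nil) : InvI [z, w, a, c, f, d, t, m] [(nat_lit 6)]) [(.v (nat_lit 0)), (.inv (.v (nat_lit 0))), (.v (nat_lit 1)), (.inv (.v (nat_lit 1))), (.v (nat_lit 2)), (.inv (.v (nat_lit 2))), (.v (nat_lit 3)), (.inv (.v (nat_lit 3))), (.v (nat_lit 4)), (.inv (.v (nat_lit 4))), (.v (nat_lit 5)), (.inv (.v (nat_lit 5))), (.v (nat_lit 6)), (.v (nat_lit 7)), (.inv (.v (nat_lit 7)))] [0,3,1,2] (.mul (.mul (.v (nat_lit 1)) (.inv (.v (nat_lit 0)))) (.inv (.mul (.inv (.v (nat_lit 0))) (.v (nat_lit 1))))) (by decide +kernel)).symm.trans (Subgroup.mem_bot.1 (cc_sym_5_0 (cc_sym_r h) (H := ⊥) (List.forall_mem_nil _))))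
noncomputable def cc_sym_6_0_S0 : List ℕ := [nat_lit 0xf00000700000c00601e]
noncomputable def cc_sym_6_0_S : List (List ℕ) := [cc_sym_6_0_S0]
noncomputable def cc_sym_6_0_defs : List ℕ := [(nat_lit 0x500001005000000000000000000000)]
noncomputable def cc_sym_6_0_recs : List ℕ := [(nat_lit 0x10000200003)]
noncomputable def cc_sym_6_0_T : List (List ℕ × ℕ) := [([0,5,1,4], (nat_lit 0xc00000100000f000007))]
noncomputable def cc_sym_6_0_D : H26.Dag := ⟨[1,0,3,2,5,4,7,6,9,8,11,10,12,14,13], [[0,1],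
  [1,0],
  [2,3],
  [3,2],
  [4,5],
  [5,4],
  [6,7],
  [7,6],
  [8,9],
  [9,8],
  [10,11],
  [11,10],
  [12,12],
  [13,14],
  [14,13],
  [1,5,0,4]], [], cc_sym_6_0_defs, cc_sym_6_0_recs⟩
theorem cc_sym_6_0_c : cc_sym_6_0_D.check cc_sym_6_0_S cc_sym_6_0_T = true := by decide +kernel
theorem cc_sym_6_0 {G : Type*} [Group G] {g : ℕ → G} (hR : Rels g cc_sym_r_R) {H : Subgroup G}
    (hH : ∀ k ∈ [], g k ∈ H) : evA g [0,5,1,4] ∈ H :=
  mem_dag (K := 15) (J := [0,1,2,3,4,5,6,7,8,9,10,11,12,13,14,21]) (D := cc_sym_6_0_D) (by decide +kernel) cc_sym_6_0_c (by decide +kernel) hR hH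
theorem cc_sym_6 {G : Type*} [Group G] {z w a c f d t m : G}
    (h : CC z w a c f d m t) :
    a * z⁻¹ = z⁻¹ * a :=
  mul_inv_eq_one.1 ((evA_eq_tm ((InvI.cons h.2.2.2.2.2.2.2.2.2.2.2.2.2.2.2.2.1 InvI.nil) : InvI [z, w, a, c, f, d, t, m] [(nat_lit 6)]) [(.v (nat_lit 0)), (.inv (.v (nat_lit 0))), (.v (nat_lit 1)), (.inv (.v (nat_lit 1))), (.v (nat_lit 2)), (.inv (.v (nat_lit 2))), (.v (nat_lit 3)), (.inv (.v (nat_lit 3))), (.v (nat_lit 4)), (.inv (.v (nat_lit 4))), (.v (nat_lit 5)), (.inv (.v (nat_lit 5))), (.v (nat_lit 6)), (.v (nat_lit 7)), (.inv (.v (nat_lit 7)))] [0,5,1,4] (.mul (.mul (.v (nat_lit 2)) (.inv (.v (nat_lit 0)))) (.inv (.mul (.inv (.v (nat_lit 0))) (.v (nat_lit 2))))) (by decide +kernel)).symm.trans (Subgroup.mem_bot.1 (cc_sym_6_0 (cc_sym_r h) (H := ⊥) (List.forall_mem_nil _))))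
noncomputable def cc_sym_7_0_S0 : List ℕ := [nat_lit 0xf00000700000c00001e]
noncomputable def cc_sym_7_0_S : List (List ℕ) := [cc_sym_7_0_S0]
noncomputable def cc_sym_7_0_defs : List ℕ := [(nat_lit 0x600001006000000000000000000000)]
noncomputable def cc_sym_7_0_recs : List ℕ := [(nat_lit 0x10000200003)]
noncomputable def cc_sym_7_0_T : List (List ℕ × ℕ) := [([0,6,1,7], (nat_lit 0xc00000100000f000007))]
noncomputable def cc_sym_7_0_D : H26.Dag := ⟨[1,0,3,2,5,4,7,6,9,8,11,10,12,14,13], [[0,1],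
  [1,0],
  [2,3],
  [3,2],
  [4,5],
  [5,4],
  [6,7],
  [7,6],
  [8,9],
  [9,8],
  [10,11],
  [11,10],
  [12,12],
  [13,14],
  [14,13],
  [1,7,0,6]], [], cc_sym_7_0_defs, cc_sym_7_0_recs⟩
theorem cc_sym_7_0_c : cc_sym_7_0_D.check cc_sym_7_0_S cc_sym_7_0_T = true := by decide +kernel
theorem cc_sym_7_0 {G : Type*} [Group G] {g : ℕ → G} (hR : Rels g cc_sym_r_R) {H : Subgroup G}
    (hH : ∀ k ∈ [], g k ∈ H) : evA g [0,6,1,7] ∈ H :=
  mem_dag (K := 15) (J := [0,1,2,3,4,5,6,7,8,9,10,11,12,13,14,22]) (D := cc_sym_7_0_D) (by decide +kernel) cc_sym_7_0_c (by decide +kernel) hR hH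
theorem cc_sym_7 {G : Type*} [Group G] {z w a c f d t m : G}
    (h : CC z w a c f d m t) :
    c⁻¹ * z⁻¹ = z⁻¹ * c⁻¹ :=
  mul_inv_eq_one.1 ((evA_eq_tm ((InvI.cons h.2.2.2.2.2.2.2.2.2.2.2.2.2.2.2.2.1 InvI.nil) : InvI [z, w, a, c, f, d, t, m] [(nat_lit 6)]) [(.v (nat_lit 0)), (.inv (.v (nat_lit 0))), (.v (nat_lit 1)), (.inv (.v (nat_lit 1))), (.v (nat_lit 2)), (.inv (.v (nat_lit 2))), (.v (nat_lit 3)), (.inv (.v (nat_lit 3))), (.v (nat_lit 4)), (.inv (.v (nat_lit 4))), (.v (nat_lit 5)), (.inv (.v (nat_lit 5))), (.v (nat_lit 6)), (.v (nat_lit 7)), (.inv (.v (nat_lit 7)))] [0,6,1,7] (.mul (.mul (.inv (.v (nat_lit 3))) (.inv (.v (nat_lit 0)))) (.inv (.mul (.inv (.v (nat_lit 0))) (.inv (.v (nat_lit 3)))))) (by decide +kernel)).symm.trans (Subgroup.mem_bot.1 (cc_sym_7_0 (cc_sym_r h) (H := ⊥) (List.forall_mem_nil _))))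
noncomputable def cc_sym_8_0_S0 : List ℕ := [nat_lit 0xf00000700000c00001e]
noncomputable def cc_sym_8_0_S : List (List ℕ) := [cc_sym_8_0_S0]
noncomputable def cc_sym_8_0_defs : List ℕ := [(nat_lit 0x800001008000000000000000000000)]
noncomputable def cc_sym_8_0_recs : List ℕ := [(nat_lit 0x10000200003)]
noncomputable def cc_sym_8_0_T : List (List ℕ × ℕ) := [([0,8,1,9], (nat_lit 0xc00000100000f000007))]
noncomputable def cc_sym_8_0_D : H26.Dag := ⟨[1,0,3,2,5,4,7,6,9,8,11,10,12,14,13], [[0,1],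
  [1,0],
  [2,3],
  [3,2],
  [4,5],
  [5,4],
  [6,7],
  [7,6],
  [8,9],
  [9,8],
  [10,11],
  [11,10],
  [12,12],
  [13,14],
  [14,13],
  [1,9,0,8]], [], cc_sym_8_0_defs, cc_sym_8_0_recs⟩
theorem cc_sym_8_0_c : cc_sym_8_0_D.check cc_sym_8_0_S cc_sym_8_0_T = true := by decide +kernel
theorem cc_sym_8_0 {G : Type*} [Group G] {g : ℕ → G} (hR : Rels g cc_sym_r_R) {H : Subgroup G}
    (hH : ∀ k ∈ [], g k ∈ H) : evA g [0,8,1,9] ∈ H :=
  mem_dag (K := 15) (J := [0,1,2,3,4,5,6,7,8,9,10,11,12,13,14,23]) (D := cc_sym_8_0_D) (by decide +kernel) cc_sym_8_0_c (by decide +kernel) hR hH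
theorem cc_sym_8 {G : Type*} [Group G] {z w a c f d t m : G}
    (h : CC z w a c f d m t) :
    f⁻¹ * z⁻¹ = z⁻¹ * f⁻¹ :=
  mul_inv_eq_one.1 ((evA_eq_tm ((InvI.cons h.2.2.2.2.2.2.2.2.2.2.2.2.2.2.2.2.1 InvI.nil) : InvI [z, w, a, c, f, d, t, m] [(nat_lit 6)]) [(.v (nat_lit 0)), (.inv (.v (nat_lit 0))), (.v (nat_lit 1)), (.inv (.v (nat_lit 1))), (.v (nat_lit 2)), (.inv (.v (nat_lit 2))), (.v (nat_lit 3)), (.inv (.v (nat_lit 3))), (.v (nat_lit 4)), (.inv (.v (nat_lit 4))), (.v (nat_lit 5)), (.inv (.v (nat_lit 5))), (.v (nat_lit 6)), (.v (nat_lit 7)), (.inv (.v (nat_lit 7)))] [0,8,1,9] (.mul (.mul (.inv (.v (nat_lit 4))) (.inv (.v (nat_lit 0)))) (.inv (.mul (.inv (.v (nat_lit 0))) (.inv (.v (nat_lit 4)))))) (by decide +kernel)).symm.trans (Subgroup.mem_bot.1 (cc_sym_8_0 (cc_sym_r h) (H := ⊥) (List.forall_mem_nil _))))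
noncomputable def cc_sym_10_0_S0 : List ℕ := [nat_lit 0xf00000700000c00601e]
noncomputable def cc_sym_10_0_S : List (List ℕ) := [cc_sym_10_0_S0]
noncomputable def cc_sym_10_0_defs : List ℕ := [(nat_lit 0x300001003000000060000000000000)]
noncomputable def cc_sym_10_0_recs : List ℕ := [(nat_lit 0x70000200003)]
noncomputable def cc_sym_10_0_T : List (List ℕ × ℕ) := [([6,3,7,2], (nat_lit 0xc00000100000f000007))]
noncomputable def cc_sym_10_0_D : H26.Dag := ⟨[1,0,3,2,5,4,7,6,9,8,11,10,12,14,13], [[0,1],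
  [1,0],
  [2,3],
  [3,2],
  [4,5],
  [5,4],
  [6,7],
  [7,6],
  [8,9],
  [9,8],
  [10,11],
  [11,10],
  [12,12],
  [13,14],
  [14,13],
  [7,3,6,2]], [], cc_sym_10_0_defs, cc_sym_10_0_recs⟩
theorem cc_sym_10_0_c : cc_sym_10_0_D.check cc_sym_10_0_S cc_sym_10_0_T = true := by decide +kernel
theorem cc_sym_10_0 {G : Type*} [Group G] {g : ℕ → G} (hR : Rels g cc_sym_r_R) {H : Subgroup G}
    (hH : ∀ k ∈ [], g k ∈ H) : evA g [6,3,7,2] ∈ H :=
  mem_dag (K := 15) (J := [0,1,2,3,4,5,6,7,8,9,10,11,12,13,14,25]) (D := cc_sym_10_0_D) (by decide +kernel) cc_sym_10_0_c (by decide +kernel) hR hH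
theorem cc_sym_10 {G : Type*} [Group G] {z w a c f d t m : G}
    (h : CC z w a c f d m t) :
    w * c⁻¹ = c⁻¹ * w :=
  mul_inv_eq_one.1 ((evA_eq_tm ((InvI.cons h.2.2.2.2.2.2.2.2.2.2.2.2.2.2.2.2.1 InvI.nil) : InvI [z, w, a, c, f, d, t, m] [(nat_lit 6)]) [(.v (nat_lit 0)), (.inv (.v (nat_lit 0))), (.v (nat_lit 1)), (.inv (.v (nat_lit 1))), (.v (nat_lit 2)), (.inv (.v (nat_lit 2))), (.v (nat_lit 3)), (.inv (.v (nat_lit 3))), (.v (nat_lit 4)), (.inv (.v (nat_lit 4))), (.v (nat_lit 5)), (.inv (.v (nat_lit 5))), (.v (nat_lit 6)), (.v (nat_lit 7)), (.inv (.v (nat_lit 7)))] [6,3,7,2] (.mul (.mul (.v (nat_lit 1)) (.inv (.v (nat_lit 3)))) (.inv (.mul (.inv (.v (nat_lit 3))) (.v (nat_lit 1))))) (by decide +kernel)).symm.trans (Subgroup.mem_bot.1 (cc_sym_10_0 (cc_sym_r h) (H := ⊥) (List.forall_mem_nil _))))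
noncomputable def cc_sym_11_0_S0 : List ℕ := [nat_lit 0xf00000700000c00601e]
noncomputable def cc_sym_11_0_S : List (List ℕ) := [cc_sym_11_0_S0]
noncomputable def cc_sym_11_0_defs : List ℕ := [(nat_lit 0x500001005000000080000000000000)]
noncomputable def cc_sym_11_0_recs : List ℕ := [(nat_lit 0x90000200003)]
noncomputable def cc_sym_11_0_T : List (List ℕ × ℕ) := [([8,5,9,4], (nat_lit 0xc00000100000f000007))]
noncomputable def cc_sym_11_0_D : H26.Dag := ⟨[1,0,3,2,5,4,7,6,9,8,11,10,12,14,13], [[0,1],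
  [1,0],
  [2,3],
  [3,2],
  [4,5],
  [5,4],
  [6,7],
  [7,6],
  [8,9],
  [9,8],
  [10,11],
  [11,10],
  [12,12],
  [13,14],
  [14,13],
  [9,5,8,4]], [], cc_sym_11_0_defs, cc_sym_11_0_recs⟩
theorem cc_sym_11_0_c : cc_sym_11_0_D.check cc_sym_11_0_S cc_sym_11_0_T = true := by decide +kernel
theorem cc_sym_11_0 {G : Type*} [Group G] {g : ℕ → G} (hR : Rels g cc_sym_r_R) {H : Subgroup G}
    (hH : ∀ k ∈ [], g k ∈ H) : evA g [8,5,9,4] ∈ H :=
  mem_dag (K := 15) (J := [0,1,2,3,4,5,6,7,8,9,10,11,12,13,14,26]) (D := cc_sym_11_0_D) (by decide +kernel) cc_sym_11_0_c (by decide +kernel) hR hH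
theorem cc_sym_11 {G : Type*} [Group G] {z w a c f d t m : G}
    (h : CC z w a c f d m t) :
    a * f⁻¹ = f⁻¹ * a :=
  mul_inv_eq_one.1 ((evA_eq_tm ((InvI.cons h.2.2.2.2.2.2.2.2.2.2.2.2.2.2.2.2.1 InvI.nil) : InvI [z, w, a, c, f, d, t, m] [(nat_lit 6)]) [(.v (nat_lit 0)), (.inv (.v (nat_lit 0))), (.v (nat_lit 1)), (.inv (.v (nat_lit 1))), (.v (nat_lit 2)), (.inv (.v (nat_lit 2))), (.v (nat_lit 3)), (.inv (.v (nat_lit 3))), (.v (nat_lit 4)), (.inv (.v (nat_lit 4))), (.v (nat_lit 5)), (.inv (.v (nat_lit 5))), (.v (nat_lit 6)), (.v (nat_lit 7)), (.inv (.v (nat_lit 7)))] [8,5,9,4] (.mul (.mul (.v (nat_lit 2)) (.inv (.v (nat_lit 4)))) (.inv (.mul (.inv (.v (nat_lit 4))) (.v (nat_lit 2))))) (by decide +kernel)).symm.trans (Subgroup.mem_bot.1 (cc_sym_11_0 (cc_sym_r h) (H := ⊥) (List.forall_mem_nil _))))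
noncomputable def cc_sym_12_0_S0 : List ℕ := [nat_lit 0xf00000700000c00001e]
noncomputable def cc_sym_12_0_S : List (List ℕ) := [cc_sym_12_0_S0]
noncomputable def cc_sym_12_0_defs : List ℕ := [(nat_lit 0x600001006000000080000000000000)]
noncomputable def cc_sym_12_0_recs : List ℕ := [(nat_lit 0x90000200003)]
noncomputable def cc_sym_12_0_T : List (List ℕ × ℕ) := [([8,6,9,7], (nat_lit 0xc00000100000f000007))]
noncomputable def cc_sym_12_0_D : H26.Dag := ⟨[1,0,3,2,5,4,7,6,9,8,11,10,12,14,13], [[0,1],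
  [1,0],
  [2,3],
  [3,2],
  [4,5],
  [5,4],
  [6,7],
  [7,6],
  [8,9],
  [9,8],
  [10,11],
  [11,10],
  [12,12],
  [13,14],
  [14,13],
  [9,7,8,6]], [], cc_sym_12_0_defs, cc_sym_12_0_recs⟩
theorem cc_sym_12_0_c : cc_sym_12_0_D.check cc_sym_12_0_S cc_sym_12_0_T = true := by decide +kernel
theorem cc_sym_12_0 {G : Type*} [Group G] {g : ℕ → G} (hR : Rels g cc_sym_r_R) {H : Subgroup G}
    (hH : ∀ k ∈ [], g k ∈ H) : evA g [8,6,9,7] ∈ H :=
  mem_dag (K := 15) (J := [0,1,2,3,4,5,6,7,8,9,10,11,12,13,14,27]) (D := cc_sym_12_0_D) (by decide +kernel) cc_sym_12_0_c (by decide +kernel) hR hH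
theorem cc_sym_12 {G : Type*} [Group G] {z w a c f d t m : G}
    (h : CC z w a c f d m t) :
    c⁻¹ * f⁻¹ = f⁻¹ * c⁻¹ :=
  mul_inv_eq_one.1 ((evA_eq_tm ((InvI.cons h.2.2.2.2.2.2.2.2.2.2.2.2.2.2.2.2.1 InvI.nil) : InvI [z, w, a, c, f, d, t, m] [(nat_lit 6)]) [(.v (nat_lit 0)), (.inv (.v (nat_lit 0))), (.v (nat_lit 1)), (.inv (.v (nat_lit 1))), (.v (nat_lit 2)), (.inv (.v (nat_lit 2))), (.v (nat_lit 3)), (.inv (.v (nat_lit 3))), (.v (nat_lit 4)), (.inv (.v (nat_lit 4))), (.v (nat_lit 5)), (.inv (.v (nat_lit 5))), (.v (nat_lit 6)), (.v (nat_lit 7)), (.inv (.v (nat_lit 7)))] [8,6,9,7] (.mul (.mul (.inv (.v (nat_lit 3))) (.inv (.v (nat_lit 4)))) (.inv (.mul (.inv (.v (nat_lit 4))) (.inv (.v (nat_lit 3)))))) (by decide +kernel)).symm.trans (Subgroup.mem_bot.1 (cc_sym_12_0 (cc_sym_r h) (H := ⊥) (List.forall_mem_nil _))))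
noncomputable def cc_sym_13_0_S0 : List ℕ := [nat_lit 0x1700000800001000e01e, nat_lit 0x100001700000c000014002020]
noncomputable def cc_sym_13_0_S : List (List ℕ) := [cc_sym_13_0_S0]
noncomputable def cc_sym_13_0_defs : List ℕ := [(nat_lit 0x8000000080000200800001003000000000000000000000)]
noncomputable def cc_sym_13_0_recs : List ℕ := [(nat_lit 0x30000400003000000300005)]
noncomputable def cc_sym_13_0_T : List (List ℕ × ℕ) := [([0,8,3,9,2], (nat_lit 0xc00001400000500000f000007))]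
noncomputable def cc_sym_13_0_D : H26.Dag := ⟨[1,0,3,2,5,4,7,6,9,8,11,10,12,14,13], [[0,1],
  [1,0],
  [2,3],
  [3,2],
  [4,5],
  [5,4],
  [6,7],
  [7,6],
  [8,9],
  [9,8],
  [10,11],
  [11,10],
  [12,12],
  [13,14],
  [14,13],
  [1,9,0,8],
  [1,9,3,8,2]], [], cc_sym_13_0_defs, cc_sym_13_0_recs⟩
theorem cc_sym_13_0_c : cc_sym_13_0_D.check cc_sym_13_0_S cc_sym_13_0_T = true := by decide +kernel
theorem cc_sym_13_0 {G : Type*} [Group G] {g : ℕ → G} (hR : Rels g cc_sym_r_R) {H : Subgroup G}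
    (hH : ∀ k ∈ [], g k ∈ H) : evA g [0,8,3,9,2] ∈ H :=
  mem_dag (K := 15) (J := [0,1,2,3,4,5,6,7,8,9,10,11,12,13,14,23,28]) (D := cc_sym_13_0_D) (by decide +kernel) cc_sym_13_0_c (by decide +kernel) hR hH
theorem cc_sym_13 {G : Type*} [Group G] {z w a c f d t m : G}
    (h : CC z w a c f d m t) :
    ⁅w, f⁻¹⁆ = z⁻¹ :=
  mul_inv_eq_one.1 ((evA_eq_tm ((InvI.cons h.2.2.2.2.2.2.2.2.2.2.2.2.2.2.2.2.1 InvI.nil) : InvI [z, w, a, c, f, d, t, m] [(nat_lit 6)]) [(.v (nat_lit 0)), (.inv (.v (nat_lit 0))), (.v (nat_lit 1)), (.inv (.v (nat_lit 1))), (.v (nat_lit 2)), (.inv (.v (nat_lit 2))), (.v (nat_lit 3)), (.inv (.v (nat_lit 3))), (.v (nat_lit 4)), (.inv (.v (nat_lit 4))), (.v (nat_lit 5)), (.inv (.v (nat_lit 5))), (.v (nat_lit 6)), (.v (nat_lit 7)), (.inv (.v (nat_lit 7)))] [0,8,3,9,2] (.mul (.mul (.mul (.mul (.v (nat_lit 1)) (.inv (.v (nat_lit 4)))) (.inv (.v (nat_lit 1)))) (.inv (.inv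 (.v (nat_lit 4))))) (.inv (.inv (.v (nat_lit 0))))) (by decide +kernel)).symm.trans (Subgroup.mem_bot.1 (cc_sym_13_0 (cc_sym_r h) (H := ⊥) (List.forall_mem_nil _))))
noncomputable def cc_sym_14_0_S0 : List ℕ := [nat_lit 0x1700000700000c00001e, nat_lit 0x13000001000017000010008020]
noncomputable def cc_sym_14_0_S : List (List ℕ) := [cc_sym_14_0_S0]
noncomputable def cc_sym_14_0_defs : List ℕ := [(nat_lit 0x6000010050000200500001006000000000000000000000)]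
noncomputable def cc_sym_14_0_recs : List ℕ := [(nat_lit 0x70000300004010000200005)]
noncomputable def cc_sym_14_0_T : List (List ℕ × ℕ) := [([0,5,6,4,7], (nat_lit 0xc00001400000600000f000007))]
noncomputable def cc_sym_14_0_D : H26.Dag := ⟨[1,0,3,2,5,4,7,6,9,8,11,10,12,14,13], [[0,1],
  [1,0],
  [2,3],
  [3,2],
  [4,5],
  [5,4],
  [6,7],
  [7,6],
  [8,9],
  [9,8],
  [10,11],
  [11,10],
  [12,12],
  [13,14],
  [14,13],
  [1,7,0,6],
  [1,5,7,4,6]], [], cc_sym_14_0_defs, cc_sym_14_0_recs⟩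
theorem cc_sym_14_0_c : cc_sym_14_0_D.check cc_sym_14_0_S cc_sym_14_0_T = true := by decide +kernel
theorem cc_sym_14_0 {G : Type*} [Group G] {g : ℕ → G} (hR : Rels g cc_sym_r_R) {H : Subgroup G}
    (hH : ∀ k ∈ [], g k ∈ H) : evA g [0,5,6,4,7] ∈ H :=
  mem_dag (K := 15) (J := [0,1,2,3,4,5,6,7,8,9,10,11,12,13,14,22,29]) (D := cc_sym_14_0_D) (by decide +kernel) cc_sym_14_0_c (by decide +kernel) hR hH
theorem cc_sym_14 {G : Type*} [Group G] {z w a c f d t m : G}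
    (h : CC z w a c f d m t) :
    ⁅c⁻¹, a⁆ = z⁻¹ :=
  mul_inv_eq_one.1 ((evA_eq_tm ((InvI.cons h.2.2.2.2.2.2.2.2.2.2.2.2.2.2.2.2.1 InvI.nil) : InvI [z, w, a, c, f, d, t, m] [(nat_lit 6)]) [(.v (nat_lit 0)), (.inv (.v (nat_lit 0))), (.v (nat_lit 1)), (.inv (.v (nat_lit 1))), (.v (nat_lit 2)), (.inv (.v (nat_lit 2))), (.v (nat_lit 3)), (.inv (.v (nat_lit 3))), (.v (nat_lit 4)), (.inv (.v (nat_lit 4))), (.v (nat_lit 5)), (.inv (.v (nat_lit 5))), (.v (nat_lit 6)), (.v (nat_lit 7)), (.inv (.v (nat_lit 7)))] [0,5,6,4,7] (.mul (.mul (.mul (.mul (.inv (.v (nat_lit 3))) (.v (nat_lit 2))) (.inv (.inv (.v (nat_lit 3))))) (.inv (.v (nat_lit 2)))) (.inv (.inv (.v (nat_lit 0))))) (by decide +kernel)).symm.trans (Subgroup.mem_bot.1 (cc_sym_14_0 (cc_sym_r h) (H := ⊥) (List.forall_mem_nil _))))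
noncomputable def cc_sym_19_0_S0 : List ℕ := [nat_lit 0xf00000700000c00601e]
noncomputable def cc_sym_19_0_S : List (List ℕ) := [cc_sym_19_0_S0]
noncomputable def cc_sym_19_0_defs : List ℕ := [(nat_lit 0xb0000100b000000000000000000000)]
noncomputable def cc_sym_19_0_recs : List ℕ := [(nat_lit 0x10000200003)]
noncomputable def cc_sym_19_0_T : List (List ℕ × ℕ) := [([0,11,1,10], (nat_lit 0xc00000100000f000007))]
noncomputable def cc_sym_19_0_D : H26.Dag := ⟨[1,0,3,2,5,4,7,6,9,8,11,10,12,14,13], [[0,1],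
  [1,0],
  [2,3],
  [3,2],
  [4,5],
  [5,4],
  [6,7],
  [7,6],
  [8,9],
  [9,8],
  [10,11],
  [11,10],
  [12,12],
  [13,14],
  [14,13],
  [1,11,0,10]], [], cc_sym_19_0_defs, cc_sym_19_0_recs⟩
theorem cc_sym_19_0_c : cc_sym_19_0_D.check cc_sym_19_0_S cc_sym_19_0_T = true := by decide +kernel
theorem cc_sym_19_0 {G : Type*} [Group G] {g : ℕ → G} (hR : Rels g cc_sym_r_R) {H : Subgroup G}
    (hH : ∀ k ∈ [], g k ∈ H) : evA g [0,11,1,10] ∈ H :=
  mem_dag (K := 15) (J := [0,1,2,3,4,5,6,7,8,9,10,11,12,13,14,33]) (D := cc_sym_19_0_D) (by decide +kernel) cc_sym_19_0_c (by decide +kernel) hR hH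
theorem cc_sym_19 {G : Type*} [Group G] {z w a c f d t m : G}
    (h : CC z w a c f d m t) :
    d * z⁻¹ = z⁻¹ * d :=
  mul_inv_eq_one.1 ((evA_eq_tm ((InvI.cons h.2.2.2.2.2.2.2.2.2.2.2.2.2.2.2.2.1 InvI.nil) : InvI [z, w, a, c, f, d, t, m] [(nat_lit 6)]) [(.v (nat_lit 0)), (.inv (.v (nat_lit 0))), (.v (nat_lit 1)), (.inv (.v (nat_lit 1))), (.v (nat_lit 2)), (.inv (.v (nat_lit 2))), (.v (nat_lit 3)), (.inv (.v (nat_lit 3))), (.v (nat_lit 4)), (.inv (.v (nat_lit 4))), (.v (nat_lit 5)), (.inv (.v (nat_lit 5))), (.v (nat_lit 6)), (.v (nat_lit 7)), (.inv (.v (nat_lit 7)))] [0,11,1,10] (.mul (.mul (.v (nat_lit 5)) (.inv (.v (nat_lit 0)))) (.inv (.mul (.inv (.v (nat_lit 0))) (.v (nat_lit 5))))) (by decide +kernel)).symm.trans (Subgroup.mem_bot.1 (cc_sym_19_0 (cc_sym_r h) (H := ⊥) (List.forall_mem_nil _))))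
noncomputable def cc_sym_20_0_S0 : List ℕ := [nat_lit 0xf00000700000c00601e]
noncomputable def cc_sym_20_0_S : List (List ℕ) := [cc_sym_20_0_S0]
noncomputable def cc_sym_20_0_defs : List ℕ := [(nat_lit 0xe0000100e000000000000000000000)]
noncomputable def cc_sym_20_0_recs : List ℕ := [(nat_lit 0x10000200003)]
noncomputable def cc_sym_20_0_T : List (List ℕ × ℕ) := [([0,14,1,13], (nat_lit 0xc00000100000f000007))]
noncomputable def cc_sym_20_0_D : H26.Dag := ⟨[1,0,3,2,5,4,7,6,9,8,11,10,12,14,13], [[0,1],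
  [1,0],
  [2,3],
  [3,2],
  [4,5],
  [5,4],
  [6,7],
  [7,6],
  [8,9],
  [9,8],
  [10,11],
  [11,10],
  [12,12],
  [13,14],
  [14,13],
  [1,14,0,13]], [], cc_sym_20_0_defs, cc_sym_20_0_recs⟩
theorem cc_sym_20_0_c : cc_sym_20_0_D.check cc_sym_20_0_S cc_sym_20_0_T = true := by decide +kernel
theorem cc_sym_20_0 {G : Type*} [Group G] {g : ℕ → G} (hR : Rels g cc_sym_r_R) {H : Subgroup G}
    (hH : ∀ k ∈ [], g k ∈ H) : evA g [0,14,1,13] ∈ H :=
  mem_dag (K := 15) (J := [0,1,2,3,4,5,6,7,8,9,10,11,12,13,14,34]) (D := cc_sym_20_0_D) (by decide +kernel) cc_sym_20_0_c (by decide +kernel) hR hH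
theorem cc_sym_20 {G : Type*} [Group G] {z w a c f d t m : G}
    (h : CC z w a c f d m t) :
    m * z⁻¹ = z⁻¹ * m :=
  mul_inv_eq_one.1 ((evA_eq_tm ((InvI.cons h.2.2.2.2.2.2.2.2.2.2.2.2.2.2.2.2.1 InvI.nil) : InvI [z, w, a, c, f, d, t, m] [(nat_lit 6)]) [(.v (nat_lit 0)), (.inv (.v (nat_lit 0))), (.v (nat_lit 1)), (.inv (.v (nat_lit 1))), (.v (nat_lit 2)), (.inv (.v (nat_lit 2))), (.v (nat_lit 3)), (.inv (.v (nat_lit 3))), (.v (nat_lit 4)), (.inv (.v (nat_lit 4))), (.v (nat_lit 5)), (.inv (.v (nat_lit 5))), (.v (nat_lit 6)), (.v (nat_lit 7)), (.inv (.v (nat_lit 7)))] [0,14,1,13] (.mul (.mul (.v (nat_lit 7)) (.inv (.v (nat_lit 0)))) (.inv (.mul (.inv (.v (nat_lit 0))) (.v (nat_lit 7))))) (by decide +kernel)).symm.trans (Subgroup.mem_bot.1 (cc_sym_20_0 (cc_sym_r h) (H := ⊥) (List.forall_mem_nil _))))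
noncomputable def cc_sym_23_0_S0 : List ℕ := [nat_lit 0xf00000700000c00601e]
noncomputable def cc_sym_23_0_S : List (List ℕ) := [cc_sym_23_0_S0]
noncomputable def cc_sym_23_0_defs : List ℕ := [(nat_lit 0xb0000100b000000060000000000000)]
noncomputable def cc_sym_23_0_recs : List ℕ := [(nat_lit 0x70000200003)]
noncomputable def cc_sym_23_0_T : List (List ℕ × ℕ) := [([6,11,7,10], (nat_lit 0xc00000100000f000007))]
noncomputable def cc_sym_23_0_D : H26.Dag := ⟨[1,0,3,2,5,4,7,6,9,8,11,10,12,14,13], [[0,1],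
  [1,0],
  [2,3],
  [3,2],
  [4,5],
  [5,4],
  [6,7],
  [7,6],
  [8,9],
  [9,8],
  [10,11],
  [11,10],
  [12,12],
  [13,14],
  [14,13],
  [7,11,6,10]], [], cc_sym_23_0_defs, cc_sym_23_0_recs⟩
theorem cc_sym_23_0_c : cc_sym_23_0_D.check cc_sym_23_0_S cc_sym_23_0_T = true := by decide +kernel
theorem cc_sym_23_0 {G : Type*} [Group G] {g : ℕ → G} (hR : Rels g cc_sym_r_R) {H : Subgroup G}
    (hH : ∀ k ∈ [], g k ∈ H) : evA g [6,11,7,10] ∈ H :=
  mem_dag (K := 15) (J := [0,1,2,3,4,5,6,7,8,9,10,11,12,13,14,37]) (D := cc_sym_23_0_D) (by decide +kernel) cc_sym_23_0_c (by decide +kernel) hR hH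
theorem cc_sym_23 {G : Type*} [Group G] {z w a c f d t m : G}
    (h : CC z w a c f d m t) :
    d * c⁻¹ = c⁻¹ * d :=
  mul_inv_eq_one.1 ((evA_eq_tm ((InvI.cons h.2.2.2.2.2.2.2.2.2.2.2.2.2.2.2.2.1 InvI.nil) : InvI [z, w, a, c, f, d, t, m] [(nat_lit 6)]) [(.v (nat_lit 0)), (.inv (.v (nat_lit 0))), (.v (nat_lit 1)), (.inv (.v (nat_lit 1))), (.v (nat_lit 2)), (.inv (.v (nat_lit 2))), (.v (nat_lit 3)), (.inv (.v (nat_lit 3))), (.v (nat_lit 4)), (.inv (.v (nat_lit 4))), (.v (nat_lit 5)), (.inv (.v (nat_lit 5))), (.v (nat_lit 6)), (.v (nat_lit 7)), (.inv (.v (nat_lit 7)))] [6,11,7,10] (.mul (.mul (.v (nat_lit 5)) (.inv (.v (nat_lit 3)))) (.inv (.mul (.inv (.v (nat_lit 3))) (.v (nat_lit 5))))) (by decide +kernel)).symm.trans (Subgroup.mem_bot.1 (cc_sym_23_0 (cc_sym_r h) (H := ⊥) (List.forall_mem_nil _))))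
noncomputable def cc_sym_25_0_S0 : List ℕ := [nat_lit 0x1700000800001000801e, nat_lit 0x100001700000c000014002020]
noncomputable def cc_sym_25_0_S : List (List ℕ) := [cc_sym_25_0_S0]
noncomputable def cc_sym_25_0_defs : List ℕ := [(nat_lit 0x700000008000020070000100b000000080000000000000)]
noncomputable def cc_sym_25_0_recs : List ℕ := [(nat_lit 0xb0000400003080000300005)]
noncomputable def cc_sym_25_0_T : List (List ℕ × ℕ) := [([8,7,11,9,10], (nat_lit 0xc00001400000500000f000007))]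
noncomputable def cc_sym_25_0_D : H26.Dag := ⟨[1,0,3,2,5,4,7,6,9,8,11,10,12,14,13], [[0,1],
  [1,0],
  [2,3],
  [3,2],
  [4,5],
  [5,4],
  [6,7],
  [7,6],
  [8,9],
  [9,8],
  [10,11],
  [11,10],
  [12,12],
  [13,14],
  [14,13],
  [9,7,8,6],
  [9,6,11,8,10]], [], cc_sym_25_0_defs, cc_sym_25_0_recs⟩
theorem cc_sym_25_0_c : cc_sym_25_0_D.check cc_sym_25_0_S cc_sym_25_0_T = true := by decide +kernel
theorem cc_sym_25_0 {G : Type*} [Group G] {g : ℕ → G} (hR : Rels g cc_sym_r_R) {H : Subgroup G}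
    (hH : ∀ k ∈ [], g k ∈ H) : evA g [8,7,11,9,10] ∈ H :=
  mem_dag (K := 15) (J := [0,1,2,3,4,5,6,7,8,9,10,11,12,13,14,27,39]) (D := cc_sym_25_0_D) (by decide +kernel) cc_sym_25_0_c (by decide +kernel) hR hH
theorem cc_sym_25 {G : Type*} [Group G] {z w a c f d t m : G}
    (h : CC z w a c f d m t) :
    d * f⁻¹ * d⁻¹ = f⁻¹ * c⁻¹⁻¹ :=
  mul_inv_eq_one.1 ((evA_eq_tm ((InvI.cons h.2.2.2.2.2.2.2.2.2.2.2.2.2.2.2.2.1 InvI.nil) : InvI [z, w, a, c, f, d, t, m] [(nat_lit 6)]) [(.v (nat_lit 0)), (.inv (.v (nat_lit 0))), (.v (nat_lit 1)), (.inv (.v (nat_lit 1))), (.v (nat_lit 2)), (.inv (.v (nat_lit 2))), (.v (nat_lit 3)), (.inv (.v (nat_lit 3))), (.v (nat_lit 4)), (.inv (.v (nat_lit 4))), (.v (nat_lit 5)), (.inv (.v (nat_lit 5))), (.v (nat_lit 6)), (.v (nat_lit 7)), (.inv (.v (nat_lit 7)))] [8,7,11,9,10] (.mul (.mul (.mul (.v (nat_lit 5)) (.inv (.v (nat_lit 4)))) (.inv (.v (nat_lit 5))))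 (.inv (.mul (.inv (.v (nat_lit 4))) (.inv (.inv (.v (nat_lit 3))))))) (by decide +kernel)).symm.trans (Subgroup.mem_bot.1 (cc_sym_25_0 (cc_sym_r h) (H := ⊥) (List.forall_mem_nil _))))
noncomputable def cc_sym_28_0_S0 : List ℕ := [nat_lit 0xf00000700000c00601e]
noncomputable def cc_sym_28_0_S : List (List ℕ) := [cc_sym_28_0_S0]
noncomputable def cc_sym_28_0_defs : List ℕ := [(nat_lit 0xe0000100e000000080000000000000)]
noncomputable def cc_sym_28_0_recs : List ℕ := [(nat_lit 0x70000200003)]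
noncomputable def cc_sym_28_0_T : List (List ℕ × ℕ) := [([8,14,7,13], (nat_lit 0xc00000100000f000007))]
noncomputable def cc_sym_28_0_D : H26.Dag := ⟨[1,0,3,2,5,4,7,6,9,8,11,10,12,14,13], [[0,1],
  [1,0],
  [2,3],
  [3,2],
  [4,5],
  [5,4],
  [6,7],
  [7,6],
  [8,9],
  [9,8],
  [10,11],
  [11,10],
  [12,12],
  [13,14],
  [14,13],
  [9,14,6,13]], [], cc_sym_28_0_defs, cc_sym_28_0_recs⟩
theorem cc_sym_28_0_c : cc_sym_28_0_D.check cc_sym_28_0_S cc_sym_28_0_T = true := by decide +kernel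
theorem cc_sym_28_0 {G : Type*} [Group G] {g : ℕ → G} (hR : Rels g cc_sym_r_R) {H : Subgroup G}
    (hH : ∀ k ∈ [], g k ∈ H) : evA g [8,14,7,13] ∈ H :=
  mem_dag (K := 15) (J := [0,1,2,3,4,5,6,7,8,9,10,11,12,13,14,42]) (D := cc_sym_28_0_D) (by decide +kernel) cc_sym_28_0_c (by decide +kernel) hR hH
theorem cc_sym_28 {G : Type*} [Group G] {z w a c f d t m : G}
    (h : CC z w a c f d m t) :
    m * c⁻¹ * m⁻¹ = f⁻¹ :=
  mul_inv_eq_one.1 ((evA_eq_tm ((InvI.cons h.2.2.2.2.2.2.2.2.2.2.2.2.2.2.2.2.1 InvI.nil) : InvI [z, w, a, c, f, d, t, m] [(nat_lit 6)]) [(.v (nat_lit 0)), (.inv (.v (nat_lit 0))), (.v (nat_lit 1)), (.inv (.v (nat_lit 1))), (.v (nat_lit 2)), (.inv (.v (nat_lit 2))), (.v (nat_lit 3)), (.inv (.v (nat_lit 3))), (.v (nat_lit 4)), (.inv (.v (nat_lit 4))), (.v (nat_lit 5)), (.inv (.v (nat_lit 5))), (.v (nat_lit 6)), (.v (nat_lit 7)), (.inv (.v (nat_lit 7)))] [8,14,7,13] (.mul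 (.mul (.mul (.v (nat_lit 7)) (.inv (.v (nat_lit 3)))) (.inv (.v (nat_lit 7)))) (.inv (.inv (.v (nat_lit 4))))) (by decide +kernel)).symm.trans (Subgroup.mem_bot.1 (cc_sym_28_0 (cc_sym_r h) (H := ⊥) (List.forall_mem_nil _))))
noncomputable def cc_sym_29_0_S0 : List ℕ := [nat_lit 0xf00000700000c00601e]
noncomputable def cc_sym_29_0_S : List (List ℕ) := [cc_sym_29_0_S0]
noncomputable def cc_sym_29_0_defs : List ℕ := [(nat_lit 0xe0000100e000000070000000000000)]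
noncomputable def cc_sym_29_0_recs : List ℕ := [(nat_lit 0x90000200003)]
noncomputable def cc_sym_29_0_T : List (List ℕ × ℕ) := [([7,14,9,13], (nat_lit 0xc00000100000f000007))]
noncomputable def cc_sym_29_0_D : H26.Dag := ⟨[1,0,3,2,5,4,7,6,9,8,11,10,12,14,13], [[0,1],
  [1,0],
  [2,3],
  [3,2],
  [4,5],
  [5,4],
  [6,7],
  [7,6],
  [8,9],
  [9,8],
  [10,11],
  [11,10],
  [12,12],
  [13,14],
  [14,13],
  [6,14,8,13]], [], cc_sym_29_0_defs, cc_sym_29_0_recs⟩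
theorem cc_sym_29_0_c : cc_sym_29_0_D.check cc_sym_29_0_S cc_sym_29_0_T = true := by decide +kernel
theorem cc_sym_29_0 {G : Type*} [Group G] {g : ℕ → G} (hR : Rels g cc_sym_r_R) {H : Subgroup G}
    (hH : ∀ k ∈ [], g k ∈ H) : evA g [7,14,9,13] ∈ H :=
  mem_dag (K := 15) (J := [0,1,2,3,4,5,6,7,8,9,10,11,12,13,14,43]) (D := cc_sym_29_0_D) (by decide +kernel) cc_sym_29_0_c (by decide +kernel) hR hH
theorem cc_sym_29 {G : Type*} [Group G] {z w a c f d t m : G}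
    (h : CC z w a c f d m t) :
    m * f⁻¹ * m⁻¹ = c⁻¹⁻¹ :=
  mul_inv_eq_one.1 ((evA_eq_tm ((InvI.cons h.2.2.2.2.2.2.2.2.2.2.2.2.2.2.2.2.1 InvI.nil) : InvI [z, w, a, c, f, d, t, m] [(nat_lit 6)]) [(.v (nat_lit 0)), (.inv (.v (nat_lit 0))), (.v (nat_lit 1)), (.inv (.v (nat_lit 1))), (.v (nat_lit 2)), (.inv (.v (nat_lit 2))), (.v (nat_lit 3)), (.inv (.v (nat_lit 3))), (.v (nat_lit 4)), (.inv (.v (nat_lit 4))), (.v (nat_lit 5)), (.inv (.v (nat_lit 5))), (.v (nat_lit 6)), (.v (nat_lit 7)), (.inv (.v (nat_lit 7)))] [7,14,9,13] (.mul (.mul (.mul (.v (nat_lit 7)) (.inv (.v (nat_lit 4)))) (.inv (.v (nat_lit 7)))) (.inv (.inv (.inv (.v (nat_lit 3)))))) (by decide +kernel)).symm.trans (Subgroup.mem_bot.1 (cc_sym_29_0 (cc_sym_r h) (H := ⊥) (List.forall_mem_nil _))))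
noncomputable def cc_sym_30_0_S0 : List ℕ := [nat_lit 0xf00000700000c00001e]
noncomputable def cc_sym_30_0_S : List (List ℕ) := [cc_sym_30_0_S0]
noncomputable def cc_sym_30_0_defs : List ℕ := [(nat_lit 0xc0000100c000000000000000000000)]
noncomputable def cc_sym_30_0_recs : List ℕ := [(nat_lit 0x10000200003)]
noncomputable def cc_sym_30_0_T : List (List ℕ × ℕ) := [([0,12,1,12], (nat_lit 0xc00000100000f000007))]
noncomputable def cc_sym_30_0_D : H26.Dag := ⟨[1,0,3,2,5,4,7,6,9,8,11,10,12,14,13], [[0,1],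
  [1,0],
  [2,3],
  [3,2],
  [4,5],
  [5,4],
  [6,7],
  [7,6],
  [8,9],
  [9,8],
  [10,11],
  [11,10],
  [12,12],
  [13,14],
  [14,13],
  [1,12,0,12]], [], cc_sym_30_0_defs, cc_sym_30_0_recs⟩
theorem cc_sym_30_0_c : cc_sym_30_0_D.check cc_sym_30_0_S cc_sym_30_0_T = true := by decide +kernel
theorem cc_sym_30_0 {G : Type*} [Group G] {g : ℕ → G} (hR : Rels g cc_sym_r_R) {H : Subgroup G}
    (hH : ∀ k ∈ [], g k ∈ H) : evA g [0,12,1,12] ∈ H :=
  mem_dag (K := 15) (J := [0,1,2,3,4,5,6,7,8,9,10,11,12,13,14,44]) (D := cc_sym_30_0_D) (by decide +kernel) cc_sym_30_0_c (by decide +kernel) hR hH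
theorem cc_sym_30 {G : Type*} [Group G] {z w a c f d t m : G}
    (h : CC z w a c f d m t) :
    t * z⁻¹ = z⁻¹ * t :=
  mul_inv_eq_one.1 ((evA_eq_tm ((InvI.cons h.2.2.2.2.2.2.2.2.2.2.2.2.2.2.2.2.1 InvI.nil) : InvI [z, w, a, c, f, d, t, m] [(nat_lit 6)]) [(.v (nat_lit 0)), (.inv (.v (nat_lit 0))), (.v (nat_lit 1)), (.inv (.v (nat_lit 1))), (.v (nat_lit 2)), (.inv (.v (nat_lit 2))), (.v (nat_lit 3)), (.inv (.v (nat_lit 3))), (.v (nat_lit 4)), (.inv (.v (nat_lit 4))), (.v (nat_lit 5)), (.inv (.v (nat_lit 5))), (.v (nat_lit 6)), (.v (nat_lit 7)), (.inv (.v (nat_lit 7)))] [0,12,1,12] (.mul (.mul (.v (nat_lit 6)) (.inv (.v (nat_lit 0)))) (.inv (.mul (.inv (.v (nat_lit 0))) (.v (nat_lit 6))))) (by decide +kernel)).symm.trans (Subgroup.mem_bot.1 (cc_sym_30_0 (cc_sym_r h) (H := ⊥) (List.forall_mem_nil _))))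
noncomputable def cc_sym_33_0_S0 : List ℕ := [nat_lit 0xf00000700000c00601e]
noncomputable def cc_sym_33_0_S : List (List ℕ) := [cc_sym_33_0_S0]
noncomputable def cc_sym_33_0_defs : List ℕ := [(nat_lit 0xc0000100c000000070000000000000)]
noncomputable def cc_sym_33_0_recs : List ℕ := [(nat_lit 0x70000200003)]
noncomputable def cc_sym_33_0_T : List (List ℕ × ℕ) := [([7,12,7,12], (nat_lit 0xc00000100000f000007))]
noncomputable def cc_sym_33_0_D : H26.Dag := ⟨[1,0,3,2,5,4,7,6,9,8,11,10,12,14,13], [[0,1],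
  [1,0],
  [2,3],
  [3,2],
  [4,5],
  [5,4],
  [6,7],
  [7,6],
  [8,9],
  [9,8],
  [10,11],
  [11,10],
  [12,12],
  [13,14],
  [14,13],
  [6,12,6,12]], [], cc_sym_33_0_defs, cc_sym_33_0_recs⟩
theorem cc_sym_33_0_c : cc_sym_33_0_D.check cc_sym_33_0_S cc_sym_33_0_T = true := by decide +kernel
theorem cc_sym_33_0 {G : Type*} [Group G] {g : ℕ → G} (hR : Rels g cc_sym_r_R) {H : Subgroup G}
    (hH : ∀ k ∈ [], g k ∈ H) : evA g [7,12,7,12] ∈ H :=
  mem_dag (K := 15) (J := [0,1,2,3,4,5,6,7,8,9,10,11,12,13,14,47]) (D := cc_sym_33_0_D) (by decide +kernel) cc_sym_33_0_c (by decide +kernel) hR hH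
theorem cc_sym_33 {G : Type*} [Group G] {z w a c f d t m : G}
    (h : CC z w a c f d m t) :
    t * c⁻¹ * t⁻¹ = c⁻¹⁻¹ :=
  mul_inv_eq_one.1 ((evA_eq_tm ((InvI.cons h.2.2.2.2.2.2.2.2.2.2.2.2.2.2.2.2.1 InvI.nil) : InvI [z, w, a, c, f, d, t, m] [(nat_lit 6)]) [(.v (nat_lit 0)), (.inv (.v (nat_lit 0))), (.v (nat_lit 1)), (.inv (.v (nat_lit 1))), (.v (nat_lit 2)), (.inv (.v (nat_lit 2))), (.v (nat_lit 3)), (.inv (.v (nat_lit 3))), (.v (nat_lit 4)), (.inv (.v (nat_lit 4))), (.v (nat_lit 5)), (.inv (.v (nat_lit 5))), (.v (nat_lit 6)), (.v (nat_lit 7)), (.inv (.v (nat_lit 7)))] [7,12,7,12] (.mul (.mul (.mul (.v (nat_lit 6)) (.inv (.v (nat_lit 3)))) (.inv (.v (nat_lit 6)))) (.inv (.inv (.inv (.v (nat_lit 3)))))) (by decide +kernel)).symm.trans (Subgroup.mem_bot.1 (cc_sym_33_0 (cc_sym_r h) (H := ⊥) (List.forall_mem_nil _))))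
noncomputable def cc_sym_34_0_S0 : List ℕ := [nat_lit 0xf00000700000c00601e]
noncomputable def cc_sym_34_0_S : List (List ℕ) := [cc_sym_34_0_S0]
noncomputable def cc_sym_34_0_defs : List ℕ := [(nat_lit 0xc0000100c000000090000000000000)]
noncomputable def cc_sym_34_0_recs : List ℕ := [(nat_lit 0x90000200003)]
noncomputable def cc_sym_34_0_T : List (List ℕ × ℕ) := [([9,12,9,12], (nat_lit 0xc00000100000f000007))]
noncomputable def cc_sym_34_0_D : H26.Dag := ⟨[1,0,3,2,5,4,7,6,9,8,11,10,12,14,13], [[0,1],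
  [1,0],
  [2,3],
  [3,2],
  [4,5],
  [5,4],
  [6,7],
  [7,6],
  [8,9],
  [9,8],
  [10,11],
  [11,10],
  [12,12],
  [13,14],
  [14,13],
  [8,12,8,12]], [], cc_sym_34_0_defs, cc_sym_34_0_recs⟩
theorem cc_sym_34_0_c : cc_sym_34_0_D.check cc_sym_34_0_S cc_sym_34_0_T = true := by decide +kernel
theorem cc_sym_34_0 {G : Type*} [Group G] {g : ℕ → G} (hR : Rels g cc_sym_r_R) {H : Subgroup G}
    (hH : ∀ k ∈ [], g k ∈ H) : evA g [9,12,9,12] ∈ H :=
  mem_dag (K := 15) (J := [0,1,2,3,4,5,6,7,8,9,10,11,12,13,14,48]) (D := cc_sym_34_0_D) (by decide +kernel) cc_sym_34_0_c (by decide +kernel) hR hH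
theorem cc_sym_34 {G : Type*} [Group G] {z w a c f d t m : G}
    (h : CC z w a c f d m t) :
    t * f⁻¹ * t⁻¹ = f⁻¹⁻¹ :=
  mul_inv_eq_one.1 ((evA_eq_tm ((InvI.cons h.2.2.2.2.2.2.2.2.2.2.2.2.2.2.2.2.1 InvI.nil) : InvI [z, w, a, c, f, d, t, m] [(nat_lit 6)]) [(.v (nat_lit 0)), (.inv (.v (nat_lit 0))), (.v (nat_lit 1)), (.inv (.v (nat_lit 1))), (.v (nat_lit 2)), (.inv (.v (nat_lit 2))), (.v (nat_lit 3)), (.inv (.v (nat_lit 3))), (.v (nat_lit 4)), (.inv (.v (nat_lit 4))), (.v (nat_lit 5)), (.inv (.v (nat_lit 5))), (.v (nat_lit 6)), (.v (nat_lit 7)), (.inv (.v (nat_lit 7)))] [9,12,9,12] (.mul (.mul (.mul (.v (nat_lit 6)) (.inv (.v (nat_lit 4)))) (.inv (.v (nat_lit 6)))) (.inv (.inv (.inv (.v (nat_lit 4)))))) (by decide +kernel)).symm.trans (Subgroup.mem_bot.1 (cc_sym_34_0 (cc_sym_r h) (H := ⊥) (List.forall_mem_nil _))))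
theorem cc_sym {G : Type*} [Group G] {z w a c f d t m : G}
    (h : CC z w a c f d m t) :
    CC z⁻¹ w a c⁻¹ f⁻¹ d m t :=
  ⟨cc_sym_0 h,
   h.2.1,
   h.2.2.1,
   cc_sym_3 h,
   cc_sym_4 h,
   cc_sym_5 h,
   cc_sym_6 h,
   cc_sym_7 h,
   cc_sym_8 h,
   h.2.2.2.2.2.2.2.2.2.1,
   cc_sym_10 h,
   cc_sym_11 h,
   cc_sym_12 h,
   cc_sym_13 h,
   cc_sym_14 h,
   h.2.2.2.2.2.2.2.2.2.2.2.2.2.2.2.1,
   h.2.2.2.2.2.2.2.2.2.2.2.2.2.2.2.2.1,
   h.2.2.2.2.2.2.2.2.2.2.2.2.2.2.2.2.2.1,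
   h.2.2.2.2.2.2.2.2.2.2.2.2.2.2.2.2.2.2.1,
   cc_sym_19 h,
   cc_sym_20 h,
   h.2.2.2.2.2.2.2.2.2.2.2.2.2.2.2.2.2.2.2.2.2.1,
   h.2.2.2.2.2.2.2.2.2.2.2.2.2.2.2.2.2.2.2.2.2.2.1,
   cc_sym_23 h,
   h.2.2.2.2.2.2.2.2.2.2.2.2.2.2.2.2.2.2.2.2.2.2.2.2.1,
   cc_sym_25 h,
   h.2.2.2.2.2.2.2.2.2.2.2.2.2.2.2.2.2.2.2.2.2.2.2.2.2.2.1,
   h.2.2.2.2.2.2.2.2.2.2.2.2.2.2.2.2.2.2.2.2.2.2.2.2.2.2.2.1,
   cc_sym_28 h,
   cc_sym_29 h,
   cc_sym_30 h,
   h.2.2.2.2.2.2.2.2.2.2.2.2.2.2.2.2.2.2.2.2.2.2.2.2.2.2.2.2.2.2.2.1,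
   h.2.2.2.2.2.2.2.2.2.2.2.2.2.2.2.2.2.2.2.2.2.2.2.2.2.2.2.2.2.2.2.2.1,
   cc_sym_33 h,
   cc_sym_34 h, trivial⟩
noncomputable def cc_dz_r_R : List (List ℕ) := [[0,1],
  [1,0],
  [2,3],
  [3,2],
  [4,5],
  [5,4],
  [6,7],
  [7,6],
  [8,9],
  [9,8],
  [10,11],
  [11,10],
  [12,12],
  [13,14],
  [14,13],
  [15,16],
  [16,15],
  [0,0,0],
  [2,2,2],
  [4,4,4],
  [6,6,6],
  [8,8,8],
  [1,3,0,2],
  [1,5,0,4],
  [1,7,0,6],
  [1,9,0,8],
  [5,3,4,2],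
  [7,3,6,2],
  [9,5,8,4],
  [9,7,8,6],
  [1,9,3,8,2],
  [1,5,7,4,6],
  [10,10,10],
  [12,13,13],
  [10,13,10,13,10,13],
  [1,11,0,10],
  [1,14,0,13],
  [12,11,12,10],
  [3,11,2,10],
  [7,11,6,10],
  [5,2,11,4,10],
  [9,6,11,8,10],
  [5,14,2,13],
  [2,14,4,13],
  [9,14,6,13],
  [6,14,8,13],
  [1,12,0,12],
  [2,12,2,12],
  [4,12,4,12],
  [6,12,6,12],
  [8,12,8,12],
  [15,15,15],
  [1,16,0,15],
  [3,16,2,15],
  [5,16,4,15],
  [7,16,6,15],
  [9,16,8,15],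
  [11,16,10,15],
  [14,16,13,15],
  [12,16,12,15]]
theorem cc_dz_r {G : Type*} [Group G] {z w a c f d t m y : G}
    (h : CC z w a c f d m t)
    (y3 : y ^ 3 = 1)
    (yz : y * z = z * y)
    (yw : y * w = w * y)
    (ya : y * a = a * y)
    (yc : y * c = c * y)
    (yf : y * f = f * y)
    (yd : y * d = d * y)
    (ym : y * m = m * y)
    (yt : y * t = t * y) :
    Rels (nthG [z, z⁻¹, w, w⁻¹, a, a⁻¹, c, c⁻¹, f, f⁻¹, d, d⁻¹, t, m, m⁻¹, y, y⁻¹]) cc_dz_r_R :=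
  rels_of_eqs ((InvI.cons h.2.2.2.2.2.2.2.2.2.2.2.2.2.2.2.2.1 InvI.nil) : InvI [z, w, a, c, f, d, t, m, y] [(nat_lit 6)])
    (AllEq.append (show AllEq [z, w, a, c, f, d, t, m, y] [((.pw (.v (nat_lit 0)) (nat_lit 3)), .one), ((.pw (.v (nat_lit 1)) (nat_lit 3)), .one), ((.pw (.v (nat_lit 2)) (nat_lit 3)), .one), ((.pw (.v (nat_lit 3)) (nat_lit 3)), .one), ((.pw (.v (nat_lit 4)) (nat_lit 3)), .one), ((.mul (.v (nat_lit 1)) (.v (nat_lit 0))), (.mul (.v (nat_lit 0)) (.v (nat_lit 1)))), ((.mul (.v (nat_lit 2)) (.v (nat_lit 0))), (.mul (.v (nat_lit 0)) (.v (nat_lit 2)))), ((.mul (.v (nat_lit 3)) (.v (nat_lit 0))), (.mul (.v (nat_lit 0)) (.v (nat_lit 3)))), ((.mul (.v (nat_lit 4)) (.v (nat_lit 0))), (.mul (.v (nat_lit 0)) (.v (nat_lit 4)))), ((.mul (.v (nat_lit 1)) (.v (nat_lit 2))), (.mul (.v (nat_lit 2)) (.v (nat_lit 1)))), ((.mul (.v (nat_lit 1)) (.v (nat_lit 3))), (.mul (.v (nat_lit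 3)) (.v (nat_lit 1)))), ((.mul (.v (nat_lit 2)) (.v (nat_lit 4))), (.mul (.v (nat_lit 4)) (.v (nat_lit 2)))), ((.mul (.v (nat_lit 3)) (.v (nat_lit 4))), (.mul (.v (nat_lit 4)) (.v (nat_lit 3)))), ((.mul (.mul (.mul (.v (nat_lit 1)) (.v (nat_lit 4))) (.inv (.v (nat_lit 1)))) (.inv (.v (nat_lit 4)))), (.v (nat_lit 0))), ((.mul (.mul (.mul (.v (nat_lit 3)) (.v (nat_lit 2))) (.inv (.v (nat_lit 3)))) (.inv (.v (nat_lit 2)))), (.v (nat_lit 0))), ((.pw (.v (nat_lit 5)) (nat_lit 3)), .one), ((.mul (.v (nat_lit 6)) (.v (nat_lit 6))), .one), ((.mul (.v (nat_lit 7)) (.v (nat_lit 7))), (.v (nat_lit 6))), ((.pw (.mul (.v (nat_lit 7)) (.v (nat_lit 5))) (nat_lit 3)), .one), ((.mul (.v (nat_lit 5)) (.v (nat_lit 0))), (.mul (.v (nat_lit 0)) (.v (nat_lit 5)))), ((.mul (.v (nat_lit 7)) (.v (nat_lit 0))), (.mul (.v (nat_lit 0)) (.v (nat_lit 7)))), ((.mul (.v (nat_lit 5)) (.v (nat_lit 6))), (.mul (.v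 (nat_lit 6)) (.v (nat_lit 5)))), ((.mul (.v (nat_lit 5)) (.v (nat_lit 1))), (.mul (.v (nat_lit 1)) (.v (nat_lit 5)))), ((.mul (.v (nat_lit 5)) (.v (nat_lit 3))), (.mul (.v (nat_lit 3)) (.v (nat_lit 5)))), ((.mul (.mul (.v (nat_lit 5)) (.v (nat_lit 2))) (.inv (.v (nat_lit 5)))), (.mul (.v (nat_lit 2)) (.inv (.v (nat_lit 1))))), ((.mul (.mul (.v (nat_lit 5)) (.v (nat_lit 4))) (.inv (.v (nat_lit 5)))), (.mul (.v (nat_lit 4)) (.inv (.v (nat_lit 3))))), ((.mul (.mul (.v (nat_lit 7)) (.v (nat_lit 1))) (.inv (.v (nat_lit 7)))), (.v (nat_lit 2))), ((.mul (.mul (.v (nat_lit 7)) (.v (nat_lit 2))) (.inv (.v (nat_lit 7)))), (.inv (.v (nat_lit 1)))), ((.mul (.mul (.v (nat_lit 7)) (.v (nat_lit 3))) (.inv (.v (nat_lit 7)))), (.v (nat_lit 4))), ((.mul (.mul (.v (nat_lit 7)) (.v (nat_lit 4))) (.inv (.v (nat_lit 7)))), (.inv (.v (nat_lit 3)))), ((.mul (.v (nat_lit 6)) (.v (nat_lit 0))), (.mul (.v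 (nat_lit 0)) (.v (nat_lit 6)))), ((.mul (.mul (.v (nat_lit 6)) (.v (nat_lit 1))) (.inv (.v (nat_lit 6)))), (.inv (.v (nat_lit 1)))), ((.mul (.mul (.v (nat_lit 6)) (.v (nat_lit 2))) (.inv (.v (nat_lit 6)))), (.inv (.v (nat_lit 2)))), ((.mul (.mul (.v (nat_lit 6)) (.v (nat_lit 3))) (.inv (.v (nat_lit 6)))), (.inv (.v (nat_lit 3)))), ((.mul (.mul (.v (nat_lit 6)) (.v (nat_lit 4))) (.inv (.v (nat_lit 6)))), (.inv (.v (nat_lit 4))))] from h)
    (AllEq.append (show AllEq [z, w, a, c, f, d, t, m, y] [((.pw (.v (nat_lit 8)) (nat_lit 3)), .one)] from ⟨y3, trivial⟩)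
    (AllEq.append (show AllEq [z, w, a, c, f, d, t, m, y] [((.mul (.v (nat_lit 8)) (.v (nat_lit 0))), (.mul (.v (nat_lit 0)) (.v (nat_lit 8))))] from ⟨yz, trivial⟩)
    (AllEq.append (show AllEq [z, w, a, c, f, d, t, m, y] [((.mul (.v (nat_lit 8)) (.v (nat_lit 1))), (.mul (.v (nat_lit 1)) (.v (nat_lit 8))))] from ⟨yw, trivial⟩)
    (AllEq.append (show AllEq [z, w, a, c, f, d, t, m, y] [((.mul (.v (nat_lit 8)) (.v (nat_lit 2))), (.mul (.v (nat_lit 2)) (.v (nat_lit 8))))] from ⟨ya, trivial⟩)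
    (AllEq.append (show AllEq [z, w, a, c, f, d, t, m, y] [((.mul (.v (nat_lit 8)) (.v (nat_lit 3))), (.mul (.v (nat_lit 3)) (.v (nat_lit 8))))] from ⟨yc, trivial⟩)
    (AllEq.append (show AllEq [z, w, a, c, f, d, t, m, y] [((.mul (.v (nat_lit 8)) (.v (nat_lit 4))), (.mul (.v (nat_lit 4)) (.v (nat_lit 8))))] from ⟨yf, trivial⟩)
    (AllEq.append (show AllEq [z, w, a, c, f, d, t, m, y] [((.mul (.v (nat_lit 8)) (.v (nat_lit 5))), (.mul (.v (nat_lit 5)) (.v (nat_lit 8))))] from ⟨yd, trivial⟩)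
    (AllEq.append (show AllEq [z, w, a, c, f, d, t, m, y] [((.mul (.v (nat_lit 8)) (.v (nat_lit 7))), (.mul (.v (nat_lit 7)) (.v (nat_lit 8))))] from ⟨ym, trivial⟩)
    (show AllEq [z, w, a, c, f, d, t, m, y] [((.mul (.v (nat_lit 8)) (.v (nat_lit 6))), (.mul (.v (nat_lit 6)) (.v (nat_lit 8))))] from ⟨yt, trivial⟩))))))))))
    [(.v (nat_lit 0)), (.inv (.v (nat_lit 0))), (.v (nat_lit 1)), (.inv (.v (nat_lit 1))), (.v (nat_lit 2)), (.inv (.v (nat_lit 2))), (.v (nat_lit 3)), (.inv (.v (nat_lit 3))), (.v (nat_lit 4)), (.inv (.v (nat_lit 4))), (.v (nat_lit 5)), (.inv (.v (nat_lit 5))), (.v (nat_lit 6)), (.v (nat_lit 7)), (.inv (.v (nat_lit 7))), (.v (nat_lit 8)), (.inv (.v (nat_lit 8)))] (by decide +kernel)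
noncomputable def cc_dz_15_0_S0 : List ℕ := [nat_lit 0x1b00000c004022, nat_lit 0x1b00000800001000c026, nat_lit 0x17000005008024, nat_lit 0x13000001000009006026]
noncomputable def cc_dz_15_0_S : List (List ℕ) := [cc_dz_15_0_S0]
noncomputable def cc_dz_15_0_defs : List ℕ := [(nat_lit 0xa0000000f000030100000200a0000100b0000000f0000000000000)]
noncomputable def cc_dz_15_0_recs : List ℕ := [(nat_lit 0xb00005000040f00006000050f00003000060a0000200006)]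
noncomputable def cc_dz_15_0_T : List (List ℕ × ℕ) := [([15,10,15,10,15,10], (nat_lit 0xc00001400000e00001700000f000007))]
noncomputable def cc_dz_15_0_D : H26.Dag := ⟨[1,0,3,2,5,4,7,6,9,8,11,10,12,14,13,16,15], [[0,1],
  [1,0],
  [2,3],
  [3,2],
  [4,5],
  [5,4],
  [6,7],
  [7,6],
  [8,9],
  [9,8],
  [10,11],
  [11,10],
  [12,12],
  [13,14],
  [14,13],
  [15,16],
  [16,15],
  [10,10,10],
  [15,15,15],
  [11,16,10,15]], [], cc_dz_15_0_defs, cc_dz_15_0_recs⟩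
theorem cc_dz_15_0_c : cc_dz_15_0_D.check cc_dz_15_0_S cc_dz_15_0_T = true := by decide +kernel
theorem cc_dz_15_0 {G : Type*} [Group G] {g : ℕ → G} (hR : Rels g cc_dz_r_R) {H : Subgroup G}
    (hH : ∀ k ∈ [], g k ∈ H) : evA g [15,10,15,10,15,10] ∈ H :=
  mem_dag (K := 17) (J := [0,1,2,3,4,5,6,7,8,9,10,11,12,13,14,15,16,32,51,57]) (D := cc_dz_15_0_D) (by decide +kernel) cc_dz_15_0_c (by decide +kernel) hR hH
theorem cc_dz_15 {G : Type*} [Group G] {z w a c f d t m y : G}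
    (h : CC z w a c f d m t)
    (y3 : y ^ 3 = 1)
    (yz : y * z = z * y)
    (yw : y * w = w * y)
    (ya : y * a = a * y)
    (yc : y * c = c * y)
    (yf : y * f = f * y)
    (yd : y * d = d * y)
    (ym : y * m = m * y)
    (yt : y * t = t * y) :
    (d * y) ^ 3 = 1 :=
  mul_inv_eq_one.1 ((evA_eq_tm ((InvI.cons h.2.2.2.2.2.2.2.2.2.2.2.2.2.2.2.2.1 InvI.nil) : InvI [z, w, a, c, f, d, t, m, y] [(nat_lit 6)]) [(.v (nat_lit 0)), (.inv (.v (nat_lit 0))), (.v (nat_lit 1)), (.inv (.v (nat_lit 1))), (.v (nat_lit 2)), (.inv (.v (nat_lit 2))), (.v (nat_lit 3)), (.inv (.v (nat_lit 3))), (.v (nat_lit 4)), (.inv (.v (nat_lit 4))), (.v (nat_lit 5)), (.inv (.v (nat_lit 5))), (.v (nat_lit 6)), (.v (nat_lit 7)), (.inv (.v (nat_lit 7))), (.v (nat_lit 8)), (.inv (.v (nat_lit 8)))] [15,10,15,10,15,10] (.mul (.pw (.mul (.v (nat_lit 5)) (.v (nat_lit 8))) (nat_lit 3)) (.inv .one)) (by decide +kernel)).symm.trans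 (Subgroup.mem_bot.1 (cc_dz_15_0 (cc_dz_r h y3 yz yw ya yc yf yd ym yt) (H := ⊥) (List.forall_mem_nil _))))
noncomputable def cc_dz_18_0_S0 : List ℕ := [nat_lit 0x27000008006024, nat_lit 0x2b00001400001c006026, nat_lit 0x2b00000b000028008028, nat_lit 0x2f00000f000001000026, nat_lit 0x2f00001800002000e028, nat_lit 0x1100000e000009000006000024008022]
noncomputable def cc_dz_18_0_S : List (List ℕ) := [cc_dz_18_0_S0]
noncomputable def cc_dz_18_0_defs : List ℕ := [(nat_lit 0xf00003010000020100000000e0000600f000050100000400d0000300b0000200a0000100e0000000f0000000000000)]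
noncomputable def cc_dz_18_0_recs : List ℕ := [(nat_lit 0xa00008000070d000070000b0b000090000b0d000090000a0b000060000a100000100009)]
noncomputable def cc_dz_18_0_T : List (List ℕ × ℕ) := [([15,10,13,15,10,13,15,10,13], (nat_lit 0xc00001400001c00002400001500001f00001700000f000007))]
noncomputable def cc_dz_18_0_D : H26.Dag := ⟨[1,0,3,2,5,4,7,6,9,8,11,10,12,14,13,16,15], [[0,1],
  [1,0],
  [2,3],
  [3,2],
  [4,5],
  [5,4],
  [6,7],
  [7,6],
  [8,9],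
  [9,8],
  [10,11],
  [11,10],
  [12,12],
  [13,14],
  [14,13],
  [15,16],
  [16,15],
  [10,13,10,13,10,13],
  [15,15,15],
  [11,16,10,15],
  [14,16,13,15]], [], cc_dz_18_0_defs, cc_dz_18_0_recs⟩
theorem cc_dz_18_0_c : cc_dz_18_0_D.check cc_dz_18_0_S cc_dz_18_0_T = true := by decide +kernel
theorem cc_dz_18_0 {G : Type*} [Group G] {g : ℕ → G} (hR : Rels g cc_dz_r_R) {H : Subgroup G}
    (hH : ∀ k ∈ [], g k ∈ H) : evA g [15,10,13,15,10,13,15,10,13] ∈ H :=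
  mem_dag (K := 17) (J := [0,1,2,3,4,5,6,7,8,9,10,11,12,13,14,15,16,34,51,57,58]) (D := cc_dz_18_0_D) (by decide +kernel) cc_dz_18_0_c (by decide +kernel) hR hH
theorem cc_dz_18 {G : Type*} [Group G] {z w a c f d t m y : G}
    (h : CC z w a c f d m t)
    (y3 : y ^ 3 = 1)
    (yz : y * z = z * y)
    (yw : y * w = w * y)
    (ya : y * a = a * y)
    (yc : y * c = c * y)
    (yf : y * f = f * y)
    (yd : y * d = d * y)
    (ym : y * m = m * y)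
    (yt : y * t = t * y) :
    (m * (d * y)) ^ 3 = 1 :=
  mul_inv_eq_one.1 ((evA_eq_tm ((InvI.cons h.2.2.2.2.2.2.2.2.2.2.2.2.2.2.2.2.1 InvI.nil) : InvI [z, w, a, c, f, d, t, m, y] [(nat_lit 6)]) [(.v (nat_lit 0)), (.inv (.v (nat_lit 0))), (.v (nat_lit 1)), (.inv (.v (nat_lit 1))), (.v (nat_lit 2)), (.inv (.v (nat_lit 2))), (.v (nat_lit 3)), (.inv (.v (nat_lit 3))), (.v (nat_lit 4)), (.inv (.v (nat_lit 4))), (.v (nat_lit 5)), (.inv (.v (nat_lit 5))), (.v (nat_lit 6)), (.v (nat_lit 7)), (.inv (.v (nat_lit 7))), (.v (nat_lit 8)), (.inv (.v (nat_lit 8)))] [15,10,13,15,10,13,15,10,13] (.mul (.pw (.mul (.v (nat_lit 7)) (.mul (.v (nat_lit 5)) (.v (nat_lit 8)))) (nat_lit 3)) (.inv .one)) (by decide +kernel)).symm.trans (Subgroup.mem_bot.1 (cc_dz_18_0 (cc_dz_r h y3 yz yw ya yc yf yd ym yt) (H := ⊥) (List.forall_mem_nil _))))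
noncomputable def cc_dz_19_0_S0 : List ℕ := [nat_lit 0xf00000700000c008022, nat_lit 0x17000002000014008024]
noncomputable def cc_dz_19_0_S : List (List ℕ) := [cc_dz_19_0_S0]
noncomputable def cc_dz_19_0_defs : List ℕ := [(nat_lit 0x10000030100000200b0000100b000000010000000000000)]
noncomputable def cc_dz_19_0_recs : List ℕ := [(nat_lit 0x400005000000200003)]
noncomputable def cc_dz_19_0_T : List (List ℕ × ℕ) := [([1,11,16,0,15,10], (nat_lit 0xc00001400000500001700000f000007))]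
noncomputable def cc_dz_19_0_D : H26.Dag := ⟨[1,0,3,2,5,4,7,6,9,8,11,10,12,14,13,16,15], [[0,1],
  [1,0],
  [2,3],
  [3,2],
  [4,5],
  [5,4],
  [6,7],
  [7,6],
  [8,9],
  [9,8],
  [10,11],
  [11,10],
  [12,12],
  [13,14],
  [14,13],
  [15,16],
  [16,15],
  [1,11,0,10],
  [1,16,0,15]], [], cc_dz_19_0_defs, cc_dz_19_0_recs⟩
theorem cc_dz_19_0_c : cc_dz_19_0_D.check cc_dz_19_0_S cc_dz_19_0_T = true := by decide +kernel
theorem cc_dz_19_0 {G : Type*} [Group G] {g : ℕ → G} (hR : Rels g cc_dz_r_R) {H : Subgroup G}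
    (hH : ∀ k ∈ [], g k ∈ H) : evA g [1,11,16,0,15,10] ∈ H :=
  mem_dag (K := 17) (J := [0,1,2,3,4,5,6,7,8,9,10,11,12,13,14,15,16,35,52]) (D := cc_dz_19_0_D) (by decide +kernel) cc_dz_19_0_c (by decide +kernel) hR hH
theorem cc_dz_19 {G : Type*} [Group G] {z w a c f d t m y : G}
    (h : CC z w a c f d m t)
    (y3 : y ^ 3 = 1)
    (yz : y * z = z * y)
    (yw : y * w = w * y)
    (ya : y * a = a * y)
    (yc : y * c = c * y)
    (yf : y * f = f * y)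
    (yd : y * d = d * y)
    (ym : y * m = m * y)
    (yt : y * t = t * y) :
    d * y * z = z * (d * y) :=
  mul_inv_eq_one.1 ((evA_eq_tm ((InvI.cons h.2.2.2.2.2.2.2.2.2.2.2.2.2.2.2.2.1 InvI.nil) : InvI [z, w, a, c, f, d, t, m, y] [(nat_lit 6)]) [(.v (nat_lit 0)), (.inv (.v (nat_lit 0))), (.v (nat_lit 1)), (.inv (.v (nat_lit 1))), (.v (nat_lit 2)), (.inv (.v (nat_lit 2))), (.v (nat_lit 3)), (.inv (.v (nat_lit 3))), (.v (nat_lit 4)), (.inv (.v (nat_lit 4))), (.v (nat_lit 5)), (.inv (.v (nat_lit 5))), (.v (nat_lit 6)), (.v (nat_lit 7)), (.inv (.v (nat_lit 7))), (.v (nat_lit 8)), (.inv (.v (nat_lit 8)))] [1,11,16,0,15,10] (.mul (.mul (.mul (.v (nat_lit 5)) (.v (nat_lit 8))) (.v (nat_lit 0))) (.inv (.mul (.v (nat_lit 0)) (.mul (.v (nat_lit 5)) (.v (nat_lit 8)))))) (by decide +kernel)).symm.trans (Subgroup.mem_bot.1 (cc_dz_19_0 (cc_dz_r h y3 yz yw ya yc yf yd ym yt) (H := ⊥) (List.forall_mem_nil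 _))))
noncomputable def cc_dz_21_0_S0 : List ℕ := [nat_lit 0xf00000700000c008022, nat_lit 0x17000002000014008024]
noncomputable def cc_dz_21_0_S : List (List ℕ) := [cc_dz_21_0_S0]
noncomputable def cc_dz_21_0_defs : List ℕ := [(nat_lit 0x10000030100000200b0000100b0000000c0000000000000)]
noncomputable def cc_dz_21_0_recs : List ℕ := [(nat_lit 0xc00004000050c0000200003)]
noncomputable def cc_dz_21_0_T : List (List ℕ × ℕ) := [([12,11,16,12,15,10], (nat_lit 0xc00001400000500001700000f000007))]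
noncomputable def cc_dz_21_0_D : H26.Dag := ⟨[1,0,3,2,5,4,7,6,9,8,11,10,12,14,13,16,15], [[0,1],
  [1,0],
  [2,3],
  [3,2],
  [4,5],
  [5,4],
  [6,7],
  [7,6],
  [8,9],
  [9,8],
  [10,11],
  [11,10],
  [12,12],
  [13,14],
  [14,13],
  [15,16],
  [16,15],
  [12,11,12,10],
  [12,16,12,15]], [], cc_dz_21_0_defs, cc_dz_21_0_recs⟩
theorem cc_dz_21_0_c : cc_dz_21_0_D.check cc_dz_21_0_S cc_dz_21_0_T = true := by decide +kernel
theorem cc_dz_21_0 {G : Type*} [Group G] {g : ℕ → G} (hR : Rels g cc_dz_r_R) {H : Subgroup G}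
    (hH : ∀ k ∈ [], g k ∈ H) : evA g [12,11,16,12,15,10] ∈ H :=
  mem_dag (K := 17) (J := [0,1,2,3,4,5,6,7,8,9,10,11,12,13,14,15,16,37,59]) (D := cc_dz_21_0_D) (by decide +kernel) cc_dz_21_0_c (by decide +kernel) hR hH
theorem cc_dz_21 {G : Type*} [Group G] {z w a c f d t m y : G}
    (h : CC z w a c f d m t)
    (y3 : y ^ 3 = 1)
    (yz : y * z = z * y)
    (yw : y * w = w * y)
    (ya : y * a = a * y)
    (yc : y * c = c * y)
    (yf : y * f = f * y)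
    (yd : y * d = d * y)
    (ym : y * m = m * y)
    (yt : y * t = t * y) :
    d * y * t = t * (d * y) :=
  mul_inv_eq_one.1 ((evA_eq_tm ((InvI.cons h.2.2.2.2.2.2.2.2.2.2.2.2.2.2.2.2.1 InvI.nil) : InvI [z, w, a, c, f, d, t, m, y] [(nat_lit 6)]) [(.v (nat_lit 0)), (.inv (.v (nat_lit 0))), (.v (nat_lit 1)), (.inv (.v (nat_lit 1))), (.v (nat_lit 2)), (.inv (.v (nat_lit 2))), (.v (nat_lit 3)), (.inv (.v (nat_lit 3))), (.v (nat_lit 4)), (.inv (.v (nat_lit 4))), (.v (nat_lit 5)), (.inv (.v (nat_lit 5))), (.v (nat_lit 6)), (.v (nat_lit 7)), (.inv (.v (nat_lit 7))), (.v (nat_lit 8)), (.inv (.v (nat_lit 8)))] [12,11,16,12,15,10] (.mul (.mul (.mul (.v (nat_lit 5)) (.v (nat_lit 8))) (.v (nat_lit 6))) (.inv (.mul (.v (nat_lit 6)) (.mul (.v (nat_lit 5)) (.v (nat_lit 8)))))) (by decide +kernel)).symm.trans (Subgroup.mem_bot.1 (cc_dz_21_0 (cc_dz_r h y3 yz yw ya yc yf yd ym yt) (H := ⊥) (List.forall_mem_nil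 _))))
noncomputable def cc_dz_22_0_S0 : List ℕ := [nat_lit 0xf00000700000c008022, nat_lit 0x17000002000014008024]
noncomputable def cc_dz_22_0_S : List (List ℕ) := [cc_dz_22_0_S0]
noncomputable def cc_dz_22_0_defs : List ℕ := [(nat_lit 0x10000030100000200b0000100b000000030000000000000)]
noncomputable def cc_dz_22_0_recs : List ℕ := [(nat_lit 0x20000400005020000200003)]
noncomputable def cc_dz_22_0_T : List (List ℕ × ℕ) := [([3,11,16,2,15,10], (nat_lit 0xc00001400000500001700000f000007))]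
noncomputable def cc_dz_22_0_D : H26.Dag := ⟨[1,0,3,2,5,4,7,6,9,8,11,10,12,14,13,16,15], [[0,1],
  [1,0],
  [2,3],
  [3,2],
  [4,5],
  [5,4],
  [6,7],
  [7,6],
  [8,9],
  [9,8],
  [10,11],
  [11,10],
  [12,12],
  [13,14],
  [14,13],
  [15,16],
  [16,15],
  [3,11,2,10],
  [3,16,2,15]], [], cc_dz_22_0_defs, cc_dz_22_0_recs⟩
theorem cc_dz_22_0_c : cc_dz_22_0_D.check cc_dz_22_0_S cc_dz_22_0_T = true := by decide +kernel
theorem cc_dz_22_0 {G : Type*} [Group G] {g : ℕ → G} (hR : Rels g cc_dz_r_R) {H : Subgroup G}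
    (hH : ∀ k ∈ [], g k ∈ H) : evA g [3,11,16,2,15,10] ∈ H :=
  mem_dag (K := 17) (J := [0,1,2,3,4,5,6,7,8,9,10,11,12,13,14,15,16,38,53]) (D := cc_dz_22_0_D) (by decide +kernel) cc_dz_22_0_c (by decide +kernel) hR hH
theorem cc_dz_22 {G : Type*} [Group G] {z w a c f d t m y : G}
    (h : CC z w a c f d m t)
    (y3 : y ^ 3 = 1)
    (yz : y * z = z * y)
    (yw : y * w = w * y)
    (ya : y * a = a * y)
    (yc : y * c = c * y)
    (yf : y * f = f * y)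
    (yd : y * d = d * y)
    (ym : y * m = m * y)
    (yt : y * t = t * y) :
    d * y * w = w * (d * y) :=
  mul_inv_eq_one.1 ((evA_eq_tm ((InvI.cons h.2.2.2.2.2.2.2.2.2.2.2.2.2.2.2.2.1 InvI.nil) : InvI [z, w, a, c, f, d, t, m, y] [(nat_lit 6)]) [(.v (nat_lit 0)), (.inv (.v (nat_lit 0))), (.v (nat_lit 1)), (.inv (.v (nat_lit 1))), (.v (nat_lit 2)), (.inv (.v (nat_lit 2))), (.v (nat_lit 3)), (.inv (.v (nat_lit 3))), (.v (nat_lit 4)), (.inv (.v (nat_lit 4))), (.v (nat_lit 5)), (.inv (.v (nat_lit 5))), (.v (nat_lit 6)), (.v (nat_lit 7)), (.inv (.v (nat_lit 7))), (.v (nat_lit 8)), (.inv (.v (nat_lit 8)))] [3,11,16,2,15,10] (.mul (.mul (.mul (.v (nat_lit 5)) (.v (nat_lit 8))) (.v (nat_lit 1))) (.inv (.mul (.v (nat_lit 1)) (.mul (.v (nat_lit 5)) (.v (nat_lit 8)))))) (by decide +kernel)).symm.trans (Subgroup.mem_bot.1 (cc_dz_22_0 (cc_dz_r h y3 yz yw ya yc yf yd ym yt) (H := ⊥) (List.forall_mem_nil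 _))))
noncomputable def cc_dz_23_0_S0 : List ℕ := [nat_lit 0xf00000700000c008022, nat_lit 0x17000002000014008024]
noncomputable def cc_dz_23_0_S : List (List ℕ) := [cc_dz_23_0_S0]
noncomputable def cc_dz_23_0_defs : List ℕ := [(nat_lit 0x10000030100000200b0000100b000000070000000000000)]
noncomputable def cc_dz_23_0_recs : List ℕ := [(nat_lit 0x60000400005060000200003)]
noncomputable def cc_dz_23_0_T : List (List ℕ × ℕ) := [([7,11,16,6,15,10], (nat_lit 0xc00001400000500001700000f000007))]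
noncomputable def cc_dz_23_0_D : H26.Dag := ⟨[1,0,3,2,5,4,7,6,9,8,11,10,12,14,13,16,15], [[0,1],
  [1,0],
  [2,3],
  [3,2],
  [4,5],
  [5,4],
  [6,7],
  [7,6],
  [8,9],
  [9,8],
  [10,11],
  [11,10],
  [12,12],
  [13,14],
  [14,13],
  [15,16],
  [16,15],
  [7,11,6,10],
  [7,16,6,15]], [], cc_dz_23_0_defs, cc_dz_23_0_recs⟩
theorem cc_dz_23_0_c : cc_dz_23_0_D.check cc_dz_23_0_S cc_dz_23_0_T = true := by decide +kernel
theorem cc_dz_23_0 {G : Type*} [Group G] {g : ℕ → G} (hR : Rels g cc_dz_r_R) {H : Subgroup G}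
    (hH : ∀ k ∈ [], g k ∈ H) : evA g [7,11,16,6,15,10] ∈ H :=
  mem_dag (K := 17) (J := [0,1,2,3,4,5,6,7,8,9,10,11,12,13,14,15,16,39,55]) (D := cc_dz_23_0_D) (by decide +kernel) cc_dz_23_0_c (by decide +kernel) hR hH
theorem cc_dz_23 {G : Type*} [Group G] {z w a c f d t m y : G}
    (h : CC z w a c f d m t)
    (y3 : y ^ 3 = 1)
    (yz : y * z = z * y)
    (yw : y * w = w * y)
    (ya : y * a = a * y)
    (yc : y * c = c * y)
    (yf : y * f = f * y)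
    (yd : y * d = d * y)
    (ym : y * m = m * y)
    (yt : y * t = t * y) :
    d * y * c = c * (d * y) :=
  mul_inv_eq_one.1 ((evA_eq_tm ((InvI.cons h.2.2.2.2.2.2.2.2.2.2.2.2.2.2.2.2.1 InvI.nil) : InvI [z, w, a, c, f, d, t, m, y] [(nat_lit 6)]) [(.v (nat_lit 0)), (.inv (.v (nat_lit 0))), (.v (nat_lit 1)), (.inv (.v (nat_lit 1))), (.v (nat_lit 2)), (.inv (.v (nat_lit 2))), (.v (nat_lit 3)), (.inv (.v (nat_lit 3))), (.v (nat_lit 4)), (.inv (.v (nat_lit 4))), (.v (nat_lit 5)), (.inv (.v (nat_lit 5))), (.v (nat_lit 6)), (.v (nat_lit 7)), (.inv (.v (nat_lit 7))), (.v (nat_lit 8)), (.inv (.v (nat_lit 8)))] [7,11,16,6,15,10] (.mul (.mul (.mul (.v (nat_lit 5)) (.v (nat_lit 8))) (.v (nat_lit 3))) (.inv (.mul (.v (nat_lit 3)) (.mul (.v (nat_lit 5)) (.v (nat_lit 8)))))) (by decide +kernel)).symm.trans (Subgroup.mem_bot.1 (cc_dz_23_0 (cc_dz_r h y3 yz yw ya yc yf yd ym yt) (H := ⊥) (List.forall_mem_nil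 _))))
noncomputable def cc_dz_24_0_S0 : List ℕ := [nat_lit 0x1700000f00000700000c00c022, nat_lit 0x1b00001300000100a024]
noncomputable def cc_dz_24_0_S : List (List ℕ) := [cc_dz_24_0_S0]
noncomputable def cc_dz_24_0_defs : List ℕ := [(nat_lit 0x50000400b00003010000020020000100b000000050000000000000)]
noncomputable def cc_dz_24_0_recs : List ℕ := [(nat_lit 0xf0000500006040000200005)]
noncomputable def cc_dz_24_0_T : List (List ℕ × ℕ) := [([5,2,11,16,4,15,10], (nat_lit 0xc00001400001c00000600001700000f000007))]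
noncomputable def cc_dz_24_0_D : H26.Dag := ⟨[1,0,3,2,5,4,7,6,9,8,11,10,12,14,13,16,15], [[0,1],
  [1,0],
  [2,3],
  [3,2],
  [4,5],
  [5,4],
  [6,7],
  [7,6],
  [8,9],
  [9,8],
  [10,11],
  [11,10],
  [12,12],
  [13,14],
  [14,13],
  [15,16],
  [16,15],
  [5,2,11,4,10],
  [5,16,4,15]], [], cc_dz_24_0_defs, cc_dz_24_0_recs⟩
theorem cc_dz_24_0_c : cc_dz_24_0_D.check cc_dz_24_0_S cc_dz_24_0_T = true := by decide +kernel
theorem cc_dz_24_0 {G : Type*} [Group G] {g : ℕ → G} (hR : Rels g cc_dz_r_R) {H : Subgroup G}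
    (hH : ∀ k ∈ [], g k ∈ H) : evA g [5,2,11,16,4,15,10] ∈ H :=
  mem_dag (K := 17) (J := [0,1,2,3,4,5,6,7,8,9,10,11,12,13,14,15,16,40,54]) (D := cc_dz_24_0_D) (by decide +kernel) cc_dz_24_0_c (by decide +kernel) hR hH
theorem cc_dz_24 {G : Type*} [Group G] {z w a c f d t m y : G}
    (h : CC z w a c f d m t)
    (y3 : y ^ 3 = 1)
    (yz : y * z = z * y)
    (yw : y * w = w * y)
    (ya : y * a = a * y)
    (yc : y * c = c * y)
    (yf : y * f = f * y)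
    (yd : y * d = d * y)
    (ym : y * m = m * y)
    (yt : y * t = t * y) :
    d * y * a * (d * y)⁻¹ = a * w⁻¹ :=
  mul_inv_eq_one.1 ((evA_eq_tm ((InvI.cons h.2.2.2.2.2.2.2.2.2.2.2.2.2.2.2.2.1 InvI.nil) : InvI [z, w, a, c, f, d, t, m, y] [(nat_lit 6)]) [(.v (nat_lit 0)), (.inv (.v (nat_lit 0))), (.v (nat_lit 1)), (.inv (.v (nat_lit 1))), (.v (nat_lit 2)), (.inv (.v (nat_lit 2))), (.v (nat_lit 3)), (.inv (.v (nat_lit 3))), (.v (nat_lit 4)), (.inv (.v (nat_lit 4))), (.v (nat_lit 5)), (.inv (.v (nat_lit 5))), (.v (nat_lit 6)), (.v (nat_lit 7)), (.inv (.v (nat_lit 7))), (.v (nat_lit 8)), (.inv (.v (nat_lit 8)))] [5,2,11,16,4,15,10] (.mul (.mul (.mul (.mul (.v (nat_lit 5)) (.v (nat_lit 8))) (.v (nat_lit 2))) (.inv (.mul (.v (nat_lit 5)) (.v (nat_lit 8))))) (.inv (.mul (.v (nat_lit 2)) (.inv (.v (nat_lit 1)))))) (by decide +kernel)).symm.trans (Subgroup.mem_bot.1 (cc_dz_24_0 (cc_dz_r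 h y3 yz yw ya yc yf yd ym yt) (H := ⊥) (List.forall_mem_nil _))))
noncomputable def cc_dz_25_0_S0 : List ℕ := [nat_lit 0x1700000f00000700000c00c022, nat_lit 0x1b00001300000100a024]
noncomputable def cc_dz_25_0_S : List (List ℕ) := [cc_dz_25_0_S0]
noncomputable def cc_dz_25_0_defs : List ℕ := [(nat_lit 0x90000400b00003010000020060000100b000000090000000000000)]
noncomputable def cc_dz_25_0_recs : List ℕ := [(nat_lit 0xf0000500006080000200005)]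
noncomputable def cc_dz_25_0_T : List (List ℕ × ℕ) := [([9,6,11,16,8,15,10], (nat_lit 0xc00001400001c00000600001700000f000007))]
noncomputable def cc_dz_25_0_D : H26.Dag := ⟨[1,0,3,2,5,4,7,6,9,8,11,10,12,14,13,16,15], [[0,1],
  [1,0],
  [2,3],
  [3,2],
  [4,5],
  [5,4],
  [6,7],
  [7,6],
  [8,9],
  [9,8],
  [10,11],
  [11,10],
  [12,12],
  [13,14],
  [14,13],
  [15,16],
  [16,15],
  [9,6,11,8,10],
  [9,16,8,15]], [], cc_dz_25_0_defs, cc_dz_25_0_recs⟩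
theorem cc_dz_25_0_c : cc_dz_25_0_D.check cc_dz_25_0_S cc_dz_25_0_T = true := by decide +kernel
theorem cc_dz_25_0 {G : Type*} [Group G] {g : ℕ → G} (hR : Rels g cc_dz_r_R) {H : Subgroup G}
    (hH : ∀ k ∈ [], g k ∈ H) : evA g [9,6,11,16,8,15,10] ∈ H :=
  mem_dag (K := 17) (J := [0,1,2,3,4,5,6,7,8,9,10,11,12,13,14,15,16,41,56]) (D := cc_dz_25_0_D) (by decide +kernel) cc_dz_25_0_c (by decide +kernel) hR hH
theorem cc_dz_25 {G : Type*} [Group G] {z w a c f d t m y : G}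
    (h : CC z w a c f d m t)
    (y3 : y ^ 3 = 1)
    (yz : y * z = z * y)
    (yw : y * w = w * y)
    (ya : y * a = a * y)
    (yc : y * c = c * y)
    (yf : y * f = f * y)
    (yd : y * d = d * y)
    (ym : y * m = m * y)
    (yt : y * t = t * y) :
    d * y * f * (d * y)⁻¹ = f * c⁻¹ :=
  mul_inv_eq_one.1 ((evA_eq_tm ((InvI.cons h.2.2.2.2.2.2.2.2.2.2.2.2.2.2.2.2.1 InvI.nil) : InvI [z, w, a, c, f, d, t, m, y] [(nat_lit 6)]) [(.v (nat_lit 0)), (.inv (.v (nat_lit 0))), (.v (nat_lit 1)), (.inv (.v (nat_lit 1))), (.v (nat_lit 2)), (.inv (.v (nat_lit 2))), (.v (nat_lit 3)), (.inv (.v (nat_lit 3))), (.v (nat_lit 4)), (.inv (.v (nat_lit 4))), (.v (nat_lit 5)), (.inv (.v (nat_lit 5))), (.v (nat_lit 6)), (.v (nat_lit 7)), (.inv (.v (nat_lit 7))), (.v (nat_lit 8)), (.inv (.v (nat_lit 8)))] [9,6,11,16,8,15,10] (.mul (.mul (.mul (.mul (.v (nat_lit 5)) (.v (nat_lit 8))) (.v (nat_lit 4))) (.inv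 (.mul (.v (nat_lit 5)) (.v (nat_lit 8))))) (.inv (.mul (.v (nat_lit 4)) (.inv (.v (nat_lit 3)))))) (by decide +kernel)).symm.trans (Subgroup.mem_bot.1 (cc_dz_25_0 (cc_dz_r h y3 yz yw ya yc yf yd ym yt) (H := ⊥) (List.forall_mem_nil _))))
theorem cc_dz {G : Type*} [Group G] {z w a c f d t m y : G}
    (h : CC z w a c f d m t)
    (y3 : y ^ 3 = 1)
    (yz : y * z = z * y)
    (yw : y * w = w * y)
    (ya : y * a = a * y)
    (yc : y * c = c * y)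
    (yf : y * f = f * y)
    (yd : y * d = d * y)
    (ym : y * m = m * y)
    (yt : y * t = t * y) :
    CC z w a c f (d * y) m t :=
  ⟨h.1,
   h.2.1,
   h.2.2.1,
   h.2.2.2.1,
   h.2.2.2.2.1,
   h.2.2.2.2.2.1,
   h.2.2.2.2.2.2.1,
   h.2.2.2.2.2.2.2.1,
   h.2.2.2.2.2.2.2.2.1,
   h.2.2.2.2.2.2.2.2.2.1,
   h.2.2.2.2.2.2.2.2.2.2.1,
   h.2.2.2.2.2.2.2.2.2.2.2.1,
   h.2.2.2.2.2.2.2.2.2.2.2.2.1,
   h.2.2.2.2.2.2.2.2.2.2.2.2.2.1,
   h.2.2.2.2.2.2.2.2.2.2.2.2.2.2.1,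
   cc_dz_15 h y3 yz yw ya yc yf yd ym yt,
   h.2.2.2.2.2.2.2.2.2.2.2.2.2.2.2.2.1,
   h.2.2.2.2.2.2.2.2.2.2.2.2.2.2.2.2.2.1,
   cc_dz_18 h y3 yz yw ya yc yf yd ym yt,
   cc_dz_19 h y3 yz yw ya yc yf yd ym yt,
   h.2.2.2.2.2.2.2.2.2.2.2.2.2.2.2.2.2.2.2.2.1,
   cc_dz_21 h y3 yz yw ya yc yf yd ym yt,
   cc_dz_22 h y3 yz yw ya yc yf yd ym yt,
   cc_dz_23 h y3 yz yw ya yc yf yd ym yt,
   cc_dz_24 h y3 yz yw ya yc yf yd ym yt,
   cc_dz_25 h y3 yz yw ya yc yf yd ym yt,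
   h.2.2.2.2.2.2.2.2.2.2.2.2.2.2.2.2.2.2.2.2.2.2.2.2.2.2.1,
   h.2.2.2.2.2.2.2.2.2.2.2.2.2.2.2.2.2.2.2.2.2.2.2.2.2.2.2.1,
   h.2.2.2.2.2.2.2.2.2.2.2.2.2.2.2.2.2.2.2.2.2.2.2.2.2.2.2.2.1,
   h.2.2.2.2.2.2.2.2.2.2.2.2.2.2.2.2.2.2.2.2.2.2.2.2.2.2.2.2.2.1,
   h.2.2.2.2.2.2.2.2.2.2.2.2.2.2.2.2.2.2.2.2.2.2.2.2.2.2.2.2.2.2.1,
   h.2.2.2.2.2.2.2.2.2.2.2.2.2.2.2.2.2.2.2.2.2.2.2.2.2.2.2.2.2.2.2.1,
   h.2.2.2.2.2.2.2.2.2.2.2.2.2.2.2.2.2.2.2.2.2.2.2.2.2.2.2.2.2.2.2.2.1,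
   h.2.2.2.2.2.2.2.2.2.2.2.2.2.2.2.2.2.2.2.2.2.2.2.2.2.2.2.2.2.2.2.2.2.1,
   h.2.2.2.2.2.2.2.2.2.2.2.2.2.2.2.2.2.2.2.2.2.2.2.2.2.2.2.2.2.2.2.2.2.2.1, trivial⟩
noncomputable def ss_of_r_R : List (List ℕ) := [[0,1],
  [1,0],
  [2,3],
  [3,2],
  [4,5],
  [5,4],
  [6,7],
  [7,6],
  [8,9],
  [9,8],
  [10,11],
  [11,10],
  [12,12],
  [13,14],
  [14,13],
  [15,15],
  [0,0,0],
  [2,2,2],
  [4,4,4],
  [6,6,6],
  [8,8,8],
  [1,3,0,2],
  [1,5,0,4],
  [1,7,0,6],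
  [1,9,0,8],
  [5,3,4,2],
  [7,3,6,2],
  [9,5,8,4],
  [9,7,8,6],
  [1,9,3,8,2],
  [1,5,7,4,6],
  [10,10,10],
  [12,13,13],
  [10,13,10,13,10,13],
  [1,11,0,10],
  [1,14,0,13],
  [12,11,12,10],
  [3,11,2,10],
  [7,11,6,10],
  [5,2,11,4,10],
  [9,6,11,8,10],
  [5,14,2,13],
  [2,14,4,13],
  [9,14,6,13],
  [6,14,8,13],
  [1,12,0,12],
  [2,12,2,12],
  [4,12,4,12],
  [6,12,6,12],
  [8,12,8,12],
  [0,15,0,15],
  [2,15,2,15],
  [6,15,6,15],
  [10,15,10,15],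
  [13,15,13,15],
  [12,15,12,15]]
theorem ss_of_r {G : Type*} [Group G] {z w a c f d t m s : G}
    (h : CC z w a c f d m t)
    (ss : s * s = 1)
    (sz : s * z * s⁻¹ = z⁻¹)
    (sw : s * w * s⁻¹ = w⁻¹)
    (sc : s * c * s⁻¹ = c⁻¹)
    (sd : s * d * s⁻¹ = d⁻¹)
    (sm : s * m * s⁻¹ = m⁻¹)
    (st : s * t = t * s) :
    Rels (nthG [z, z⁻¹, w, w⁻¹, a, a⁻¹, c, c⁻¹, f, f⁻¹, d, d⁻¹, t, m, m⁻¹, s]) ss_of_r_R :=
  rels_of_eqs ((InvI.cons h.2.2.2.2.2.2.2.2.2.2.2.2.2.2.2.2.1 (InvI.cons ss InvI.nil)) : InvI [z, w, a, c, f, d, t, m, s] [(nat_lit 6), (nat_lit 8)])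
    (AllEq.append (show AllEq [z, w, a, c, f, d, t, m, s] [((.pw (.v (nat_lit 0)) (nat_lit 3)), .one), ((.pw (.v (nat_lit 1)) (nat_lit 3)), .one), ((.pw (.v (nat_lit 2)) (nat_lit 3)), .one), ((.pw (.v (nat_lit 3)) (nat_lit 3)), .one), ((.pw (.v (nat_lit 4)) (nat_lit 3)), .one), ((.mul (.v (nat_lit 1)) (.v (nat_lit 0))), (.mul (.v (nat_lit 0)) (.v (nat_lit 1)))), ((.mul (.v (nat_lit 2)) (.v (nat_lit 0))), (.mul (.v (nat_lit 0)) (.v (nat_lit 2)))), ((.mul (.v (nat_lit 3)) (.v (nat_lit 0))), (.mul (.v (nat_lit 0)) (.v (nat_lit 3)))), ((.mul (.v (nat_lit 4)) (.v (nat_lit 0))), (.mul (.v (nat_lit 0)) (.v (nat_lit 4)))), ((.mul (.v (nat_lit 1)) (.v (nat_lit 2))), (.mul (.v (nat_lit 2)) (.v (nat_lit 1)))), ((.mul (.v (nat_lit 1)) (.v (nat_lit 3))), (.mul (.v (nat_lit 3)) (.v (nat_lit 1)))), ((.mul (.v (nat_lit 2)) (.v (nat_lit 4))), (.mul (.v (nat_lit 4)) (.v (nat_lit 2)))), ((.mul (.v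 (nat_lit 3)) (.v (nat_lit 4))), (.mul (.v (nat_lit 4)) (.v (nat_lit 3)))), ((.mul (.mul (.mul (.v (nat_lit 1)) (.v (nat_lit 4))) (.inv (.v (nat_lit 1)))) (.inv (.v (nat_lit 4)))), (.v (nat_lit 0))), ((.mul (.mul (.mul (.v (nat_lit 3)) (.v (nat_lit 2))) (.inv (.v (nat_lit 3)))) (.inv (.v (nat_lit 2)))), (.v (nat_lit 0))), ((.pw (.v (nat_lit 5)) (nat_lit 3)), .one), ((.mul (.v (nat_lit 6)) (.v (nat_lit 6))), .one), ((.mul (.v (nat_lit 7)) (.v (nat_lit 7))), (.v (nat_lit 6))), ((.pw (.mul (.v (nat_lit 7)) (.v (nat_lit 5))) (nat_lit 3)), .one), ((.mul (.v (nat_lit 5)) (.v (nat_lit 0))), (.mul (.v (nat_lit 0)) (.v (nat_lit 5)))), ((.mul (.v (nat_lit 7)) (.v (nat_lit 0))), (.mul (.v (nat_lit 0)) (.v (nat_lit 7)))), ((.mul (.v (nat_lit 5)) (.v (nat_lit 6))), (.mul (.v (nat_lit 6)) (.v (nat_lit 5)))), ((.mul (.v (nat_lit 5)) (.v (nat_lit 1))), (.mul (.v (nat_lit 1)) (.v (nat_lit 5)))), ((.mul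 (.v (nat_lit 5)) (.v (nat_lit 3))), (.mul (.v (nat_lit 3)) (.v (nat_lit 5)))), ((.mul (.mul (.v (nat_lit 5)) (.v (nat_lit 2))) (.inv (.v (nat_lit 5)))), (.mul (.v (nat_lit 2)) (.inv (.v (nat_lit 1))))), ((.mul (.mul (.v (nat_lit 5)) (.v (nat_lit 4))) (.inv (.v (nat_lit 5)))), (.mul (.v (nat_lit 4)) (.inv (.v (nat_lit 3))))), ((.mul (.mul (.v (nat_lit 7)) (.v (nat_lit 1))) (.inv (.v (nat_lit 7)))), (.v (nat_lit 2))), ((.mul (.mul (.v (nat_lit 7)) (.v (nat_lit 2))) (.inv (.v (nat_lit 7)))), (.inv (.v (nat_lit 1)))), ((.mul (.mul (.v (nat_lit 7)) (.v (nat_lit 3))) (.inv (.v (nat_lit 7)))), (.v (nat_lit 4))), ((.mul (.mul (.v (nat_lit 7)) (.v (nat_lit 4))) (.inv (.v (nat_lit 7)))), (.inv (.v (nat_lit 3)))), ((.mul (.v (nat_lit 6)) (.v (nat_lit 0))), (.mul (.v (nat_lit 0)) (.v (nat_lit 6)))), ((.mul (.mul (.v (nat_lit 6)) (.v (nat_lit 1))) (.inv (.v (nat_lit 6)))), (.inv (.v (nat_lit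 1)))), ((.mul (.mul (.v (nat_lit 6)) (.v (nat_lit 2))) (.inv (.v (nat_lit 6)))), (.inv (.v (nat_lit 2)))), ((.mul (.mul (.v (nat_lit 6)) (.v (nat_lit 3))) (.inv (.v (nat_lit 6)))), (.inv (.v (nat_lit 3)))), ((.mul (.mul (.v (nat_lit 6)) (.v (nat_lit 4))) (.inv (.v (nat_lit 6)))), (.inv (.v (nat_lit 4))))] from h)
    (AllEq.append (show AllEq [z, w, a, c, f, d, t, m, s] [((.mul (.v (nat_lit 8)) (.v (nat_lit 8))), .one)] from ⟨ss, trivial⟩)
    (AllEq.append (show AllEq [z, w, a, c, f, d, t, m, s] [((.mul (.mul (.v (nat_lit 8)) (.v (nat_lit 0))) (.inv (.v (nat_lit 8)))), (.inv (.v (nat_lit 0))))] from ⟨sz, trivial⟩)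
    (AllEq.append (show AllEq [z, w, a, c, f, d, t, m, s] [((.mul (.mul (.v (nat_lit 8)) (.v (nat_lit 1))) (.inv (.v (nat_lit 8)))), (.inv (.v (nat_lit 1))))] from ⟨sw, trivial⟩)
    (AllEq.append (show AllEq [z, w, a, c, f, d, t, m, s] [((.mul (.mul (.v (nat_lit 8)) (.v (nat_lit 3))) (.inv (.v (nat_lit 8)))), (.inv (.v (nat_lit 3))))] from ⟨sc, trivial⟩)
    (AllEq.append (show AllEq [z, w, a, c, f, d, t, m, s] [((.mul (.mul (.v (nat_lit 8)) (.v (nat_lit 5))) (.inv (.v (nat_lit 8)))), (.inv (.v (nat_lit 5))))] from ⟨sd, trivial⟩)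
    (AllEq.append (show AllEq [z, w, a, c, f, d, t, m, s] [((.mul (.mul (.v (nat_lit 8)) (.v (nat_lit 7))) (.inv (.v (nat_lit 8)))), (.inv (.v (nat_lit 7))))] from ⟨sm, trivial⟩)
    (show AllEq [z, w, a, c, f, d, t, m, s] [((.mul (.v (nat_lit 8)) (.v (nat_lit 6))), (.mul (.v (nat_lit 6)) (.v (nat_lit 8))))] from ⟨st, trivial⟩))))))))
    [(.v (nat_lit 0)), (.inv (.v (nat_lit 0))), (.v (nat_lit 1)), (.inv (.v (nat_lit 1))), (.v (nat_lit 2)), (.inv (.v (nat_lit 2))), (.v (nat_lit 3)), (.inv (.v (nat_lit 3))), (.v (nat_lit 4)), (.inv (.v (nat_lit 4))), (.v (nat_lit 5)), (.inv (.v (nat_lit 5))), (.v (nat_lit 6)), (.v (nat_lit 7)), (.inv (.v (nat_lit 7))), (.v (nat_lit 8))] (by decide +kernel)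
noncomputable def ss_of_6_0_S0 : List ℕ := [nat_lit 0x17000007000014008020, nat_lit 0x1f00000b000014004026, nat_lit 0x2700000f000018004026, nat_lit 0x6000001000009000024, nat_lit 0x2300002800000d00001f00c022, nat_lit 0x1b000011000023000008, nat_lit 0x1500001b000008]
noncomputable def ss_of_6_0_S : List (List ℕ) := [ss_of_6_0_S0]
noncomputable def ss_of_6_0_defs : List ℕ := [(nat_lit 0xd000030040000300d000020050000200e0000100e0000000f0000100f000000050000000000000)]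
noncomputable def ss_of_6_0_recs : List ℕ := [(nat_lit 0x40000200003ff0000300006ff00002000080200009000070f00005000090f0000400007020000400005)]
noncomputable def ss_of_6_0_T : List (List ℕ × ℕ) := [([5,15,4,15], (nat_lit 0xc00001900000f000007))]
noncomputable def ss_of_6_0_D : H26.Dag := ⟨[1,0,3,2,5,4,7,6,9,8,11,10,12,14,13,15], [[0,1],
  [1,0],
  [2,3],
  [3,2],
  [4,5],
  [5,4],
  [6,7],
  [7,6],
  [8,9],
  [9,8],
  [10,11],
  [11,10],
  [12,12],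
  [13,14],
  [14,13],
  [15,15],
  [5,14,2,13],
  [2,14,4,13],
  [2,15,2,15],
  [13,15,13,15]], [], ss_of_6_0_defs, ss_of_6_0_recs⟩
theorem ss_of_6_0_c : ss_of_6_0_D.check ss_of_6_0_S ss_of_6_0_T = true := by decide +kernel
theorem ss_of_6_0 {G : Type*} [Group G] {g : ℕ → G} (hR : Rels g ss_of_r_R) {H : Subgroup G}
    (hH : ∀ k ∈ [], g k ∈ H) : evA g [5,15,4,15] ∈ H :=
  mem_dag (K := 16) (J := [0,1,2,3,4,5,6,7,8,9,10,11,12,13,14,15,41,42,51,54]) (D := ss_of_6_0_D) (by decide +kernel) ss_of_6_0_c (by decide +kernel) hR hH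
theorem ss_of_6 {G : Type*} [Group G] {z w a c f d t m s : G}
    (h : CC z w a c f d m t)
    (ss : s * s = 1)
    (sz : s * z * s⁻¹ = z⁻¹)
    (sw : s * w * s⁻¹ = w⁻¹)
    (sc : s * c * s⁻¹ = c⁻¹)
    (sd : s * d * s⁻¹ = d⁻¹)
    (sm : s * m * s⁻¹ = m⁻¹)
    (st : s * t = t * s) :
    s * a = a * s :=
  mul_inv_eq_one.1 ((evA_eq_tm ((InvI.cons h.2.2.2.2.2.2.2.2.2.2.2.2.2.2.2.2.1 (InvI.cons ss InvI.nil)) : InvI [z, w, a, c, f, d, t, m, s] [(nat_lit 6), (nat_lit 8)]) [(.v (nat_lit 0)), (.inv (.v (nat_lit 0))), (.v (nat_lit 1)), (.inv (.v (nat_lit 1))), (.v (nat_lit 2)), (.inv (.v (nat_lit 2))), (.v (nat_lit 3)), (.inv (.v (nat_lit 3))), (.v (nat_lit 4)), (.inv (.v (nat_lit 4))), (.v (nat_lit 5)), (.inv (.v (nat_lit 5))), (.v (nat_lit 6)), (.v (nat_lit 7)), (.inv (.v (nat_lit 7))), (.v (nat_lit 8))] [5,15,4,15] (.mul (.mul (.v (nat_lit 8)) (.v (nat_lit 2))) (.inv (.mul (.v (nat_lit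 2)) (.v (nat_lit 8))))) (by decide +kernel)).symm.trans (Subgroup.mem_bot.1 (ss_of_6_0 (ss_of_r h ss sz sw sc sd sm st) (H := ⊥) (List.forall_mem_nil _))))
noncomputable def ss_of_7_0_S0 : List ℕ := [nat_lit 0x17000007000014008020, nat_lit 0x1f00000b000014004026, nat_lit 0x2700000f000018004026, nat_lit 0x6000001000009000024, nat_lit 0x2300002800000d00001f00c022, nat_lit 0x1b000011000023000010, nat_lit 0x1500001b000010]
noncomputable def ss_of_7_0_S : List (List ℕ) := [ss_of_7_0_S0]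
noncomputable def ss_of_7_0_defs : List ℕ := [(nat_lit 0xd000030080000300d000020090000200e0000100e0000000f0000100f000000090000000000000)]
noncomputable def ss_of_7_0_recs : List ℕ := [(nat_lit 0x80000200003ff0000300006ff00002000080600009000070f00005000090f0000400007060000400005)]
noncomputable def ss_of_7_0_T : List (List ℕ × ℕ) := [([9,15,8,15], (nat_lit 0xc00001900000f000007))]
noncomputable def ss_of_7_0_D : H26.Dag := ⟨[1,0,3,2,5,4,7,6,9,8,11,10,12,14,13,15], [[0,1],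
  [1,0],
  [2,3],
  [3,2],
  [4,5],
  [5,4],
  [6,7],
  [7,6],
  [8,9],
  [9,8],
  [10,11],
  [11,10],
  [12,12],
  [13,14],
  [14,13],
  [15,15],
  [9,14,6,13],
  [6,14,8,13],
  [6,15,6,15],
  [13,15,13,15]], [], ss_of_7_0_defs, ss_of_7_0_recs⟩
theorem ss_of_7_0_c : ss_of_7_0_D.check ss_of_7_0_S ss_of_7_0_T = true := by decide +kernel
theorem ss_of_7_0 {G : Type*} [Group G] {g : ℕ → G} (hR : Rels g ss_of_r_R) {H : Subgroup G}
    (hH : ∀ k ∈ [], g k ∈ H) : evA g [9,15,8,15] ∈ H :=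
  mem_dag (K := 16) (J := [0,1,2,3,4,5,6,7,8,9,10,11,12,13,14,15,43,44,52,54]) (D := ss_of_7_0_D) (by decide +kernel) ss_of_7_0_c (by decide +kernel) hR hH
theorem ss_of_7 {G : Type*} [Group G] {z w a c f d t m s : G}
    (h : CC z w a c f d m t)
    (ss : s * s = 1)
    (sz : s * z * s⁻¹ = z⁻¹)
    (sw : s * w * s⁻¹ = w⁻¹)
    (sc : s * c * s⁻¹ = c⁻¹)
    (sd : s * d * s⁻¹ = d⁻¹)
    (sm : s * m * s⁻¹ = m⁻¹)
    (st : s * t = t * s) :
    s * f = f * s :=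
  mul_inv_eq_one.1 ((evA_eq_tm ((InvI.cons h.2.2.2.2.2.2.2.2.2.2.2.2.2.2.2.2.1 (InvI.cons ss InvI.nil)) : InvI [z, w, a, c, f, d, t, m, s] [(nat_lit 6), (nat_lit 8)]) [(.v (nat_lit 0)), (.inv (.v (nat_lit 0))), (.v (nat_lit 1)), (.inv (.v (nat_lit 1))), (.v (nat_lit 2)), (.inv (.v (nat_lit 2))), (.v (nat_lit 3)), (.inv (.v (nat_lit 3))), (.v (nat_lit 4)), (.inv (.v (nat_lit 4))), (.v (nat_lit 5)), (.inv (.v (nat_lit 5))), (.v (nat_lit 6)), (.v (nat_lit 7)), (.inv (.v (nat_lit 7))), (.v (nat_lit 8))] [9,15,8,15] (.mul (.mul (.v (nat_lit 8)) (.v (nat_lit 4))) (.inv (.mul (.v (nat_lit 4)) (.v (nat_lit 8))))) (by decide +kernel)).symm.trans (Subgroup.mem_bot.1 (ss_of_7_0 (ss_of_r h ss sz sw sc sd sm st) (H := ⊥) (List.forall_mem_nil _))))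
theorem ss_of {G : Type*} [Group G] {z w a c f d t m s : G}
    (h : CC z w a c f d m t)
    (ss : s * s = 1)
    (sz : s * z * s⁻¹ = z⁻¹)
    (sw : s * w * s⁻¹ = w⁻¹)
    (sc : s * c * s⁻¹ = c⁻¹)
    (sd : s * d * s⁻¹ = d⁻¹)
    (sm : s * m * s⁻¹ = m⁻¹)
    (st : s * t = t * s) :
    SS z w a c f d m t s :=
  ⟨ss,
   sz,
   sw,
   sc,
   sd,
   sm,
   ss_of_6 h ss sz sw sc sd sm st,
   ss_of_7 h ss sz sw sc sd sm st,
   st, trivial⟩
noncomputable def mcj1_r_R : List (List ℕ) := [[0,1],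
  [1,0],
  [2,3],
  [3,2],
  [4,5],
  [5,4],
  [6,7],
  [7,6],
  [8,9],
  [9,8],
  [10,11],
  [11,10],
  [12,12],
  [13,14],
  [14,13],
  [15,15],
  [0,0,0],
  [2,2,2],
  [4,4,4],
  [6,6,6],
  [8,8,8],
  [1,3,0,2],
  [1,5,0,4],
  [1,7,0,6],
  [1,9,0,8],
  [5,3,4,2],
  [7,3,6,2],
  [9,5,8,4],
  [9,7,8,6],
  [1,9,3,8,2],
  [1,5,7,4,6],
  [10,10,10],
  [12,13,13],
  [10,13,10,13,10,13],
  [1,11,0,10],
  [1,14,0,13],
  [12,11,12,10],
  [3,11,2,10],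
  [7,11,6,10],
  [5,2,11,4,10],
  [9,6,11,8,10],
  [5,14,2,13],
  [2,14,4,13],
  [9,14,6,13],
  [6,14,8,13],
  [1,12,0,12],
  [2,12,2,12],
  [4,12,4,12],
  [6,12,6,12],
  [8,12,8,12],
  [10,15,10,15],
  [11,13,10,15,13,15]]
theorem mcj1_r {G : Type*} [Group G] {z w a c f d t m s : G}
    (h : CC z w a c f d m t)
    (ss : s * s = 1)
    (sd : s * d * s⁻¹ = d⁻¹)
    (e : s * m * s⁻¹ = (d * m * d⁻¹)⁻¹) :
    Rels (nthG [z, z⁻¹, w, w⁻¹, a, a⁻¹, c, c⁻¹, f, f⁻¹, d, d⁻¹, t, m, m⁻¹, s]) mcj1_r_R :=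
  rels_of_eqs ((InvI.cons h.2.2.2.2.2.2.2.2.2.2.2.2.2.2.2.2.1 (InvI.cons ss InvI.nil)) : InvI [z, w, a, c, f, d, t, m, s] [(nat_lit 6), (nat_lit 8)])
    (AllEq.append (show AllEq [z, w, a, c, f, d, t, m, s] [((.pw (.v (nat_lit 0)) (nat_lit 3)), .one), ((.pw (.v (nat_lit 1)) (nat_lit 3)), .one), ((.pw (.v (nat_lit 2)) (nat_lit 3)), .one), ((.pw (.v (nat_lit 3)) (nat_lit 3)), .one), ((.pw (.v (nat_lit 4)) (nat_lit 3)), .one), ((.mul (.v (nat_lit 1)) (.v (nat_lit 0))), (.mul (.v (nat_lit 0)) (.v (nat_lit 1)))), ((.mul (.v (nat_lit 2)) (.v (nat_lit 0))), (.mul (.v (nat_lit 0)) (.v (nat_lit 2)))), ((.mul (.v (nat_lit 3)) (.v (nat_lit 0))), (.mul (.v (nat_lit 0)) (.v (nat_lit 3)))), ((.mul (.v (nat_lit 4)) (.v (nat_lit 0))), (.mul (.v (nat_lit 0)) (.v (nat_lit 4)))), ((.mul (.v (nat_lit 1)) (.v (nat_lit 2))), (.mul (.v (nat_lit 2)) (.v (nat_lit 1)))), ((.mul (.v (nat_lit 1)) (.v (nat_lit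 3))), (.mul (.v (nat_lit 3)) (.v (nat_lit 1)))), ((.mul (.v (nat_lit 2)) (.v (nat_lit 4))), (.mul (.v (nat_lit 4)) (.v (nat_lit 2)))), ((.mul (.v (nat_lit 3)) (.v (nat_lit 4))), (.mul (.v (nat_lit 4)) (.v (nat_lit 3)))), ((.mul (.mul (.mul (.v (nat_lit 1)) (.v (nat_lit 4))) (.inv (.v (nat_lit 1)))) (.inv (.v (nat_lit 4)))), (.v (nat_lit 0))), ((.mul (.mul (.mul (.v (nat_lit 3)) (.v (nat_lit 2))) (.inv (.v (nat_lit 3)))) (.inv (.v (nat_lit 2)))), (.v (nat_lit 0))), ((.pw (.v (nat_lit 5)) (nat_lit 3)), .one), ((.mul (.v (nat_lit 6)) (.v (nat_lit 6))), .one), ((.mul (.v (nat_lit 7)) (.v (nat_lit 7))), (.v (nat_lit 6))), ((.pw (.mul (.v (nat_lit 7)) (.v (nat_lit 5))) (nat_lit 3)), .one), ((.mul (.v (nat_lit 5)) (.v (nat_lit 0))), (.mul (.v (nat_lit 0)) (.v (nat_lit 5)))), ((.mul (.v (nat_lit 7)) (.v (nat_lit 0))), (.mul (.v (nat_lit 0)) (.v (nat_lit 7)))), ((.mul (.v (nat_lit 5)) (.v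 (nat_lit 6))), (.mul (.v (nat_lit 6)) (.v (nat_lit 5)))), ((.mul (.v (nat_lit 5)) (.v (nat_lit 1))), (.mul (.v (nat_lit 1)) (.v (nat_lit 5)))), ((.mul (.v (nat_lit 5)) (.v (nat_lit 3))), (.mul (.v (nat_lit 3)) (.v (nat_lit 5)))), ((.mul (.mul (.v (nat_lit 5)) (.v (nat_lit 2))) (.inv (.v (nat_lit 5)))), (.mul (.v (nat_lit 2)) (.inv (.v (nat_lit 1))))), ((.mul (.mul (.v (nat_lit 5)) (.v (nat_lit 4))) (.inv (.v (nat_lit 5)))), (.mul (.v (nat_lit 4)) (.inv (.v (nat_lit 3))))), ((.mul (.mul (.v (nat_lit 7)) (.v (nat_lit 1))) (.inv (.v (nat_lit 7)))), (.v (nat_lit 2))), ((.mul (.mul (.v (nat_lit 7)) (.v (nat_lit 2))) (.inv (.v (nat_lit 7)))), (.inv (.v (nat_lit 1)))), ((.mul (.mul (.v (nat_lit 7)) (.v (nat_lit 3))) (.inv (.v (nat_lit 7)))), (.v (nat_lit 4))), ((.mul (.mul (.v (nat_lit 7)) (.v (nat_lit 4))) (.inv (.v (nat_lit 7)))), (.inv (.v (nat_lit 3)))), ((.mul (.v (nat_lit 6)) (.v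 (nat_lit 0))), (.mul (.v (nat_lit 0)) (.v (nat_lit 6)))), ((.mul (.mul (.v (nat_lit 6)) (.v (nat_lit 1))) (.inv (.v (nat_lit 6)))), (.inv (.v (nat_lit 1)))), ((.mul (.mul (.v (nat_lit 6)) (.v (nat_lit 2))) (.inv (.v (nat_lit 6)))), (.inv (.v (nat_lit 2)))), ((.mul (.mul (.v (nat_lit 6)) (.v (nat_lit 3))) (.inv (.v (nat_lit 6)))), (.inv (.v (nat_lit 3)))), ((.mul (.mul (.v (nat_lit 6)) (.v (nat_lit 4))) (.inv (.v (nat_lit 6)))), (.inv (.v (nat_lit 4))))] from h)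
    (AllEq.append (show AllEq [z, w, a, c, f, d, t, m, s] [((.mul (.v (nat_lit 8)) (.v (nat_lit 8))), .one)] from ⟨ss, trivial⟩)
    (AllEq.append (show AllEq [z, w, a, c, f, d, t, m, s] [((.mul (.mul (.v (nat_lit 8)) (.v (nat_lit 5))) (.inv (.v (nat_lit 8)))), (.inv (.v (nat_lit 5))))] from ⟨sd, trivial⟩)
    (show AllEq [z, w, a, c, f, d, t, m, s] [((.mul (.mul (.v (nat_lit 8)) (.v (nat_lit 7))) (.inv (.v (nat_lit 8)))), (.inv (.mul (.mul (.v (nat_lit 5)) (.v (nat_lit 7))) (.inv (.v (nat_lit 5))))))] from ⟨e, trivial⟩))))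
    [(.v (nat_lit 0)), (.inv (.v (nat_lit 0))), (.v (nat_lit 1)), (.inv (.v (nat_lit 1))), (.v (nat_lit 2)), (.inv (.v (nat_lit 2))), (.v (nat_lit 3)), (.inv (.v (nat_lit 3))), (.v (nat_lit 4)), (.inv (.v (nat_lit 4))), (.v (nat_lit 5)), (.inv (.v (nat_lit 5))), (.v (nat_lit 6)), (.v (nat_lit 7)), (.inv (.v (nat_lit 7))), (.v (nat_lit 8))] (by decide +kernel)
noncomputable def mcj1_0_S0 : List ℕ := [nat_lit 0x23000008006020, nat_lit 0x2300000c00001400a022, nat_lit 0x27000018004020, nat_lit 0x2700000f00000100000600001c00c024, nat_lit 0xd00000a000020006022]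
noncomputable def mcj1_0_S : List (List ℕ) := [mcj1_0_S0]
noncomputable def mcj1_0_defs : List ℕ := [(nat_lit 0xa0000300b0000000f0000500e0000400b0000300a0000200d0000100f0000000a0000000000000)]
noncomputable def mcj1_0_recs : List ℕ := [(nat_lit 0xb00007000060f00006000090a00005000090f00004000080b0000100008)]
noncomputable def mcj1_0_T : List (List ℕ × ℕ) := [([10,13,11,15,10,13,11,15], (nat_lit 0xc00001400001c00001200001f00001700000f000007))]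
noncomputable def mcj1_0_D : H26.Dag := ⟨[1,0,3,2,5,4,7,6,9,8,11,10,12,14,13,15], [[0,1],
  [1,0],
  [2,3],
  [3,2],
  [4,5],
  [5,4],
  [6,7],
  [7,6],
  [8,9],
  [9,8],
  [10,11],
  [11,10],
  [12,12],
  [13,14],
  [14,13],
  [15,15],
  [10,10,10],
  [10,15,10,15],
  [11,13,10,15,13,15]], [], mcj1_0_defs, mcj1_0_recs⟩
theorem mcj1_0_c : mcj1_0_D.check mcj1_0_S mcj1_0_T = true := by decide +kernel
theorem mcj1_0 {G : Type*} [Group G] {g : ℕ → G} (hR : Rels g mcj1_r_R) {H : Subgroup G}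
    (hH : ∀ k ∈ [], g k ∈ H) : evA g [10,13,11,15,10,13,11,15] ∈ H :=
  mem_dag (K := 16) (J := [0,1,2,3,4,5,6,7,8,9,10,11,12,13,14,15,31,50,51]) (D := mcj1_0_D) (by decide +kernel) mcj1_0_c (by decide +kernel) hR hH
theorem mcj1 {G : Type*} [Group G] {z w a c f d t m s : G}
    (h : CC z w a c f d m t)
    (ss : s * s = 1)
    (sd : s * d * s⁻¹ = d⁻¹)
    (e : s * m * s⁻¹ = (d * m * d⁻¹)⁻¹) :
    s * (d⁻¹ * m * d⁻¹⁻¹) * s⁻¹ = (d⁻¹ * m * d⁻¹⁻¹)⁻¹ :=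
  mul_inv_eq_one.1 ((evA_eq_tm ((InvI.cons h.2.2.2.2.2.2.2.2.2.2.2.2.2.2.2.2.1 (InvI.cons ss InvI.nil)) : InvI [z, w, a, c, f, d, t, m, s] [(nat_lit 6), (nat_lit 8)]) [(.v (nat_lit 0)), (.inv (.v (nat_lit 0))), (.v (nat_lit 1)), (.inv (.v (nat_lit 1))), (.v (nat_lit 2)), (.inv (.v (nat_lit 2))), (.v (nat_lit 3)), (.inv (.v (nat_lit 3))), (.v (nat_lit 4)), (.inv (.v (nat_lit 4))), (.v (nat_lit 5)), (.inv (.v (nat_lit 5))), (.v (nat_lit 6)), (.v (nat_lit 7)), (.inv (.v (nat_lit 7))), (.v (nat_lit 8))] [10,13,11,15,10,13,11,15] (.mul (.mul (.mul (.v (nat_lit 8)) (.mul (.mul (.inv (.v (nat_lit 5))) (.v (nat_lit 7))) (.inv (.inv (.v (nat_lit 5)))))) (.inv (.v (nat_lit 8)))) (.inv (.inv (.mul (.mul (.inv (.v (nat_lit 5))) (.v (nat_lit 7))) (.inv (.inv (.v (nat_lit 5)))))))) (by decide +kernel)).symm.trans (Subgroup.mem_bot.1 (mcj1_0 (mcj1_r h ss sd e) (H := ⊥) (List.forall_mem_nil _))))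
noncomputable def mcj2_r_R : List (List ℕ) := [[0,1],
  [1,0],
  [2,3],
  [3,2],
  [4,5],
  [5,4],
  [6,7],
  [7,6],
  [8,9],
  [9,8],
  [10,11],
  [11,10],
  [12,12],
  [13,14],
  [14,13],
  [15,15],
  [0,0,0],
  [2,2,2],
  [4,4,4],
  [6,6,6],
  [8,8,8],
  [1,3,0,2],
  [1,5,0,4],
  [1,7,0,6],
  [1,9,0,8],
  [5,3,4,2],
  [7,3,6,2],
  [9,5,8,4],
  [9,7,8,6],
  [1,9,3,8,2],
  [1,5,7,4,6],
  [10,10,10],
  [12,13,13],
  [10,13,10,13,10,13],
  [1,11,0,10],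
  [1,14,0,13],
  [12,11,12,10],
  [3,11,2,10],
  [7,11,6,10],
  [5,2,11,4,10],
  [9,6,11,8,10],
  [5,14,2,13],
  [2,14,4,13],
  [9,14,6,13],
  [6,14,8,13],
  [1,12,0,12],
  [2,12,2,12],
  [4,12,4,12],
  [6,12,6,12],
  [8,12,8,12],
  [10,15,10,15],
  [10,13,11,15,13,15]]
theorem mcj2_r {G : Type*} [Group G] {z w a c f d t m s : G}
    (h : CC z w a c f d m t)
    (ss : s * s = 1)
    (sd : s * d * s⁻¹ = d⁻¹)
    (e : s * m * s⁻¹ = (d⁻¹ * m * d)⁻¹) :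
    Rels (nthG [z, z⁻¹, w, w⁻¹, a, a⁻¹, c, c⁻¹, f, f⁻¹, d, d⁻¹, t, m, m⁻¹, s]) mcj2_r_R :=
  rels_of_eqs ((InvI.cons h.2.2.2.2.2.2.2.2.2.2.2.2.2.2.2.2.1 (InvI.cons ss InvI.nil)) : InvI [z, w, a, c, f, d, t, m, s] [(nat_lit 6), (nat_lit 8)])
    (AllEq.append (show AllEq [z, w, a, c, f, d, t, m, s] [((.pw (.v (nat_lit 0)) (nat_lit 3)), .one), ((.pw (.v (nat_lit 1)) (nat_lit 3)), .one), ((.pw (.v (nat_lit 2)) (nat_lit 3)), .one), ((.pw (.v (nat_lit 3)) (nat_lit 3)), .one), ((.pw (.v (nat_lit 4)) (nat_lit 3)), .one), ((.mul (.v (nat_lit 1)) (.v (nat_lit 0))), (.mul (.v (nat_lit 0)) (.v (nat_lit 1)))), ((.mul (.v (nat_lit 2)) (.v (nat_lit 0))), (.mul (.v (nat_lit 0)) (.v (nat_lit 2)))), ((.mul (.v (nat_lit 3)) (.v (nat_lit 0))), (.mul (.v (nat_lit 0)) (.v (nat_lit 3)))), ((.mul (.v (nat_lit 4)) (.v (nat_lit 0))), (.mul (.v (nat_lit 0)) (.v (nat_lit 4)))), ((.mul (.v (nat_lit 1)) (.v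 (nat_lit 2))), (.mul (.v (nat_lit 2)) (.v (nat_lit 1)))), ((.mul (.v (nat_lit 1)) (.v (nat_lit 3))), (.mul (.v (nat_lit 3)) (.v (nat_lit 1)))), ((.mul (.v (nat_lit 2)) (.v (nat_lit 4))), (.mul (.v (nat_lit 4)) (.v (nat_lit 2)))), ((.mul (.v (nat_lit 3)) (.v (nat_lit 4))), (.mul (.v (nat_lit 4)) (.v (nat_lit 3)))), ((.mul (.mul (.mul (.v (nat_lit 1)) (.v (nat_lit 4))) (.inv (.v (nat_lit 1)))) (.inv (.v (nat_lit 4)))), (.v (nat_lit 0))), ((.mul (.mul (.mul (.v (nat_lit 3)) (.v (nat_lit 2))) (.inv (.v (nat_lit 3)))) (.inv (.v (nat_lit 2)))), (.v (nat_lit 0))), ((.pw (.v (nat_lit 5)) (nat_lit 3)), .one), ((.mul (.v (nat_lit 6)) (.v (nat_lit 6))), .one), ((.mul (.v (nat_lit 7)) (.v (nat_lit 7))), (.v (nat_lit 6))), ((.pw (.mul (.v (nat_lit 7)) (.v (nat_lit 5))) (nat_lit 3)), .one), ((.mul (.v (nat_lit 5)) (.v (nat_lit 0))), (.mul (.v (nat_lit 0)) (.v (nat_lit 5)))), ((.mul (.v (nat_lit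 7)) (.v (nat_lit 0))), (.mul (.v (nat_lit 0)) (.v (nat_lit 7)))), ((.mul (.v (nat_lit 5)) (.v (nat_lit 6))), (.mul (.v (nat_lit 6)) (.v (nat_lit 5)))), ((.mul (.v (nat_lit 5)) (.v (nat_lit 1))), (.mul (.v (nat_lit 1)) (.v (nat_lit 5)))), ((.mul (.v (nat_lit 5)) (.v (nat_lit 3))), (.mul (.v (nat_lit 3)) (.v (nat_lit 5)))), ((.mul (.mul (.v (nat_lit 5)) (.v (nat_lit 2))) (.inv (.v (nat_lit 5)))), (.mul (.v (nat_lit 2)) (.inv (.v (nat_lit 1))))), ((.mul (.mul (.v (nat_lit 5)) (.v (nat_lit 4))) (.inv (.v (nat_lit 5)))), (.mul (.v (nat_lit 4)) (.inv (.v (nat_lit 3))))), ((.mul (.mul (.v (nat_lit 7)) (.v (nat_lit 1))) (.inv (.v (nat_lit 7)))), (.v (nat_lit 2))), ((.mul (.mul (.v (nat_lit 7)) (.v (nat_lit 2))) (.inv (.v (nat_lit 7)))), (.inv (.v (nat_lit 1)))), ((.mul (.mul (.v (nat_lit 7)) (.v (nat_lit 3))) (.inv (.v (nat_lit 7)))), (.v (nat_lit 4))), ((.mul (.mul (.v (nat_lit 7)) (.v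 (nat_lit 4))) (.inv (.v (nat_lit 7)))), (.inv (.v (nat_lit 3)))), ((.mul (.v (nat_lit 6)) (.v (nat_lit 0))), (.mul (.v (nat_lit 0)) (.v (nat_lit 6)))), ((.mul (.mul (.v (nat_lit 6)) (.v (nat_lit 1))) (.inv (.v (nat_lit 6)))), (.inv (.v (nat_lit 1)))), ((.mul (.mul (.v (nat_lit 6)) (.v (nat_lit 2))) (.inv (.v (nat_lit 6)))), (.inv (.v (nat_lit 2)))), ((.mul (.mul (.v (nat_lit 6)) (.v (nat_lit 3))) (.inv (.v (nat_lit 6)))), (.inv (.v (nat_lit 3)))), ((.mul (.mul (.v (nat_lit 6)) (.v (nat_lit 4))) (.inv (.v (nat_lit 6)))), (.inv (.v (nat_lit 4))))] from h)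
    (AllEq.append (show AllEq [z, w, a, c, f, d, t, m, s] [((.mul (.v (nat_lit 8)) (.v (nat_lit 8))), .one)] from ⟨ss, trivial⟩)
    (AllEq.append (show AllEq [z, w, a, c, f, d, t, m, s] [((.mul (.mul (.v (nat_lit 8)) (.v (nat_lit 5))) (.inv (.v (nat_lit 8)))), (.inv (.v (nat_lit 5))))] from ⟨sd, trivial⟩)
    (show AllEq [z, w, a, c, f, d, t, m, s] [((.mul (.mul (.v (nat_lit 8)) (.v (nat_lit 7))) (.inv (.v (nat_lit 8)))), (.inv (.mul (.mul (.inv (.v (nat_lit 5))) (.v (nat_lit 7))) (.v (nat_lit 5)))))] from ⟨e, trivial⟩))))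
    [(.v (nat_lit 0)), (.inv (.v (nat_lit 0))), (.v (nat_lit 1)), (.inv (.v (nat_lit 1))), (.v (nat_lit 2)), (.inv (.v (nat_lit 2))), (.v (nat_lit 3)), (.inv (.v (nat_lit 3))), (.v (nat_lit 4)), (.inv (.v (nat_lit 4))), (.v (nat_lit 5)), (.inv (.v (nat_lit 5))), (.v (nat_lit 6)), (.v (nat_lit 7)), (.inv (.v (nat_lit 7))), (.v (nat_lit 8))] (by decide +kernel)
noncomputable def mcj2_0_S0 : List ℕ := [nat_lit 0x23000008004020, nat_lit 0x2300000c000014004022, nat_lit 0x27000018006020, nat_lit 0x2700000f00000100000600001c00c024, nat_lit 0xd00000a000020008022]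
noncomputable def mcj2_0_S : List (List ℕ) := [mcj2_0_S0]
noncomputable def mcj2_0_defs : List ℕ := [(nat_lit 0xb0000300a0000000f0000500e0000400a0000300b0000200d0000100f0000000b0000000000000)]
noncomputable def mcj2_0_recs : List ℕ := [(nat_lit 0xa00007000060f00006000090b00005000090f00004000080a0000100008)]
noncomputable def mcj2_0_T : List (List ℕ × ℕ) := [([11,13,10,15,11,13,10,15], (nat_lit 0xc00001400001c00001200001f00001700000f000007))]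
noncomputable def mcj2_0_D : H26.Dag := ⟨[1,0,3,2,5,4,7,6,9,8,11,10,12,14,13,15], [[0,1],
  [1,0],
  [2,3],
  [3,2],
  [4,5],
  [5,4],
  [6,7],
  [7,6],
  [8,9],
  [9,8],
  [10,11],
  [11,10],
  [12,12],
  [13,14],
  [14,13],
  [15,15],
  [10,10,10],
  [10,15,10,15],
  [10,13,11,15,13,15]], [], mcj2_0_defs, mcj2_0_recs⟩
theorem mcj2_0_c : mcj2_0_D.check mcj2_0_S mcj2_0_T = true := by decide +kernel
theorem mcj2_0 {G : Type*} [Group G] {g : ℕ → G} (hR : Rels g mcj2_r_R) {H : Subgroup G}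
    (hH : ∀ k ∈ [], g k ∈ H) : evA g [11,13,10,15,11,13,10,15] ∈ H :=
  mem_dag (K := 16) (J := [0,1,2,3,4,5,6,7,8,9,10,11,12,13,14,15,31,50,51]) (D := mcj2_0_D) (by decide +kernel) mcj2_0_c (by decide +kernel) hR hH
theorem mcj2 {G : Type*} [Group G] {z w a c f d t m s : G}
    (h : CC z w a c f d m t)
    (ss : s * s = 1)
    (sd : s * d * s⁻¹ = d⁻¹)
    (e : s * m * s⁻¹ = (d⁻¹ * m * d)⁻¹) :
    s * (d * m * d⁻¹) * s⁻¹ = (d * m * d⁻¹)⁻¹ :=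
  mul_inv_eq_one.1 ((evA_eq_tm ((InvI.cons h.2.2.2.2.2.2.2.2.2.2.2.2.2.2.2.2.1 (InvI.cons ss InvI.nil)) : InvI [z, w, a, c, f, d, t, m, s] [(nat_lit 6), (nat_lit 8)]) [(.v (nat_lit 0)), (.inv (.v (nat_lit 0))), (.v (nat_lit 1)), (.inv (.v (nat_lit 1))), (.v (nat_lit 2)), (.inv (.v (nat_lit 2))), (.v (nat_lit 3)), (.inv (.v (nat_lit 3))), (.v (nat_lit 4)), (.inv (.v (nat_lit 4))), (.v (nat_lit 5)), (.inv (.v (nat_lit 5))), (.v (nat_lit 6)), (.v (nat_lit 7)), (.inv (.v (nat_lit 7))), (.v (nat_lit 8))] [11,13,10,15,11,13,10,15] (.mul (.mul (.mul (.v (nat_lit 8)) (.mul (.mul (.v (nat_lit 5)) (.v (nat_lit 7))) (.inv (.v (nat_lit 5))))) (.inv (.v (nat_lit 8)))) (.inv (.inv (.mul (.mul (.v (nat_lit 5)) (.v (nat_lit 7))) (.inv (.v (nat_lit 5))))))) (by decide +kernel)).symm.trans (Subgroup.mem_bot.1 (mcj2_0 (mcj2_r h ss sd e) (H := ⊥) (List.forall_mem_nil _))))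
noncomputable def mcj0_r_R : List (List ℕ) := [[0,1],
  [1,0],
  [2,3],
  [3,2],
  [4,5],
  [5,4],
  [6,7],
  [7,6],
  [8,9],
  [9,8],
  [10,11],
  [11,10],
  [12,12],
  [13,14],
  [14,13],
  [15,15],
  [0,0,0],
  [2,2,2],
  [4,4,4],
  [6,6,6],
  [8,8,8],
  [1,3,0,2],
  [1,5,0,4],
  [1,7,0,6],
  [1,9,0,8],
  [5,3,4,2],
  [7,3,6,2],
  [9,5,8,4],
  [9,7,8,6],
  [1,9,3,8,2],
  [1,5,7,4,6],
  [10,10,10],
  [12,13,13],
  [10,13,10,13,10,13],
  [1,11,0,10],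
  [1,14,0,13],
  [12,11,12,10],
  [3,11,2,10],
  [7,11,6,10],
  [5,2,11,4,10],
  [9,6,11,8,10],
  [5,14,2,13],
  [2,14,4,13],
  [9,14,6,13],
  [6,14,8,13],
  [1,12,0,12],
  [2,12,2,12],
  [4,12,4,12],
  [6,12,6,12],
  [8,12,8,12],
  [0,15,0,15],
  [10,15,10,15],
  [12,15,12,15]]
theorem mcj0_r {G : Type*} [Group G] {z w a c f d t m s : G}
    (h : CC z w a c f d m t)
    (ss : s * s = 1)
    (sz : s * z * s⁻¹ = z⁻¹)
    (sd : s * d * s⁻¹ = d⁻¹)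
    (st : s * t = t * s) :
    Rels (nthG [z, z⁻¹, w, w⁻¹, a, a⁻¹, c, c⁻¹, f, f⁻¹, d, d⁻¹, t, m, m⁻¹, s]) mcj0_r_R :=
  rels_of_eqs ((InvI.cons h.2.2.2.2.2.2.2.2.2.2.2.2.2.2.2.2.1 (InvI.cons ss InvI.nil)) : InvI [z, w, a, c, f, d, t, m, s] [(nat_lit 6), (nat_lit 8)])
    (AllEq.append (show AllEq [z, w, a, c, f, d, t, m, s] [((.pw (.v (nat_lit 0)) (nat_lit 3)), .one), ((.pw (.v (nat_lit 1)) (nat_lit 3)), .one), ((.pw (.v (nat_lit 2)) (nat_lit 3)), .one), ((.pw (.v (nat_lit 3)) (nat_lit 3)), .one), ((.pw (.v (nat_lit 4)) (nat_lit 3)), .one), ((.mul (.v (nat_lit 1)) (.v (nat_lit 0))), (.mul (.v (nat_lit 0)) (.v (nat_lit 1)))), ((.mul (.v (nat_lit 2)) (.v (nat_lit 0))), (.mul (.v (nat_lit 0)) (.v (nat_lit 2)))), ((.mul (.v (nat_lit 3)) (.v (nat_lit 0))), (.mul (.v (nat_lit 0)) (.v (nat_lit 3)))), ((.mul (.v (nat_lit 4)) (.v (nat_lit 0))), (.mul (.v (nat_lit 0)) (.v (nat_lit 4)))), ((.mul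 (.v (nat_lit 1)) (.v (nat_lit 2))), (.mul (.v (nat_lit 2)) (.v (nat_lit 1)))), ((.mul (.v (nat_lit 1)) (.v (nat_lit 3))), (.mul (.v (nat_lit 3)) (.v (nat_lit 1)))), ((.mul (.v (nat_lit 2)) (.v (nat_lit 4))), (.mul (.v (nat_lit 4)) (.v (nat_lit 2)))), ((.mul (.v (nat_lit 3)) (.v (nat_lit 4))), (.mul (.v (nat_lit 4)) (.v (nat_lit 3)))), ((.mul (.mul (.mul (.v (nat_lit 1)) (.v (nat_lit 4))) (.inv (.v (nat_lit 1)))) (.inv (.v (nat_lit 4)))), (.v (nat_lit 0))), ((.mul (.mul (.mul (.v (nat_lit 3)) (.v (nat_lit 2))) (.inv (.v (nat_lit 3)))) (.inv (.v (nat_lit 2)))), (.v (nat_lit 0))), ((.pw (.v (nat_lit 5)) (nat_lit 3)), .one), ((.mul (.v (nat_lit 6)) (.v (nat_lit 6))), .one), ((.mul (.v (nat_lit 7)) (.v (nat_lit 7))), (.v (nat_lit 6))), ((.pw (.mul (.v (nat_lit 7)) (.v (nat_lit 5))) (nat_lit 3)), .one), ((.mul (.v (nat_lit 5)) (.v (nat_lit 0))), (.mul (.v (nat_lit 0)) (.v (nat_lit 5)))),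 ((.mul (.v (nat_lit 7)) (.v (nat_lit 0))), (.mul (.v (nat_lit 0)) (.v (nat_lit 7)))), ((.mul (.v (nat_lit 5)) (.v (nat_lit 6))), (.mul (.v (nat_lit 6)) (.v (nat_lit 5)))), ((.mul (.v (nat_lit 5)) (.v (nat_lit 1))), (.mul (.v (nat_lit 1)) (.v (nat_lit 5)))), ((.mul (.v (nat_lit 5)) (.v (nat_lit 3))), (.mul (.v (nat_lit 3)) (.v (nat_lit 5)))), ((.mul (.mul (.v (nat_lit 5)) (.v (nat_lit 2))) (.inv (.v (nat_lit 5)))), (.mul (.v (nat_lit 2)) (.inv (.v (nat_lit 1))))), ((.mul (.mul (.v (nat_lit 5)) (.v (nat_lit 4))) (.inv (.v (nat_lit 5)))), (.mul (.v (nat_lit 4)) (.inv (.v (nat_lit 3))))), ((.mul (.mul (.v (nat_lit 7)) (.v (nat_lit 1))) (.inv (.v (nat_lit 7)))), (.v (nat_lit 2))), ((.mul (.mul (.v (nat_lit 7)) (.v (nat_lit 2))) (.inv (.v (nat_lit 7)))), (.inv (.v (nat_lit 1)))), ((.mul (.mul (.v (nat_lit 7)) (.v (nat_lit 3))) (.inv (.v (nat_lit 7)))), (.v (nat_lit 4))), ((.mul (.mul (.v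 (nat_lit 7)) (.v (nat_lit 4))) (.inv (.v (nat_lit 7)))), (.inv (.v (nat_lit 3)))), ((.mul (.v (nat_lit 6)) (.v (nat_lit 0))), (.mul (.v (nat_lit 0)) (.v (nat_lit 6)))), ((.mul (.mul (.v (nat_lit 6)) (.v (nat_lit 1))) (.inv (.v (nat_lit 6)))), (.inv (.v (nat_lit 1)))), ((.mul (.mul (.v (nat_lit 6)) (.v (nat_lit 2))) (.inv (.v (nat_lit 6)))), (.inv (.v (nat_lit 2)))), ((.mul (.mul (.v (nat_lit 6)) (.v (nat_lit 3))) (.inv (.v (nat_lit 6)))), (.inv (.v (nat_lit 3)))), ((.mul (.mul (.v (nat_lit 6)) (.v (nat_lit 4))) (.inv (.v (nat_lit 6)))), (.inv (.v (nat_lit 4))))] from h)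
    (AllEq.append (show AllEq [z, w, a, c, f, d, t, m, s] [((.mul (.v (nat_lit 8)) (.v (nat_lit 8))), .one)] from ⟨ss, trivial⟩)
    (AllEq.append (show AllEq [z, w, a, c, f, d, t, m, s] [((.mul (.mul (.v (nat_lit 8)) (.v (nat_lit 0))) (.inv (.v (nat_lit 8)))), (.inv (.v (nat_lit 0))))] from ⟨sz, trivial⟩)
    (AllEq.append (show AllEq [z, w, a, c, f, d, t, m, s] [((.mul (.mul (.v (nat_lit 8)) (.v (nat_lit 5))) (.inv (.v (nat_lit 8)))), (.inv (.v (nat_lit 5))))] from ⟨sd, trivial⟩)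
    (show AllEq [z, w, a, c, f, d, t, m, s] [((.mul (.v (nat_lit 8)) (.v (nat_lit 6))), (.mul (.v (nat_lit 6)) (.v (nat_lit 8))))] from ⟨st, trivial⟩)))))
    [(.v (nat_lit 0)), (.inv (.v (nat_lit 0))), (.v (nat_lit 1)), (.inv (.v (nat_lit 1))), (.v (nat_lit 2)), (.inv (.v (nat_lit 2))), (.v (nat_lit 3)), (.inv (.v (nat_lit 3))), (.v (nat_lit 4)), (.inv (.v (nat_lit 4))), (.v (nat_lit 5)), (.inv (.v (nat_lit 5))), (.v (nat_lit 6)), (.v (nat_lit 7)), (.inv (.v (nat_lit 7))), (.v (nat_lit 8))] (by decide +kernel)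
noncomputable def mcj0_0_S0 : List ℕ := [nat_lit 0xf00000700000c006022, nat_lit 0x17000002000014006020, nat_lit 0x1f00000600001c008022]
noncomputable def mcj0_0_S : List (List ℕ) := [mcj0_0_S0]
noncomputable def mcj0_0_defs : List ℕ := [(nat_lit 0xf0000500f0000400e0000300e0000200f0000100f000000010000000000000)]
noncomputable def mcj0_0_recs : List ℕ := [(nat_lit 0x600007010000400005010000200003)]
noncomputable def mcj0_0_T : List (List ℕ × ℕ) := [([1,15,14,15,0,15,13,15], (nat_lit 0xc00001400001c00000900001f00001700000f000007))]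
noncomputable def mcj0_0_D : H26.Dag := ⟨[1,0,3,2,5,4,7,6,9,8,11,10,12,14,13,15], [[0,1],
  [1,0],
  [2,3],
  [3,2],
  [4,5],
  [5,4],
  [6,7],
  [7,6],
  [8,9],
  [9,8],
  [10,11],
  [11,10],
  [12,12],
  [13,14],
  [14,13],
  [15,15],
  [1,14,0,13],
  [0,15,0,15]], [], mcj0_0_defs, mcj0_0_recs⟩
theorem mcj0_0_c : mcj0_0_D.check mcj0_0_S mcj0_0_T = true := by decide +kernel
theorem mcj0_0 {G : Type*} [Group G] {g : ℕ → G} (hR : Rels g mcj0_r_R) {H : Subgroup G}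
    (hH : ∀ k ∈ [], g k ∈ H) : evA g [1,15,14,15,0,15,13,15] ∈ H :=
  mem_dag (K := 16) (J := [0,1,2,3,4,5,6,7,8,9,10,11,12,13,14,15,35,50]) (D := mcj0_0_D) (by decide +kernel) mcj0_0_c (by decide +kernel) hR hH
noncomputable def mcj0_1_S0 : List ℕ := [nat_lit 0xf00000700000c008022, nat_lit 0x13000001006020, nat_lit 0x1700000500a020, nat_lit 0x1f00000a00001c008022]
noncomputable def mcj0_1_S : List (List ℕ) := [mcj0_1_S0]
noncomputable def mcj0_1_defs : List ℕ := [(nat_lit 0xf0000500f0000400e0000300e0000200f0000100f0000000c0000000000000)]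
noncomputable def mcj0_1_recs : List ℕ := [(nat_lit 0xc00006000070c00004000050e00003000040c0000200003)]
noncomputable def mcj0_1_T : List (List ℕ × ℕ) := [([12,15,14,15,12,15,13,15], (nat_lit 0xc00001400001c00000d00001f00001700000f000007))]
noncomputable def mcj0_1_D : H26.Dag := ⟨[1,0,3,2,5,4,7,6,9,8,11,10,12,14,13,15], [[0,1],
  [1,0],
  [2,3],
  [3,2],
  [4,5],
  [5,4],
  [6,7],
  [7,6],
  [8,9],
  [9,8],
  [10,11],
  [11,10],
  [12,12],
  [13,14],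
  [14,13],
  [15,15],
  [12,13,13],
  [12,15,12,15]], [], mcj0_1_defs, mcj0_1_recs⟩
theorem mcj0_1_c : mcj0_1_D.check mcj0_1_S mcj0_1_T = true := by decide +kernel
theorem mcj0_1 {G : Type*} [Group G] {g : ℕ → G} (hR : Rels g mcj0_r_R) {H : Subgroup G}
    (hH : ∀ k ∈ [], g k ∈ H) : evA g [12,15,14,15,12,15,13,15] ∈ H :=
  mem_dag (K := 16) (J := [0,1,2,3,4,5,6,7,8,9,10,11,12,13,14,15,32,52]) (D := mcj0_1_D) (by decide +kernel) mcj0_1_c (by decide +kernel) hR hH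
noncomputable def mcj0_2_S0 : List ℕ := [nat_lit 0xf00000700000c008022, nat_lit 0x13000001006020]
noncomputable def mcj0_2_S : List (List ℕ) := [mcj0_2_S0]
noncomputable def mcj0_2_defs : List ℕ := [(nat_lit 0xe0000200f0000100f0000000c0000000000000)]
noncomputable def mcj0_2_recs : List ℕ := [(nat_lit 0xe00003000040c0000200003)]
noncomputable def mcj0_2_T : List (List ℕ × ℕ) := [([12,15,13,13,15], (nat_lit 0xc00001400000600000f000007))]
noncomputable def mcj0_2_D : H26.Dag := ⟨[1,0,3,2,5,4,7,6,9,8,11,10,12,14,13,15], [[0,1],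
  [1,0],
  [2,3],
  [3,2],
  [4,5],
  [5,4],
  [6,7],
  [7,6],
  [8,9],
  [9,8],
  [10,11],
  [11,10],
  [12,12],
  [13,14],
  [14,13],
  [15,15],
  [12,13,13],
  [12,15,12,15]], [], mcj0_2_defs, mcj0_2_recs⟩
theorem mcj0_2_c : mcj0_2_D.check mcj0_2_S mcj0_2_T = true := by decide +kernel
theorem mcj0_2 {G : Type*} [Group G] {g : ℕ → G} (hR : Rels g mcj0_r_R) {H : Subgroup G}
    (hH : ∀ k ∈ [], g k ∈ H) : evA g [12,15,13,13,15] ∈ H :=
  mem_dag (K := 16) (J := [0,1,2,3,4,5,6,7,8,9,10,11,12,13,14,15,32,52]) (D := mcj0_2_D) (by decide +kernel) mcj0_2_c (by decide +kernel) hR hH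
noncomputable def mcj0_3_S0 : List ℕ := [nat_lit 0xf00000700000c006022, nat_lit 0x2b00002300001b008022, nat_lit 0x2f00002700001f006022, nat_lit 0x6000013000001000018000009002020]
noncomputable def mcj0_3_S : List (List ℕ) := [mcj0_3_S0]
noncomputable def mcj0_3_defs : List ℕ := [(nat_lit 0xf0000900f0000800b0000700a0000600f0000500f0000400d0000300e0000200f0000100f0000000b0000000000000)]
noncomputable def mcj0_3_recs : List ℕ := [(nat_lit 0xe0000b0000a0b000050000b0a000040000a0b0000200003)]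
noncomputable def mcj0_3_T : List (List ℕ × ℕ) := [([11,15,13,15,11,15,13,15,11,15,13,15], (nat_lit 0xc00001400001c00002400002c00000e00002f00002700001f00001700000f000007))]
noncomputable def mcj0_3_D : H26.Dag := ⟨[1,0,3,2,5,4,7,6,9,8,11,10,12,14,13,15], [[0,1],
  [1,0],
  [2,3],
  [3,2],
  [4,5],
  [5,4],
  [6,7],
  [7,6],
  [8,9],
  [9,8],
  [10,11],
  [11,10],
  [12,12],
  [13,14],
  [14,13],
  [15,15],
  [10,13,10,13,10,13],
  [10,15,10,15]], [], mcj0_3_defs, mcj0_3_recs⟩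
theorem mcj0_3_c : mcj0_3_D.check mcj0_3_S mcj0_3_T = true := by decide +kernel
theorem mcj0_3 {G : Type*} [Group G] {g : ℕ → G} (hR : Rels g mcj0_r_R) {H : Subgroup G}
    (hH : ∀ k ∈ [], g k ∈ H) : evA g [11,15,13,15,11,15,13,15,11,15,13,15] ∈ H :=
  mem_dag (K := 16) (J := [0,1,2,3,4,5,6,7,8,9,10,11,12,13,14,15,33,51]) (D := mcj0_3_D) (by decide +kernel) mcj0_3_c (by decide +kernel) hR hH
theorem mcj0 {G : Type*} [Group G] {z w a c f d t m s : G}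
    (h : CC z w a c f d m t)
    (ss : s * s = 1)
    (sz : s * z * s⁻¹ = z⁻¹)
    (sd : s * d * s⁻¹ = d⁻¹)
    (st : s * t = t * s) :
    s * m * s⁻¹ * z = z * (s * m * s⁻¹) ∧ s * m * s⁻¹ * t = t * (s * m * s⁻¹) ∧ s * m * s⁻¹ * (s * m * s⁻¹) = t ∧ (s * m * s⁻¹ * d⁻¹) ^ 3 = 1 :=
  ⟨mul_inv_eq_one.1 ((evA_eq_tm ((InvI.cons h.2.2.2.2.2.2.2.2.2.2.2.2.2.2.2.2.1 (InvI.cons ss InvI.nil)) : InvI [z, w, a, c, f, d, t, m, s] [(nat_lit 6), (nat_lit 8)]) [(.v (nat_lit 0)), (.inv (.v (nat_lit 0))), (.v (nat_lit 1)), (.inv (.v (nat_lit 1))), (.v (nat_lit 2)), (.inv (.v (nat_lit 2))), (.v (nat_lit 3)), (.inv (.v (nat_lit 3))), (.v (nat_lit 4)), (.inv (.v (nat_lit 4))), (.v (nat_lit 5)), (.inv (.v (nat_lit 5))), (.v (nat_lit 6)), (.v (nat_lit 7)), (.inv (.v (nat_lit 7))), (.v (nat_lit 8))] [1,15,14,15,0,15,13,15] (.mul (.mul (.mul (.mul (.v (nat_lit 8)) (.v (nat_lit 7))) (.inv (.v (nat_lit 8))))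 (.v (nat_lit 0))) (.inv (.mul (.v (nat_lit 0)) (.mul (.mul (.v (nat_lit 8)) (.v (nat_lit 7))) (.inv (.v (nat_lit 8))))))) (by decide +kernel)).symm.trans (Subgroup.mem_bot.1 (mcj0_0 (mcj0_r h ss sz sd st) (H := ⊥) (List.forall_mem_nil _)))),
   mul_inv_eq_one.1 ((evA_eq_tm ((InvI.cons h.2.2.2.2.2.2.2.2.2.2.2.2.2.2.2.2.1 (InvI.cons ss InvI.nil)) : InvI [z, w, a, c, f, d, t, m, s] [(nat_lit 6), (nat_lit 8)]) [(.v (nat_lit 0)), (.inv (.v (nat_lit 0))), (.v (nat_lit 1)), (.inv (.v (nat_lit 1))), (.v (nat_lit 2)), (.inv (.v (nat_lit 2))), (.v (nat_lit 3)), (.inv (.v (nat_lit 3))), (.v (nat_lit 4)), (.inv (.v (nat_lit 4))), (.v (nat_lit 5)), (.inv (.v (nat_lit 5))), (.v (nat_lit 6)), (.v (nat_lit 7)), (.inv (.v (nat_lit 7))), (.v (nat_lit 8))] [12,15,14,15,12,15,13,15] (.mul (.mul (.mul (.mul (.v (nat_lit 8)) (.v (nat_lit 7))) (.inv (.v (nat_lit 8)))) (.v (nat_lit 6))) (.inv (.mul (.v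 (nat_lit 6)) (.mul (.mul (.v (nat_lit 8)) (.v (nat_lit 7))) (.inv (.v (nat_lit 8))))))) (by decide +kernel)).symm.trans (Subgroup.mem_bot.1 (mcj0_1 (mcj0_r h ss sz sd st) (H := ⊥) (List.forall_mem_nil _)))),
   mul_inv_eq_one.1 ((evA_eq_tm ((InvI.cons h.2.2.2.2.2.2.2.2.2.2.2.2.2.2.2.2.1 (InvI.cons ss InvI.nil)) : InvI [z, w, a, c, f, d, t, m, s] [(nat_lit 6), (nat_lit 8)]) [(.v (nat_lit 0)), (.inv (.v (nat_lit 0))), (.v (nat_lit 1)), (.inv (.v (nat_lit 1))), (.v (nat_lit 2)), (.inv (.v (nat_lit 2))), (.v (nat_lit 3)), (.inv (.v (nat_lit 3))), (.v (nat_lit 4)), (.inv (.v (nat_lit 4))), (.v (nat_lit 5)), (.inv (.v (nat_lit 5))), (.v (nat_lit 6)), (.v (nat_lit 7)), (.inv (.v (nat_lit 7))), (.v (nat_lit 8))] [12,15,13,13,15] (.mul (.mul (.mul (.mul (.v (nat_lit 8)) (.v (nat_lit 7))) (.inv (.v (nat_lit 8)))) (.mul (.mul (.v (nat_lit 8)) (.v (nat_lit 7))) (.inv (.v (nat_lit 8))))) (.inv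 (.v (nat_lit 6)))) (by decide +kernel)).symm.trans (Subgroup.mem_bot.1 (mcj0_2 (mcj0_r h ss sz sd st) (H := ⊥) (List.forall_mem_nil _)))),
   mul_inv_eq_one.1 ((evA_eq_tm ((InvI.cons h.2.2.2.2.2.2.2.2.2.2.2.2.2.2.2.2.1 (InvI.cons ss InvI.nil)) : InvI [z, w, a, c, f, d, t, m, s] [(nat_lit 6), (nat_lit 8)]) [(.v (nat_lit 0)), (.inv (.v (nat_lit 0))), (.v (nat_lit 1)), (.inv (.v (nat_lit 1))), (.v (nat_lit 2)), (.inv (.v (nat_lit 2))), (.v (nat_lit 3)), (.inv (.v (nat_lit 3))), (.v (nat_lit 4)), (.inv (.v (nat_lit 4))), (.v (nat_lit 5)), (.inv (.v (nat_lit 5))), (.v (nat_lit 6)), (.v (nat_lit 7)), (.inv (.v (nat_lit 7))), (.v (nat_lit 8))] [11,15,13,15,11,15,13,15,11,15,13,15] (.mul (.pw (.mul (.mul (.mul (.v (nat_lit 8)) (.v (nat_lit 7))) (.inv (.v (nat_lit 8)))) (.inv (.v (nat_lit 5)))) (nat_lit 3)) (.inv .one)) (by decide +kernel)).symm.trans (Subgroup.mem_bot.1 (mcj0_3 (mcj0_r h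 ss sz sd st) (H := ⊥) (List.forall_mem_nil _))))⟩
noncomputable def n0_r_R : List (List ℕ) := [[0,1],
  [1,0],
  [2,3],
  [3,2],
  [4,5],
  [5,4],
  [6,7],
  [7,6],
  [8,9],
  [9,8],
  [10,11],
  [11,10],
  [12,12],
  [13,14],
  [14,13],
  [15,16],
  [16,15],
  [0,0,0],
  [2,2,2],
  [4,4,4],
  [6,6,6],
  [8,8,8],
  [1,3,0,2],
  [1,5,0,4],
  [1,7,0,6],
  [1,9,0,8],
  [5,3,4,2],
  [7,3,6,2],
  [9,5,8,4],
  [9,7,8,6],
  [1,9,3,8,2],
  [1,5,7,4,6],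
  [10,10,10],
  [12,13,13],
  [10,13,10,13,10,13],
  [1,11,0,10],
  [1,14,0,13],
  [12,11,12,10],
  [3,11,2,10],
  [7,11,6,10],
  [5,2,11,4,10],
  [9,6,11,8,10],
  [5,14,2,13],
  [2,14,4,13],
  [9,14,6,13],
  [6,14,8,13],
  [1,12,0,12],
  [2,12,2,12],
  [4,12,4,12],
  [6,12,6,12],
  [8,12,8,12],
  [3,1,16,0,15],
  [3,16,2,15]]
theorem n0_r {G : Type*} [Group G] {z w a c f d t m g : G}
    (h : CC z w a c f d m t)
    (e1 : g * z * g⁻¹ = w * z)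
    (e2 : g * w = w * g) :
    Rels (nthG [z, z⁻¹, w, w⁻¹, a, a⁻¹, c, c⁻¹, f, f⁻¹, d, d⁻¹, t, m, m⁻¹, g, g⁻¹]) n0_r_R :=
  rels_of_eqs ((InvI.cons h.2.2.2.2.2.2.2.2.2.2.2.2.2.2.2.2.1 InvI.nil) : InvI [z, w, a, c, f, d, t, m, g] [(nat_lit 6)])
    (AllEq.append (show AllEq [z, w, a, c, f, d, t, m, g] [((.pw (.v (nat_lit 0)) (nat_lit 3)), .one), ((.pw (.v (nat_lit 1)) (nat_lit 3)), .one), ((.pw (.v (nat_lit 2)) (nat_lit 3)), .one), ((.pw (.v (nat_lit 3)) (nat_lit 3)), .one), ((.pw (.v (nat_lit 4)) (nat_lit 3)), .one), ((.mul (.v (nat_lit 1)) (.v (nat_lit 0))), (.mul (.v (nat_lit 0)) (.v (nat_lit 1)))), ((.mul (.v (nat_lit 2)) (.v (nat_lit 0))), (.mul (.v (nat_lit 0)) (.v (nat_lit 2)))), ((.mul (.v (nat_lit 3)) (.v (nat_lit 0))), (.mul (.v (nat_lit 0)) (.v (nat_lit 3)))), ((.mul (.v (nat_lit 4)) (.v (nat_lit 0))), (.mul (.v (nat_lit 0)) (.v (nat_lit 4)))), ((.mul (.v (nat_lit 1)) (.v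 (nat_lit 2))), (.mul (.v (nat_lit 2)) (.v (nat_lit 1)))), ((.mul (.v (nat_lit 1)) (.v (nat_lit 3))), (.mul (.v (nat_lit 3)) (.v (nat_lit 1)))), ((.mul (.v (nat_lit 2)) (.v (nat_lit 4))), (.mul (.v (nat_lit 4)) (.v (nat_lit 2)))), ((.mul (.v (nat_lit 3)) (.v (nat_lit 4))), (.mul (.v (nat_lit 4)) (.v (nat_lit 3)))), ((.mul (.mul (.mul (.v (nat_lit 1)) (.v (nat_lit 4))) (.inv (.v (nat_lit 1)))) (.inv (.v (nat_lit 4)))), (.v (nat_lit 0))), ((.mul (.mul (.mul (.v (nat_lit 3)) (.v (nat_lit 2))) (.inv (.v (nat_lit 3)))) (.inv (.v (nat_lit 2)))), (.v (nat_lit 0))), ((.pw (.v (nat_lit 5)) (nat_lit 3)), .one), ((.mul (.v (nat_lit 6)) (.v (nat_lit 6))), .one), ((.mul (.v (nat_lit 7)) (.v (nat_lit 7))), (.v (nat_lit 6))), ((.pw (.mul (.v (nat_lit 7)) (.v (nat_lit 5))) (nat_lit 3)), .one), ((.mul (.v (nat_lit 5)) (.v (nat_lit 0))), (.mul (.v (nat_lit 0)) (.v (nat_lit 5)))), ((.mul (.v (nat_lit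 7)) (.v (nat_lit 0))), (.mul (.v (nat_lit 0)) (.v (nat_lit 7)))), ((.mul (.v (nat_lit 5)) (.v (nat_lit 6))), (.mul (.v (nat_lit 6)) (.v (nat_lit 5)))), ((.mul (.v (nat_lit 5)) (.v (nat_lit 1))), (.mul (.v (nat_lit 1)) (.v (nat_lit 5)))), ((.mul (.v (nat_lit 5)) (.v (nat_lit 3))), (.mul (.v (nat_lit 3)) (.v (nat_lit 5)))), ((.mul (.mul (.v (nat_lit 5)) (.v (nat_lit 2))) (.inv (.v (nat_lit 5)))), (.mul (.v (nat_lit 2)) (.inv (.v (nat_lit 1))))), ((.mul (.mul (.v (nat_lit 5)) (.v (nat_lit 4))) (.inv (.v (nat_lit 5)))), (.mul (.v (nat_lit 4)) (.inv (.v (nat_lit 3))))), ((.mul (.mul (.v (nat_lit 7)) (.v (nat_lit 1))) (.inv (.v (nat_lit 7)))), (.v (nat_lit 2))), ((.mul (.mul (.v (nat_lit 7)) (.v (nat_lit 2))) (.inv (.v (nat_lit 7)))), (.inv (.v (nat_lit 1)))), ((.mul (.mul (.v (nat_lit 7)) (.v (nat_lit 3))) (.inv (.v (nat_lit 7)))), (.v (nat_lit 4))), ((.mul (.mul (.v (nat_lit 7)) (.v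 (nat_lit 4))) (.inv (.v (nat_lit 7)))), (.inv (.v (nat_lit 3)))), ((.mul (.v (nat_lit 6)) (.v (nat_lit 0))), (.mul (.v (nat_lit 0)) (.v (nat_lit 6)))), ((.mul (.mul (.v (nat_lit 6)) (.v (nat_lit 1))) (.inv (.v (nat_lit 6)))), (.inv (.v (nat_lit 1)))), ((.mul (.mul (.v (nat_lit 6)) (.v (nat_lit 2))) (.inv (.v (nat_lit 6)))), (.inv (.v (nat_lit 2)))), ((.mul (.mul (.v (nat_lit 6)) (.v (nat_lit 3))) (.inv (.v (nat_lit 6)))), (.inv (.v (nat_lit 3)))), ((.mul (.mul (.v (nat_lit 6)) (.v (nat_lit 4))) (.inv (.v (nat_lit 6)))), (.inv (.v (nat_lit 4))))] from h)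
    (AllEq.append (show AllEq [z, w, a, c, f, d, t, m, g] [((.mul (.mul (.v (nat_lit 8)) (.v (nat_lit 0))) (.inv (.v (nat_lit 8)))), (.mul (.v (nat_lit 1)) (.v (nat_lit 0))))] from ⟨e1, trivial⟩)
    (show AllEq [z, w, a, c, f, d, t, m, g] [((.mul (.v (nat_lit 8)) (.v (nat_lit 1))), (.mul (.v (nat_lit 1)) (.v (nat_lit 8))))] from ⟨e2, trivial⟩)))
    [(.v (nat_lit 0)), (.inv (.v (nat_lit 0))), (.v (nat_lit 1)), (.inv (.v (nat_lit 1))), (.v (nat_lit 2)), (.inv (.v (nat_lit 2))), (.v (nat_lit 3)), (.inv (.v (nat_lit 3))), (.v (nat_lit 4)), (.inv (.v (nat_lit 4))), (.v (nat_lit 5)), (.inv (.v (nat_lit 5))), (.v (nat_lit 6)), (.v (nat_lit 7)), (.inv (.v (nat_lit 7))), (.v (nat_lit 8)), (.inv (.v (nat_lit 8)))] (by decide +kernel)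
noncomputable def n0_0_S0 : List ℕ := [nat_lit 0x2f00000b00002c00a024, nat_lit 0xf00000700002c00000100a026, nat_lit 0x33000030000005006022, nat_lit 0x1700000900003300001400c02a, nat_lit 0x1b00000d000020006024, nat_lit 0x27000011000024008028]
noncomputable def n0_0_S : List (List ℕ) := [n0_0_S0]
noncomputable def n0_0_defs : List ℕ := [(nat_lit 0x300002001000020010000000c0000700c000060090000500900004010000030100000200900001009000000030000000000000)]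
noncomputable def n0_0_recs : List ℕ := [(nat_lit 0x80000901000070000600000040000501000030000c020000b00003080000a0000b)]
noncomputable def n0_0_T : List (List ℕ × ℕ) := [([3,9,16,9,12,0,12,8,15,8], (nat_lit 0xc00001400001c00002400001500002700001f00001700000f000007))]
noncomputable def n0_0_D : H26.Dag := ⟨[1,0,3,2,5,4,7,6,9,8,11,10,12,14,13,16,15], [[0,1],
  [1,0],
  [2,3],
  [3,2],
  [4,5],
  [5,4],
  [6,7],
  [7,6],
  [8,9],
  [9,8],
  [10,11],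
  [11,10],
  [12,12],
  [13,14],
  [14,13],
  [15,16],
  [16,15],
  [1,3,0,2],
  [1,9,0,8],
  [1,9,3,8,2],
  [1,12,0,12],
  [3,1,16,0,15]], [], n0_0_defs, n0_0_recs⟩
theorem n0_0_c : n0_0_D.check n0_0_S n0_0_T = true := by decide +kernel
theorem n0_0 {G : Type*} [Group G] {g : ℕ → G} (hR : Rels g n0_r_R) {H : Subgroup G}
    (hH : ∀ k ∈ [], g k ∈ H) : evA g [3,9,16,9,12,0,12,8,15,8] ∈ H :=
  mem_dag (K := 17) (J := [0,1,2,3,4,5,6,7,8,9,10,11,12,13,14,15,16,22,25,30,46,51]) (D := n0_0_D) (by decide +kernel) n0_0_c (by decide +kernel) hR hH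
noncomputable def n0_1_S0 : List ℕ := [nat_lit 0xf00000700000c008024, nat_lit 0x2f00000200002c008022, nat_lit 0x3300001300002c00000500a02a, nat_lit 0x1700003000000900602c, nat_lit 0x3700003400000d000022, nat_lit 0x1f00001100003700001c008026, nat_lit 0x2300001500002800e028]
noncomputable def n0_1_S : List (List ℕ) := [n0_1_S0]
noncomputable def n0_1_defs : List ℕ := [(nat_lit 0x20000400100004003000030030000200c0000700c000060090000500900004010000030100000200900001009000000010000000000000)]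
noncomputable def n0_1_recs : List ℕ := [(nat_lit 0x3000090000803000060000701000050000d030000c000050f0000b0000c000000a0000b000000200003)]
noncomputable def n0_1_T : List (List ℕ × ℕ) := [([1,9,16,9,12,2,12,8,15,8], (nat_lit 0xc00001400001c00002400001a00002700001f00001700000f000007))]
noncomputable def n0_1_D : H26.Dag := ⟨[1,0,3,2,5,4,7,6,9,8,11,10,12,14,13,16,15], [[0,1],
  [1,0],
  [2,3],
  [3,2],
  [4,5],
  [5,4],
  [6,7],
  [7,6],
  [8,9],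
  [9,8],
  [10,11],
  [11,10],
  [12,12],
  [13,14],
  [14,13],
  [15,16],
  [16,15],
  [1,3,0,2],
  [1,9,0,8],
  [1,9,3,8,2],
  [2,12,2,12],
  [3,1,16,0,15],
  [3,16,2,15]], [], n0_1_defs, n0_1_recs⟩
theorem n0_1_c : n0_1_D.check n0_1_S n0_1_T = true := by decide +kernel
theorem n0_1 {G : Type*} [Group G] {g : ℕ → G} (hR : Rels g n0_r_R) {H : Subgroup G}
    (hH : ∀ k ∈ [], g k ∈ H) : evA g [1,9,16,9,12,2,12,8,15,8] ∈ H :=
  mem_dag (K := 17) (J := [0,1,2,3,4,5,6,7,8,9,10,11,12,13,14,15,16,22,25,30,47,51,52]) (D := n0_1_D) (by decide +kernel) n0_1_c (by decide +kernel) hR hH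
theorem n0 {G : Type*} [Group G] {z w a c f d t m g : G}
    (h : CC z w a c f d m t)
    (e1 : g * z * g⁻¹ = w * z)
    (e2 : g * w = w * g) :
    f * g * f * t * z * (f * g * f * t)⁻¹ = w ∧ f * g * f * t * w * (f * g * f * t)⁻¹ = z :=
  ⟨mul_inv_eq_one.1 ((evA_eq_tm ((InvI.cons h.2.2.2.2.2.2.2.2.2.2.2.2.2.2.2.2.1 InvI.nil) : InvI [z, w, a, c, f, d, t, m, g] [(nat_lit 6)]) [(.v (nat_lit 0)), (.inv (.v (nat_lit 0))), (.v (nat_lit 1)), (.inv (.v (nat_lit 1))), (.v (nat_lit 2)), (.inv (.v (nat_lit 2))), (.v (nat_lit 3)), (.inv (.v (nat_lit 3))), (.v (nat_lit 4)), (.inv (.v (nat_lit 4))), (.v (nat_lit 5)), (.inv (.v (nat_lit 5))), (.v (nat_lit 6)), (.v (nat_lit 7)), (.inv (.v (nat_lit 7))), (.v (nat_lit 8)), (.inv (.v (nat_lit 8)))] [3,9,16,9,12,0,12,8,15,8] (.mul (.mul (.mul (.mul (.mul (.mul (.v (nat_lit 4)) (.v (nat_lit 8))) (.v (nat_lit 4))) (.v (nat_lit 6))) (.v (nat_lit 0))) (.inv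 (.mul (.mul (.mul (.v (nat_lit 4)) (.v (nat_lit 8))) (.v (nat_lit 4))) (.v (nat_lit 6))))) (.inv (.v (nat_lit 1)))) (by decide +kernel)).symm.trans (Subgroup.mem_bot.1 (n0_0 (n0_r h e1 e2) (H := ⊥) (List.forall_mem_nil _)))),
   mul_inv_eq_one.1 ((evA_eq_tm ((InvI.cons h.2.2.2.2.2.2.2.2.2.2.2.2.2.2.2.2.1 InvI.nil) : InvI [z, w, a, c, f, d, t, m, g] [(nat_lit 6)]) [(.v (nat_lit 0)), (.inv (.v (nat_lit 0))), (.v (nat_lit 1)), (.inv (.v (nat_lit 1))), (.v (nat_lit 2)), (.inv (.v (nat_lit 2))), (.v (nat_lit 3)), (.inv (.v (nat_lit 3))), (.v (nat_lit 4)), (.inv (.v (nat_lit 4))), (.v (nat_lit 5)), (.inv (.v (nat_lit 5))), (.v (nat_lit 6)), (.v (nat_lit 7)), (.inv (.v (nat_lit 7))), (.v (nat_lit 8)), (.inv (.v (nat_lit 8)))] [1,9,16,9,12,2,12,8,15,8] (.mul (.mul (.mul (.mul (.mul (.mul (.v (nat_lit 4)) (.v (nat_lit 8))) (.v (nat_lit 4))) (.v (nat_lit 6))) (.v (nat_lit 1))) (.inv (.mul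 (.mul (.mul (.v (nat_lit 4)) (.v (nat_lit 8))) (.v (nat_lit 4))) (.v (nat_lit 6))))) (.inv (.v (nat_lit 0)))) (by decide +kernel)).symm.trans (Subgroup.mem_bot.1 (n0_1 (n0_r h e1 e2) (H := ⊥) (List.forall_mem_nil _))))⟩
noncomputable def n1a_r_R : List (List ℕ) := [[0,1],
  [1,0],
  [2,3],
  [3,2],
  [4,5],
  [5,4],
  [3,5,0,4],
  [1,5,2,4]]
theorem n1a_r {G : Type*} [Group G] {z w n : G}
    (e1 : n * z * n⁻¹ = w)
    (e2 : n * w * n⁻¹ = z) :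
    Rels (nthG [z, z⁻¹, w, w⁻¹, n, n⁻¹]) n1a_r_R :=
  rels_of_eqs (InvI.nil : InvI [z, w, n] [])
    (AllEq.append (show AllEq [z, w, n] [((.mul (.mul (.v (nat_lit 2)) (.v (nat_lit 0))) (.inv (.v (nat_lit 2)))), (.v (nat_lit 1)))] from ⟨e1, trivial⟩)
    (show AllEq [z, w, n] [((.mul (.mul (.v (nat_lit 2)) (.v (nat_lit 1))) (.inv (.v (nat_lit 2)))), (.v (nat_lit 0)))] from ⟨e2, trivial⟩))
    [(.v (nat_lit 0)), (.inv (.v (nat_lit 0))), (.v (nat_lit 1)), (.inv (.v (nat_lit 1))), (.v (nat_lit 2)), (.inv (.v (nat_lit 2)))] (by decide +kernel)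
noncomputable def n1a_0_S0 : List ℕ := [nat_lit 0xf00000700000c00800e, nat_lit 0x1700000200001400800c]
noncomputable def n1a_0_S : List (List ℕ) := [n1a_0_S0]
noncomputable def n1a_0_defs : List ℕ := [(nat_lit 0x5000030050000200500001005000000010000000000000)]
noncomputable def n1a_0_recs : List ℕ := [(nat_lit 0x400005020000200003)]
noncomputable def n1a_0_T : List (List ℕ × ℕ) := [([1,5,5,0,4,4], (nat_lit 0xc00001400000500001700000f000007))]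
noncomputable def n1a_0_D : H26.Dag := ⟨[1,0,3,2,5,4], [[0,1],
  [1,0],
  [2,3],
  [3,2],
  [4,5],
  [5,4],
  [3,5,0,4],
  [1,5,2,4]], [], n1a_0_defs, n1a_0_recs⟩
theorem n1a_0_c : n1a_0_D.check n1a_0_S n1a_0_T = true := by decide +kernel
theorem n1a_0 {G : Type*} [Group G] {g : ℕ → G} (hR : Rels g n1a_r_R) {H : Subgroup G}
    (hH : ∀ k ∈ [], g k ∈ H) : evA g [1,5,5,0,4,4] ∈ H :=
  mem_dag (K := 6) (J := [0,1,2,3,4,5,6,7]) (D := n1a_0_D) (by decide +kernel) n1a_0_c (by decide +kernel) hR hH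
noncomputable def n1a_1_S0 : List ℕ := [nat_lit 0xf00000700000c00800c, nat_lit 0x1700000200001400800e]
noncomputable def n1a_1_S : List (List ℕ) := [n1a_1_S0]
noncomputable def n1a_1_defs : List ℕ := [(nat_lit 0x5000030050000200500001005000000030000000000000)]
noncomputable def n1a_1_recs : List ℕ := [(nat_lit 0x20000400005000000200003)]
noncomputable def n1a_1_T : List (List ℕ × ℕ) := [([3,5,5,2,4,4], (nat_lit 0xc00001400000500001700000f000007))]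
noncomputable def n1a_1_D : H26.Dag := ⟨[1,0,3,2,5,4], [[0,1],
  [1,0],
  [2,3],
  [3,2],
  [4,5],
  [5,4],
  [3,5,0,4],
  [1,5,2,4]], [], n1a_1_defs, n1a_1_recs⟩
theorem n1a_1_c : n1a_1_D.check n1a_1_S n1a_1_T = true := by decide +kernel
theorem n1a_1 {G : Type*} [Group G] {g : ℕ → G} (hR : Rels g n1a_r_R) {H : Subgroup G}
    (hH : ∀ k ∈ [], g k ∈ H) : evA g [3,5,5,2,4,4] ∈ H :=
  mem_dag (K := 6) (J := [0,1,2,3,4,5,6,7]) (D := n1a_1_D) (by decide +kernel) n1a_1_c (by decide +kernel) hR hH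
noncomputable def n1a_2_S0 : List ℕ := [nat_lit 0xf00000700000c00800c, nat_lit 0x1700000200001400800e, nat_lit 0x1f00000600001c00800c]
noncomputable def n1a_2_S : List (List ℕ) := [n1a_2_S0]
noncomputable def n1a_2_defs : List ℕ := [(nat_lit 0x50000500500004005000030050000200500001005000000030000000000000)]
noncomputable def n1a_2_recs : List ℕ := [(nat_lit 0x600007020000400005000000200003)]
noncomputable def n1a_2_T : List (List ℕ × ℕ) := [([3,5,5,5,0,4,4,4], (nat_lit 0xc00001400001c00000900001f00001700000f000007))]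
noncomputable def n1a_2_D : H26.Dag := ⟨[1,0,3,2,5,4], [[0,1],
  [1,0],
  [2,3],
  [3,2],
  [4,5],
  [5,4],
  [3,5,0,4],
  [1,5,2,4]], [], n1a_2_defs, n1a_2_recs⟩
theorem n1a_2_c : n1a_2_D.check n1a_2_S n1a_2_T = true := by decide +kernel
theorem n1a_2 {G : Type*} [Group G] {g : ℕ → G} (hR : Rels g n1a_r_R) {H : Subgroup G}
    (hH : ∀ k ∈ [], g k ∈ H) : evA g [3,5,5,5,0,4,4,4] ∈ H :=
  mem_dag (K := 6) (J := [0,1,2,3,4,5,6,7]) (D := n1a_2_D) (by decide +kernel) n1a_2_c (by decide +kernel) hR hH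
noncomputable def n1a_3_S0 : List ℕ := [nat_lit 0xf00000700000c00800e, nat_lit 0x1700000200001400800c, nat_lit 0x1f00000600001c00800e]
noncomputable def n1a_3_S : List (List ℕ) := [n1a_3_S0]
noncomputable def n1a_3_defs : List ℕ := [(nat_lit 0x50000500500004005000030050000200500001005000000010000000000000)]
noncomputable def n1a_3_recs : List ℕ := [(nat_lit 0x20000600007000000400005020000200003)]
noncomputable def n1a_3_T : List (List ℕ × ℕ) := [([1,5,5,5,2,4,4,4], (nat_lit 0xc00001400001c00000900001f00001700000f000007))]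
noncomputable def n1a_3_D : H26.Dag := ⟨[1,0,3,2,5,4], [[0,1],
  [1,0],
  [2,3],
  [3,2],
  [4,5],
  [5,4],
  [3,5,0,4],
  [1,5,2,4]], [], n1a_3_defs, n1a_3_recs⟩
theorem n1a_3_c : n1a_3_D.check n1a_3_S n1a_3_T = true := by decide +kernel
theorem n1a_3 {G : Type*} [Group G] {g : ℕ → G} (hR : Rels g n1a_r_R) {H : Subgroup G}
    (hH : ∀ k ∈ [], g k ∈ H) : evA g [1,5,5,5,2,4,4,4] ∈ H :=
  mem_dag (K := 6) (J := [0,1,2,3,4,5,6,7]) (D := n1a_3_D) (by decide +kernel) n1a_3_c (by decide +kernel) hR hH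
theorem n1a {G : Type*} [Group G] {z w n : G}
    (e1 : n * z * n⁻¹ = w)
    (e2 : n * w * n⁻¹ = z) :
    n * n * z = z * (n * n) ∧ n * n * w = w * (n * n) ∧ n ^ 3 * z * (n ^ 3)⁻¹ = w ∧ n ^ 3 * w * (n ^ 3)⁻¹ = z :=
  ⟨mul_inv_eq_one.1 ((evA_eq_tm (InvI.nil : InvI [z, w, n] []) [(.v (nat_lit 0)), (.inv (.v (nat_lit 0))), (.v (nat_lit 1)), (.inv (.v (nat_lit 1))), (.v (nat_lit 2)), (.inv (.v (nat_lit 2)))] [1,5,5,0,4,4] (.mul (.mul (.mul (.v (nat_lit 2)) (.v (nat_lit 2))) (.v (nat_lit 0))) (.inv (.mul (.v (nat_lit 0)) (.mul (.v (nat_lit 2)) (.v (nat_lit 2)))))) (by decide +kernel)).symm.trans (Subgroup.mem_bot.1 (n1a_0 (n1a_r e1 e2) (H := ⊥) (List.forall_mem_nil _)))),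
   mul_inv_eq_one.1 ((evA_eq_tm (InvI.nil : InvI [z, w, n] []) [(.v (nat_lit 0)), (.inv (.v (nat_lit 0))), (.v (nat_lit 1)), (.inv (.v (nat_lit 1))), (.v (nat_lit 2)), (.inv (.v (nat_lit 2)))] [3,5,5,2,4,4] (.mul (.mul (.mul (.v (nat_lit 2)) (.v (nat_lit 2))) (.v (nat_lit 1))) (.inv (.mul (.v (nat_lit 1)) (.mul (.v (nat_lit 2)) (.v (nat_lit 2)))))) (by decide +kernel)).symm.trans (Subgroup.mem_bot.1 (n1a_1 (n1a_r e1 e2) (H := ⊥) (List.forall_mem_nil _)))),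
   mul_inv_eq_one.1 ((evA_eq_tm (InvI.nil : InvI [z, w, n] []) [(.v (nat_lit 0)), (.inv (.v (nat_lit 0))), (.v (nat_lit 1)), (.inv (.v (nat_lit 1))), (.v (nat_lit 2)), (.inv (.v (nat_lit 2)))] [3,5,5,5,0,4,4,4] (.mul (.mul (.mul (.pw (.v (nat_lit 2)) (nat_lit 3)) (.v (nat_lit 0))) (.inv (.pw (.v (nat_lit 2)) (nat_lit 3)))) (.inv (.v (nat_lit 1)))) (by decide +kernel)).symm.trans (Subgroup.mem_bot.1 (n1a_2 (n1a_r e1 e2) (H := ⊥) (List.forall_mem_nil _)))),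
   mul_inv_eq_one.1 ((evA_eq_tm (InvI.nil : InvI [z, w, n] []) [(.v (nat_lit 0)), (.inv (.v (nat_lit 0))), (.v (nat_lit 1)), (.inv (.v (nat_lit 1))), (.v (nat_lit 2)), (.inv (.v (nat_lit 2)))] [1,5,5,5,2,4,4,4] (.mul (.mul (.mul (.pw (.v (nat_lit 2)) (nat_lit 3)) (.v (nat_lit 1))) (.inv (.pw (.v (nat_lit 2)) (nat_lit 3)))) (.inv (.v (nat_lit 0)))) (by decide +kernel)).symm.trans (Subgroup.mem_bot.1 (n1a_3 (n1a_r e1 e2) (H := ⊥) (List.forall_mem_nil _))))⟩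
noncomputable def n2a_r_R : List (List ℕ) := [[0,1],
  [1,0],
  [2,3],
  [3,2],
  [4,4],
  [5,5],
  [1,5,0,5],
  [2,5,2,5],
  [3,4,0,4]]
theorem n2a_r {G : Type*} [Group G] {z w n t : G}
    (tt : t * t = 1)
    (nn : n * n = 1)
    (tz : t * z = z * t)
    (tw : t * w * t⁻¹ = w⁻¹)
    (e1 : n * z * n⁻¹ = w) :
    Rels (nthG [z, z⁻¹, w, w⁻¹, n, t]) n2a_r_R :=
  rels_of_eqs ((InvI.cons nn (InvI.cons tt InvI.nil)) : InvI [z, w, n, t] [(nat_lit 2), (nat_lit 3)])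
    (AllEq.append (show AllEq [z, w, n, t] [((.mul (.v (nat_lit 3)) (.v (nat_lit 3))), .one)] from ⟨tt, trivial⟩)
    (AllEq.append (show AllEq [z, w, n, t] [((.mul (.v (nat_lit 2)) (.v (nat_lit 2))), .one)] from ⟨nn, trivial⟩)
    (AllEq.append (show AllEq [z, w, n, t] [((.mul (.v (nat_lit 3)) (.v (nat_lit 0))), (.mul (.v (nat_lit 0)) (.v (nat_lit 3))))] from ⟨tz, trivial⟩)
    (AllEq.append (show AllEq [z, w, n, t] [((.mul (.mul (.v (nat_lit 3)) (.v (nat_lit 1))) (.inv (.v (nat_lit 3)))), (.inv (.v (nat_lit 1))))] from ⟨tw, trivial⟩)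
    (show AllEq [z, w, n, t] [((.mul (.mul (.v (nat_lit 2)) (.v (nat_lit 0))) (.inv (.v (nat_lit 2)))), (.v (nat_lit 1)))] from ⟨e1, trivial⟩)))))
    [(.v (nat_lit 0)), (.inv (.v (nat_lit 0))), (.v (nat_lit 1)), (.inv (.v (nat_lit 1))), (.v (nat_lit 2)), (.v (nat_lit 3))] (by decide +kernel)
noncomputable def n2a_0_S0 : List ℕ := [nat_lit 0xf00000700000c00800c, nat_lit 0x1700000200001400e010, nat_lit 0x1f00000600001c00600e, nat_lit 0x2700000a000024006010, nat_lit 0x2f00000e00002c00000c, nat_lit 0x37000012000034000010, nat_lit 0x3f00001600003c00800e, nat_lit 0x4700001a000044008010]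
noncomputable def n2a_0_S : List (List ℕ) := [n2a_0_S0]
noncomputable def n2a_0_defs : List ℕ := [(nat_lit 0x40000f0040000e0050000d0050000c0040000b0040000a005000090050000800400007004000060050000500500004004000030040000200500001005000000010000000000000)]
noncomputable def n2a_0_recs : List ℕ := [(nat_lit 0x1000011020000e0000f030000c0000d010000a0000b010000800009030000600007020000400005000000200003)]
noncomputable def n2a_0_T : List (List ℕ × ℕ) := [([1,5,4,5,4,5,4,5,4,0,4,5,4,5,4,5,4,5], (nat_lit 0xc00001400001c00002400002c00003400003c00004400001d00004700003f00003700002f00002700001f00001700000f000007))]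
noncomputable def n2a_0_D : H26.Dag := ⟨[1,0,3,2,4,5], [[0,1],
  [1,0],
  [2,3],
  [3,2],
  [4,4],
  [5,5],
  [1,5,0,5],
  [2,5,2,5],
  [3,4,0,4]], [], n2a_0_defs, n2a_0_recs⟩
theorem n2a_0_c : n2a_0_D.check n2a_0_S n2a_0_T = true := by decide +kernel
theorem n2a_0 {G : Type*} [Group G] {g : ℕ → G} (hR : Rels g n2a_r_R) {H : Subgroup G}
    (hH : ∀ k ∈ [], g k ∈ H) : evA g [1,5,4,5,4,5,4,5,4,0,4,5,4,5,4,5,4,5] ∈ H :=
  mem_dag (K := 6) (J := [0,1,2,3,4,5,6,7,8]) (D := n2a_0_D) (by decide +kernel) n2a_0_c (by decide +kernel) hR hH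
noncomputable def n2a_1_S0 : List ℕ := [nat_lit 0xf00000700000c00600e, nat_lit 0x17000002000014006010, nat_lit 0x1f00000600001c00000c, nat_lit 0x2700000a000024000010, nat_lit 0x2f00000e00002c00800e, nat_lit 0x37000012000034008010, nat_lit 0x3f00001600003c00800c, nat_lit 0x4700001a00004400e010]
noncomputable def n2a_1_S : List (List ℕ) := [n2a_1_S0]
noncomputable def n2a_1_defs : List ℕ := [(nat_lit 0x40000f0040000e0050000d0050000c0040000b0040000a005000090050000800400007004000060050000500500004004000030040000200500001005000000030000000000000)]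
noncomputable def n2a_1_recs : List ℕ := [(nat_lit 0x20001000011000000e0000f000000c0000d020000a0000b030000800009010000600007010000400005030000200003)]
noncomputable def n2a_1_T : List (List ℕ × ℕ) := [([3,5,4,5,4,5,4,5,4,2,4,5,4,5,4,5,4,5], (nat_lit 0xc00001400001c00002400002c00003400003c00004400001d00004700003f00003700002f00002700001f00001700000f000007))]
noncomputable def n2a_1_D : H26.Dag := ⟨[1,0,3,2,4,5], [[0,1],
  [1,0],
  [2,3],
  [3,2],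
  [4,4],
  [5,5],
  [1,5,0,5],
  [2,5,2,5],
  [3,4,0,4]], [], n2a_1_defs, n2a_1_recs⟩
theorem n2a_1_c : n2a_1_D.check n2a_1_S n2a_1_T = true := by decide +kernel
theorem n2a_1 {G : Type*} [Group G] {g : ℕ → G} (hR : Rels g n2a_r_R) {H : Subgroup G}
    (hH : ∀ k ∈ [], g k ∈ H) : evA g [3,5,4,5,4,5,4,5,4,2,4,5,4,5,4,5,4,5] ∈ H :=
  mem_dag (K := 6) (J := [0,1,2,3,4,5,6,7,8]) (D := n2a_1_D) (by decide +kernel) n2a_1_c (by decide +kernel) hR hH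
theorem n2a {G : Type*} [Group G] {z w n t : G}
    (tt : t * t = 1)
    (nn : n * n = 1)
    (tz : t * z = z * t)
    (tw : t * w * t⁻¹ = w⁻¹)
    (e1 : n * z * n⁻¹ = w) :
    (t * n) ^ 4 * z = z * (t * n) ^ 4 ∧ (t * n) ^ 4 * w = w * (t * n) ^ 4 :=
  ⟨mul_inv_eq_one.1 ((evA_eq_tm ((InvI.cons nn (InvI.cons tt InvI.nil)) : InvI [z, w, n, t] [(nat_lit 2), (nat_lit 3)]) [(.v (nat_lit 0)), (.inv (.v (nat_lit 0))), (.v (nat_lit 1)), (.inv (.v (nat_lit 1))), (.v (nat_lit 2)), (.v (nat_lit 3))] [1,5,4,5,4,5,4,5,4,0,4,5,4,5,4,5,4,5] (.mul (.mul (.pw (.mul (.v (nat_lit 3)) (.v (nat_lit 2))) (nat_lit 4)) (.v (nat_lit 0))) (.inv (.mul (.v (nat_lit 0)) (.pw (.mul (.v (nat_lit 3)) (.v (nat_lit 2))) (nat_lit 4))))) (by decide +kernel)).symm.trans (Subgroup.mem_bot.1 (n2a_0 (n2a_r tt nn tz tw e1) (H := ⊥) (List.forall_mem_nil _)))),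
   mul_inv_eq_one.1 ((evA_eq_tm ((InvI.cons nn (InvI.cons tt InvI.nil)) : InvI [z, w, n, t] [(nat_lit 2), (nat_lit 3)]) [(.v (nat_lit 0)), (.inv (.v (nat_lit 0))), (.v (nat_lit 1)), (.inv (.v (nat_lit 1))), (.v (nat_lit 2)), (.v (nat_lit 3))] [3,5,4,5,4,5,4,5,4,2,4,5,4,5,4,5,4,5] (.mul (.mul (.pw (.mul (.v (nat_lit 3)) (.v (nat_lit 2))) (nat_lit 4)) (.v (nat_lit 1))) (.inv (.mul (.v (nat_lit 1)) (.pw (.mul (.v (nat_lit 3)) (.v (nat_lit 2))) (nat_lit 4))))) (by decide +kernel)).symm.trans (Subgroup.mem_bot.1 (n2a_1 (n2a_r tt nn tz tw e1) (H := ⊥) (List.forall_mem_nil _))))⟩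
noncomputable def n2b_r_R : List (List ℕ) := [[0,1],
  [1,0],
  [2,3],
  [3,2],
  [4,4],
  [5,5],
  [1,5,0,5],
  [2,5,2,5],
  [3,4,0,4],
  [4,5,4,5,4,5,4,5,4,5,4,5,4,5,4,5,4,5,4,5,4,5,4,5]]
theorem n2b_r {G : Type*} [Group G] {z w n t : G}
    (tt : t * t = 1)
    (nn : n * n = 1)
    (tz : t * z = z * t)
    (tw : t * w * t⁻¹ = w⁻¹)
    (e1 : n * z * n⁻¹ = w)
    (e3 : ((t * n) ^ 4) ^ 3 = 1) :
    Rels (nthG [z, z⁻¹, w, w⁻¹, n, t]) n2b_r_R :=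
  rels_of_eqs ((InvI.cons nn (InvI.cons tt InvI.nil)) : InvI [z, w, n, t] [(nat_lit 2), (nat_lit 3)])
    (AllEq.append (show AllEq [z, w, n, t] [((.mul (.v (nat_lit 3)) (.v (nat_lit 3))), .one)] from ⟨tt, trivial⟩)
    (AllEq.append (show AllEq [z, w, n, t] [((.mul (.v (nat_lit 2)) (.v (nat_lit 2))), .one)] from ⟨nn, trivial⟩)
    (AllEq.append (show AllEq [z, w, n, t] [((.mul (.v (nat_lit 3)) (.v (nat_lit 0))), (.mul (.v (nat_lit 0)) (.v (nat_lit 3))))] from ⟨tz, trivial⟩)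
    (AllEq.append (show AllEq [z, w, n, t] [((.mul (.mul (.v (nat_lit 3)) (.v (nat_lit 1))) (.inv (.v (nat_lit 3)))), (.inv (.v (nat_lit 1))))] from ⟨tw, trivial⟩)
    (AllEq.append (show AllEq [z, w, n, t] [((.mul (.mul (.v (nat_lit 2)) (.v (nat_lit 0))) (.inv (.v (nat_lit 2)))), (.v (nat_lit 1)))] from ⟨e1, trivial⟩)
    (show AllEq [z, w, n, t] [((.pw (.pw (.mul (.v (nat_lit 3)) (.v (nat_lit 2))) (nat_lit 4)) (nat_lit 3)), .one)] from ⟨e3, trivial⟩))))))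
    [(.v (nat_lit 0)), (.inv (.v (nat_lit 0))), (.v (nat_lit 1)), (.inv (.v (nat_lit 1))), (.v (nat_lit 2)), (.v (nat_lit 3))] (by decide +kernel)
noncomputable def n2b_0_S : List (List ℕ) := []
noncomputable def n2b_0_defs : List ℕ := [(nat_lit 0x0)]
noncomputable def n2b_0_recs : List ℕ := []
noncomputable def n2b_0_T : List (List ℕ × ℕ) := [([], (nat_lit 0x0))]
noncomputable def n2b_0_D : H26.Dag := ⟨[1,0,3,2,4,5], [[0,1],
  [1,0],
  [2,3],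
  [3,2],
  [4,4],
  [5,5]], [], n2b_0_defs, n2b_0_recs⟩
theorem n2b_0_c : n2b_0_D.check n2b_0_S n2b_0_T = true := by decide +kernel
theorem n2b_0 {G : Type*} [Group G] {g : ℕ → G} (hR : Rels g n2b_r_R) {H : Subgroup G}
    (hH : ∀ k ∈ [], g k ∈ H) : evA g [] ∈ H :=
  mem_dag (K := 6) (J := [0,1,2,3,4,5]) (D := n2b_0_D) (by decide +kernel) n2b_0_c (by decide +kernel) hR hH
noncomputable def n2b_1_S0 : List ℕ := [nat_lit 0xf00000700000c008010, nat_lit 0x1700000200001400800c, nat_lit 0x1f00000600001c00e010, nat_lit 0x2700000a00002400600e, nat_lit 0x2f00000e00002c006010, nat_lit 0x3700001200003400000c, nat_lit 0x3f00001600003c000010, nat_lit 0x4700001a00004400800e, nat_lit 0x4f00001e00004c008010, nat_lit 0x5700002200005400800c, nat_lit 0x5f00002600005c00e010, nat_lit 0x6700002a00006400600e, nat_lit 0x6f00002e00006c006010, nat_lit 0x7700003200007400000c, nat_lit 0x7f00003600007c000010,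 nat_lit 0x8700003a00008400800e, nat_lit 0x8f00003e00008c008010]
noncomputable def n2b_1_S : List (List ℕ) := [n2b_1_S0]
noncomputable def n2b_1_defs : List ℕ := [(nat_lit 0x400021004000200050001f0050001e0040001d0040001c0050001b0050001a004000190040001800500017005000160040001500400014005000130050001200400011004000100050000f0050000e0040000d0040000c0050000b0050000a004000090040000800500007005000060040000500400004005000030050000200400001004000000030000000000000)]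
noncomputable def n2b_1_recs : List ℕ := [(nat_lit 0x2200023020002000021030001e0001f010001c0001d010001a0001b030001800019020001600017000001400015000001200013020001000011030000e0000f010000c0000d010000a0000b030000800009020000600007000000400005000000200003)]
noncomputable def n2b_1_T : List (List ℕ × ℕ) := [([3,4,5,4,5,4,5,4,5,4,5,4,5,4,5,4,5,4,0,4,5,4,5,4,5,4,5,4,5,4,5,4,5,4,5,4], (nat_lit 0xc00001400001c00002400002c00003400003c00004400004c00005400005c00006400006c00007400007c00008400008c00004100008f00008700007f00007700006f00006700005f00005700004f00004700003f00003700002f00002700001f00001700000f000007))]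
noncomputable def n2b_1_D : H26.Dag := ⟨[1,0,3,2,4,5], [[0,1],
  [1,0],
  [2,3],
  [3,2],
  [4,4],
  [5,5],
  [1,5,0,5],
  [2,5,2,5],
  [3,4,0,4]], [], n2b_1_defs, n2b_1_recs⟩
theorem n2b_1_c : n2b_1_D.check n2b_1_S n2b_1_T = true := by decide +kernel
theorem n2b_1 {G : Type*} [Group G] {g : ℕ → G} (hR : Rels g n2b_r_R) {H : Subgroup G}
    (hH : ∀ k ∈ [], g k ∈ H) : evA g [3,4,5,4,5,4,5,4,5,4,5,4,5,4,5,4,5,4,0,4,5,4,5,4,5,4,5,4,5,4,5,4,5,4,5,4] ∈ H :=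
  mem_dag (K := 6) (J := [0,1,2,3,4,5,6,7,8]) (D := n2b_1_D) (by decide +kernel) n2b_1_c (by decide +kernel) hR hH
noncomputable def n2b_2_S0 : List ℕ := [nat_lit 0x5f00005700004f00004700003f00003700002f00002700001f00001700000f00000700000c00001400001c00002400002c00003400003c00004400004c00005400005c00800c]
noncomputable def n2b_2_S : List (List ℕ) := [n2b_2_S0]
noncomputable def n2b_2_defs : List ℕ := [(nat_lit 0x50001500500014004000130040001200500011005000100040000f0040000e0050000d0050000c0040000b0040000a005000090050000800400007004000060050000500500004004000030040000200500001005000000040000000000000)]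
noncomputable def n2b_2_recs : List ℕ := [(nat_lit 0x40001600017)]
noncomputable def n2b_2_T : List (List ℕ × ℕ) := [([4,5,4,5,4,5,4,5,4,5,4,5,4,5,4,5,4,5,4,5,4,5,4,5,4,5,4,5,4,5,4,5,4,5,4,5,4,5,4,5,4,5,4,5,4,5,4,5,4,5,4,5,4,5,4,5,4,5,4,5,4,5,4,5,4,5,4,5,4,5,4,5], (nat_lit 0xc00001400001c00002400002c00003400003c00004400004c00005400005c00000100005f00005700004f00004700003f00003700002f00002700001f00001700000f00000700000c00001400001c00002400002c00003400003c00004400004c00005400005c00000100005f00005700004f00004700003f00003700002f00002700001f00001700000f00000700000c00001400001c00002400002c00003400003c00004400004c00005400005c00000100005f00005700004f00004700003f00003700002f00002700001f00001700000f000007))]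
noncomputable def n2b_2_D : H26.Dag := ⟨[1,0,3,2,4,5], [[0,1],
  [1,0],
  [2,3],
  [3,2],
  [4,4],
  [5,5],
  [4,5,4,5,4,5,4,5,4,5,4,5,4,5,4,5,4,5,4,5,4,5,4,5]], [], n2b_2_defs, n2b_2_recs⟩
theorem n2b_2_c : n2b_2_D.check n2b_2_S n2b_2_T = true := by decide +kernel
theorem n2b_2 {G : Type*} [Group G] {g : ℕ → G} (hR : Rels g n2b_r_R) {H : Subgroup G}
    (hH : ∀ k ∈ [], g k ∈ H) : evA g [4,5,4,5,4,5,4,5,4,5,4,5,4,5,4,5,4,5,4,5,4,5,4,5,4,5,4,5,4,5,4,5,4,5,4,5,4,5,4,5,4,5,4,5,4,5,4,5,4,5,4,5,4,5,4,5,4,5,4,5,4,5,4,5,4,5,4,5,4,5,4,5] ∈ H :=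
  mem_dag (K := 6) (J := [0,1,2,3,4,5,9]) (D := n2b_2_D) (by decide +kernel) n2b_2_c (by decide +kernel) hR hH
theorem n2b {G : Type*} [Group G] {z w n t : G}
    (tt : t * t = 1)
    (nn : n * n = 1)
    (tz : t * z = z * t)
    (tw : t * w * t⁻¹ = w⁻¹)
    (e1 : n * z * n⁻¹ = w)
    (e3 : ((t * n) ^ 4) ^ 3 = 1) :
    t * (t * n) ^ 9 * (t * (t * n) ^ 9) = 1 ∧ t * (t * n) ^ 9 * z * (t * (t * n) ^ 9)⁻¹ = w ∧ (t * (t * (t * n) ^ 9)) ^ 2 * (t * (t * (t * n) ^ 9)) ^ 2 = 1 :=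
  ⟨mul_inv_eq_one.1 ((evA_eq_tm ((InvI.cons nn (InvI.cons tt InvI.nil)) : InvI [z, w, n, t] [(nat_lit 2), (nat_lit 3)]) [(.v (nat_lit 0)), (.inv (.v (nat_lit 0))), (.v (nat_lit 1)), (.inv (.v (nat_lit 1))), (.v (nat_lit 2)), (.v (nat_lit 3))] [] (.mul (.mul (.mul (.v (nat_lit 3)) (.pw (.mul (.v (nat_lit 3)) (.v (nat_lit 2))) (nat_lit 9))) (.mul (.v (nat_lit 3)) (.pw (.mul (.v (nat_lit 3)) (.v (nat_lit 2))) (nat_lit 9)))) (.inv .one)) (by decide +kernel)).symm.trans (Subgroup.mem_bot.1 (n2b_0 (n2b_r tt nn tz tw e1 e3) (H := ⊥) (List.forall_mem_nil _)))),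
   mul_inv_eq_one.1 ((evA_eq_tm ((InvI.cons nn (InvI.cons tt InvI.nil)) : InvI [z, w, n, t] [(nat_lit 2), (nat_lit 3)]) [(.v (nat_lit 0)), (.inv (.v (nat_lit 0))), (.v (nat_lit 1)), (.inv (.v (nat_lit 1))), (.v (nat_lit 2)), (.v (nat_lit 3))] [3,4,5,4,5,4,5,4,5,4,5,4,5,4,5,4,5,4,0,4,5,4,5,4,5,4,5,4,5,4,5,4,5,4,5,4] (.mul (.mul (.mul (.mul (.v (nat_lit 3)) (.pw (.mul (.v (nat_lit 3)) (.v (nat_lit 2))) (nat_lit 9))) (.v (nat_lit 0))) (.inv (.mul (.v (nat_lit 3)) (.pw (.mul (.v (nat_lit 3)) (.v (nat_lit 2))) (nat_lit 9))))) (.inv (.v (nat_lit 1)))) (by decide +kernel)).symm.trans (Subgroup.mem_bot.1 (n2b_1 (n2b_r tt nn tz tw e1 e3) (H := ⊥) (List.forall_mem_nil _)))),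
   mul_inv_eq_one.1 ((evA_eq_tm ((InvI.cons nn (InvI.cons tt InvI.nil)) : InvI [z, w, n, t] [(nat_lit 2), (nat_lit 3)]) [(.v (nat_lit 0)), (.inv (.v (nat_lit 0))), (.v (nat_lit 1)), (.inv (.v (nat_lit 1))), (.v (nat_lit 2)), (.v (nat_lit 3))] [4,5,4,5,4,5,4,5,4,5,4,5,4,5,4,5,4,5,4,5,4,5,4,5,4,5,4,5,4,5,4,5,4,5,4,5,4,5,4,5,4,5,4,5,4,5,4,5,4,5,4,5,4,5,4,5,4,5,4,5,4,5,4,5,4,5,4,5,4,5,4,5] (.mul (.mul (.pw (.mul (.v (nat_lit 3)) (.mul (.v (nat_lit 3)) (.pw (.mul (.v (nat_lit 3)) (.v (nat_lit 2))) (nat_lit 9)))) (nat_lit 2)) (.pw (.mul (.v (nat_lit 3)) (.mul (.v (nat_lit 3)) (.pw (.mul (.v (nat_lit 3)) (.v (nat_lit 2))) (nat_lit 9)))) (nat_lit 2))) (.inv .one)) (by decide +kernel)).symm.trans (Subgroup.mem_bot.1 (n2b_2 (n2b_r tt nn tz tw e1 e3) (H := ⊥) (List.forall_mem_nil _))))⟩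
noncomputable def s0_r_R : List (List ℕ) := [[0,1],
  [1,0],
  [2,3],
  [3,2],
  [4,4],
  [5,5],
  [6,6],
  [1,5,0,5],
  [2,5,2,5],
  [3,4,0,4],
  [6,4,5,4,5]]
theorem s0_r {G : Type*} [Group G] {z w n t s : G}
    (tt : t * t = 1)
    (nn : n * n = 1)
    (tz : t * z = z * t)
    (tw : t * w * t⁻¹ = w⁻¹)
    (e1 : n * z * n⁻¹ = w)
    (ss : s * s = 1)
    (e : (t * n) ^ 2 = s) :
    Rels (nthG [z, z⁻¹, w, w⁻¹, n, t, s]) s0_r_R :=
  rels_of_eqs ((InvI.cons nn (InvI.cons tt (InvI.cons ss InvI.nil))) : InvI [z, w, n, t, s] [(nat_lit 2), (nat_lit 3), (nat_lit 4)])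
    (AllEq.append (show AllEq [z, w, n, t, s] [((.mul (.v (nat_lit 3)) (.v (nat_lit 3))), .one)] from ⟨tt, trivial⟩)
    (AllEq.append (show AllEq [z, w, n, t, s] [((.mul (.v (nat_lit 2)) (.v (nat_lit 2))), .one)] from ⟨nn, trivial⟩)
    (AllEq.append (show AllEq [z, w, n, t, s] [((.mul (.v (nat_lit 3)) (.v (nat_lit 0))), (.mul (.v (nat_lit 0)) (.v (nat_lit 3))))] from ⟨tz, trivial⟩)
    (AllEq.append (show AllEq [z, w, n, t, s] [((.mul (.mul (.v (nat_lit 3)) (.v (nat_lit 1))) (.inv (.v (nat_lit 3)))), (.inv (.v (nat_lit 1))))] from ⟨tw, trivial⟩)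
    (AllEq.append (show AllEq [z, w, n, t, s] [((.mul (.mul (.v (nat_lit 2)) (.v (nat_lit 0))) (.inv (.v (nat_lit 2)))), (.v (nat_lit 1)))] from ⟨e1, trivial⟩)
    (AllEq.append (show AllEq [z, w, n, t, s] [((.mul (.v (nat_lit 4)) (.v (nat_lit 4))), .one)] from ⟨ss, trivial⟩)
    (show AllEq [z, w, n, t, s] [((.pw (.mul (.v (nat_lit 3)) (.v (nat_lit 2))) (nat_lit 2)), (.v (nat_lit 4)))] from ⟨e, trivial⟩)))))))
    [(.v (nat_lit 0)), (.inv (.v (nat_lit 0))), (.v (nat_lit 1)), (.inv (.v (nat_lit 1))), (.v (nat_lit 2)), (.v (nat_lit 3)), (.v (nat_lit 4))] (by decide +kernel)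
noncomputable def s0_0_S0 : List ℕ := [nat_lit 0x17000007000014000012, nat_lit 0x2b00001300000c00002000c014, nat_lit 0x2f00000200002c008010, nat_lit 0x2f00001700001000002800c014, nat_lit 0xd00000a000006008012, nat_lit 0x1b00002000001100002700400e, nat_lit 0x2300001500001b000002, nat_lit 0x19000023000002]
noncomputable def s0_0_S : List (List ℕ) := [s0_0_S0]
noncomputable def s0_0_defs : List ℕ := [(nat_lit 0x5000050050000400500003000000030050000200100002004000010040000000600001006000000000000000000000)]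
noncomputable def s0_0_recs : List ℕ := [(nat_lit 0x10000300002ff0000200008ff000030000600000070000904000090000b020000a0000b04000070000a030000400005)]
noncomputable def s0_0_T : List (List ℕ × ℕ) := [([0,6,0,6], (nat_lit 0xc00001e00000f000007))]
noncomputable def s0_0_D : H26.Dag := ⟨[1,0,3,2,4,5,6], [[0,1],
  [1,0],
  [2,3],
  [3,2],
  [4,4],
  [5,5],
  [6,6],
  [1,5,0,5],
  [2,5,2,5],
  [3,4,0,4],
  [6,4,5,4,5]], [], s0_0_defs, s0_0_recs⟩
theorem s0_0_c : s0_0_D.check s0_0_S s0_0_T = true := by decide +kernel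
theorem s0_0 {G : Type*} [Group G] {g : ℕ → G} (hR : Rels g s0_r_R) {H : Subgroup G}
    (hH : ∀ k ∈ [], g k ∈ H) : evA g [0,6,0,6] ∈ H :=
  mem_dag (K := 7) (J := [0,1,2,3,4,5,6,7,8,9,10]) (D := s0_0_D) (by decide +kernel) s0_0_c (by decide +kernel) hR hH
noncomputable def s0_1_S0 : List ℕ := [nat_lit 0x17000007000014006012, nat_lit 0x2b00001300000c00002000c014, nat_lit 0x2f00000200002c00000e, nat_lit 0x2f00001700001000002800c014, nat_lit 0xd00000a000006000012, nat_lit 0x1b000020000011000027002010, nat_lit 0x2300001500001b000006, nat_lit 0x19000023000006]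
noncomputable def s0_1_S : List (List ℕ) := [s0_1_S0]
noncomputable def s0_1_defs : List ℕ := [(nat_lit 0x5000050050000400500003002000030050000200300002004000010040000000600001006000000020000000000000)]
noncomputable def s0_1_recs : List ℕ := [(nat_lit 0x30000300002ff0000200008ff000030000603000070000904000090000b010000a0000b04000070000a010000400005)]
noncomputable def s0_1_T : List (List ℕ × ℕ) := [([2,6,2,6], (nat_lit 0xc00001e00000f000007))]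
noncomputable def s0_1_D : H26.Dag := ⟨[1,0,3,2,4,5,6], [[0,1],
  [1,0],
  [2,3],
  [3,2],
  [4,4],
  [5,5],
  [6,6],
  [1,5,0,5],
  [2,5,2,5],
  [3,4,0,4],
  [6,4,5,4,5]], [], s0_1_defs, s0_1_recs⟩
theorem s0_1_c : s0_1_D.check s0_1_S s0_1_T = true := by decide +kernel
theorem s0_1 {G : Type*} [Group G] {g : ℕ → G} (hR : Rels g s0_r_R) {H : Subgroup G}
    (hH : ∀ k ∈ [], g k ∈ H) : evA g [2,6,2,6] ∈ H :=
  mem_dag (K := 7) (J := [0,1,2,3,4,5,6,7,8,9,10]) (D := s0_1_D) (by decide +kernel) s0_1_c (by decide +kernel) hR hH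
noncomputable def s0_2_S0 : List ℕ := [nat_lit 0x1700000b00000800001400800e, nat_lit 0xf00001400000100001700200e]
noncomputable def s0_2_S : List (List ℕ) := [s0_2_S0]
noncomputable def s0_2_defs : List ℕ := [(nat_lit 0x4000020040000100600001006000000050000000000000)]
noncomputable def s0_2_recs : List ℕ := [(nat_lit 0x50000200003050000400005)]
noncomputable def s0_2_T : List (List ℕ × ℕ) := [([5,6,5,6], (nat_lit 0xc00000500000f000007))]
noncomputable def s0_2_D : H26.Dag := ⟨[1,0,3,2,4,5,6], [[0,1],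
  [1,0],
  [2,3],
  [3,2],
  [4,4],
  [5,5],
  [6,6],
  [6,4,5,4,5]], [], s0_2_defs, s0_2_recs⟩
theorem s0_2_c : s0_2_D.check s0_2_S s0_2_T = true := by decide +kernel
theorem s0_2 {G : Type*} [Group G] {g : ℕ → G} (hR : Rels g s0_r_R) {H : Subgroup G}
    (hH : ∀ k ∈ [], g k ∈ H) : evA g [5,6,5,6] ∈ H :=
  mem_dag (K := 7) (J := [0,1,2,3,4,5,6,10]) (D := s0_2_D) (by decide +kernel) s0_2_c (by decide +kernel) hR hH
noncomputable def s0_3_S0 : List ℕ := [nat_lit 0xf00000700000c00e00e]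
noncomputable def s0_3_S : List (List ℕ) := [s0_3_S0]
noncomputable def s0_3_defs : List ℕ := [(nat_lit 0x400001004000000010000000000000)]
noncomputable def s0_3_recs : List ℕ := [(nat_lit 0x20000200003)]
noncomputable def s0_3_T : List (List ℕ × ℕ) := [([1,4,2,4], (nat_lit 0xc00000100000f000007))]
noncomputable def s0_3_D : H26.Dag := ⟨[1,0,3,2,4,5,6], [[0,1],
  [1,0],
  [2,3],
  [3,2],
  [4,4],
  [5,5],
  [6,6],
  [3,4,0,4]], [], s0_3_defs, s0_3_recs⟩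
theorem s0_3_c : s0_3_D.check s0_3_S s0_3_T = true := by decide +kernel
theorem s0_3 {G : Type*} [Group G] {g : ℕ → G} (hR : Rels g s0_r_R) {H : Subgroup G}
    (hH : ∀ k ∈ [], g k ∈ H) : evA g [1,4,2,4] ∈ H :=
  mem_dag (K := 7) (J := [0,1,2,3,4,5,6,9]) (D := s0_3_D) (by decide +kernel) s0_3_c (by decide +kernel) hR hH
noncomputable def s0_4_S0 : List ℕ := [nat_lit 0x1b00000b00000800001400600e, nat_lit 0x1700001c00000200001300001001200e, nat_lit 0x5000017000008]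
noncomputable def s0_4_S : List (List ℕ) := [s0_4_S0]
noncomputable def s0_4_defs : List ℕ := [(nat_lit 0x500002004000020050000100600001006000000040000000000000)]
noncomputable def s0_4_recs : List ℕ := [(nat_lit 0x40000200003ff0000300005040000400006)]
noncomputable def s0_4_T : List (List ℕ × ℕ) := [([4,6,4,6], (nat_lit 0xc00000900000f000007))]
noncomputable def s0_4_D : H26.Dag := ⟨[1,0,3,2,4,5,6], [[0,1],
  [1,0],
  [2,3],
  [3,2],
  [4,4],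
  [5,5],
  [6,6],
  [6,4,5,4,5]], [], s0_4_defs, s0_4_recs⟩
theorem s0_4_c : s0_4_D.check s0_4_S s0_4_T = true := by decide +kernel
theorem s0_4 {G : Type*} [Group G] {g : ℕ → G} (hR : Rels g s0_r_R) {H : Subgroup G}
    (hH : ∀ k ∈ [], g k ∈ H) : evA g [4,6,4,6] ∈ H :=
  mem_dag (K := 7) (J := [0,1,2,3,4,5,6,10]) (D := s0_4_D) (by decide +kernel) s0_4_c (by decide +kernel) hR hH
noncomputable def s0_5_S0 : List ℕ := [nat_lit 0x1300000b00000800001000e00e]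
noncomputable def s0_5_S : List (List ℕ) := [s0_5_S0]
noncomputable def s0_5_defs : List ℕ := [(nat_lit 0x50000200600001004000000050000000000000)]
noncomputable def s0_5_recs : List ℕ := [(nat_lit 0x40000300004)]
noncomputable def s0_5_T : List (List ℕ × ℕ) := [([5,6,4,5,4], (nat_lit 0xc00001400000200000f000007))]
noncomputable def s0_5_D : H26.Dag := ⟨[1,0,3,2,4,5,6], [[0,1],
  [1,0],
  [2,3],
  [3,2],
  [4,4],
  [5,5],
  [6,6],
  [6,4,5,4,5]], [], s0_5_defs, s0_5_recs⟩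
theorem s0_5_c : s0_5_D.check s0_5_S s0_5_T = true := by decide +kernel
theorem s0_5 {G : Type*} [Group G] {g : ℕ → G} (hR : Rels g s0_r_R) {H : Subgroup G}
    (hH : ∀ k ∈ [], g k ∈ H) : evA g [5,6,4,5,4] ∈ H :=
  mem_dag (K := 7) (J := [0,1,2,3,4,5,6,10]) (D := s0_5_D) (by decide +kernel) s0_5_c (by decide +kernel) hR hH
theorem s0 {G : Type*} [Group G] {z w n t s : G}
    (tt : t * t = 1)
    (nn : n * n = 1)
    (tz : t * z = z * t)
    (tw : t * w * t⁻¹ = w⁻¹)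
    (e1 : n * z * n⁻¹ = w)
    (ss : s * s = 1)
    (e : (t * n) ^ 2 = s) :
    s * z * s⁻¹ = z⁻¹ ∧ s * w * s⁻¹ = w⁻¹ ∧ s * t = t * s ∧ n * w * n⁻¹ = z ∧ s * n = n * s ∧ n * t * n⁻¹ = t * s :=
  ⟨mul_inv_eq_one.1 ((evA_eq_tm ((InvI.cons nn (InvI.cons tt (InvI.cons ss InvI.nil))) : InvI [z, w, n, t, s] [(nat_lit 2), (nat_lit 3), (nat_lit 4)]) [(.v (nat_lit 0)), (.inv (.v (nat_lit 0))), (.v (nat_lit 1)), (.inv (.v (nat_lit 1))), (.v (nat_lit 2)), (.v (nat_lit 3)), (.v (nat_lit 4))] [0,6,0,6] (.mul (.mul (.mul (.v (nat_lit 4)) (.v (nat_lit 0))) (.inv (.v (nat_lit 4)))) (.inv (.inv (.v (nat_lit 0))))) (by decide +kernel)).symm.trans (Subgroup.mem_bot.1 (s0_0 (s0_r tt nn tz tw e1 ss e) (H := ⊥) (List.forall_mem_nil _)))),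
   mul_inv_eq_one.1 ((evA_eq_tm ((InvI.cons nn (InvI.cons tt (InvI.cons ss InvI.nil))) : InvI [z, w, n, t, s] [(nat_lit 2), (nat_lit 3), (nat_lit 4)]) [(.v (nat_lit 0)), (.inv (.v (nat_lit 0))), (.v (nat_lit 1)), (.inv (.v (nat_lit 1))), (.v (nat_lit 2)), (.v (nat_lit 3)), (.v (nat_lit 4))] [2,6,2,6] (.mul (.mul (.mul (.v (nat_lit 4)) (.v (nat_lit 1))) (.inv (.v (nat_lit 4)))) (.inv (.inv (.v (nat_lit 1))))) (by decide +kernel)).symm.trans (Subgroup.mem_bot.1 (s0_1 (s0_r tt nn tz tw e1 ss e) (H := ⊥) (List.forall_mem_nil _)))),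
   mul_inv_eq_one.1 ((evA_eq_tm ((InvI.cons nn (InvI.cons tt (InvI.cons ss InvI.nil))) : InvI [z, w, n, t, s] [(nat_lit 2), (nat_lit 3), (nat_lit 4)]) [(.v (nat_lit 0)), (.inv (.v (nat_lit 0))), (.v (nat_lit 1)), (.inv (.v (nat_lit 1))), (.v (nat_lit 2)), (.v (nat_lit 3)), (.v (nat_lit 4))] [5,6,5,6] (.mul (.mul (.v (nat_lit 4)) (.v (nat_lit 3))) (.inv (.mul (.v (nat_lit 3)) (.v (nat_lit 4))))) (by decide +kernel)).symm.trans (Subgroup.mem_bot.1 (s0_2 (s0_r tt nn tz tw e1 ss e) (H := ⊥) (List.forall_mem_nil _)))),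
   mul_inv_eq_one.1 ((evA_eq_tm ((InvI.cons nn (InvI.cons tt (InvI.cons ss InvI.nil))) : InvI [z, w, n, t, s] [(nat_lit 2), (nat_lit 3), (nat_lit 4)]) [(.v (nat_lit 0)), (.inv (.v (nat_lit 0))), (.v (nat_lit 1)), (.inv (.v (nat_lit 1))), (.v (nat_lit 2)), (.v (nat_lit 3)), (.v (nat_lit 4))] [1,4,2,4] (.mul (.mul (.mul (.v (nat_lit 2)) (.v (nat_lit 1))) (.inv (.v (nat_lit 2)))) (.inv (.v (nat_lit 0)))) (by decide +kernel)).symm.trans (Subgroup.mem_bot.1 (s0_3 (s0_r tt nn tz tw e1 ss e) (H := ⊥) (List.forall_mem_nil _)))),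
   mul_inv_eq_one.1 ((evA_eq_tm ((InvI.cons nn (InvI.cons tt (InvI.cons ss InvI.nil))) : InvI [z, w, n, t, s] [(nat_lit 2), (nat_lit 3), (nat_lit 4)]) [(.v (nat_lit 0)), (.inv (.v (nat_lit 0))), (.v (nat_lit 1)), (.inv (.v (nat_lit 1))), (.v (nat_lit 2)), (.v (nat_lit 3)), (.v (nat_lit 4))] [4,6,4,6] (.mul (.mul (.v (nat_lit 4)) (.v (nat_lit 2))) (.inv (.mul (.v (nat_lit 2)) (.v (nat_lit 4))))) (by decide +kernel)).symm.trans (Subgroup.mem_bot.1 (s0_4 (s0_r tt nn tz tw e1 ss e) (H := ⊥) (List.forall_mem_nil _)))),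
   mul_inv_eq_one.1 ((evA_eq_tm ((InvI.cons nn (InvI.cons tt (InvI.cons ss InvI.nil))) : InvI [z, w, n, t, s] [(nat_lit 2), (nat_lit 3), (nat_lit 4)]) [(.v (nat_lit 0)), (.inv (.v (nat_lit 0))), (.v (nat_lit 1)), (.inv (.v (nat_lit 1))), (.v (nat_lit 2)), (.v (nat_lit 3)), (.v (nat_lit 4))] [5,6,4,5,4] (.mul (.mul (.mul (.v (nat_lit 2)) (.v (nat_lit 3))) (.inv (.v (nat_lit 2)))) (.inv (.mul (.v (nat_lit 3)) (.v (nat_lit 4))))) (by decide +kernel)).symm.trans (Subgroup.mem_bot.1 (s0_5 (s0_r tt nn tz tw e1 ss e) (H := ⊥) (List.forall_mem_nil _))))⟩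
noncomputable def s1_r_R : List (List ℕ) := [[0,1],
  [1,0],
  [2,2],
  [3,3],
  [4,4],
  [4,2,3,2,3],
  [0,3,0,3]]
theorem s1_r {G : Type*} [Group G] {a n t s : G}
    (tt : t * t = 1)
    (nn : n * n = 1)
    (ss : s * s = 1)
    (e : (t * n) ^ 2 = s)
    (ta : t * a * t⁻¹ = a⁻¹) :
    Rels (nthG [a, a⁻¹, n, t, s]) s1_r_R :=
  rels_of_eqs ((InvI.cons nn (InvI.cons tt (InvI.cons ss InvI.nil))) : InvI [a, n, t, s] [(nat_lit 1), (nat_lit 2), (nat_lit 3)])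
    (AllEq.append (show AllEq [a, n, t, s] [((.mul (.v (nat_lit 2)) (.v (nat_lit 2))), .one)] from ⟨tt, trivial⟩)
    (AllEq.append (show AllEq [a, n, t, s] [((.mul (.v (nat_lit 1)) (.v (nat_lit 1))), .one)] from ⟨nn, trivial⟩)
    (AllEq.append (show AllEq [a, n, t, s] [((.mul (.v (nat_lit 3)) (.v (nat_lit 3))), .one)] from ⟨ss, trivial⟩)
    (AllEq.append (show AllEq [a, n, t, s] [((.pw (.mul (.v (nat_lit 2)) (.v (nat_lit 1))) (nat_lit 2)), (.v (nat_lit 3)))] from ⟨e, trivial⟩)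
    (show AllEq [a, n, t, s] [((.mul (.mul (.v (nat_lit 2)) (.v (nat_lit 0))) (.inv (.v (nat_lit 2)))), (.inv (.v (nat_lit 0))))] from ⟨ta, trivial⟩)))))
    [(.v (nat_lit 0)), (.inv (.v (nat_lit 0))), (.v (nat_lit 1)), (.v (nat_lit 2)), (.v (nat_lit 3))] (by decide +kernel)
noncomputable def s1_0_S0 : List ℕ := [nat_lit 0x1700000f00000700000c00e00a, nat_lit 0x2b00002300001f00400c, nat_lit 0x2f00002700001c00000500c00a]
noncomputable def s1_0_S : List (List ℕ) := [s1_0_S0]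
noncomputable def s1_0_defs : List ℕ := [(nat_lit 0x3000090000000800200004003000070000000600400004003000030010000200200001004000000030000000000000)]
noncomputable def s1_0_recs : List ℕ := [(nat_lit 0x20000a0000b03000060000a020000200005)]
noncomputable def s1_0_T : List (List ℕ × ℕ) := [([3,2,3,2,1,2,3,2,1,3,1,4,0,4], (nat_lit 0xc00001400001c00002000002400002c00000900002f00002700001300000100001700000f000007))]
noncomputable def s1_0_D : H26.Dag := ⟨[1,0,2,3,4], [[0,1],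
  [1,0],
  [2,2],
  [3,3],
  [4,4],
  [4,2,3,2,3],
  [0,3,0,3]], [], s1_0_defs, s1_0_recs⟩
theorem s1_0_c : s1_0_D.check s1_0_S s1_0_T = true := by decide +kernel
theorem s1_0 {G : Type*} [Group G] {g : ℕ → G} (hR : Rels g s1_r_R) {H : Subgroup G}
    (hH : ∀ k ∈ [], g k ∈ H) : evA g [3,2,3,2,1,2,3,2,1,3,1,4,0,4] ∈ H :=
  mem_dag (K := 5) (J := [0,1,2,3,4,5,6]) (D := s1_0_D) (by decide +kernel) s1_0_c (by decide +kernel) hR hH
theorem s1 {G : Type*} [Group G] {a n t s : G}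
    (tt : t * t = 1)
    (nn : n * n = 1)
    (ss : s * s = 1)
    (e : (t * n) ^ 2 = s)
    (ta : t * a * t⁻¹ = a⁻¹) :
    s * a * s⁻¹ = t * (n * (t * (n * a * n⁻¹) * t⁻¹ * (n * a * n⁻¹)) * n⁻¹) * t⁻¹ * a :=
  mul_inv_eq_one.1 ((evA_eq_tm ((InvI.cons nn (InvI.cons tt (InvI.cons ss InvI.nil))) : InvI [a, n, t, s] [(nat_lit 1), (nat_lit 2), (nat_lit 3)]) [(.v (nat_lit 0)), (.inv (.v (nat_lit 0))), (.v (nat_lit 1)), (.v (nat_lit 2)), (.v (nat_lit 3))] [3,2,3,2,1,2,3,2,1,3,1,4,0,4] (.mul (.mul (.mul (.v (nat_lit 3)) (.v (nat_lit 0))) (.inv (.v (nat_lit 3)))) (.inv (.mul (.mul (.mul (.v (nat_lit 2)) (.mul (.mul (.v (nat_lit 1)) (.mul (.mul (.mul (.v (nat_lit 2)) (.mul (.mul (.v (nat_lit 1)) (.v (nat_lit 0))) (.inv (.v (nat_lit 1))))) (.inv (.v (nat_lit 2)))) (.mul (.mul (.v (nat_lit 1)) (.v (nat_lit 0))) (.inv (.v (nat_lit 1)))))) (.inv (.v (nat_lit 1))))) (.inv (.v (nat_lit 2)))) (.v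 (nat_lit 0))))) (by decide +kernel)).symm.trans (Subgroup.mem_bot.1 (s1_0 (s1_r tt nn ss e ta) (H := ⊥) (List.forall_mem_nil _))))
noncomputable def sinv_r_R : List (List ℕ) := [[0,1],
  [1,0],
  [2,3],
  [3,2],
  [4,5],
  [5,4],
  [6,7],
  [7,6],
  [8,9],
  [9,8],
  [10,10],
  [5,10,2,10],
  [7,1,10,0,10],
  [9,1,3,0,2],
  [8,10,8,10],
  [7,5,6,4],
  [7,9,6,8],
  [9,5,8,4]]
theorem sinv_r {G : Type*} [Group G] {a x u v y s : G}
    (ss : s * s = 1)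
    (e1 : s * x * s⁻¹ = u)
    (e2 : s * a * s⁻¹ = v * a)
    (e3 : ⁅x, a⁆ = y)
    (e4 : s * y * s⁻¹ = y⁻¹)
    (c1 : u * v = v * u)
    (c2 : y * v = v * y)
    (c3 : u * y = y * u) :
    Rels (nthG [a, a⁻¹, x, x⁻¹, u, u⁻¹, v, v⁻¹, y, y⁻¹, s]) sinv_r_R :=
  rels_of_eqs ((InvI.cons ss InvI.nil) : InvI [a, x, u, v, y, s] [(nat_lit 5)])
    (AllEq.append (show AllEq [a, x, u, v, y, s] [((.mul (.v (nat_lit 5)) (.v (nat_lit 5))), .one)] from ⟨ss, trivial⟩)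
    (AllEq.append (show AllEq [a, x, u, v, y, s] [((.mul (.mul (.v (nat_lit 5)) (.v (nat_lit 1))) (.inv (.v (nat_lit 5)))), (.v (nat_lit 2)))] from ⟨e1, trivial⟩)
    (AllEq.append (show AllEq [a, x, u, v, y, s] [((.mul (.mul (.v (nat_lit 5)) (.v (nat_lit 0))) (.inv (.v (nat_lit 5)))), (.mul (.v (nat_lit 3)) (.v (nat_lit 0))))] from ⟨e2, trivial⟩)
    (AllEq.append (show AllEq [a, x, u, v, y, s] [((.mul (.mul (.mul (.v (nat_lit 1)) (.v (nat_lit 0))) (.inv (.v (nat_lit 1)))) (.inv (.v (nat_lit 0)))), (.v (nat_lit 4)))] from ⟨e3, trivial⟩)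
    (AllEq.append (show AllEq [a, x, u, v, y, s] [((.mul (.mul (.v (nat_lit 5)) (.v (nat_lit 4))) (.inv (.v (nat_lit 5)))), (.inv (.v (nat_lit 4))))] from ⟨e4, trivial⟩)
    (AllEq.append (show AllEq [a, x, u, v, y, s] [((.mul (.v (nat_lit 2)) (.v (nat_lit 3))), (.mul (.v (nat_lit 3)) (.v (nat_lit 2))))] from ⟨c1, trivial⟩)
    (AllEq.append (show AllEq [a, x, u, v, y, s] [((.mul (.v (nat_lit 4)) (.v (nat_lit 3))), (.mul (.v (nat_lit 3)) (.v (nat_lit 4))))] from ⟨c2, trivial⟩)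
    (show AllEq [a, x, u, v, y, s] [((.mul (.v (nat_lit 2)) (.v (nat_lit 4))), (.mul (.v (nat_lit 4)) (.v (nat_lit 2))))] from ⟨c3, trivial⟩))))))))
    [(.v (nat_lit 0)), (.inv (.v (nat_lit 0))), (.v (nat_lit 1)), (.inv (.v (nat_lit 1))), (.v (nat_lit 2)), (.inv (.v (nat_lit 2))), (.v (nat_lit 3)), (.inv (.v (nat_lit 3))), (.v (nat_lit 4)), (.inv (.v (nat_lit 4))), (.v (nat_lit 5))] (by decide +kernel)
noncomputable def sinv_0_S0 : List ℕ := [nat_lit 0x2300000b00001c00c01e, nat_lit 0x2f00000f000020008016, nat_lit 0x3b00001b000008000020006018, nat_lit 0x3f000023000028006020, nat_lit 0x3f00000200003800a022, nat_lit 0x4700002b00001800003400201a, nat_lit 0x4b00002f00002c000044010018, nat_lit 0x4f00003700003c00601c, nat_lit 0x4b00000600000900001d01001a, nat_lit 0x1200005000002100001a004016, nat_lit 0xd00002600004300000c, nat_lit 0x2800002a000048000012, nat_lit 0x1300002e000016000004,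 nat_lit 0x32000033000002]
noncomputable def sinv_0_S : List (List ℕ) := [sinv_0_S0]
noncomputable def sinv_0_defs : List ℕ := [(nat_lit 0xa0000d0000000b0080000a0060000a0090000800a00006009000060000000500a0000300000003009000020060000200a0000100600000003000030030000200500001005000000010000000000000)]
noncomputable def sinv_0_recs : List ℕ := [(nat_lit 0x10000500004ff0000c00004ff0001100002ff0000a00009ff000100000f020001300012090000e000130a0001000012030000c00011040000d0000f07000090000f01000070000e02000070000b040000600008)]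
noncomputable def sinv_0_T : List (List ℕ × ℕ) := [([1,5,3,0,2,4], (nat_lit 0xc00001400003600001700000f000007))]
noncomputable def sinv_0_D : H26.Dag := ⟨[1,0,3,2,5,4,7,6,9,8,10], [[0,1],
  [1,0],
  [2,3],
  [3,2],
  [4,5],
  [5,4],
  [6,7],
  [7,6],
  [8,9],
  [9,8],
  [10,10],
  [5,10,2,10],
  [7,1,10,0,10],
  [9,1,3,0,2],
  [8,10,8,10],
  [7,5,6,4],
  [7,9,6,8],
  [9,5,8,4]], [], sinv_0_defs, sinv_0_recs⟩
theorem sinv_0_c : sinv_0_D.check sinv_0_S sinv_0_T = true := by decide +kernel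
theorem sinv_0 {G : Type*} [Group G] {g : ℕ → G} (hR : Rels g sinv_r_R) {H : Subgroup G}
    (hH : ∀ k ∈ [], g k ∈ H) : evA g [1,5,3,0,2,4] ∈ H :=
  mem_dag (K := 11) (J := [0,1,2,3,4,5,6,7,8,9,10,11,12,13,14,15,16,17]) (D := sinv_0_D) (by decide +kernel) sinv_0_c (by decide +kernel) hR hH
theorem sinv {G : Type*} [Group G] {a x u v y s : G}
    (ss : s * s = 1)
    (e1 : s * x * s⁻¹ = u)
    (e2 : s * a * s⁻¹ = v * a)
    (e3 : ⁅x, a⁆ = y)
    (e4 : s * y * s⁻¹ = y⁻¹)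
    (c1 : u * v = v * u)
    (c2 : y * v = v * y)
    (c3 : u * y = y * u) :
    u * x * a = a * (u * x) :=
  mul_inv_eq_one.1 ((evA_eq_tm ((InvI.cons ss InvI.nil) : InvI [a, x, u, v, y, s] [(nat_lit 5)]) [(.v (nat_lit 0)), (.inv (.v (nat_lit 0))), (.v (nat_lit 1)), (.inv (.v (nat_lit 1))), (.v (nat_lit 2)), (.inv (.v (nat_lit 2))), (.v (nat_lit 3)), (.inv (.v (nat_lit 3))), (.v (nat_lit 4)), (.inv (.v (nat_lit 4))), (.v (nat_lit 5))] [1,5,3,0,2,4] (.mul (.mul (.mul (.v (nat_lit 2)) (.v (nat_lit 1))) (.v (nat_lit 0))) (.inv (.mul (.v (nat_lit 0)) (.mul (.v (nat_lit 2)) (.v (nat_lit 1)))))) (by decide +kernel)).symm.trans (Subgroup.mem_bot.1 (sinv_0 (sinv_r ss e1 e2 e3 e4 c1 c2 c3) (H := ⊥) (List.forall_mem_nil _))))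
noncomputable def sinv2_r_R : List (List ℕ) := [[0,1],
  [1,0],
  [2,3],
  [3,2],
  [4,4],
  [3,4,0,4],
  [1,3,0,2],
  [0,2,4,0,2,4],
  [0,2,0,2,0,2]]
theorem sinv2_r {G : Type*} [Group G] {x u s : G}
    (ss : s * s = 1)
    (e1 : s * x * s⁻¹ = u)
    (c1 : u * x = x * u)
    (e2 : s * (u * x) * s⁻¹ = (u * x)⁻¹)
    (e3 : (u * x) ^ 3 = 1) :
    Rels (nthG [x, x⁻¹, u, u⁻¹, s]) sinv2_r_R :=
  rels_of_eqs ((InvI.cons ss InvI.nil) : InvI [x, u, s] [(nat_lit 2)])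
    (AllEq.append (show AllEq [x, u, s] [((.mul (.v (nat_lit 2)) (.v (nat_lit 2))), .one)] from ⟨ss, trivial⟩)
    (AllEq.append (show AllEq [x, u, s] [((.mul (.mul (.v (nat_lit 2)) (.v (nat_lit 0))) (.inv (.v (nat_lit 2)))), (.v (nat_lit 1)))] from ⟨e1, trivial⟩)
    (AllEq.append (show AllEq [x, u, s] [((.mul (.v (nat_lit 1)) (.v (nat_lit 0))), (.mul (.v (nat_lit 0)) (.v (nat_lit 1))))] from ⟨c1, trivial⟩)
    (AllEq.append (show AllEq [x, u, s] [((.mul (.mul (.v (nat_lit 2)) (.mul (.v (nat_lit 1)) (.v (nat_lit 0)))) (.inv (.v (nat_lit 2)))), (.inv (.mul (.v (nat_lit 1)) (.v (nat_lit 0)))))] from ⟨e2, trivial⟩)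
    (show AllEq [x, u, s] [((.pw (.mul (.v (nat_lit 1)) (.v (nat_lit 0))) (nat_lit 3)), .one)] from ⟨e3, trivial⟩)))))
    [(.v (nat_lit 0)), (.inv (.v (nat_lit 0))), (.v (nat_lit 1)), (.inv (.v (nat_lit 1))), (.v (nat_lit 2))] (by decide +kernel)
noncomputable def sinv2_0_S0 : List ℕ := [nat_lit 0x1f00000700001000600c, nat_lit 0x2300000700001400000a, nat_lit 0x2700000b00001000800c, nat_lit 0x2f00000f00001400800a, nat_lit 0x1700002400000600000d00002f00002c00400e, nat_lit 0x1200002b000004, nat_lit 0xa00001500001700001c00400c, nat_lit 0x1900000a000000, nat_lit 0x2000015000017000020000002000015004010, nat_lit 0x18000021000002000000, nat_lit 0x800002600001d000000, nat_lit 0x2a00001b000006]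
noncomputable def sinv2_0_S : List (List ℕ) := [sinv2_0_S0]
noncomputable def sinv2_0_defs : List ℕ := [(nat_lit 0x4000030030000300300002004000010030000100200001000000010040000000300000001000000000000000000000)]
noncomputable def sinv2_0_recs : List ℕ := [(nat_lit 0x30000100000ff0000600000ff0000300001ff0000500007000000300006ff0000600009020000300005ff0000a0000500000040000b000000300009030000400008010000300007)]
noncomputable def sinv2_0_T : List (List ℕ × ℕ) := [([0,2], (nat_lit 0x2e000007))]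
noncomputable def sinv2_0_D : H26.Dag := ⟨[1,0,3,2,4], [[0,1],
  [1,0],
  [2,3],
  [3,2],
  [4,4],
  [3,4,0,4],
  [1,3,0,2],
  [0,2,4,0,2,4],
  [0,2,0,2,0,2]], [], sinv2_0_defs, sinv2_0_recs⟩
theorem sinv2_0_c : sinv2_0_D.check sinv2_0_S sinv2_0_T = true := by decide +kernel
theorem sinv2_0 {G : Type*} [Group G] {g : ℕ → G} (hR : Rels g sinv2_r_R) {H : Subgroup G}
    (hH : ∀ k ∈ [], g k ∈ H) : evA g [0,2] ∈ H :=
  mem_dag (K := 5) (J := [0,1,2,3,4,5,6,7,8]) (D := sinv2_0_D) (by decide +kernel) sinv2_0_c (by decide +kernel) hR hH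
theorem sinv2 {G : Type*} [Group G] {x u s : G}
    (ss : s * s = 1)
    (e1 : s * x * s⁻¹ = u)
    (c1 : u * x = x * u)
    (e2 : s * (u * x) * s⁻¹ = (u * x)⁻¹)
    (e3 : (u * x) ^ 3 = 1) :
    u = x⁻¹ :=
  mul_inv_eq_one.1 ((evA_eq_tm ((InvI.cons ss InvI.nil) : InvI [x, u, s] [(nat_lit 2)]) [(.v (nat_lit 0)), (.inv (.v (nat_lit 0))), (.v (nat_lit 1)), (.inv (.v (nat_lit 1))), (.v (nat_lit 2))] [0,2] (.mul (.v (nat_lit 1)) (.inv (.inv (.v (nat_lit 0))))) (by decide +kernel)).symm.trans (Subgroup.mem_bot.1 (sinv2_0 (sinv2_r ss e1 c1 e2 e3) (H := ⊥) (List.forall_mem_nil _))))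
noncomputable def nct_r_R : List (List ℕ) := [[0,1],
  [1,0],
  [2,3],
  [3,2],
  [4,5],
  [5,4],
  [6,7],
  [7,6],
  [8,9],
  [9,8],
  [10,11],
  [11,10],
  [12,12],
  [13,14],
  [14,13],
  [15,15],
  [16,16],
  [0,0,0],
  [2,2,2],
  [4,4,4],
  [6,6,6],
  [8,8,8],
  [1,3,0,2],
  [1,5,0,4],
  [1,7,0,6],
  [1,9,0,8],
  [5,3,4,2],
  [7,3,6,2],
  [9,5,8,4],
  [9,7,8,6],
  [1,9,3,8,2],
  [1,5,7,4,6],
  [10,10,10],
  [12,13,13],
  [10,13,10,13,10,13],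
  [1,11,0,10],
  [1,14,0,13],
  [12,11,12,10],
  [3,11,2,10],
  [7,11,6,10],
  [5,2,11,4,10],
  [9,6,11,8,10],
  [5,14,2,13],
  [2,14,4,13],
  [9,14,6,13],
  [6,14,8,13],
  [1,12,0,12],
  [2,12,2,12],
  [4,12,4,12],
  [6,12,6,12],
  [8,12,8,12],
  [0,15,0,15],
  [2,15,2,15],
  [6,15,6,15],
  [10,15,10,15],
  [13,15,13,15],
  [5,15,4,15],
  [9,15,8,15],
  [12,15,12,15],
  [3,16,0,16],
  [15,16,12,16,12]]
theorem nct_r {G : Type*} [Group G] {z w a c f d t m s n : G}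
    (h : CC z w a c f d m t)
    (k : SS z w a c f d m t s)
    (nn : n * n = 1)
    (nz : n * z * n⁻¹ = w)
    (e : (t * n) ^ 2 = s) :
    Rels (nthG [z, z⁻¹, w, w⁻¹, a, a⁻¹, c, c⁻¹, f, f⁻¹, d, d⁻¹, t, m, m⁻¹, s, n]) nct_r_R :=
  rels_of_eqs ((InvI.cons h.2.2.2.2.2.2.2.2.2.2.2.2.2.2.2.2.1 (InvI.cons k.1 (InvI.cons nn InvI.nil))) : InvI [z, w, a, c, f, d, t, m, s, n] [(nat_lit 6), (nat_lit 8), (nat_lit 9)])
    (AllEq.append (show AllEq [z, w, a, c, f, d, t, m, s, n] [((.pw (.v (nat_lit 0)) (nat_lit 3)), .one), ((.pw (.v (nat_lit 1)) (nat_lit 3)), .one), ((.pw (.v (nat_lit 2)) (nat_lit 3)), .one), ((.pw (.v (nat_lit 3)) (nat_lit 3)), .one), ((.pw (.v (nat_lit 4)) (nat_lit 3)), .one), ((.mul (.v (nat_lit 1)) (.v (nat_lit 0))), (.mul (.v (nat_lit 0)) (.v (nat_lit 1)))), ((.mul (.v (nat_lit 2)) (.v (nat_lit 0))), (.mul (.v (nat_lit 0)) (.v (nat_lit 2)))), ((.mul (.v (nat_lit 3)) (.v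 (nat_lit 0))), (.mul (.v (nat_lit 0)) (.v (nat_lit 3)))), ((.mul (.v (nat_lit 4)) (.v (nat_lit 0))), (.mul (.v (nat_lit 0)) (.v (nat_lit 4)))), ((.mul (.v (nat_lit 1)) (.v (nat_lit 2))), (.mul (.v (nat_lit 2)) (.v (nat_lit 1)))), ((.mul (.v (nat_lit 1)) (.v (nat_lit 3))), (.mul (.v (nat_lit 3)) (.v (nat_lit 1)))), ((.mul (.v (nat_lit 2)) (.v (nat_lit 4))), (.mul (.v (nat_lit 4)) (.v (nat_lit 2)))), ((.mul (.v (nat_lit 3)) (.v (nat_lit 4))), (.mul (.v (nat_lit 4)) (.v (nat_lit 3)))), ((.mul (.mul (.mul (.v (nat_lit 1)) (.v (nat_lit 4))) (.inv (.v (nat_lit 1)))) (.inv (.v (nat_lit 4)))), (.v (nat_lit 0))), ((.mul (.mul (.mul (.v (nat_lit 3)) (.v (nat_lit 2))) (.inv (.v (nat_lit 3)))) (.inv (.v (nat_lit 2)))), (.v (nat_lit 0))), ((.pw (.v (nat_lit 5)) (nat_lit 3)), .one), ((.mul (.v (nat_lit 6)) (.v (nat_lit 6))), .one), ((.mul (.v (nat_lit 7)) (.v (nat_lit 7))), (.v (nat_lit 6))),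 ((.pw (.mul (.v (nat_lit 7)) (.v (nat_lit 5))) (nat_lit 3)), .one), ((.mul (.v (nat_lit 5)) (.v (nat_lit 0))), (.mul (.v (nat_lit 0)) (.v (nat_lit 5)))), ((.mul (.v (nat_lit 7)) (.v (nat_lit 0))), (.mul (.v (nat_lit 0)) (.v (nat_lit 7)))), ((.mul (.v (nat_lit 5)) (.v (nat_lit 6))), (.mul (.v (nat_lit 6)) (.v (nat_lit 5)))), ((.mul (.v (nat_lit 5)) (.v (nat_lit 1))), (.mul (.v (nat_lit 1)) (.v (nat_lit 5)))), ((.mul (.v (nat_lit 5)) (.v (nat_lit 3))), (.mul (.v (nat_lit 3)) (.v (nat_lit 5)))), ((.mul (.mul (.v (nat_lit 5)) (.v (nat_lit 2))) (.inv (.v (nat_lit 5)))), (.mul (.v (nat_lit 2)) (.inv (.v (nat_lit 1))))), ((.mul (.mul (.v (nat_lit 5)) (.v (nat_lit 4))) (.inv (.v (nat_lit 5)))), (.mul (.v (nat_lit 4)) (.inv (.v (nat_lit 3))))), ((.mul (.mul (.v (nat_lit 7)) (.v (nat_lit 1))) (.inv (.v (nat_lit 7)))), (.v (nat_lit 2))), ((.mul (.mul (.v (nat_lit 7)) (.v (nat_lit 2))) (.inv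 (.v (nat_lit 7)))), (.inv (.v (nat_lit 1)))), ((.mul (.mul (.v (nat_lit 7)) (.v (nat_lit 3))) (.inv (.v (nat_lit 7)))), (.v (nat_lit 4))), ((.mul (.mul (.v (nat_lit 7)) (.v (nat_lit 4))) (.inv (.v (nat_lit 7)))), (.inv (.v (nat_lit 3)))), ((.mul (.v (nat_lit 6)) (.v (nat_lit 0))), (.mul (.v (nat_lit 0)) (.v (nat_lit 6)))), ((.mul (.mul (.v (nat_lit 6)) (.v (nat_lit 1))) (.inv (.v (nat_lit 6)))), (.inv (.v (nat_lit 1)))), ((.mul (.mul (.v (nat_lit 6)) (.v (nat_lit 2))) (.inv (.v (nat_lit 6)))), (.inv (.v (nat_lit 2)))), ((.mul (.mul (.v (nat_lit 6)) (.v (nat_lit 3))) (.inv (.v (nat_lit 6)))), (.inv (.v (nat_lit 3)))), ((.mul (.mul (.v (nat_lit 6)) (.v (nat_lit 4))) (.inv (.v (nat_lit 6)))), (.inv (.v (nat_lit 4))))] from h)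
    (AllEq.append (show AllEq [z, w, a, c, f, d, t, m, s, n] [((.mul (.v (nat_lit 8)) (.v (nat_lit 8))), .one), ((.mul (.mul (.v (nat_lit 8)) (.v (nat_lit 0))) (.inv (.v (nat_lit 8)))), (.inv (.v (nat_lit 0)))), ((.mul (.mul (.v (nat_lit 8)) (.v (nat_lit 1))) (.inv (.v (nat_lit 8)))), (.inv (.v (nat_lit 1)))), ((.mul (.mul (.v (nat_lit 8)) (.v (nat_lit 3))) (.inv (.v (nat_lit 8)))), (.inv (.v (nat_lit 3)))), ((.mul (.mul (.v (nat_lit 8)) (.v (nat_lit 5))) (.inv (.v (nat_lit 8)))), (.inv (.v (nat_lit 5)))), ((.mul (.mul (.v (nat_lit 8)) (.v (nat_lit 7))) (.inv (.v (nat_lit 8)))), (.inv (.v (nat_lit 7)))), ((.mul (.v (nat_lit 8)) (.v (nat_lit 2))), (.mul (.v (nat_lit 2)) (.v (nat_lit 8)))), ((.mul (.v (nat_lit 8)) (.v (nat_lit 4))), (.mul (.v (nat_lit 4)) (.v (nat_lit 8)))), ((.mul (.v (nat_lit 8)) (.v (nat_lit 6))), (.mul (.v (nat_lit 6)) (.v (nat_lit 8))))] from k)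
    (AllEq.append (show AllEq [z, w, a, c, f, d, t, m, s, n] [((.mul (.v (nat_lit 9)) (.v (nat_lit 9))), .one)] from ⟨nn, trivial⟩)
    (AllEq.append (show AllEq [z, w, a, c, f, d, t, m, s, n] [((.mul (.mul (.v (nat_lit 9)) (.v (nat_lit 0))) (.inv (.v (nat_lit 9)))), (.v (nat_lit 1)))] from ⟨nz, trivial⟩)
    (show AllEq [z, w, a, c, f, d, t, m, s, n] [((.pw (.mul (.v (nat_lit 6)) (.v (nat_lit 9))) (nat_lit 2)), (.v (nat_lit 8)))] from ⟨e, trivial⟩)))))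
    [(.v (nat_lit 0)), (.inv (.v (nat_lit 0))), (.v (nat_lit 1)), (.inv (.v (nat_lit 1))), (.v (nat_lit 2)), (.inv (.v (nat_lit 2))), (.v (nat_lit 3)), (.inv (.v (nat_lit 3))), (.v (nat_lit 4)), (.inv (.v (nat_lit 4))), (.v (nat_lit 5)), (.inv (.v (nat_lit 5))), (.v (nat_lit 6)), (.v (nat_lit 7)), (.inv (.v (nat_lit 7))), (.v (nat_lit 8)), (.v (nat_lit 9))] (by decide +kernel)
noncomputable def nct_0_S0 : List ℕ := [nat_lit 0x2300000b000008000010000026, nat_lit 0x27000013000024006022, nat_lit 0x17000001000005002024, nat_lit 0x1b00002800000900002000a026]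
noncomputable def nct_0_S : List (List ℕ) := [nct_0_S0]
noncomputable def nct_0_defs : List ℕ := [(nat_lit 0xc0000400c0000201000005010000040070000300700002010000010100000000c0000000000000)]
noncomputable def nct_0_recs : List ℕ := [(nat_lit 0xc00007000060f00009000050700008000090f0000300008)]
noncomputable def nct_0_T : List (List ℕ × ℕ) := [([12,16,7,16,12,16,6,16], (nat_lit 0xc00001400001c00000e00001f00001700000f000007))]
noncomputable def nct_0_D : H26.Dag := ⟨[1,0,3,2,5,4,7,6,9,8,11,10,12,14,13,15,16], [[0,1],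
  [1,0],
  [2,3],
  [3,2],
  [4,5],
  [5,4],
  [6,7],
  [7,6],
  [8,9],
  [9,8],
  [10,11],
  [11,10],
  [12,12],
  [13,14],
  [14,13],
  [15,15],
  [16,16],
  [6,12,6,12],
  [6,15,6,15],
  [15,16,12,16,12]], [], nct_0_defs, nct_0_recs⟩
theorem nct_0_c : nct_0_D.check nct_0_S nct_0_T = true := by decide +kernel
theorem nct_0 {G : Type*} [Group G] {g : ℕ → G} (hR : Rels g nct_r_R) {H : Subgroup G}
    (hH : ∀ k ∈ [], g k ∈ H) : evA g [12,16,7,16,12,16,6,16] ∈ H :=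
  mem_dag (K := 17) (J := [0,1,2,3,4,5,6,7,8,9,10,11,12,13,14,15,16,49,53,60]) (D := nct_0_D) (by decide +kernel) nct_0_c (by decide +kernel) hR hH
noncomputable def nct_1_S0 : List ℕ := [nat_lit 0xf00000700000c00e024, nat_lit 0x1700000200001400a022, nat_lit 0x1f00000600001c008024]
noncomputable def nct_1_S : List (List ℕ) := [nct_1_S0]
noncomputable def nct_1_defs : List ℕ := [(nat_lit 0x100000501000004005000030050000201000001010000000010000000000000)]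
noncomputable def nct_1_recs : List ℕ := [(nat_lit 0x600007020000400005020000200003)]
noncomputable def nct_1_T : List (List ℕ × ℕ) := [([1,16,5,16,0,16,4,16], (nat_lit 0xc00001400001c00000900001f00001700000f000007))]
noncomputable def nct_1_D : H26.Dag := ⟨[1,0,3,2,5,4,7,6,9,8,11,10,12,14,13,15,16], [[0,1],
  [1,0],
  [2,3],
  [3,2],
  [4,5],
  [5,4],
  [6,7],
  [7,6],
  [8,9],
  [9,8],
  [10,11],
  [11,10],
  [12,12],
  [13,14],
  [14,13],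
  [15,15],
  [16,16],
  [5,3,4,2],
  [3,16,0,16]], [], nct_1_defs, nct_1_recs⟩
theorem nct_1_c : nct_1_D.check nct_1_S nct_1_T = true := by decide +kernel
theorem nct_1 {G : Type*} [Group G] {g : ℕ → G} (hR : Rels g nct_r_R) {H : Subgroup G}
    (hH : ∀ k ∈ [], g k ∈ H) : evA g [1,16,5,16,0,16,4,16] ∈ H :=
  mem_dag (K := 17) (J := [0,1,2,3,4,5,6,7,8,9,10,11,12,13,14,15,16,26,59]) (D := nct_1_D) (by decide +kernel) nct_1_c (by decide +kernel) hR hH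
noncomputable def nct_2_S0 : List ℕ := [nat_lit 0xf00000700000c008024, nat_lit 0x17000002000014008022, nat_lit 0x1f00000600001c00e024]
noncomputable def nct_2_S : List (List ℕ) := [nct_2_S0]
noncomputable def nct_2_defs : List ℕ := [(nat_lit 0x100000501000004005000030050000201000001010000000030000000000000)]
noncomputable def nct_2_recs : List ℕ := [(nat_lit 0x20000600007000000400005000000200003)]
noncomputable def nct_2_T : List (List ℕ × ℕ) := [([3,16,5,16,2,16,4,16], (nat_lit 0xc00001400001c00000900001f00001700000f000007))]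
noncomputable def nct_2_D : H26.Dag := ⟨[1,0,3,2,5,4,7,6,9,8,11,10,12,14,13,15,16], [[0,1],
  [1,0],
  [2,3],
  [3,2],
  [4,5],
  [5,4],
  [6,7],
  [7,6],
  [8,9],
  [9,8],
  [10,11],
  [11,10],
  [12,12],
  [13,14],
  [14,13],
  [15,15],
  [16,16],
  [1,5,0,4],
  [3,16,0,16]], [], nct_2_defs, nct_2_recs⟩
theorem nct_2_c : nct_2_D.check nct_2_S nct_2_T = true := by decide +kernel
theorem nct_2 {G : Type*} [Group G] {g : ℕ → G} (hR : Rels g nct_r_R) {H : Subgroup G}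
    (hH : ∀ k ∈ [], g k ∈ H) : evA g [3,16,5,16,2,16,4,16] ∈ H :=
  mem_dag (K := 17) (J := [0,1,2,3,4,5,6,7,8,9,10,11,12,13,14,15,16,23,59]) (D := nct_2_D) (by decide +kernel) nct_2_c (by decide +kernel) hR hH
noncomputable def nct_3_S0 : List ℕ := [nat_lit 0x2700000b00000800002400c024, nat_lit 0xf000024000001000027012024, nat_lit 0x13000005000018004022, nat_lit 0x2f00001b00000a00002c00c024, nat_lit 0x1f00002c00000d00002f012024]
noncomputable def nct_3_S : List (List ℕ) := [nct_3_S0]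
noncomputable def nct_3_defs : List ℕ := [(nat_lit 0xc0000600c0000500c0000200c0000101000005010000040050000300500002010000010100000000f0000000000000)]
noncomputable def nct_3_recs : List ℕ := [(nat_lit 0xf0000600007100000a0000b0f00005000040f0000200003100000800009)]
noncomputable def nct_3_T : List (List ℕ × ℕ) := [([15,16,5,16,15,16,4,16], (nat_lit 0xc00001400001c00001100001f00001700000f000007))]
noncomputable def nct_3_D : H26.Dag := ⟨[1,0,3,2,5,4,7,6,9,8,11,10,12,14,13,15,16], [[0,1],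
  [1,0],
  [2,3],
  [3,2],
  [4,5],
  [5,4],
  [6,7],
  [7,6],
  [8,9],
  [9,8],
  [10,11],
  [11,10],
  [12,12],
  [13,14],
  [14,13],
  [15,15],
  [16,16],
  [5,15,4,15],
  [15,16,12,16,12]], [], nct_3_defs, nct_3_recs⟩
theorem nct_3_c : nct_3_D.check nct_3_S nct_3_T = true := by decide +kernel
theorem nct_3 {G : Type*} [Group G] {g : ℕ → G} (hR : Rels g nct_r_R) {H : Subgroup G}
    (hH : ∀ k ∈ [], g k ∈ H) : evA g [15,16,5,16,15,16,4,16] ∈ H :=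
  mem_dag (K := 17) (J := [0,1,2,3,4,5,6,7,8,9,10,11,12,13,14,15,16,56,60]) (D := nct_3_D) (by decide +kernel) nct_3_c (by decide +kernel) hR hH
noncomputable def nct_4_S0 : List ℕ := [nat_lit 0xf00000700000c008024, nat_lit 0x1b00001300000100001800a022]
noncomputable def nct_4_S : List (List ℕ) := [nct_4_S0]
noncomputable def nct_4_defs : List ℕ := [(nat_lit 0x500004005000030070000201000001010000000030000000000000)]
noncomputable def nct_4_recs : List ℕ := [(nat_lit 0x60000500006000000200003)]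
noncomputable def nct_4_T : List (List ℕ × ℕ) := [([3,16,5,7,4,6,16], (nat_lit 0xc00001400001c00000600001700000f000007))]
noncomputable def nct_4_D : H26.Dag := ⟨[1,0,3,2,5,4,7,6,9,8,11,10,12,14,13,15,16], [[0,1],
  [1,0],
  [2,3],
  [3,2],
  [4,5],
  [5,4],
  [6,7],
  [7,6],
  [8,9],
  [9,8],
  [10,11],
  [11,10],
  [12,12],
  [13,14],
  [14,13],
  [15,15],
  [16,16],
  [1,5,7,4,6],
  [3,16,0,16]], [], nct_4_defs, nct_4_recs⟩
theorem nct_4_c : nct_4_D.check nct_4_S nct_4_T = true := by decide +kernel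
theorem nct_4 {G : Type*} [Group G] {g : ℕ → G} (hR : Rels g nct_r_R) {H : Subgroup G}
    (hH : ∀ k ∈ [], g k ∈ H) : evA g [3,16,5,7,4,6,16] ∈ H :=
  mem_dag (K := 17) (J := [0,1,2,3,4,5,6,7,8,9,10,11,12,13,14,15,16,31,59]) (D := nct_4_D) (by decide +kernel) nct_4_c (by decide +kernel) hR hH
noncomputable def nct_5_S0 : List ℕ := [nat_lit 0xf00000700000c008028, nat_lit 0x1700000200001400e02c, nat_lit 0x5300001b000005000020002026, nat_lit 0x5700002300005400c028, nat_lit 0x2700000900000d00e02a, nat_lit 0x5b00005800001100e022, nat_lit 0x5f00002b00005c00c02c, nat_lit 0x2f00001500001900002c, nat_lit 0x63000033000060002024, nat_lit 0x6b00003700001e000021002026, nat_lit 0x6c000026000063000068004022, nat_lit 0x2a000067000006, nat_lit 0x3b00002d00004000e02a, nat_lit 0x4700003100004400802c, nat_lit 0x4b000035000050000024]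
noncomputable def nct_5_S : List (List ℕ) := [nct_5_S0]
noncomputable def nct_5_defs : List ℕ := [(nat_lit 0xd0020000c0000000c0000000a00200008000000080000000600800011008000100100000f0100000e00c0000d00c0000c0080000b0080000a010000090100000800c0000700c000060080000500800004010000030100000200c0000100c000000010000000000000)]
noncomputable def nct_5_recs : List ℕ := [(nat_lit 0x10001300012000001000011030000f0000e030000c0000dff000190000d03000180001a09000170001803000170000b1000016000170000009000160300015000090c0001400015030000700014020000400005000000200003)]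
noncomputable def nct_5_T : List (List ℕ × ℕ) := [([1,12,16,8,12,16,8,12,16,8,0,9,16,12,9,16,12,9,16,12], (nat_lit 0xc00001400001c00002400002c00003400003c00004400004c00003a00004f00004700003f00003700002f00002700001f00001700000f000007))]
noncomputable def nct_5_D : H26.Dag := ⟨[1,0,3,2,5,4,7,6,9,8,11,10,12,14,13,15,16], [[0,1],
  [1,0],
  [2,3],
  [3,2],
  [4,5],
  [5,4],
  [6,7],
  [7,6],
  [8,9],
  [9,8],
  [10,11],
  [11,10],
  [12,12],
  [13,14],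
  [14,13],
  [15,15],
  [16,16],
  [1,3,0,2],
  [1,9,0,8],
  [1,9,3,8,2],
  [1,12,0,12],
  [2,12,2,12],
  [3,16,0,16]], [], nct_5_defs, nct_5_recs⟩
theorem nct_5_c : nct_5_D.check nct_5_S nct_5_T = true := by decide +kernel
theorem nct_5 {G : Type*} [Group G] {g : ℕ → G} (hR : Rels g nct_r_R) {H : Subgroup G}
    (hH : ∀ k ∈ [], g k ∈ H) : evA g [1,12,16,8,12,16,8,12,16,8,0,9,16,12,9,16,12,9,16,12] ∈ H :=
  mem_dag (K := 17) (J := [0,1,2,3,4,5,6,7,8,9,10,11,12,13,14,15,16,22,25,30,46,47,59]) (D := nct_5_D) (by decide +kernel) nct_5_c (by decide +kernel) hR hH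
noncomputable def nct_6_S0 : List ℕ := [nat_lit 0xf00000700000c00602a, nat_lit 0x1700000200001400602c, nat_lit 0x1f00000600001c000024, nat_lit 0x2700000a000024000028, nat_lit 0x2f00000e00002c00002c, nat_lit 0x57000033000011000038000026, nat_lit 0x5300005800001600a022, nat_lit 0x5b00003b000054004028, nat_lit 0x3f00001900001d00002a, nat_lit 0x5f00005c000021006022, nat_lit 0x6300004300006000a02c, nat_lit 0x4700002500002900e02c, nat_lit 0x6700004b000064004024, nat_lit 0x4f00002e000031000067010026]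
noncomputable def nct_6_S : List (List ℕ) := [nct_6_S0]
noncomputable def nct_6_defs : List ℕ := [(nat_lit 0x100012001000100030000e0010000e0020000c0010000c00800011008000100100000f0100000e00c0000d00c0000c0080000b0080000a010000090100000800c0000700c000060080000500800004010000030100000200c0000100c000000030000000000000)]
noncomputable def nct_6_recs : List ℕ := [(nat_lit 0x20001200013090001800019020001800011100001700018010000f0001702000160000f0c0001400016020000d00014010000d00015030000a0000b010000800009010000600007010000400005030000200003)]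
noncomputable def nct_6_T : List (List ℕ × ℕ) := [([3,12,16,8,12,16,8,12,16,8,2,9,16,12,9,16,12,9,16,12], (nat_lit 0xc00001400001c00002400002c00003400003c00004400004c00003500004f00004700003f00003700002f00002700001f00001700000f000007))]
noncomputable def nct_6_D : H26.Dag := ⟨[1,0,3,2,5,4,7,6,9,8,11,10,12,14,13,15,16], [[0,1],
  [1,0],
  [2,3],
  [3,2],
  [4,5],
  [5,4],
  [6,7],
  [7,6],
  [8,9],
  [9,8],
  [10,11],
  [11,10],
  [12,12],
  [13,14],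
  [14,13],
  [15,15],
  [16,16],
  [1,3,0,2],
  [1,9,0,8],
  [1,9,3,8,2],
  [1,12,0,12],
  [2,12,2,12],
  [3,16,0,16]], [], nct_6_defs, nct_6_recs⟩
theorem nct_6_c : nct_6_D.check nct_6_S nct_6_T = true := by decide +kernel
theorem nct_6 {G : Type*} [Group G] {g : ℕ → G} (hR : Rels g nct_r_R) {H : Subgroup G}
    (hH : ∀ k ∈ [], g k ∈ H) : evA g [3,12,16,8,12,16,8,12,16,8,2,9,16,12,9,16,12,9,16,12] ∈ H :=
  mem_dag (K := 17) (J := [0,1,2,3,4,5,6,7,8,9,10,11,12,13,14,15,16,22,25,30,46,47,59]) (D := nct_6_D) (by decide +kernel) nct_6_c (by decide +kernel) hR hH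
noncomputable def nct_7_S0 : List ℕ := [nat_lit 0x53000008000010000018008024, nat_lit 0x100005300000c000014000024, nat_lit 0x1b00000500002000c022, nat_lit 0x5700000a000028000030008024, nat_lit 0xd00005700002400002c000024, nat_lit 0x3300001100003800c022, nat_lit 0x5b000016000040000048008024, nat_lit 0x1900005b00003c000044000024, nat_lit 0x4b00001d00005000c022]
noncomputable def nct_7_S : List (List ℕ) := [nct_7_S0]
noncomputable def nct_7_defs : List ℕ := [(nat_lit 0x100000c010000060100000000800011008000100100000f0100000e00c0000d00c0000c0080000b0080000a010000090100000800c0000700c000060080000500800004010000030100000200c0000100c0000000f0000000000000)]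
noncomputable def nct_7_recs : List ℕ := [(nat_lit 0xf00013000120f00010000110c00011000160f0000d0000c0f0000a0000b0c0000b000150f00007000060f00004000050c0000500014)]
noncomputable def nct_7_T : List (List ℕ × ℕ) := [([15,12,16,8,12,16,8,12,16,8,15,9,16,12,9,16,12,9,16,12], (nat_lit 0xc00001400001c00002400002c00003400003c00004400004c00002200004f00004700003f00003700002f00002700001f00001700000f000007))]
noncomputable def nct_7_D : H26.Dag := ⟨[1,0,3,2,5,4,7,6,9,8,11,10,12,14,13,15,16], [[0,1],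
  [1,0],
  [2,3],
  [3,2],
  [4,5],
  [5,4],
  [6,7],
  [7,6],
  [8,9],
  [9,8],
  [10,11],
  [11,10],
  [12,12],
  [13,14],
  [14,13],
  [15,15],
  [16,16],
  [9,15,8,15],
  [15,16,12,16,12]], [], nct_7_defs, nct_7_recs⟩
theorem nct_7_c : nct_7_D.check nct_7_S nct_7_T = true := by decide +kernel
theorem nct_7 {G : Type*} [Group G] {g : ℕ → G} (hR : Rels g nct_r_R) {H : Subgroup G}
    (hH : ∀ k ∈ [], g k ∈ H) : evA g [15,12,16,8,12,16,8,12,16,8,15,9,16,12,9,16,12,9,16,12] ∈ H :=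
  mem_dag (K := 17) (J := [0,1,2,3,4,5,6,7,8,9,10,11,12,13,14,15,16,57,60]) (D := nct_7_D) (by decide +kernel) nct_7_c (by decide +kernel) hR hH
theorem nct {G : Type*} [Group G] {z w a c f d t m s n : G}
    (h : CC z w a c f d m t)
    (k : SS z w a c f d m t s)
    (nn : n * n = 1)
    (nz : n * z * n⁻¹ = w)
    (e : (t * n) ^ 2 = s) :
    n * c * n⁻¹ * t = t * (n * c * n⁻¹) ∧ n * a * n⁻¹ * z = z * (n * a * n⁻¹) ∧ n * a * n⁻¹ * w = w * (n * a * n⁻¹) ∧ n * a * n⁻¹ * s = s * (n * a * n⁻¹) ∧ ⁅n * c * n⁻¹, n * a * n⁻¹⁆ = w ∧ (t * n * f⁻¹) ^ 3 * z = z * (t * n * f⁻¹) ^ 3 ∧ (t * n * f⁻¹) ^ 3 * w = w * (t * n * f⁻¹) ^ 3 ∧ (t * n * f⁻¹) ^ 3 * s = s * (t * n * f⁻¹) ^ 3 :=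
  ⟨mul_inv_eq_one.1 ((evA_eq_tm ((InvI.cons h.2.2.2.2.2.2.2.2.2.2.2.2.2.2.2.2.1 (InvI.cons k.1 (InvI.cons nn InvI.nil))) : InvI [z, w, a, c, f, d, t, m, s, n] [(nat_lit 6), (nat_lit 8), (nat_lit 9)]) [(.v (nat_lit 0)), (.inv (.v (nat_lit 0))), (.v (nat_lit 1)), (.inv (.v (nat_lit 1))), (.v (nat_lit 2)), (.inv (.v (nat_lit 2))), (.v (nat_lit 3)), (.inv (.v (nat_lit 3))), (.v (nat_lit 4)), (.inv (.v (nat_lit 4))), (.v (nat_lit 5)), (.inv (.v (nat_lit 5))), (.v (nat_lit 6)), (.v (nat_lit 7)), (.inv (.v (nat_lit 7))), (.v (nat_lit 8)), (.v (nat_lit 9))] [12,16,7,16,12,16,6,16] (.mul (.mul (.mul (.mul (.v (nat_lit 9)) (.v (nat_lit 3))) (.inv (.v (nat_lit 9)))) (.v (nat_lit 6))) (.inv (.mul (.v (nat_lit 6)) (.mul (.mul (.v (nat_lit 9)) (.v (nat_lit 3))) (.inv (.v (nat_lit 9))))))) (by decide +kernel)).symm.trans (Subgroup.mem_bot.1 (nct_0 (nct_r h k nn nz e) (H := ⊥) (List.forall_mem_nil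 _)))),
   mul_inv_eq_one.1 ((evA_eq_tm ((InvI.cons h.2.2.2.2.2.2.2.2.2.2.2.2.2.2.2.2.1 (InvI.cons k.1 (InvI.cons nn InvI.nil))) : InvI [z, w, a, c, f, d, t, m, s, n] [(nat_lit 6), (nat_lit 8), (nat_lit 9)]) [(.v (nat_lit 0)), (.inv (.v (nat_lit 0))), (.v (nat_lit 1)), (.inv (.v (nat_lit 1))), (.v (nat_lit 2)), (.inv (.v (nat_lit 2))), (.v (nat_lit 3)), (.inv (.v (nat_lit 3))), (.v (nat_lit 4)), (.inv (.v (nat_lit 4))), (.v (nat_lit 5)), (.inv (.v (nat_lit 5))), (.v (nat_lit 6)), (.v (nat_lit 7)), (.inv (.v (nat_lit 7))), (.v (nat_lit 8)), (.v (nat_lit 9))] [1,16,5,16,0,16,4,16] (.mul (.mul (.mul (.mul (.v (nat_lit 9)) (.v (nat_lit 2))) (.inv (.v (nat_lit 9)))) (.v (nat_lit 0))) (.inv (.mul (.v (nat_lit 0)) (.mul (.mul (.v (nat_lit 9)) (.v (nat_lit 2))) (.inv (.v (nat_lit 9))))))) (by decide +kernel)).symm.trans (Subgroup.mem_bot.1 (nct_1 (nct_r h k nn nz e) (H := ⊥) (List.forall_mem_nil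 _)))),
   mul_inv_eq_one.1 ((evA_eq_tm ((InvI.cons h.2.2.2.2.2.2.2.2.2.2.2.2.2.2.2.2.1 (InvI.cons k.1 (InvI.cons nn InvI.nil))) : InvI [z, w, a, c, f, d, t, m, s, n] [(nat_lit 6), (nat_lit 8), (nat_lit 9)]) [(.v (nat_lit 0)), (.inv (.v (nat_lit 0))), (.v (nat_lit 1)), (.inv (.v (nat_lit 1))), (.v (nat_lit 2)), (.inv (.v (nat_lit 2))), (.v (nat_lit 3)), (.inv (.v (nat_lit 3))), (.v (nat_lit 4)), (.inv (.v (nat_lit 4))), (.v (nat_lit 5)), (.inv (.v (nat_lit 5))), (.v (nat_lit 6)), (.v (nat_lit 7)), (.inv (.v (nat_lit 7))), (.v (nat_lit 8)), (.v (nat_lit 9))] [3,16,5,16,2,16,4,16] (.mul (.mul (.mul (.mul (.v (nat_lit 9)) (.v (nat_lit 2))) (.inv (.v (nat_lit 9)))) (.v (nat_lit 1))) (.inv (.mul (.v (nat_lit 1)) (.mul (.mul (.v (nat_lit 9)) (.v (nat_lit 2))) (.inv (.v (nat_lit 9))))))) (by decide +kernel)).symm.trans (Subgroup.mem_bot.1 (nct_2 (nct_r h k nn nz e) (H := ⊥) (List.forall_mem_nil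 _)))),
   mul_inv_eq_one.1 ((evA_eq_tm ((InvI.cons h.2.2.2.2.2.2.2.2.2.2.2.2.2.2.2.2.1 (InvI.cons k.1 (InvI.cons nn InvI.nil))) : InvI [z, w, a, c, f, d, t, m, s, n] [(nat_lit 6), (nat_lit 8), (nat_lit 9)]) [(.v (nat_lit 0)), (.inv (.v (nat_lit 0))), (.v (nat_lit 1)), (.inv (.v (nat_lit 1))), (.v (nat_lit 2)), (.inv (.v (nat_lit 2))), (.v (nat_lit 3)), (.inv (.v (nat_lit 3))), (.v (nat_lit 4)), (.inv (.v (nat_lit 4))), (.v (nat_lit 5)), (.inv (.v (nat_lit 5))), (.v (nat_lit 6)), (.v (nat_lit 7)), (.inv (.v (nat_lit 7))), (.v (nat_lit 8)), (.v (nat_lit 9))] [15,16,5,16,15,16,4,16] (.mul (.mul (.mul (.mul (.v (nat_lit 9)) (.v (nat_lit 2))) (.inv (.v (nat_lit 9)))) (.v (nat_lit 8))) (.inv (.mul (.v (nat_lit 8)) (.mul (.mul (.v (nat_lit 9)) (.v (nat_lit 2))) (.inv (.v (nat_lit 9))))))) (by decide +kernel)).symm.trans (Subgroup.mem_bot.1 (nct_3 (nct_r h k nn nz e) (H := ⊥) (List.forall_mem_nil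 _)))),
   mul_inv_eq_one.1 ((evA_eq_tm ((InvI.cons h.2.2.2.2.2.2.2.2.2.2.2.2.2.2.2.2.1 (InvI.cons k.1 (InvI.cons nn InvI.nil))) : InvI [z, w, a, c, f, d, t, m, s, n] [(nat_lit 6), (nat_lit 8), (nat_lit 9)]) [(.v (nat_lit 0)), (.inv (.v (nat_lit 0))), (.v (nat_lit 1)), (.inv (.v (nat_lit 1))), (.v (nat_lit 2)), (.inv (.v (nat_lit 2))), (.v (nat_lit 3)), (.inv (.v (nat_lit 3))), (.v (nat_lit 4)), (.inv (.v (nat_lit 4))), (.v (nat_lit 5)), (.inv (.v (nat_lit 5))), (.v (nat_lit 6)), (.v (nat_lit 7)), (.inv (.v (nat_lit 7))), (.v (nat_lit 8)), (.v (nat_lit 9))] [3,16,5,7,4,6,16] (.mul (.mul (.mul (.mul (.mul (.mul (.v (nat_lit 9)) (.v (nat_lit 3))) (.inv (.v (nat_lit 9)))) (.mul (.mul (.v (nat_lit 9)) (.v (nat_lit 2))) (.inv (.v (nat_lit 9))))) (.inv (.mul (.mul (.v (nat_lit 9)) (.v (nat_lit 3))) (.inv (.v (nat_lit 9)))))) (.inv (.mul (.mul (.v (nat_lit 9)) (.v (nat_lit 2))) (.inv (.v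 (nat_lit 9)))))) (.inv (.v (nat_lit 1)))) (by decide +kernel)).symm.trans (Subgroup.mem_bot.1 (nct_4 (nct_r h k nn nz e) (H := ⊥) (List.forall_mem_nil _)))),
   mul_inv_eq_one.1 ((evA_eq_tm ((InvI.cons h.2.2.2.2.2.2.2.2.2.2.2.2.2.2.2.2.1 (InvI.cons k.1 (InvI.cons nn InvI.nil))) : InvI [z, w, a, c, f, d, t, m, s, n] [(nat_lit 6), (nat_lit 8), (nat_lit 9)]) [(.v (nat_lit 0)), (.inv (.v (nat_lit 0))), (.v (nat_lit 1)), (.inv (.v (nat_lit 1))), (.v (nat_lit 2)), (.inv (.v (nat_lit 2))), (.v (nat_lit 3)), (.inv (.v (nat_lit 3))), (.v (nat_lit 4)), (.inv (.v (nat_lit 4))), (.v (nat_lit 5)), (.inv (.v (nat_lit 5))), (.v (nat_lit 6)), (.v (nat_lit 7)), (.inv (.v (nat_lit 7))), (.v (nat_lit 8)), (.v (nat_lit 9))] [1,12,16,8,12,16,8,12,16,8,0,9,16,12,9,16,12,9,16,12] (.mul (.mul (.pw (.mul (.mul (.v (nat_lit 6)) (.v (nat_lit 9))) (.inv (.v (nat_lit 4)))) (nat_lit 3)) (.v (nat_lit 0))) (.inv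 (.mul (.v (nat_lit 0)) (.pw (.mul (.mul (.v (nat_lit 6)) (.v (nat_lit 9))) (.inv (.v (nat_lit 4)))) (nat_lit 3))))) (by decide +kernel)).symm.trans (Subgroup.mem_bot.1 (nct_5 (nct_r h k nn nz e) (H := ⊥) (List.forall_mem_nil _)))),
   mul_inv_eq_one.1 ((evA_eq_tm ((InvI.cons h.2.2.2.2.2.2.2.2.2.2.2.2.2.2.2.2.1 (InvI.cons k.1 (InvI.cons nn InvI.nil))) : InvI [z, w, a, c, f, d, t, m, s, n] [(nat_lit 6), (nat_lit 8), (nat_lit 9)]) [(.v (nat_lit 0)), (.inv (.v (nat_lit 0))), (.v (nat_lit 1)), (.inv (.v (nat_lit 1))), (.v (nat_lit 2)), (.inv (.v (nat_lit 2))), (.v (nat_lit 3)), (.inv (.v (nat_lit 3))), (.v (nat_lit 4)), (.inv (.v (nat_lit 4))), (.v (nat_lit 5)), (.inv (.v (nat_lit 5))), (.v (nat_lit 6)), (.v (nat_lit 7)), (.inv (.v (nat_lit 7))), (.v (nat_lit 8)), (.v (nat_lit 9))] [3,12,16,8,12,16,8,12,16,8,2,9,16,12,9,16,12,9,16,12] (.mul (.mul (.pw (.mul (.mul (.v (nat_lit 6)) (.v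 (nat_lit 9))) (.inv (.v (nat_lit 4)))) (nat_lit 3)) (.v (nat_lit 1))) (.inv (.mul (.v (nat_lit 1)) (.pw (.mul (.mul (.v (nat_lit 6)) (.v (nat_lit 9))) (.inv (.v (nat_lit 4)))) (nat_lit 3))))) (by decide +kernel)).symm.trans (Subgroup.mem_bot.1 (nct_6 (nct_r h k nn nz e) (H := ⊥) (List.forall_mem_nil _)))),
   mul_inv_eq_one.1 ((evA_eq_tm ((InvI.cons h.2.2.2.2.2.2.2.2.2.2.2.2.2.2.2.2.1 (InvI.cons k.1 (InvI.cons nn InvI.nil))) : InvI [z, w, a, c, f, d, t, m, s, n] [(nat_lit 6), (nat_lit 8), (nat_lit 9)]) [(.v (nat_lit 0)), (.inv (.v (nat_lit 0))), (.v (nat_lit 1)), (.inv (.v (nat_lit 1))), (.v (nat_lit 2)), (.inv (.v (nat_lit 2))), (.v (nat_lit 3)), (.inv (.v (nat_lit 3))), (.v (nat_lit 4)), (.inv (.v (nat_lit 4))), (.v (nat_lit 5)), (.inv (.v (nat_lit 5))), (.v (nat_lit 6)), (.v (nat_lit 7)), (.inv (.v (nat_lit 7))), (.v (nat_lit 8)), (.v (nat_lit 9))] [15,12,16,8,12,16,8,12,16,8,15,9,16,12,9,16,12,9,16,12]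 (.mul (.mul (.pw (.mul (.mul (.v (nat_lit 6)) (.v (nat_lit 9))) (.inv (.v (nat_lit 4)))) (nat_lit 3)) (.v (nat_lit 8))) (.inv (.mul (.v (nat_lit 8)) (.pw (.mul (.mul (.v (nat_lit 6)) (.v (nat_lit 9))) (.inv (.v (nat_lit 4)))) (nat_lit 3))))) (by decide +kernel)).symm.trans (Subgroup.mem_bot.1 (nct_7 (nct_r h k nn nz e) (H := ⊥) (List.forall_mem_nil _))))⟩
noncomputable def na1_r_R : List (List ℕ) := [[0,1],
  [1,0],
  [2,3],
  [3,2],
  [4,5],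
  [5,4],
  [6,7],
  [7,6],
  [8,9],
  [9,8],
  [10,11],
  [11,10],
  [12,12],
  [13,14],
  [14,13],
  [15,15],
  [16,16],
  [0,0,0],
  [2,2,2],
  [4,4,4],
  [6,6,6],
  [8,8,8],
  [1,3,0,2],
  [1,5,0,4],
  [1,7,0,6],
  [1,9,0,8],
  [5,3,4,2],
  [7,3,6,2],
  [9,5,8,4],
  [9,7,8,6],
  [1,9,3,8,2],
  [1,5,7,4,6],
  [10,10,10],
  [12,13,13],
  [10,13,10,13,10,13],
  [1,11,0,10],
  [1,14,0,13],
  [12,11,12,10],
  [3,11,2,10],
  [7,11,6,10],
  [5,2,11,4,10],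
  [9,6,11,8,10],
  [5,14,2,13],
  [2,14,4,13],
  [9,14,6,13],
  [6,14,8,13],
  [1,12,0,12],
  [2,12,2,12],
  [4,12,4,12],
  [6,12,6,12],
  [8,12,8,12],
  [0,15,0,15],
  [2,15,2,15],
  [6,15,6,15],
  [10,15,10,15],
  [13,15,13,15],
  [5,15,4,15],
  [9,15,8,15],
  [12,15,12,15],
  [3,16,0,16],
  [15,16,12,16,12],
  [5,16,4,16],
  [5,12,16,8,12,16,8,12,16,8,4,9,16,12,9,16,12,9,16,12]]
theorem na1_r {G : Type*} [Group G] {z w a c f d t m s n : G}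
    (h : CC z w a c f d m t)
    (k : SS z w a c f d m t s)
    (nn : n * n = 1)
    (nz : n * z * n⁻¹ = w)
    (e : (t * n) ^ 2 = s)
    (na : n * a * n⁻¹ = a)
    (ga : (t * n * f⁻¹) ^ 3 * a = a * (t * n * f⁻¹) ^ 3) :
    Rels (nthG [z, z⁻¹, w, w⁻¹, a, a⁻¹, c, c⁻¹, f, f⁻¹, d, d⁻¹, t, m, m⁻¹, s, n]) na1_r_R :=
  rels_of_eqs ((InvI.cons h.2.2.2.2.2.2.2.2.2.2.2.2.2.2.2.2.1 (InvI.cons k.1 (InvI.cons nn InvI.nil))) : InvI [z, w, a, c, f, d, t, m, s, n] [(nat_lit 6), (nat_lit 8), (nat_lit 9)])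
    (AllEq.append (show AllEq [z, w, a, c, f, d, t, m, s, n] [((.pw (.v (nat_lit 0)) (nat_lit 3)), .one), ((.pw (.v (nat_lit 1)) (nat_lit 3)), .one), ((.pw (.v (nat_lit 2)) (nat_lit 3)), .one), ((.pw (.v (nat_lit 3)) (nat_lit 3)), .one), ((.pw (.v (nat_lit 4)) (nat_lit 3)), .one), ((.mul (.v (nat_lit 1)) (.v (nat_lit 0))), (.mul (.v (nat_lit 0)) (.v (nat_lit 1)))), ((.mul (.v (nat_lit 2)) (.v (nat_lit 0))), (.mul (.v (nat_lit 0)) (.v (nat_lit 2)))), ((.mul (.v (nat_lit 3)) (.v (nat_lit 0))), (.mul (.v (nat_lit 0)) (.v (nat_lit 3)))), ((.mul (.v (nat_lit 4)) (.v (nat_lit 0))), (.mul (.v (nat_lit 0)) (.v (nat_lit 4)))), ((.mul (.v (nat_lit 1)) (.v (nat_lit 2))), (.mul (.v (nat_lit 2)) (.v (nat_lit 1)))), ((.mul (.v (nat_lit 1)) (.v (nat_lit 3))), (.mul (.v (nat_lit 3)) (.v (nat_lit 1)))), ((.mul (.v (nat_lit 2)) (.v (nat_lit 4))), (.mul (.v (nat_lit 4)) (.v (nat_lit 2)))), ((.mul (.v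 (nat_lit 3)) (.v (nat_lit 4))), (.mul (.v (nat_lit 4)) (.v (nat_lit 3)))), ((.mul (.mul (.mul (.v (nat_lit 1)) (.v (nat_lit 4))) (.inv (.v (nat_lit 1)))) (.inv (.v (nat_lit 4)))), (.v (nat_lit 0))), ((.mul (.mul (.mul (.v (nat_lit 3)) (.v (nat_lit 2))) (.inv (.v (nat_lit 3)))) (.inv (.v (nat_lit 2)))), (.v (nat_lit 0))), ((.pw (.v (nat_lit 5)) (nat_lit 3)), .one), ((.mul (.v (nat_lit 6)) (.v (nat_lit 6))), .one), ((.mul (.v (nat_lit 7)) (.v (nat_lit 7))), (.v (nat_lit 6))), ((.pw (.mul (.v (nat_lit 7)) (.v (nat_lit 5))) (nat_lit 3)), .one), ((.mul (.v (nat_lit 5)) (.v (nat_lit 0))), (.mul (.v (nat_lit 0)) (.v (nat_lit 5)))), ((.mul (.v (nat_lit 7)) (.v (nat_lit 0))), (.mul (.v (nat_lit 0)) (.v (nat_lit 7)))), ((.mul (.v (nat_lit 5)) (.v (nat_lit 6))), (.mul (.v (nat_lit 6)) (.v (nat_lit 5)))), ((.mul (.v (nat_lit 5)) (.v (nat_lit 1))), (.mul (.v (nat_lit 1)) (.v (nat_lit 5)))), ((.mul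 (.v (nat_lit 5)) (.v (nat_lit 3))), (.mul (.v (nat_lit 3)) (.v (nat_lit 5)))), ((.mul (.mul (.v (nat_lit 5)) (.v (nat_lit 2))) (.inv (.v (nat_lit 5)))), (.mul (.v (nat_lit 2)) (.inv (.v (nat_lit 1))))), ((.mul (.mul (.v (nat_lit 5)) (.v (nat_lit 4))) (.inv (.v (nat_lit 5)))), (.mul (.v (nat_lit 4)) (.inv (.v (nat_lit 3))))), ((.mul (.mul (.v (nat_lit 7)) (.v (nat_lit 1))) (.inv (.v (nat_lit 7)))), (.v (nat_lit 2))), ((.mul (.mul (.v (nat_lit 7)) (.v (nat_lit 2))) (.inv (.v (nat_lit 7)))), (.inv (.v (nat_lit 1)))), ((.mul (.mul (.v (nat_lit 7)) (.v (nat_lit 3))) (.inv (.v (nat_lit 7)))), (.v (nat_lit 4))), ((.mul (.mul (.v (nat_lit 7)) (.v (nat_lit 4))) (.inv (.v (nat_lit 7)))), (.inv (.v (nat_lit 3)))), ((.mul (.v (nat_lit 6)) (.v (nat_lit 0))), (.mul (.v (nat_lit 0)) (.v (nat_lit 6)))), ((.mul (.mul (.v (nat_lit 6)) (.v (nat_lit 1))) (.inv (.v (nat_lit 6)))), (.inv (.v (nat_lit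 1)))), ((.mul (.mul (.v (nat_lit 6)) (.v (nat_lit 2))) (.inv (.v (nat_lit 6)))), (.inv (.v (nat_lit 2)))), ((.mul (.mul (.v (nat_lit 6)) (.v (nat_lit 3))) (.inv (.v (nat_lit 6)))), (.inv (.v (nat_lit 3)))), ((.mul (.mul (.v (nat_lit 6)) (.v (nat_lit 4))) (.inv (.v (nat_lit 6)))), (.inv (.v (nat_lit 4))))] from h)
    (AllEq.append (show AllEq [z, w, a, c, f, d, t, m, s, n] [((.mul (.v (nat_lit 8)) (.v (nat_lit 8))), .one), ((.mul (.mul (.v (nat_lit 8)) (.v (nat_lit 0))) (.inv (.v (nat_lit 8)))), (.inv (.v (nat_lit 0)))), ((.mul (.mul (.v (nat_lit 8)) (.v (nat_lit 1))) (.inv (.v (nat_lit 8)))), (.inv (.v (nat_lit 1)))), ((.mul (.mul (.v (nat_lit 8)) (.v (nat_lit 3))) (.inv (.v (nat_lit 8)))), (.inv (.v (nat_lit 3)))), ((.mul (.mul (.v (nat_lit 8)) (.v (nat_lit 5))) (.inv (.v (nat_lit 8)))), (.inv (.v (nat_lit 5)))), ((.mul (.mul (.v (nat_lit 8)) (.v (nat_lit 7))) (.inv (.v (nat_lit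 8)))), (.inv (.v (nat_lit 7)))), ((.mul (.v (nat_lit 8)) (.v (nat_lit 2))), (.mul (.v (nat_lit 2)) (.v (nat_lit 8)))), ((.mul (.v (nat_lit 8)) (.v (nat_lit 4))), (.mul (.v (nat_lit 4)) (.v (nat_lit 8)))), ((.mul (.v (nat_lit 8)) (.v (nat_lit 6))), (.mul (.v (nat_lit 6)) (.v (nat_lit 8))))] from k)
    (AllEq.append (show AllEq [z, w, a, c, f, d, t, m, s, n] [((.mul (.v (nat_lit 9)) (.v (nat_lit 9))), .one)] from ⟨nn, trivial⟩)
    (AllEq.append (show AllEq [z, w, a, c, f, d, t, m, s, n] [((.mul (.mul (.v (nat_lit 9)) (.v (nat_lit 0))) (.inv (.v (nat_lit 9)))), (.v (nat_lit 1)))] from ⟨nz, trivial⟩)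
    (AllEq.append (show AllEq [z, w, a, c, f, d, t, m, s, n] [((.pw (.mul (.v (nat_lit 6)) (.v (nat_lit 9))) (nat_lit 2)), (.v (nat_lit 8)))] from ⟨e, trivial⟩)
    (AllEq.append (show AllEq [z, w, a, c, f, d, t, m, s, n] [((.mul (.mul (.v (nat_lit 9)) (.v (nat_lit 2))) (.inv (.v (nat_lit 9)))), (.v (nat_lit 2)))] from ⟨na, trivial⟩)
    (show AllEq [z, w, a, c, f, d, t, m, s, n] [((.mul (.pw (.mul (.mul (.v (nat_lit 6)) (.v (nat_lit 9))) (.inv (.v (nat_lit 4)))) (nat_lit 3)) (.v (nat_lit 2))), (.mul (.v (nat_lit 2)) (.pw (.mul (.mul (.v (nat_lit 6)) (.v (nat_lit 9))) (.inv (.v (nat_lit 4)))) (nat_lit 3))))] from ⟨ga, trivial⟩)))))))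
    [(.v (nat_lit 0)), (.inv (.v (nat_lit 0))), (.v (nat_lit 1)), (.inv (.v (nat_lit 1))), (.v (nat_lit 2)), (.inv (.v (nat_lit 2))), (.v (nat_lit 3)), (.inv (.v (nat_lit 3))), (.v (nat_lit 4)), (.inv (.v (nat_lit 4))), (.v (nat_lit 5)), (.inv (.v (nat_lit 5))), (.v (nat_lit 6)), (.v (nat_lit 7)), (.inv (.v (nat_lit 7))), (.v (nat_lit 8)), (.v (nat_lit 9))] (by decide +kernel)
noncomputable def na1_0_S0 : List ℕ := [nat_lit 0xb000008006022, nat_lit 0x1f000007000010004024, nat_lit 0x2f00000b00001c008032, nat_lit 0x2f00000200002c000032, nat_lit 0x3300000f000014006028, nat_lit 0x3b00001300001800802e, nat_lit 0x43000017000014000040008030, nat_lit 0x1b000014000040000019012030, nat_lit 0x4b00001b00001800001500c030, nat_lit 0x4f00001f000024006028, nat_lit 0x5300000600003800002a, nat_lit 0x5700002300002800802e, nat_lit 0x5f00002700002400005c008030, nat_lit 0x2b00002400005c000031012030, nat_lit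 0x6700002b00002800002d00c030, nat_lit 0x6b00000e000064004024, nat_lit 0x6b00000a00004800a024, nat_lit 0x6f00001200003c00002c, nat_lit 0x6f00003300003800802e, nat_lit 0x7b00001a00007800a028, nat_lit 0x7b00001d00004800402c, nat_lit 0x7f00005100004e00402e, nat_lit 0x8700002600005800002c, nat_lit 0x8700004f00005400802e, nat_lit 0x8b00002a000074000032, nat_lit 0x9300003200009000a028, nat_lit 0x9300003500006400402c, nat_lit 0x9700006900006600402e, nat_lit 0x9f000042000084008032, nat_lit 0x9f00003e00009c000032, nat_lit 0xa700005500007f000084008030, nat_lit 0xab0000620000a4002024, nat_lit 0xaf00006d00009700009c008030, nat_lit 0x7a00008300004700004c00002200004500004a0000740000a400007d0000ab00008b00005d00005a00003900006700006400009c00008104e034, nat_lit 0x72000079000086000082002026, nat_lit 0x8900007600008900007200000a, nat_lit 0x8400008d00009b000020, nat_lit 0x48000092000063000012, nat_lit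 0x1c00009600002b000020, nat_lit 0x9a00000700000a]
noncomputable def na1_0_S : List (List ℕ) := [na1_0_S0]
noncomputable def na1_0_defs : List ℕ := [(nat_lit 0x1000023008000220100001d0080001c0100001a0100001800c0001800900017008000160100001400f000130100001100c00011009000100080000f0100000d00f0000c0090000b00c0000a0090000a010000090100000800f0000800f0000700c0000700c0000600900006010000050100000400f0000400f0000300c00003010000020100000100f0000100c00001009000010100000000f0000000c0000000900000005000000040000000000000)]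
noncomputable def na1_0_recs : List ℕ := [(nat_lit 0x50000000000ff0000100000ff0000a00006ff0001800011ff0002000026ff0002600027040002b000290c000260002b05000280002a0c00020000290500026000270400020000270f00023000250f00018000240c0002300024050001c000220c00014000210900015000210f0001d0001f0f000110001e0c0001d0001e0c0000d0001b090000e0001b04000110001a05000180001a1000015000190f000170000a0c00016000170c0000900015050000d00014090000800013100000e000120f00010000060c0000f000100c000050000e09000040000c050000a0000b04000060000b050000300007050000100002)]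
noncomputable def na1_0_T : List (List ℕ × ℕ) := [([4], (nat_lit 0x9e))]
noncomputable def na1_0_D : H26.Dag := ⟨[1,0,3,2,5,4,7,6,9,8,11,10,12,14,13,15,16], [[0,1],
  [1,0],
  [2,3],
  [3,2],
  [4,5],
  [5,4],
  [6,7],
  [7,6],
  [8,9],
  [9,8],
  [10,11],
  [11,10],
  [12,12],
  [13,14],
  [14,13],
  [15,15],
  [16,16],
  [4,4,4],
  [9,5,8,4],
  [4,12,4,12],
  [8,12,8,12],
  [5,15,4,15],
  [9,15,8,15],
  [12,15,12,15],
  [15,16,12,16,12],
  [5,16,4,16],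
  [5,12,16,8,12,16,8,12,16,8,4,9,16,12,9,16,12,9,16,12]], [], na1_0_defs, na1_0_recs⟩
theorem na1_0_c : na1_0_D.check na1_0_S na1_0_T = true := by decide +kernel
theorem na1_0 {G : Type*} [Group G] {g : ℕ → G} (hR : Rels g na1_r_R) {H : Subgroup G}
    (hH : ∀ k ∈ [], g k ∈ H) : evA g [4] ∈ H :=
  mem_dag (K := 17) (J := [0,1,2,3,4,5,6,7,8,9,10,11,12,13,14,15,16,19,28,48,50,56,57,58,60,61,62]) (D := na1_0_D) (by decide +kernel) na1_0_c (by decide +kernel) hR hH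
theorem na1 {G : Type*} [Group G] {z w a c f d t m s n : G}
    (h : CC z w a c f d m t)
    (k : SS z w a c f d m t s)
    (nn : n * n = 1)
    (nz : n * z * n⁻¹ = w)
    (e : (t * n) ^ 2 = s)
    (na : n * a * n⁻¹ = a)
    (ga : (t * n * f⁻¹) ^ 3 * a = a * (t * n * f⁻¹) ^ 3) :
    a = 1 :=
  mul_inv_eq_one.1 ((evA_eq_tm ((InvI.cons h.2.2.2.2.2.2.2.2.2.2.2.2.2.2.2.2.1 (InvI.cons k.1 (InvI.cons nn InvI.nil))) : InvI [z, w, a, c, f, d, t, m, s, n] [(nat_lit 6), (nat_lit 8), (nat_lit 9)]) [(.v (nat_lit 0)), (.inv (.v (nat_lit 0))), (.v (nat_lit 1)), (.inv (.v (nat_lit 1))), (.v (nat_lit 2)), (.inv (.v (nat_lit 2))), (.v (nat_lit 3)), (.inv (.v (nat_lit 3))), (.v (nat_lit 4)), (.inv (.v (nat_lit 4))), (.v (nat_lit 5)), (.inv (.v (nat_lit 5))), (.v (nat_lit 6)), (.v (nat_lit 7)), (.inv (.v (nat_lit 7))), (.v (nat_lit 8)), (.v (nat_lit 9))] [4] (.mul (.v (nat_lit 2)) (.inv .one)) (by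 decide +kernel)).symm.trans (Subgroup.mem_bot.1 (na1_0 (na1_r h k nn nz e na ga) (H := ⊥) (List.forall_mem_nil _))))
noncomputable def na2_r_R : List (List ℕ) := [[0,1],
  [1,0],
  [2,3],
  [3,2],
  [4,5],
  [5,4],
  [6,7],
  [7,6],
  [8,9],
  [9,8],
  [10,11],
  [11,10],
  [12,12],
  [13,14],
  [14,13],
  [15,15],
  [16,16],
  [0,0,0],
  [2,2,2],
  [4,4,4],
  [6,6,6],
  [8,8,8],
  [1,3,0,2],
  [1,5,0,4],
  [1,7,0,6],
  [1,9,0,8],
  [5,3,4,2],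
  [7,3,6,2],
  [9,5,8,4],
  [9,7,8,6],
  [1,9,3,8,2],
  [1,5,7,4,6],
  [10,10,10],
  [12,13,13],
  [10,13,10,13,10,13],
  [1,11,0,10],
  [1,14,0,13],
  [12,11,12,10],
  [3,11,2,10],
  [7,11,6,10],
  [5,2,11,4,10],
  [9,6,11,8,10],
  [5,14,2,13],
  [2,14,4,13],
  [9,14,6,13],
  [6,14,8,13],
  [1,12,0,12],
  [2,12,2,12],
  [4,12,4,12],
  [6,12,6,12],
  [8,12,8,12],
  [0,15,0,15],
  [2,15,2,15],
  [6,15,6,15],
  [10,15,10,15],
  [13,15,13,15],
  [5,15,4,15],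
  [9,15,8,15],
  [12,15,12,15],
  [3,16,0,16],
  [15,16,12,16,12],
  [4,16,4,16]]
theorem na2_r {G : Type*} [Group G] {z w a c f d t m s n : G}
    (h : CC z w a c f d m t)
    (k : SS z w a c f d m t s)
    (nn : n * n = 1)
    (nz : n * z * n⁻¹ = w)
    (e : (t * n) ^ 2 = s)
    (na : n * a * n⁻¹ = a⁻¹) :
    Rels (nthG [z, z⁻¹, w, w⁻¹, a, a⁻¹, c, c⁻¹, f, f⁻¹, d, d⁻¹, t, m, m⁻¹, s, n]) na2_r_R :=
  rels_of_eqs ((InvI.cons h.2.2.2.2.2.2.2.2.2.2.2.2.2.2.2.2.1 (InvI.cons k.1 (InvI.cons nn InvI.nil))) : InvI [z, w, a, c, f, d, t, m, s, n] [(nat_lit 6), (nat_lit 8), (nat_lit 9)])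
    (AllEq.append (show AllEq [z, w, a, c, f, d, t, m, s, n] [((.pw (.v (nat_lit 0)) (nat_lit 3)), .one), ((.pw (.v (nat_lit 1)) (nat_lit 3)), .one), ((.pw (.v (nat_lit 2)) (nat_lit 3)), .one), ((.pw (.v (nat_lit 3)) (nat_lit 3)), .one), ((.pw (.v (nat_lit 4)) (nat_lit 3)), .one), ((.mul (.v (nat_lit 1)) (.v (nat_lit 0))), (.mul (.v (nat_lit 0)) (.v (nat_lit 1)))), ((.mul (.v (nat_lit 2)) (.v (nat_lit 0))), (.mul (.v (nat_lit 0)) (.v (nat_lit 2)))), ((.mul (.v (nat_lit 3)) (.v (nat_lit 0))), (.mul (.v (nat_lit 0)) (.v (nat_lit 3)))), ((.mul (.v (nat_lit 4)) (.v (nat_lit 0))), (.mul (.v (nat_lit 0)) (.v (nat_lit 4)))), ((.mul (.v (nat_lit 1)) (.v (nat_lit 2))), (.mul (.v (nat_lit 2)) (.v (nat_lit 1)))), ((.mul (.v (nat_lit 1)) (.v (nat_lit 3))), (.mul (.v (nat_lit 3)) (.v (nat_lit 1)))), ((.mul (.v (nat_lit 2)) (.v (nat_lit 4))), (.mul (.v (nat_lit 4)) (.v (nat_lit 2)))), ((.mul (.v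 (nat_lit 3)) (.v (nat_lit 4))), (.mul (.v (nat_lit 4)) (.v (nat_lit 3)))), ((.mul (.mul (.mul (.v (nat_lit 1)) (.v (nat_lit 4))) (.inv (.v (nat_lit 1)))) (.inv (.v (nat_lit 4)))), (.v (nat_lit 0))), ((.mul (.mul (.mul (.v (nat_lit 3)) (.v (nat_lit 2))) (.inv (.v (nat_lit 3)))) (.inv (.v (nat_lit 2)))), (.v (nat_lit 0))), ((.pw (.v (nat_lit 5)) (nat_lit 3)), .one), ((.mul (.v (nat_lit 6)) (.v (nat_lit 6))), .one), ((.mul (.v (nat_lit 7)) (.v (nat_lit 7))), (.v (nat_lit 6))), ((.pw (.mul (.v (nat_lit 7)) (.v (nat_lit 5))) (nat_lit 3)), .one), ((.mul (.v (nat_lit 5)) (.v (nat_lit 0))), (.mul (.v (nat_lit 0)) (.v (nat_lit 5)))), ((.mul (.v (nat_lit 7)) (.v (nat_lit 0))), (.mul (.v (nat_lit 0)) (.v (nat_lit 7)))), ((.mul (.v (nat_lit 5)) (.v (nat_lit 6))), (.mul (.v (nat_lit 6)) (.v (nat_lit 5)))), ((.mul (.v (nat_lit 5)) (.v (nat_lit 1))), (.mul (.v (nat_lit 1)) (.v (nat_lit 5)))), ((.mul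 (.v (nat_lit 5)) (.v (nat_lit 3))), (.mul (.v (nat_lit 3)) (.v (nat_lit 5)))), ((.mul (.mul (.v (nat_lit 5)) (.v (nat_lit 2))) (.inv (.v (nat_lit 5)))), (.mul (.v (nat_lit 2)) (.inv (.v (nat_lit 1))))), ((.mul (.mul (.v (nat_lit 5)) (.v (nat_lit 4))) (.inv (.v (nat_lit 5)))), (.mul (.v (nat_lit 4)) (.inv (.v (nat_lit 3))))), ((.mul (.mul (.v (nat_lit 7)) (.v (nat_lit 1))) (.inv (.v (nat_lit 7)))), (.v (nat_lit 2))), ((.mul (.mul (.v (nat_lit 7)) (.v (nat_lit 2))) (.inv (.v (nat_lit 7)))), (.inv (.v (nat_lit 1)))), ((.mul (.mul (.v (nat_lit 7)) (.v (nat_lit 3))) (.inv (.v (nat_lit 7)))), (.v (nat_lit 4))), ((.mul (.mul (.v (nat_lit 7)) (.v (nat_lit 4))) (.inv (.v (nat_lit 7)))), (.inv (.v (nat_lit 3)))), ((.mul (.v (nat_lit 6)) (.v (nat_lit 0))), (.mul (.v (nat_lit 0)) (.v (nat_lit 6)))), ((.mul (.mul (.v (nat_lit 6)) (.v (nat_lit 1))) (.inv (.v (nat_lit 6)))), (.inv (.v (nat_lit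 1)))), ((.mul (.mul (.v (nat_lit 6)) (.v (nat_lit 2))) (.inv (.v (nat_lit 6)))), (.inv (.v (nat_lit 2)))), ((.mul (.mul (.v (nat_lit 6)) (.v (nat_lit 3))) (.inv (.v (nat_lit 6)))), (.inv (.v (nat_lit 3)))), ((.mul (.mul (.v (nat_lit 6)) (.v (nat_lit 4))) (.inv (.v (nat_lit 6)))), (.inv (.v (nat_lit 4))))] from h)
    (AllEq.append (show AllEq [z, w, a, c, f, d, t, m, s, n] [((.mul (.v (nat_lit 8)) (.v (nat_lit 8))), .one), ((.mul (.mul (.v (nat_lit 8)) (.v (nat_lit 0))) (.inv (.v (nat_lit 8)))), (.inv (.v (nat_lit 0)))), ((.mul (.mul (.v (nat_lit 8)) (.v (nat_lit 1))) (.inv (.v (nat_lit 8)))), (.inv (.v (nat_lit 1)))), ((.mul (.mul (.v (nat_lit 8)) (.v (nat_lit 3))) (.inv (.v (nat_lit 8)))), (.inv (.v (nat_lit 3)))), ((.mul (.mul (.v (nat_lit 8)) (.v (nat_lit 5))) (.inv (.v (nat_lit 8)))), (.inv (.v (nat_lit 5)))), ((.mul (.mul (.v (nat_lit 8)) (.v (nat_lit 7))) (.inv (.v (nat_lit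 8)))), (.inv (.v (nat_lit 7)))), ((.mul (.v (nat_lit 8)) (.v (nat_lit 2))), (.mul (.v (nat_lit 2)) (.v (nat_lit 8)))), ((.mul (.v (nat_lit 8)) (.v (nat_lit 4))), (.mul (.v (nat_lit 4)) (.v (nat_lit 8)))), ((.mul (.v (nat_lit 8)) (.v (nat_lit 6))), (.mul (.v (nat_lit 6)) (.v (nat_lit 8))))] from k)
    (AllEq.append (show AllEq [z, w, a, c, f, d, t, m, s, n] [((.mul (.v (nat_lit 9)) (.v (nat_lit 9))), .one)] from ⟨nn, trivial⟩)
    (AllEq.append (show AllEq [z, w, a, c, f, d, t, m, s, n] [((.mul (.mul (.v (nat_lit 9)) (.v (nat_lit 0))) (.inv (.v (nat_lit 9)))), (.v (nat_lit 1)))] from ⟨nz, trivial⟩)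
    (AllEq.append (show AllEq [z, w, a, c, f, d, t, m, s, n] [((.pw (.mul (.v (nat_lit 6)) (.v (nat_lit 9))) (nat_lit 2)), (.v (nat_lit 8)))] from ⟨e, trivial⟩)
    (show AllEq [z, w, a, c, f, d, t, m, s, n] [((.mul (.mul (.v (nat_lit 9)) (.v (nat_lit 2))) (.inv (.v (nat_lit 9)))), (.inv (.v (nat_lit 2))))] from ⟨na, trivial⟩))))))
    [(.v (nat_lit 0)), (.inv (.v (nat_lit 0))), (.v (nat_lit 1)), (.inv (.v (nat_lit 1))), (.v (nat_lit 2)), (.inv (.v (nat_lit 2))), (.v (nat_lit 3)), (.inv (.v (nat_lit 3))), (.v (nat_lit 4)), (.inv (.v (nat_lit 4))), (.v (nat_lit 5)), (.inv (.v (nat_lit 5))), (.v (nat_lit 6)), (.v (nat_lit 7)), (.inv (.v (nat_lit 7))), (.v (nat_lit 8)), (.v (nat_lit 9))] (by decide +kernel)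
noncomputable def na2_0_S0 : List ℕ := [nat_lit 0x1300000b000008006022, nat_lit 0x1700000f00000100a024]
noncomputable def na2_0_S : List (List ℕ) := [na2_0_S0]
noncomputable def na2_0_defs : List ℕ := [(nat_lit 0x50000300c00002010000010050000000c0000000000000)]
noncomputable def na2_0_recs : List ℕ := [(nat_lit 0x100000400005050000100004)]
noncomputable def na2_0_T : List (List ℕ × ℕ) := [([12,16,5,16,12,4], (nat_lit 0xc00001400000500001700000f000007))]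
noncomputable def na2_0_D : H26.Dag := ⟨[1,0,3,2,5,4,7,6,9,8,11,10,12,14,13,15,16], [[0,1],
  [1,0],
  [2,3],
  [3,2],
  [4,5],
  [5,4],
  [6,7],
  [7,6],
  [8,9],
  [9,8],
  [10,11],
  [11,10],
  [12,12],
  [13,14],
  [14,13],
  [15,15],
  [16,16],
  [4,12,4,12],
  [4,16,4,16]], [], na2_0_defs, na2_0_recs⟩
theorem na2_0_c : na2_0_D.check na2_0_S na2_0_T = true := by decide +kernel
theorem na2_0 {G : Type*} [Group G] {g : ℕ → G} (hR : Rels g na2_r_R) {H : Subgroup G}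
    (hH : ∀ k ∈ [], g k ∈ H) : evA g [12,16,5,16,12,4] ∈ H :=
  mem_dag (K := 17) (J := [0,1,2,3,4,5,6,7,8,9,10,11,12,13,14,15,16,48,61]) (D := na2_0_D) (by decide +kernel) na2_0_c (by decide +kernel) hR hH
noncomputable def na2_1_S0 : List ℕ := [nat_lit 0x1300000b000008000010012022, nat_lit 0x1f00001700000100001c00c022]
noncomputable def na2_1_S : List (List ℕ) := [na2_1_S0]
noncomputable def na2_1_defs : List ℕ := [(nat_lit 0xc0000500c00004010000030100000200c0000100c000000100000000000000)]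
noncomputable def na2_1_recs : List ℕ := [(nat_lit 0x1000006000070f0000300004)]
noncomputable def na2_1_T : List (List ℕ × ℕ) := [([16,12,16,12,16,12,16,12], (nat_lit 0xc00001400001c00000500001f00001700000f000007))]
noncomputable def na2_1_D : H26.Dag := ⟨[1,0,3,2,5,4,7,6,9,8,11,10,12,14,13,15,16], [[0,1],
  [1,0],
  [2,3],
  [3,2],
  [4,5],
  [5,4],
  [6,7],
  [7,6],
  [8,9],
  [9,8],
  [10,11],
  [11,10],
  [12,12],
  [13,14],
  [14,13],
  [15,15],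
  [16,16],
  [15,16,12,16,12]], [], na2_1_defs, na2_1_recs⟩
theorem na2_1_c : na2_1_D.check na2_1_S na2_1_T = true := by decide +kernel
theorem na2_1 {G : Type*} [Group G] {g : ℕ → G} (hR : Rels g na2_r_R) {H : Subgroup G}
    (hH : ∀ k ∈ [], g k ∈ H) : evA g [16,12,16,12,16,12,16,12] ∈ H :=
  mem_dag (K := 17) (J := [0,1,2,3,4,5,6,7,8,9,10,11,12,13,14,15,16,60]) (D := na2_1_D) (by decide +kernel) na2_1_c (by decide +kernel) hR hH
noncomputable def na2_2_S0 : List ℕ := [nat_lit 0x2300001b00001300000b012024, nat_lit 0x2700001f00001700000f012024, nat_lit 0x2000008000005000022]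
noncomputable def na2_2_S : List (List ℕ) := [na2_2_S0]
noncomputable def na2_2_defs : List ℕ := [(nat_lit 0x10000070100000600c0000500c00004010000030100000200c0000100c000000090000000000000)]
noncomputable def na2_2_recs : List ℕ := [(nat_lit 0x900009000080f00001000090f0000000008)]
noncomputable def na2_2_T : List (List ℕ × ℕ) := [([9,12,16,12,16,8,16,12,16,12], (nat_lit 0xc00001400001c00002400000a00002700001f00001700000f000007))]
noncomputable def na2_2_D : H26.Dag := ⟨[1,0,3,2,5,4,7,6,9,8,11,10,12,14,13,15,16], [[0,1],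
  [1,0],
  [2,3],
  [3,2],
  [4,5],
  [5,4],
  [6,7],
  [7,6],
  [8,9],
  [9,8],
  [10,11],
  [11,10],
  [12,12],
  [13,14],
  [14,13],
  [15,15],
  [16,16],
  [9,15,8,15],
  [15,16,12,16,12]], [], na2_2_defs, na2_2_recs⟩
theorem na2_2_c : na2_2_D.check na2_2_S na2_2_T = true := by decide +kernel
theorem na2_2 {G : Type*} [Group G] {g : ℕ → G} (hR : Rels g na2_r_R) {H : Subgroup G}
    (hH : ∀ k ∈ [], g k ∈ H) : evA g [9,12,16,12,16,8,16,12,16,12] ∈ H :=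
  mem_dag (K := 17) (J := [0,1,2,3,4,5,6,7,8,9,10,11,12,13,14,15,16,57,60]) (D := na2_2_D) (by decide +kernel) na2_2_c (by decide +kernel) hR hH
theorem na2 {G : Type*} [Group G] {z w a c f d t m s n : G}
    (h : CC z w a c f d m t)
    (k : SS z w a c f d m t s)
    (nn : n * n = 1)
    (nz : n * z * n⁻¹ = w)
    (e : (t * n) ^ 2 = s)
    (na : n * a * n⁻¹ = a⁻¹) :
    a * (t * n) = t * n * a ∧ (t * n) ^ 4 = 1 ∧ (t * n) ^ 2 * f = f * (t * n) ^ 2 :=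
  ⟨mul_inv_eq_one.1 ((evA_eq_tm ((InvI.cons h.2.2.2.2.2.2.2.2.2.2.2.2.2.2.2.2.1 (InvI.cons k.1 (InvI.cons nn InvI.nil))) : InvI [z, w, a, c, f, d, t, m, s, n] [(nat_lit 6), (nat_lit 8), (nat_lit 9)]) [(.v (nat_lit 0)), (.inv (.v (nat_lit 0))), (.v (nat_lit 1)), (.inv (.v (nat_lit 1))), (.v (nat_lit 2)), (.inv (.v (nat_lit 2))), (.v (nat_lit 3)), (.inv (.v (nat_lit 3))), (.v (nat_lit 4)), (.inv (.v (nat_lit 4))), (.v (nat_lit 5)), (.inv (.v (nat_lit 5))), (.v (nat_lit 6)), (.v (nat_lit 7)), (.inv (.v (nat_lit 7))), (.v (nat_lit 8)), (.v (nat_lit 9))] [12,16,5,16,12,4] (.mul (.mul (.v (nat_lit 2)) (.mul (.v (nat_lit 6)) (.v (nat_lit 9)))) (.inv (.mul (.mul (.v (nat_lit 6)) (.v (nat_lit 9))) (.v (nat_lit 2))))) (by decide +kernel)).symm.trans (Subgroup.mem_bot.1 (na2_0 (na2_r h k nn nz e na) (H := ⊥) (List.forall_mem_nil _)))),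
   mul_inv_eq_one.1 ((evA_eq_tm ((InvI.cons h.2.2.2.2.2.2.2.2.2.2.2.2.2.2.2.2.1 (InvI.cons k.1 (InvI.cons nn InvI.nil))) : InvI [z, w, a, c, f, d, t, m, s, n] [(nat_lit 6), (nat_lit 8), (nat_lit 9)]) [(.v (nat_lit 0)), (.inv (.v (nat_lit 0))), (.v (nat_lit 1)), (.inv (.v (nat_lit 1))), (.v (nat_lit 2)), (.inv (.v (nat_lit 2))), (.v (nat_lit 3)), (.inv (.v (nat_lit 3))), (.v (nat_lit 4)), (.inv (.v (nat_lit 4))), (.v (nat_lit 5)), (.inv (.v (nat_lit 5))), (.v (nat_lit 6)), (.v (nat_lit 7)), (.inv (.v (nat_lit 7))), (.v (nat_lit 8)), (.v (nat_lit 9))] [16,12,16,12,16,12,16,12] (.mul (.pw (.mul (.v (nat_lit 6)) (.v (nat_lit 9))) (nat_lit 4)) (.inv .one)) (by decide +kernel)).symm.trans (Subgroup.mem_bot.1 (na2_1 (na2_r h k nn nz e na) (H := ⊥) (List.forall_mem_nil _)))),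
   mul_inv_eq_one.1 ((evA_eq_tm ((InvI.cons h.2.2.2.2.2.2.2.2.2.2.2.2.2.2.2.2.1 (InvI.cons k.1 (InvI.cons nn InvI.nil))) : InvI [z, w, a, c, f, d, t, m, s, n] [(nat_lit 6), (nat_lit 8), (nat_lit 9)]) [(.v (nat_lit 0)), (.inv (.v (nat_lit 0))), (.v (nat_lit 1)), (.inv (.v (nat_lit 1))), (.v (nat_lit 2)), (.inv (.v (nat_lit 2))), (.v (nat_lit 3)), (.inv (.v (nat_lit 3))), (.v (nat_lit 4)), (.inv (.v (nat_lit 4))), (.v (nat_lit 5)), (.inv (.v (nat_lit 5))), (.v (nat_lit 6)), (.v (nat_lit 7)), (.inv (.v (nat_lit 7))), (.v (nat_lit 8)), (.v (nat_lit 9))] [9,12,16,12,16,8,16,12,16,12] (.mul (.mul (.pw (.mul (.v (nat_lit 6)) (.v (nat_lit 9))) (nat_lit 2)) (.v (nat_lit 4))) (.inv (.mul (.v (nat_lit 4)) (.pw (.mul (.v (nat_lit 6)) (.v (nat_lit 9))) (nat_lit 2))))) (by decide +kernel)).symm.trans (Subgroup.mem_bot.1 (na2_2 (na2_r h k nn nz e na) (H := ⊥) (List.forall_mem_nil _))))⟩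
noncomputable def nb_r_R : List (List ℕ) := [[0,1],
  [1,0],
  [2,3],
  [3,2],
  [4,5],
  [5,4],
  [6,7],
  [7,6],
  [8,9],
  [9,8],
  [10,11],
  [11,10],
  [12,12],
  [13,14],
  [14,13],
  [15,15],
  [16,16],
  [0,0,0],
  [2,2,2],
  [4,4,4],
  [6,6,6],
  [8,8,8],
  [1,3,0,2],
  [1,5,0,4],
  [1,7,0,6],
  [1,9,0,8],
  [5,3,4,2],
  [7,3,6,2],
  [9,5,8,4],
  [9,7,8,6],
  [1,9,3,8,2],
  [1,5,7,4,6],
  [10,10,10],
  [12,13,13],
  [10,13,10,13,10,13],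
  [1,11,0,10],
  [1,14,0,13],
  [12,11,12,10],
  [3,11,2,10],
  [7,11,6,10],
  [5,2,11,4,10],
  [9,6,11,8,10],
  [5,14,2,13],
  [2,14,4,13],
  [9,14,6,13],
  [6,14,8,13],
  [1,12,0,12],
  [2,12,2,12],
  [4,12,4,12],
  [6,12,6,12],
  [8,12,8,12],
  [0,15,0,15],
  [2,15,2,15],
  [6,15,6,15],
  [10,15,10,15],
  [13,15,13,15],
  [5,15,4,15],
  [9,15,8,15],
  [12,15,12,15],
  [3,16,0,16],
  [15,16,12,16,12],
  [4,16,4,16]]
theorem nb_r {G : Type*} [Group G] {z w a c f d t m s n : G}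
    (h : CC z w a c f d m t)
    (k : SS z w a c f d m t s)
    (nn : n * n = 1)
    (nz : n * z * n⁻¹ = w)
    (e : (t * n) ^ 2 = s)
    (na : n * a * n⁻¹ = a⁻¹) :
    Rels (nthG [z, z⁻¹, w, w⁻¹, a, a⁻¹, c, c⁻¹, f, f⁻¹, d, d⁻¹, t, m, m⁻¹, s, n]) nb_r_R :=
  rels_of_eqs ((InvI.cons h.2.2.2.2.2.2.2.2.2.2.2.2.2.2.2.2.1 (InvI.cons k.1 (InvI.cons nn InvI.nil))) : InvI [z, w, a, c, f, d, t, m, s, n] [(nat_lit 6), (nat_lit 8), (nat_lit 9)])
    (AllEq.append (show AllEq [z, w, a, c, f, d, t, m, s, n] [((.pw (.v (nat_lit 0)) (nat_lit 3)), .one), ((.pw (.v (nat_lit 1)) (nat_lit 3)), .one), ((.pw (.v (nat_lit 2)) (nat_lit 3)), .one), ((.pw (.v (nat_lit 3)) (nat_lit 3)), .one), ((.pw (.v (nat_lit 4)) (nat_lit 3)), .one), ((.mul (.v (nat_lit 1)) (.v (nat_lit 0))), (.mul (.v (nat_lit 0)) (.v (nat_lit 1)))), ((.mul (.v (nat_lit 2)) (.v (nat_lit 0))), (.mul (.v (nat_lit 0)) (.v (nat_lit 2)))),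 ((.mul (.v (nat_lit 3)) (.v (nat_lit 0))), (.mul (.v (nat_lit 0)) (.v (nat_lit 3)))), ((.mul (.v (nat_lit 4)) (.v (nat_lit 0))), (.mul (.v (nat_lit 0)) (.v (nat_lit 4)))), ((.mul (.v (nat_lit 1)) (.v (nat_lit 2))), (.mul (.v (nat_lit 2)) (.v (nat_lit 1)))), ((.mul (.v (nat_lit 1)) (.v (nat_lit 3))), (.mul (.v (nat_lit 3)) (.v (nat_lit 1)))), ((.mul (.v (nat_lit 2)) (.v (nat_lit 4))), (.mul (.v (nat_lit 4)) (.v (nat_lit 2)))), ((.mul (.v (nat_lit 3)) (.v (nat_lit 4))), (.mul (.v (nat_lit 4)) (.v (nat_lit 3)))), ((.mul (.mul (.mul (.v (nat_lit 1)) (.v (nat_lit 4))) (.inv (.v (nat_lit 1)))) (.inv (.v (nat_lit 4)))), (.v (nat_lit 0))), ((.mul (.mul (.mul (.v (nat_lit 3)) (.v (nat_lit 2))) (.inv (.v (nat_lit 3)))) (.inv (.v (nat_lit 2)))), (.v (nat_lit 0))), ((.pw (.v (nat_lit 5)) (nat_lit 3)), .one), ((.mul (.v (nat_lit 6)) (.v (nat_lit 6))), .one), ((.mul (.v (nat_lit 7)) (.v (nat_lit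 7))), (.v (nat_lit 6))), ((.pw (.mul (.v (nat_lit 7)) (.v (nat_lit 5))) (nat_lit 3)), .one), ((.mul (.v (nat_lit 5)) (.v (nat_lit 0))), (.mul (.v (nat_lit 0)) (.v (nat_lit 5)))), ((.mul (.v (nat_lit 7)) (.v (nat_lit 0))), (.mul (.v (nat_lit 0)) (.v (nat_lit 7)))), ((.mul (.v (nat_lit 5)) (.v (nat_lit 6))), (.mul (.v (nat_lit 6)) (.v (nat_lit 5)))), ((.mul (.v (nat_lit 5)) (.v (nat_lit 1))), (.mul (.v (nat_lit 1)) (.v (nat_lit 5)))), ((.mul (.v (nat_lit 5)) (.v (nat_lit 3))), (.mul (.v (nat_lit 3)) (.v (nat_lit 5)))), ((.mul (.mul (.v (nat_lit 5)) (.v (nat_lit 2))) (.inv (.v (nat_lit 5)))), (.mul (.v (nat_lit 2)) (.inv (.v (nat_lit 1))))), ((.mul (.mul (.v (nat_lit 5)) (.v (nat_lit 4))) (.inv (.v (nat_lit 5)))), (.mul (.v (nat_lit 4)) (.inv (.v (nat_lit 3))))), ((.mul (.mul (.v (nat_lit 7)) (.v (nat_lit 1))) (.inv (.v (nat_lit 7)))), (.v (nat_lit 2))), ((.mul (.mul (.v (nat_lit 7))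 (.v (nat_lit 2))) (.inv (.v (nat_lit 7)))), (.inv (.v (nat_lit 1)))), ((.mul (.mul (.v (nat_lit 7)) (.v (nat_lit 3))) (.inv (.v (nat_lit 7)))), (.v (nat_lit 4))), ((.mul (.mul (.v (nat_lit 7)) (.v (nat_lit 4))) (.inv (.v (nat_lit 7)))), (.inv (.v (nat_lit 3)))), ((.mul (.v (nat_lit 6)) (.v (nat_lit 0))), (.mul (.v (nat_lit 0)) (.v (nat_lit 6)))), ((.mul (.mul (.v (nat_lit 6)) (.v (nat_lit 1))) (.inv (.v (nat_lit 6)))), (.inv (.v (nat_lit 1)))), ((.mul (.mul (.v (nat_lit 6)) (.v (nat_lit 2))) (.inv (.v (nat_lit 6)))), (.inv (.v (nat_lit 2)))), ((.mul (.mul (.v (nat_lit 6)) (.v (nat_lit 3))) (.inv (.v (nat_lit 6)))), (.inv (.v (nat_lit 3)))), ((.mul (.mul (.v (nat_lit 6)) (.v (nat_lit 4))) (.inv (.v (nat_lit 6)))), (.inv (.v (nat_lit 4))))] from h)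
    (AllEq.append (show AllEq [z, w, a, c, f, d, t, m, s, n] [((.mul (.v (nat_lit 8)) (.v (nat_lit 8))), .one), ((.mul (.mul (.v (nat_lit 8)) (.v (nat_lit 0))) (.inv (.v (nat_lit 8)))), (.inv (.v (nat_lit 0)))), ((.mul (.mul (.v (nat_lit 8)) (.v (nat_lit 1))) (.inv (.v (nat_lit 8)))), (.inv (.v (nat_lit 1)))), ((.mul (.mul (.v (nat_lit 8)) (.v (nat_lit 3))) (.inv (.v (nat_lit 8)))), (.inv (.v (nat_lit 3)))), ((.mul (.mul (.v (nat_lit 8)) (.v (nat_lit 5))) (.inv (.v (nat_lit 8)))), (.inv (.v (nat_lit 5)))), ((.mul (.mul (.v (nat_lit 8)) (.v (nat_lit 7))) (.inv (.v (nat_lit 8)))), (.inv (.v (nat_lit 7)))), ((.mul (.v (nat_lit 8)) (.v (nat_lit 2))), (.mul (.v (nat_lit 2)) (.v (nat_lit 8)))), ((.mul (.v (nat_lit 8)) (.v (nat_lit 4))), (.mul (.v (nat_lit 4)) (.v (nat_lit 8)))), ((.mul (.v (nat_lit 8)) (.v (nat_lit 6))), (.mul (.v (nat_lit 6)) (.v (nat_lit 8))))] from k)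
    (AllEq.append (show AllEq [z, w, a, c, f, d, t, m, s, n] [((.mul (.v (nat_lit 9)) (.v (nat_lit 9))), .one)] from ⟨nn, trivial⟩)
    (AllEq.append (show AllEq [z, w, a, c, f, d, t, m, s, n] [((.mul (.mul (.v (nat_lit 9)) (.v (nat_lit 0))) (.inv (.v (nat_lit 9)))), (.v (nat_lit 1)))] from ⟨nz, trivial⟩)
    (AllEq.append (show AllEq [z, w, a, c, f, d, t, m, s, n] [((.pw (.mul (.v (nat_lit 6)) (.v (nat_lit 9))) (nat_lit 2)), (.v (nat_lit 8)))] from ⟨e, trivial⟩)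
    (show AllEq [z, w, a, c, f, d, t, m, s, n] [((.mul (.mul (.v (nat_lit 9)) (.v (nat_lit 2))) (.inv (.v (nat_lit 9)))), (.inv (.v (nat_lit 2))))] from ⟨na, trivial⟩))))))
    [(.v (nat_lit 0)), (.inv (.v (nat_lit 0))), (.v (nat_lit 1)), (.inv (.v (nat_lit 1))), (.v (nat_lit 2)), (.inv (.v (nat_lit 2))), (.v (nat_lit 3)), (.inv (.v (nat_lit 3))), (.v (nat_lit 4)), (.inv (.v (nat_lit 4))), (.v (nat_lit 5)), (.inv (.v (nat_lit 5))), (.v (nat_lit 6)), (.v (nat_lit 7)), (.inv (.v (nat_lit 7))), (.v (nat_lit 8)), (.v (nat_lit 9))] (by decide +kernel)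
noncomputable def nb_0_S0 : List ℕ := [nat_lit 0xf00000700000c008022, nat_lit 0x1700000200001400e028, nat_lit 0x1f00000600001c006026, nat_lit 0x2700000a00002400802a, nat_lit 0x2f00000e00002c008024, nat_lit 0x37000012000034008028]
noncomputable def nb_0_S : List (List ℕ) := [nb_0_S0]
noncomputable def nb_0_defs : List ℕ := [(nat_lit 0x100000b0100000a00e0000900e00008010000070100000600e0000500e00004010000030100000200e0000100e000000010000000000000)]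
noncomputable def nb_0_recs : List ℕ := [(nat_lit 0xc0000d020000a0000b040000800009050000600007020000400005000000200003)]
noncomputable def nb_0_T : List (List ℕ × ℕ) := [([1,14,16,14,16,14,16,0,16,13,16,13,16,13], (nat_lit 0xc00001400001c00002400002c00003400001500003700002f00002700001f00001700000f000007))]
noncomputable def nb_0_D : H26.Dag := ⟨[1,0,3,2,5,4,7,6,9,8,11,10,12,14,13,15,16], [[0,1],
  [1,0],
  [2,3],
  [3,2],
  [4,5],
  [5,4],
  [6,7],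
  [7,6],
  [8,9],
  [9,8],
  [10,11],
  [11,10],
  [12,12],
  [13,14],
  [14,13],
  [15,15],
  [16,16],
  [1,14,0,13],
  [5,14,2,13],
  [2,14,4,13],
  [3,16,0,16],
  [4,16,4,16]], [], nb_0_defs, nb_0_recs⟩
theorem nb_0_c : nb_0_D.check nb_0_S nb_0_T = true := by decide +kernel
theorem nb_0 {G : Type*} [Group G] {g : ℕ → G} (hR : Rels g nb_r_R) {H : Subgroup G}
    (hH : ∀ k ∈ [], g k ∈ H) : evA g [1,14,16,14,16,14,16,0,16,13,16,13,16,13] ∈ H :=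
  mem_dag (K := 17) (J := [0,1,2,3,4,5,6,7,8,9,10,11,12,13,14,15,16,36,42,43,59,61]) (D := nb_0_D) (by decide +kernel) nb_0_c (by decide +kernel) hR hH
noncomputable def nb_1_S0 : List ℕ := [nat_lit 0xf00000700000c006026, nat_lit 0x1700000200001400802a, nat_lit 0x1f00000600001c008024, nat_lit 0x2700000a000024008028, nat_lit 0x2f00000e00002c008022, nat_lit 0x3700001200003400e028]
noncomputable def nb_1_S : List (List ℕ) := [nb_1_S0]
noncomputable def nb_1_defs : List ℕ := [(nat_lit 0x100000b0100000a00e0000900e00008010000070100000600e0000500e00004010000030100000200e0000100e000000030000000000000)]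
noncomputable def nb_1_recs : List ℕ := [(nat_lit 0x20000c0000d000000a0000b000000800009020000600007040000400005050000200003)]
noncomputable def nb_1_T : List (List ℕ × ℕ) := [([3,14,16,14,16,14,16,2,16,13,16,13,16,13], (nat_lit 0xc00001400001c00002400002c00003400001500003700002f00002700001f00001700000f000007))]
noncomputable def nb_1_D : H26.Dag := ⟨[1,0,3,2,5,4,7,6,9,8,11,10,12,14,13,15,16], [[0,1],
  [1,0],
  [2,3],
  [3,2],
  [4,5],
  [5,4],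
  [6,7],
  [7,6],
  [8,9],
  [9,8],
  [10,11],
  [11,10],
  [12,12],
  [13,14],
  [14,13],
  [15,15],
  [16,16],
  [1,14,0,13],
  [5,14,2,13],
  [2,14,4,13],
  [3,16,0,16],
  [4,16,4,16]], [], nb_1_defs, nb_1_recs⟩
theorem nb_1_c : nb_1_D.check nb_1_S nb_1_T = true := by decide +kernel
theorem nb_1 {G : Type*} [Group G] {g : ℕ → G} (hR : Rels g nb_r_R) {H : Subgroup G}
    (hH : ∀ k ∈ [], g k ∈ H) : evA g [3,14,16,14,16,14,16,2,16,13,16,13,16,13] ∈ H :=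
  mem_dag (K := 17) (J := [0,1,2,3,4,5,6,7,8,9,10,11,12,13,14,15,16,36,42,43,59,61]) (D := nb_1_D) (by decide +kernel) nb_1_c (by decide +kernel) hR hH
noncomputable def nb_2_S0 : List ℕ := [nat_lit 0xf00000700000c008024, nat_lit 0x17000002000014008028, nat_lit 0x1f00000600001c008022, nat_lit 0x2700000a00002400e028, nat_lit 0x2f00000e00002c006026, nat_lit 0x3700001200003400802a]
noncomputable def nb_2_S : List (List ℕ) := [nb_2_S0]
noncomputable def nb_2_defs : List ℕ := [(nat_lit 0x100000b0100000a00e0000900e00008010000070100000600e0000500e00004010000030100000200e0000100e000000050000000000000)]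
noncomputable def nb_2_recs : List ℕ := [(nat_lit 0x40000c0000d050000a0000b020000800009000000600007000000400005020000200003)]
noncomputable def nb_2_T : List (List ℕ × ℕ) := [([5,14,16,14,16,14,16,4,16,13,16,13,16,13], (nat_lit 0xc00001400001c00002400002c00003400001500003700002f00002700001f00001700000f000007))]
noncomputable def nb_2_D : H26.Dag := ⟨[1,0,3,2,5,4,7,6,9,8,11,10,12,14,13,15,16], [[0,1],
  [1,0],
  [2,3],
  [3,2],
  [4,5],
  [5,4],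
  [6,7],
  [7,6],
  [8,9],
  [9,8],
  [10,11],
  [11,10],
  [12,12],
  [13,14],
  [14,13],
  [15,15],
  [16,16],
  [1,14,0,13],
  [5,14,2,13],
  [2,14,4,13],
  [3,16,0,16],
  [4,16,4,16]], [], nb_2_defs, nb_2_recs⟩
theorem nb_2_c : nb_2_D.check nb_2_S nb_2_T = true := by decide +kernel
theorem nb_2 {G : Type*} [Group G] {g : ℕ → G} (hR : Rels g nb_r_R) {H : Subgroup G}
    (hH : ∀ k ∈ [], g k ∈ H) : evA g [5,14,16,14,16,14,16,4,16,13,16,13,16,13] ∈ H :=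
  mem_dag (K := 17) (J := [0,1,2,3,4,5,6,7,8,9,10,11,12,13,14,15,16,36,42,43,59,61]) (D := nb_2_D) (by decide +kernel) nb_2_c (by decide +kernel) hR hH
noncomputable def nb_3_S0 : List ℕ := [nat_lit 0xb000008006022, nat_lit 0xf00000100a022, nat_lit 0x3b00001c004022, nat_lit 0x3b000013000005000018000026, nat_lit 0x1f00000d00000a00a024, nat_lit 0x3f000020000022, nat_lit 0x4300002300001100001500c026, nat_lit 0x27000015000019000043012026, nat_lit 0x4700002c000022, nat_lit 0x4700001d000030004024, nat_lit 0x37000025000022000034008026]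
noncomputable def nb_3_S : List (List ℕ) := [nb_3_S0]
noncomputable def nb_3_defs : List ℕ := [(nat_lit 0xd0000800c0000800d0000500c000040100000b0100000a00e0000900e00008010000070100000600e0000500e00004010000030100000200e0000100e0000000c0000000000000)]
noncomputable def nb_3_recs : List ℕ := [(nat_lit 0xc0000c0000d0f0000b000110c0000a000110f0000800009100000f000100c000070000f0f00006000070f000050000e0d000060000e0c00002000030e0000100002)]
noncomputable def nb_3_T : List (List ℕ × ℕ) := [([12,14,16,14,16,14,16,12,16,13,16,13,16,13], (nat_lit 0xc00001400001c00002400002c00003400002900003700002f00002700001f00001700000f000007))]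
noncomputable def nb_3_D : H26.Dag := ⟨[1,0,3,2,5,4,7,6,9,8,11,10,12,14,13,15,16], [[0,1],
  [1,0],
  [2,3],
  [3,2],
  [4,5],
  [5,4],
  [6,7],
  [7,6],
  [8,9],
  [9,8],
  [10,11],
  [11,10],
  [12,12],
  [13,14],
  [14,13],
  [15,15],
  [16,16],
  [12,13,13],
  [13,15,13,15],
  [15,16,12,16,12]], [], nb_3_defs, nb_3_recs⟩
theorem nb_3_c : nb_3_D.check nb_3_S nb_3_T = true := by decide +kernel
theorem nb_3 {G : Type*} [Group G] {g : ℕ → G} (hR : Rels g nb_r_R) {H : Subgroup G}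
    (hH : ∀ k ∈ [], g k ∈ H) : evA g [12,14,16,14,16,14,16,12,16,13,16,13,16,13] ∈ H :=
  mem_dag (K := 17) (J := [0,1,2,3,4,5,6,7,8,9,10,11,12,13,14,15,16,33,55,60]) (D := nb_3_D) (by decide +kernel) nb_3_c (by decide +kernel) hR hH
noncomputable def nb_4_S0 : List ℕ := [nat_lit 0x3b00000c000022, nat_lit 0x3b000008000010004024, nat_lit 0x17000005000002000014008026, nat_lit 0x1b000009006022, nat_lit 0x1f00000d00a022, nat_lit 0x3f00002c004022, nat_lit 0x3f000023000011000028000026, nat_lit 0x2f00001900001600a024, nat_lit 0x43000030000022, nat_lit 0x4700003300001d00002100c026, nat_lit 0x37000021000025000047012026]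
noncomputable def nb_4_S : List (List ℕ) := [nb_4_S0]
noncomputable def nb_4_defs : List ℕ := [(nat_lit 0xc0000c00d0000900c0000800d000000100000b0100000a00e0000900e00008010000070100000600e0000500e00004010000030100000200e0000100e0000000f0000000000000)]
noncomputable def nb_4_recs : List ℕ := [(nat_lit 0xf0000c0000d1000010000110c0000b000100f0000a0000b0f000090000f0d0000a0000f0c00006000070e00005000060c00004000050f000030000e0c000020000e)]
noncomputable def nb_4_T : List (List ℕ × ℕ) := [([15,14,16,14,16,14,16,15,16,13,16,13,16,13], (nat_lit 0xc00001400001c00002400002c00003400002900003700002f00002700001f00001700000f000007))]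
noncomputable def nb_4_D : H26.Dag := ⟨[1,0,3,2,5,4,7,6,9,8,11,10,12,14,13,15,16], [[0,1],
  [1,0],
  [2,3],
  [3,2],
  [4,5],
  [5,4],
  [6,7],
  [7,6],
  [8,9],
  [9,8],
  [10,11],
  [11,10],
  [12,12],
  [13,14],
  [14,13],
  [15,15],
  [16,16],
  [12,13,13],
  [13,15,13,15],
  [15,16,12,16,12]], [], nb_4_defs, nb_4_recs⟩
theorem nb_4_c : nb_4_D.check nb_4_S nb_4_T = true := by decide +kernel
theorem nb_4 {G : Type*} [Group G] {g : ℕ → G} (hR : Rels g nb_r_R) {H : Subgroup G}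
    (hH : ∀ k ∈ [], g k ∈ H) : evA g [15,14,16,14,16,14,16,15,16,13,16,13,16,13] ∈ H :=
  mem_dag (K := 17) (J := [0,1,2,3,4,5,6,7,8,9,10,11,12,13,14,15,16,33,55,60]) (D := nb_4_D) (by decide +kernel) nb_4_c (by decide +kernel) hR hH
theorem nb {G : Type*} [Group G] {z w a c f d t m s n : G}
    (h : CC z w a c f d m t)
    (k : SS z w a c f d m t s)
    (nn : n * n = 1)
    (nz : n * z * n⁻¹ = w)
    (e : (t * n) ^ 2 = s)
    (na : n * a * n⁻¹ = a⁻¹) :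
    (m * n) ^ 3 * z = z * (m * n) ^ 3 ∧ (m * n) ^ 3 * w = w * (m * n) ^ 3 ∧ (m * n) ^ 3 * a = a * (m * n) ^ 3 ∧ (m * n) ^ 3 * t = t * (m * n) ^ 3 ∧ (m * n) ^ 3 * s = s * (m * n) ^ 3 :=
  ⟨mul_inv_eq_one.1 ((evA_eq_tm ((InvI.cons h.2.2.2.2.2.2.2.2.2.2.2.2.2.2.2.2.1 (InvI.cons k.1 (InvI.cons nn InvI.nil))) : InvI [z, w, a, c, f, d, t, m, s, n] [(nat_lit 6), (nat_lit 8), (nat_lit 9)]) [(.v (nat_lit 0)), (.inv (.v (nat_lit 0))), (.v (nat_lit 1)), (.inv (.v (nat_lit 1))), (.v (nat_lit 2)), (.inv (.v (nat_lit 2))), (.v (nat_lit 3)), (.inv (.v (nat_lit 3))), (.v (nat_lit 4)), (.inv (.v (nat_lit 4))), (.v (nat_lit 5)), (.inv (.v (nat_lit 5))), (.v (nat_lit 6)), (.v (nat_lit 7)), (.inv (.v (nat_lit 7))), (.v (nat_lit 8)), (.v (nat_lit 9))] [1,14,16,14,16,14,16,0,16,13,16,13,16,13] (.mul (.mul (.pw (.mul (.v (nat_lit 7)) (.v (nat_lit 9))) (nat_lit 3)) (.v (nat_lit 0))) (.inv (.mul (.v (nat_lit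 0)) (.pw (.mul (.v (nat_lit 7)) (.v (nat_lit 9))) (nat_lit 3))))) (by decide +kernel)).symm.trans (Subgroup.mem_bot.1 (nb_0 (nb_r h k nn nz e na) (H := ⊥) (List.forall_mem_nil _)))),
   mul_inv_eq_one.1 ((evA_eq_tm ((InvI.cons h.2.2.2.2.2.2.2.2.2.2.2.2.2.2.2.2.1 (InvI.cons k.1 (InvI.cons nn InvI.nil))) : InvI [z, w, a, c, f, d, t, m, s, n] [(nat_lit 6), (nat_lit 8), (nat_lit 9)]) [(.v (nat_lit 0)), (.inv (.v (nat_lit 0))), (.v (nat_lit 1)), (.inv (.v (nat_lit 1))), (.v (nat_lit 2)), (.inv (.v (nat_lit 2))), (.v (nat_lit 3)), (.inv (.v (nat_lit 3))), (.v (nat_lit 4)), (.inv (.v (nat_lit 4))), (.v (nat_lit 5)), (.inv (.v (nat_lit 5))), (.v (nat_lit 6)), (.v (nat_lit 7)), (.inv (.v (nat_lit 7))), (.v (nat_lit 8)), (.v (nat_lit 9))] [3,14,16,14,16,14,16,2,16,13,16,13,16,13] (.mul (.mul (.pw (.mul (.v (nat_lit 7)) (.v (nat_lit 9))) (nat_lit 3)) (.v (nat_lit 1))) (.inv (.mul (.v (nat_lit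 1)) (.pw (.mul (.v (nat_lit 7)) (.v (nat_lit 9))) (nat_lit 3))))) (by decide +kernel)).symm.trans (Subgroup.mem_bot.1 (nb_1 (nb_r h k nn nz e na) (H := ⊥) (List.forall_mem_nil _)))),
   mul_inv_eq_one.1 ((evA_eq_tm ((InvI.cons h.2.2.2.2.2.2.2.2.2.2.2.2.2.2.2.2.1 (InvI.cons k.1 (InvI.cons nn InvI.nil))) : InvI [z, w, a, c, f, d, t, m, s, n] [(nat_lit 6), (nat_lit 8), (nat_lit 9)]) [(.v (nat_lit 0)), (.inv (.v (nat_lit 0))), (.v (nat_lit 1)), (.inv (.v (nat_lit 1))), (.v (nat_lit 2)), (.inv (.v (nat_lit 2))), (.v (nat_lit 3)), (.inv (.v (nat_lit 3))), (.v (nat_lit 4)), (.inv (.v (nat_lit 4))), (.v (nat_lit 5)), (.inv (.v (nat_lit 5))), (.v (nat_lit 6)), (.v (nat_lit 7)), (.inv (.v (nat_lit 7))), (.v (nat_lit 8)), (.v (nat_lit 9))] [5,14,16,14,16,14,16,4,16,13,16,13,16,13] (.mul (.mul (.pw (.mul (.v (nat_lit 7)) (.v (nat_lit 9))) (nat_lit 3)) (.v (nat_lit 2))) (.inv (.mul (.v (nat_lit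 2)) (.pw (.mul (.v (nat_lit 7)) (.v (nat_lit 9))) (nat_lit 3))))) (by decide +kernel)).symm.trans (Subgroup.mem_bot.1 (nb_2 (nb_r h k nn nz e na) (H := ⊥) (List.forall_mem_nil _)))),
   mul_inv_eq_one.1 ((evA_eq_tm ((InvI.cons h.2.2.2.2.2.2.2.2.2.2.2.2.2.2.2.2.1 (InvI.cons k.1 (InvI.cons nn InvI.nil))) : InvI [z, w, a, c, f, d, t, m, s, n] [(nat_lit 6), (nat_lit 8), (nat_lit 9)]) [(.v (nat_lit 0)), (.inv (.v (nat_lit 0))), (.v (nat_lit 1)), (.inv (.v (nat_lit 1))), (.v (nat_lit 2)), (.inv (.v (nat_lit 2))), (.v (nat_lit 3)), (.inv (.v (nat_lit 3))), (.v (nat_lit 4)), (.inv (.v (nat_lit 4))), (.v (nat_lit 5)), (.inv (.v (nat_lit 5))), (.v (nat_lit 6)), (.v (nat_lit 7)), (.inv (.v (nat_lit 7))), (.v (nat_lit 8)), (.v (nat_lit 9))] [12,14,16,14,16,14,16,12,16,13,16,13,16,13] (.mul (.mul (.pw (.mul (.v (nat_lit 7)) (.v (nat_lit 9))) (nat_lit 3)) (.v (nat_lit 6))) (.inv (.mul (.v (nat_lit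 6)) (.pw (.mul (.v (nat_lit 7)) (.v (nat_lit 9))) (nat_lit 3))))) (by decide +kernel)).symm.trans (Subgroup.mem_bot.1 (nb_3 (nb_r h k nn nz e na) (H := ⊥) (List.forall_mem_nil _)))),
   mul_inv_eq_one.1 ((evA_eq_tm ((InvI.cons h.2.2.2.2.2.2.2.2.2.2.2.2.2.2.2.2.1 (InvI.cons k.1 (InvI.cons nn InvI.nil))) : InvI [z, w, a, c, f, d, t, m, s, n] [(nat_lit 6), (nat_lit 8), (nat_lit 9)]) [(.v (nat_lit 0)), (.inv (.v (nat_lit 0))), (.v (nat_lit 1)), (.inv (.v (nat_lit 1))), (.v (nat_lit 2)), (.inv (.v (nat_lit 2))), (.v (nat_lit 3)), (.inv (.v (nat_lit 3))), (.v (nat_lit 4)), (.inv (.v (nat_lit 4))), (.v (nat_lit 5)), (.inv (.v (nat_lit 5))), (.v (nat_lit 6)), (.v (nat_lit 7)), (.inv (.v (nat_lit 7))), (.v (nat_lit 8)), (.v (nat_lit 9))] [15,14,16,14,16,14,16,15,16,13,16,13,16,13] (.mul (.mul (.pw (.mul (.v (nat_lit 7)) (.v (nat_lit 9))) (nat_lit 3)) (.v (nat_lit 8))) (.inv (.mul (.v (nat_lit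 8)) (.pw (.mul (.v (nat_lit 7)) (.v (nat_lit 9))) (nat_lit 3))))) (by decide +kernel)).symm.trans (Subgroup.mem_bot.1 (nb_4 (nb_r h k nn nz e na) (H := ⊥) (List.forall_mem_nil _))))⟩
noncomputable def ng3_r_R : List (List ℕ) := [[0,1],
  [1,0],
  [2,3],
  [3,2],
  [4,5],
  [5,4],
  [0,0,0,0],
  [2,2,2],
  [3,1,1,2,0,0],
  [5,3,0,3,0,3,0],
  [4,4,4],
  [1,5,0,4],
  [3,5,2,4]]
theorem ng3_r {G : Type*} [Group G] {x f y : G}
    (e1 : x ^ 4 = 1)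
    (e2 : f ^ 3 = 1)
    (e3 : x ^ 2 * f = f * x ^ 2)
    (e4 : (x * f⁻¹) ^ 3 = y)
    (e5 : y ^ 3 = 1)
    (e6 : y * x = x * y)
    (e7 : y * f = f * y) :
    Rels (nthG [x, x⁻¹, f, f⁻¹, y, y⁻¹]) ng3_r_R :=
  rels_of_eqs (InvI.nil : InvI [x, f, y] [])
    (AllEq.append (show AllEq [x, f, y] [((.pw (.v (nat_lit 0)) (nat_lit 4)), .one)] from ⟨e1, trivial⟩)
    (AllEq.append (show AllEq [x, f, y] [((.pw (.v (nat_lit 1)) (nat_lit 3)), .one)] from ⟨e2, trivial⟩)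
    (AllEq.append (show AllEq [x, f, y] [((.mul (.pw (.v (nat_lit 0)) (nat_lit 2)) (.v (nat_lit 1))), (.mul (.v (nat_lit 1)) (.pw (.v (nat_lit 0)) (nat_lit 2))))] from ⟨e3, trivial⟩)
    (AllEq.append (show AllEq [x, f, y] [((.pw (.mul (.v (nat_lit 0)) (.inv (.v (nat_lit 1)))) (nat_lit 3)), (.v (nat_lit 2)))] from ⟨e4, trivial⟩)
    (AllEq.append (show AllEq [x, f, y] [((.pw (.v (nat_lit 2)) (nat_lit 3)), .one)] from ⟨e5, trivial⟩)
    (AllEq.append (show AllEq [x, f, y] [((.mul (.v (nat_lit 2)) (.v (nat_lit 0))), (.mul (.v (nat_lit 0)) (.v (nat_lit 2))))] from ⟨e6, trivial⟩)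
    (show AllEq [x, f, y] [((.mul (.v (nat_lit 2)) (.v (nat_lit 1))), (.mul (.v (nat_lit 1)) (.v (nat_lit 2))))] from ⟨e7, trivial⟩)))))))
    [(.v (nat_lit 0)), (.inv (.v (nat_lit 0))), (.v (nat_lit 1)), (.inv (.v (nat_lit 1))), (.v (nat_lit 2)), (.inv (.v (nat_lit 2)))] (by decide +kernel)
noncomputable def ng3_0_S0 : List ℕ := [nat_lit 0x1f00000700000c00400c, nat_lit 0x2700002400600e, nat_lit 0x3300003000600e, nat_lit 0x3700000b00001800e016, nat_lit 0x4700000f00001c006018, nat_lit 0x4f00000200000b000010000044010010, nat_lit 0x4f00001f000007000010000040002010, nat_lit 0x5300005000600e, nat_lit 0x5300001f00000700001400004c004010, nat_lit 0x5700001f00002c000016, nat_lit 0x5700000200003800e016, nat_lit 0x5b000023000020000002000030014010, nat_lit 0x5f00002300002c000018, nat_lit 0x6300000600005c00002e000009014010, nat_lit 0x6700006400003600600c, nat_lit 0x6b000006000060000018, nat_lit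 0x6f00006c006014, nat_lit 0x7300002f000038000018, nat_lit 0x7700003300003c008018, nat_lit 0x7b00001900004f00000200003c000049012012, nat_lit 0x7b00001900004f00000200003400003901a012, nat_lit 0x6f000068000051006016, nat_lit 0x7f00007c00600e, nat_lit 0x8300004300004000007c00004e010010, nat_lit 0x8700008400600e, nat_lit 0x8b000043000048008016, nat_lit 0x9300009000600e, nat_lit 0x9300004b00001300001800000d000045010012, nat_lit 0x3200002500002a00004500006d010010, nat_lit 0x6900007100003d000041000056000059010012, nat_lit 0x6200005e00004d000059000075010010, nat_lit 0x8b00001500001d000022000090000079000087004012, nat_lit 0x4400007d000066000002, nat_lit 0x10000082000012000004, nat_lit 0x1700008600001b00000a, nat_lit 0x8900001700000a]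
noncomputable def ng3_0_S : List (List ℕ) := [ng3_0_S0]
noncomputable def ng3_0_defs : List ℕ := [(nat_lit 0x300012002000120050001000300010002000100030000f0020000f0050000c0040000b00500009004000090010000900000009004000080000000800400007003000070020000700000004005000030010000300000003005000020040000200300002002000020040000100300001002000010000000100500000004000000030000000200000001000000000000000000000)]
noncomputable def ng3_0_recs : List ℕ := [(nat_lit 0x50000000000ff0000000005ff0000600000ff0001100003ff0001000022000002300021000001f00023000002400017000001c00024030002300024000001100022030002000021000001d00020030001e0001f010001e0001b04000190001e010001d0001e020000e0001d030000d0001c050001a0001b03000170001a010000c00019000000c00018030000a00017000000b00016000000d00015010000a00015010001200014030001300014010000f0001300000100001303000060001100000050000d030000b0000c030000800009000000200007)]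
noncomputable def ng3_0_T : List (List ℕ × ℕ) := [([4], (nat_lit 0x8e))]
noncomputable def ng3_0_D : H26.Dag := ⟨[1,0,3,2,5,4], [[0,1],
  [1,0],
  [2,3],
  [3,2],
  [4,5],
  [5,4],
  [0,0,0,0],
  [2,2,2],
  [3,1,1,2,0,0],
  [5,3,0,3,0,3,0],
  [4,4,4],
  [1,5,0,4],
  [3,5,2,4]], [], ng3_0_defs, ng3_0_recs⟩
theorem ng3_0_c : ng3_0_D.check ng3_0_S ng3_0_T = true := by decide +kernel
theorem ng3_0 {G : Type*} [Group G] {g : ℕ → G} (hR : Rels g ng3_r_R) {H : Subgroup G}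
    (hH : ∀ k ∈ [], g k ∈ H) : evA g [4] ∈ H :=
  mem_dag (K := 6) (J := [0,1,2,3,4,5,6,7,8,9,10,11,12]) (D := ng3_0_D) (by decide +kernel) ng3_0_c (by decide +kernel) hR hH
theorem ng3 {G : Type*} [Group G] {x f y : G}
    (e1 : x ^ 4 = 1)
    (e2 : f ^ 3 = 1)
    (e3 : x ^ 2 * f = f * x ^ 2)
    (e4 : (x * f⁻¹) ^ 3 = y)
    (e5 : y ^ 3 = 1)
    (e6 : y * x = x * y)
    (e7 : y * f = f * y) :
    y = 1 :=
  mul_inv_eq_one.1 ((evA_eq_tm (InvI.nil : InvI [x, f, y] []) [(.v (nat_lit 0)), (.inv (.v (nat_lit 0))), (.v (nat_lit 1)), (.inv (.v (nat_lit 1))), (.v (nat_lit 2)), (.inv (.v (nat_lit 2)))] [4] (.mul (.v (nat_lit 2)) (.inv .one)) (by decide +kernel)).symm.trans (Subgroup.mem_bot.1 (ng3_0 (ng3_r e1 e2 e3 e4 e5 e6 e7) (H := ⊥) (List.forall_mem_nil _))))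

end H24.L4
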