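import Cfsg.Agent.H24.LA1g

/-! Generated: the centralizer of an involution. -/

set_option maxRecDepth 100000
set_option maxHeartbeats 4000000
set_option linter.unusedVariables false

open Subgroup
open scoped commutatorElement
namespace H24.L4
open H0 H0.PM H16 H19 H10.X

def KK {G : Type*} [Group G] (d z m y t s g : G) : Prop :=
  d ^ 3 = 1 ∧
  z ^ 3 = 1 ∧
  t * t = 1 ∧
  s * s = 1 ∧
  g * g = 1 ∧
  m * m = t ∧
  y * y = t ∧
  (m * d) ^ 3 = 1 ∧
  (y * z) ^ 3 = 1 ∧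
  d * t = t * d ∧
  z * t = t * z ∧
  d * z = z * d ∧
  m * z = z * m ∧
  d * y = y * d ∧
  m * y = y * m ∧
  s * z * s⁻¹ = z⁻¹ ∧
  s * d * s⁻¹ = d⁻¹ ∧
  s * m * s⁻¹ = m⁻¹ ∧
  s * y * s⁻¹ = y⁻¹ ∧
  s * t = t * s ∧
  g * z * g⁻¹ = d ∧
  g * d * g⁻¹ = z ∧
  g * m * g⁻¹ = y ∧
  g * s = s * g ∧
  g * t = t * g ∧
  m * t = t * m ∧
  y * t = t * y ∧
  g * y * g⁻¹ = m ∧ True
noncomputable def sg0_r_R : List (List ℕ) := [[0,1],
  [1,0],
  [2,3],
  [3,2],
  [4,5],
  [5,4],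
  [6,7],
  [7,6],
  [8,9],
  [9,8],
  [10,11],
  [11,10],
  [12,12],
  [13,14],
  [14,13],
  [15,15],
  [16,16],
  [17,17],
  [0,0,0],
  [2,2,2],
  [4,4,4],
  [6,6,6],
  [8,8,8],
  [1,3,0,2],
  [1,5,0,4],
  [1,7,0,6],
  [1,9,0,8],
  [5,3,4,2],
  [7,3,6,2],
  [9,5,8,4],
  [9,7,8,6],
  [1,9,3,8,2],
  [1,5,7,4,6],
  [10,10,10],
  [12,13,13],
  [10,13,10,13,10,13],
  [1,11,0,10],
  [1,14,0,13],
  [12,11,12,10],
  [3,11,2,10],
  [7,11,6,10],
  [5,2,11,4,10],
  [9,6,11,8,10],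
  [5,14,2,13],
  [2,14,4,13],
  [9,14,6,13],
  [6,14,8,13],
  [1,12,0,12],
  [2,12,2,12],
  [4,12,4,12],
  [6,12,6,12],
  [8,12,8,12],
  [0,15,0,15],
  [2,15,2,15],
  [6,15,6,15],
  [10,15,10,15],
  [13,15,13,15],
  [5,15,4,15],
  [9,15,8,15],
  [12,15,12,15],
  [3,16,0,16],
  [4,16,4,16],
  [11,16,6,16],
  [15,16,12,16,12],
  [9,16,12,9,16,12,9,16,12],
  [16,13,16,13,16,13],
  [7,17,0,17],
  [8,17,8,17],
  [11,17,2,17],
  [15,17,12,17,12],
  [5,17,12,5,17,12,5,17,12],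
  [17,13,17,13,17,13]]
theorem sg0_r {G : Type*} [Group G] {z w a c f d t m s n p : G}
    (h : CC z w a c f d m t)
    (k : SS z w a c f d m t s)
    (l : NN z w a c f d m t s n)
    (l2 : NN z c f w a d m t s p) :
    Rels (nthG [z, z⁻¹, w, w⁻¹, a, a⁻¹, c, c⁻¹, f, f⁻¹, d, d⁻¹, t, m, m⁻¹, s, n, p]) sg0_r_R :=
  rels_of_eqs ((InvI.cons h.2.2.2.2.2.2.2.2.2.2.2.2.2.2.2.2.1 (InvI.cons k.1 (InvI.cons l.1 (InvI.cons l2.1 InvI.nil)))) : InvI [z, w, a, c, f, d, t, m, s, n, p] [(nat_lit 6), (nat_lit 8), (nat_lit 9), (nat_lit 10)])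
    (AllEq.append (show AllEq [z, w, a, c, f, d, t, m, s, n, p] [((.pw (.v (nat_lit 0)) (nat_lit 3)), .one), ((.pw (.v (nat_lit 1)) (nat_lit 3)), .one), ((.pw (.v (nat_lit 2)) (nat_lit 3)), .one), ((.pw (.v (nat_lit 3)) (nat_lit 3)), .one), ((.pw (.v (nat_lit 4)) (nat_lit 3)), .one), ((.mul (.v (nat_lit 1)) (.v (nat_lit 0))), (.mul (.v (nat_lit 0)) (.v (nat_lit 1)))), ((.mul (.v (nat_lit 2)) (.v (nat_lit 0))), (.mul (.v (nat_lit 0)) (.v (nat_lit 2)))), ((.mul (.v (nat_lit 3)) (.v (nat_lit 0))), (.mul (.v (nat_lit 0)) (.v (nat_lit 3)))), ((.mul (.v (nat_lit 4)) (.v (nat_lit 0))), (.mul (.v (nat_lit 0)) (.v (nat_lit 4)))), ((.mul (.v (nat_lit 1)) (.v (nat_lit 2))), (.mul (.v (nat_lit 2)) (.v (nat_lit 1)))), ((.mul (.v (nat_lit 1)) (.v (nat_lit 3))), (.mul (.v (nat_lit 3)) (.v (nat_lit 1)))), ((.mul (.v (nat_lit 2)) (.v (nat_lit 4))), (.mul (.v (nat_lit 4)) (.v (nat_lit 2)))), ((.mul (.v (nat_lit 3)) (.v (nat_lit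 4))), (.mul (.v (nat_lit 4)) (.v (nat_lit 3)))), ((.mul (.mul (.mul (.v (nat_lit 1)) (.v (nat_lit 4))) (.inv (.v (nat_lit 1)))) (.inv (.v (nat_lit 4)))), (.v (nat_lit 0))), ((.mul (.mul (.mul (.v (nat_lit 3)) (.v (nat_lit 2))) (.inv (.v (nat_lit 3)))) (.inv (.v (nat_lit 2)))), (.v (nat_lit 0))), ((.pw (.v (nat_lit 5)) (nat_lit 3)), .one), ((.mul (.v (nat_lit 6)) (.v (nat_lit 6))), .one), ((.mul (.v (nat_lit 7)) (.v (nat_lit 7))), (.v (nat_lit 6))), ((.pw (.mul (.v (nat_lit 7)) (.v (nat_lit 5))) (nat_lit 3)), .one), ((.mul (.v (nat_lit 5)) (.v (nat_lit 0))), (.mul (.v (nat_lit 0)) (.v (nat_lit 5)))), ((.mul (.v (nat_lit 7)) (.v (nat_lit 0))), (.mul (.v (nat_lit 0)) (.v (nat_lit 7)))), ((.mul (.v (nat_lit 5)) (.v (nat_lit 6))), (.mul (.v (nat_lit 6)) (.v (nat_lit 5)))), ((.mul (.v (nat_lit 5)) (.v (nat_lit 1))), (.mul (.v (nat_lit 1)) (.v (nat_lit 5)))), ((.mul (.v (nat_lit 5)) (.v (nat_lit 3))), (.mul (.v (nat_lit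 3)) (.v (nat_lit 5)))), ((.mul (.mul (.v (nat_lit 5)) (.v (nat_lit 2))) (.inv (.v (nat_lit 5)))), (.mul (.v (nat_lit 2)) (.inv (.v (nat_lit 1))))), ((.mul (.mul (.v (nat_lit 5)) (.v (nat_lit 4))) (.inv (.v (nat_lit 5)))), (.mul (.v (nat_lit 4)) (.inv (.v (nat_lit 3))))), ((.mul (.mul (.v (nat_lit 7)) (.v (nat_lit 1))) (.inv (.v (nat_lit 7)))), (.v (nat_lit 2))), ((.mul (.mul (.v (nat_lit 7)) (.v (nat_lit 2))) (.inv (.v (nat_lit 7)))), (.inv (.v (nat_lit 1)))), ((.mul (.mul (.v (nat_lit 7)) (.v (nat_lit 3))) (.inv (.v (nat_lit 7)))), (.v (nat_lit 4))), ((.mul (.mul (.v (nat_lit 7)) (.v (nat_lit 4))) (.inv (.v (nat_lit 7)))), (.inv (.v (nat_lit 3)))), ((.mul (.v (nat_lit 6)) (.v (nat_lit 0))), (.mul (.v (nat_lit 0)) (.v (nat_lit 6)))), ((.mul (.mul (.v (nat_lit 6)) (.v (nat_lit 1))) (.inv (.v (nat_lit 6)))), (.inv (.v (nat_lit 1)))), ((.mul (.mul (.v (nat_lit 6)) (.v (nat_lit 2))) (.inv (.v (nat_lit 6)))), (.inv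 (.v (nat_lit 2)))), ((.mul (.mul (.v (nat_lit 6)) (.v (nat_lit 3))) (.inv (.v (nat_lit 6)))), (.inv (.v (nat_lit 3)))), ((.mul (.mul (.v (nat_lit 6)) (.v (nat_lit 4))) (.inv (.v (nat_lit 6)))), (.inv (.v (nat_lit 4))))] from h)
    (AllEq.append (show AllEq [z, w, a, c, f, d, t, m, s, n, p] [((.mul (.v (nat_lit 8)) (.v (nat_lit 8))), .one), ((.mul (.mul (.v (nat_lit 8)) (.v (nat_lit 0))) (.inv (.v (nat_lit 8)))), (.inv (.v (nat_lit 0)))), ((.mul (.mul (.v (nat_lit 8)) (.v (nat_lit 1))) (.inv (.v (nat_lit 8)))), (.inv (.v (nat_lit 1)))), ((.mul (.mul (.v (nat_lit 8)) (.v (nat_lit 3))) (.inv (.v (nat_lit 8)))), (.inv (.v (nat_lit 3)))), ((.mul (.mul (.v (nat_lit 8)) (.v (nat_lit 5))) (.inv (.v (nat_lit 8)))), (.inv (.v (nat_lit 5)))), ((.mul (.mul (.v (nat_lit 8)) (.v (nat_lit 7))) (.inv (.v (nat_lit 8)))), (.inv (.v (nat_lit 7)))), ((.mul (.v (nat_lit 8)) (.v (nat_lit 2))), (.mul (.v (nat_lit 2)) (.v (nat_lit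 8)))), ((.mul (.v (nat_lit 8)) (.v (nat_lit 4))), (.mul (.v (nat_lit 4)) (.v (nat_lit 8)))), ((.mul (.v (nat_lit 8)) (.v (nat_lit 6))), (.mul (.v (nat_lit 6)) (.v (nat_lit 8))))] from k)
    (AllEq.append (show AllEq [z, w, a, c, f, d, t, m, s, n, p] [((.mul (.v (nat_lit 9)) (.v (nat_lit 9))), .one), ((.mul (.mul (.v (nat_lit 9)) (.v (nat_lit 0))) (.inv (.v (nat_lit 9)))), (.v (nat_lit 1))), ((.mul (.mul (.v (nat_lit 9)) (.v (nat_lit 2))) (.inv (.v (nat_lit 9)))), (.inv (.v (nat_lit 2)))), ((.mul (.mul (.v (nat_lit 9)) (.v (nat_lit 3))) (.inv (.v (nat_lit 9)))), (.v (nat_lit 5))), ((.pw (.mul (.v (nat_lit 6)) (.v (nat_lit 9))) (nat_lit 2)), (.v (nat_lit 8))), ((.pw (.mul (.mul (.v (nat_lit 6)) (.v (nat_lit 9))) (.inv (.v (nat_lit 4)))) (nat_lit 3)), .one), ((.pw (.mul (.v (nat_lit 7)) (.v (nat_lit 9))) (nat_lit 3)), .one)] from l)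
    (show AllEq [z, w, a, c, f, d, t, m, s, n, p] [((.mul (.v (nat_lit 10)) (.v (nat_lit 10))), .one), ((.mul (.mul (.v (nat_lit 10)) (.v (nat_lit 0))) (.inv (.v (nat_lit 10)))), (.v (nat_lit 3))), ((.mul (.mul (.v (nat_lit 10)) (.v (nat_lit 4))) (.inv (.v (nat_lit 10)))), (.inv (.v (nat_lit 4)))), ((.mul (.mul (.v (nat_lit 10)) (.v (nat_lit 1))) (.inv (.v (nat_lit 10)))), (.v (nat_lit 5))), ((.pw (.mul (.v (nat_lit 6)) (.v (nat_lit 10))) (nat_lit 2)), (.v (nat_lit 8))), ((.pw (.mul (.mul (.v (nat_lit 6)) (.v (nat_lit 10))) (.inv (.v (nat_lit 2)))) (nat_lit 3)), .one), ((.pw (.mul (.v (nat_lit 7)) (.v (nat_lit 10))) (nat_lit 3)), .one)] from l2))))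
    [(.v (nat_lit 0)), (.inv (.v (nat_lit 0))), (.v (nat_lit 1)), (.inv (.v (nat_lit 1))), (.v (nat_lit 2)), (.inv (.v (nat_lit 2))), (.v (nat_lit 3)), (.inv (.v (nat_lit 3))), (.v (nat_lit 4)), (.inv (.v (nat_lit 4))), (.v (nat_lit 5)), (.inv (.v (nat_lit 5))), (.v (nat_lit 6)), (.v (nat_lit 7)), (.inv (.v (nat_lit 7))), (.v (nat_lit 8)), (.v (nat_lit 9)), (.v (nat_lit 10))] (by decide +kernel)
noncomputable def sg0_0_S0 : List ℕ := [nat_lit 0xf00000700000c00e024, nat_lit 0x1700000200001400e02a, nat_lit 0x1f00000600001c008026, nat_lit 0x2700000a000024008028]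
noncomputable def sg0_0_S : List (List ℕ) := [sg0_0_S0]
noncomputable def sg0_0_defs : List ℕ := [(nat_lit 0x1100007011000060100000501000004011000030110000201000001010000000010000000000000)]
noncomputable def sg0_0_recs : List ℕ := [(nat_lit 0x8000090600006000070a0000400005020000200003)]
noncomputable def sg0_0_T : List (List ℕ × ℕ) := [([1,16,17,16,17,0,17,16,17,16], (nat_lit 0xc00001400001c00002400000d00002700001f00001700000f000007))]
noncomputable def sg0_0_D : H26.Dag := ⟨[1,0,3,2,5,4,7,6,9,8,11,10,12,14,13,15,16,17], [[0,1],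
  [1,0],
  [2,3],
  [3,2],
  [4,5],
  [5,4],
  [6,7],
  [7,6],
  [8,9],
  [9,8],
  [10,11],
  [11,10],
  [12,12],
  [13,14],
  [14,13],
  [15,15],
  [16,16],
  [17,17],
  [3,16,0,16],
  [11,16,6,16],
  [7,17,0,17],
  [11,17,2,17]], [], sg0_0_defs, sg0_0_recs⟩
theorem sg0_0_c : sg0_0_D.check sg0_0_S sg0_0_T = true := by decide +kernel
theorem sg0_0 {G : Type*} [Group G] {g : ℕ → G} (hR : Rels g sg0_r_R) {H : Subgroup G}
    (hH : ∀ k ∈ [], g k ∈ H) : evA g [1,16,17,16,17,0,17,16,17,16] ∈ H :=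
  mem_dag (K := 18) (J := [0,1,2,3,4,5,6,7,8,9,10,11,12,13,14,15,16,17,60,62,66,68]) (D := sg0_0_D) (by decide +kernel) sg0_0_c (by decide +kernel) hR hH
noncomputable def sg0_1_S0 : List ℕ := [nat_lit 0xf00000700000c008024, nat_lit 0x1700000200001400e028, nat_lit 0x1f00000600001c00e026, nat_lit 0x2700000a00002400802a]
noncomputable def sg0_1_S : List (List ℕ) := [sg0_1_S0]
noncomputable def sg0_1_defs : List ℕ := [(nat_lit 0x1100007011000060100000501000004011000030110000201000001010000000030000000000000)]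
noncomputable def sg0_1_recs : List ℕ := [(nat_lit 0x200008000090a0000600007060000400005000000200003)]
noncomputable def sg0_1_T : List (List ℕ × ℕ) := [([3,16,17,16,17,2,17,16,17,16], (nat_lit 0xc00001400001c00002400000d00002700001f00001700000f000007))]
noncomputable def sg0_1_D : H26.Dag := ⟨[1,0,3,2,5,4,7,6,9,8,11,10,12,14,13,15,16,17], [[0,1],
  [1,0],
  [2,3],
  [3,2],
  [4,5],
  [5,4],
  [6,7],
  [7,6],
  [8,9],
  [9,8],
  [10,11],
  [11,10],
  [12,12],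
  [13,14],
  [14,13],
  [15,15],
  [16,16],
  [17,17],
  [3,16,0,16],
  [11,16,6,16],
  [7,17,0,17],
  [11,17,2,17]], [], sg0_1_defs, sg0_1_recs⟩
theorem sg0_1_c : sg0_1_D.check sg0_1_S sg0_1_T = true := by decide +kernel
theorem sg0_1 {G : Type*} [Group G] {g : ℕ → G} (hR : Rels g sg0_r_R) {H : Subgroup G}
    (hH : ∀ k ∈ [], g k ∈ H) : evA g [3,16,17,16,17,2,17,16,17,16] ∈ H :=
  mem_dag (K := 18) (J := [0,1,2,3,4,5,6,7,8,9,10,11,12,13,14,15,16,17,60,62,66,68]) (D := sg0_1_D) (by decide +kernel) sg0_1_c (by decide +kernel) hR hH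
noncomputable def sg0_2_S0 : List ℕ := [nat_lit 0xf00000700000c00e026, nat_lit 0x1700000200001400802a, nat_lit 0x1f00000600001c008024, nat_lit 0x2700000a00002400e028]
noncomputable def sg0_2_S : List (List ℕ) := [sg0_2_S0]
noncomputable def sg0_2_defs : List ℕ := [(nat_lit 0x1100007011000060100000501000004011000030110000201000001010000000070000000000000)]
noncomputable def sg0_2_recs : List ℕ := [(nat_lit 0x600008000090000006000070200004000050a0000200003)]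
noncomputable def sg0_2_T : List (List ℕ × ℕ) := [([7,16,17,16,17,6,17,16,17,16], (nat_lit 0xc00001400001c00002400000d00002700001f00001700000f000007))]
noncomputable def sg0_2_D : H26.Dag := ⟨[1,0,3,2,5,4,7,6,9,8,11,10,12,14,13,15,16,17], [[0,1],
  [1,0],
  [2,3],
  [3,2],
  [4,5],
  [5,4],
  [6,7],
  [7,6],
  [8,9],
  [9,8],
  [10,11],
  [11,10],
  [12,12],
  [13,14],
  [14,13],
  [15,15],
  [16,16],
  [17,17],
  [3,16,0,16],
  [11,16,6,16],
  [7,17,0,17],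
  [11,17,2,17]], [], sg0_2_defs, sg0_2_recs⟩
theorem sg0_2_c : sg0_2_D.check sg0_2_S sg0_2_T = true := by decide +kernel
theorem sg0_2 {G : Type*} [Group G] {g : ℕ → G} (hR : Rels g sg0_r_R) {H : Subgroup G}
    (hH : ∀ k ∈ [], g k ∈ H) : evA g [7,16,17,16,17,6,17,16,17,16] ∈ H :=
  mem_dag (K := 18) (J := [0,1,2,3,4,5,6,7,8,9,10,11,12,13,14,15,16,17,60,62,66,68]) (D := sg0_2_D) (by decide +kernel) sg0_2_c (by decide +kernel) hR hH
noncomputable def sg0_3_S0 : List ℕ := [nat_lit 0x2f00000b00000800002c00c024, nat_lit 0xf00002c00000100002f012024, nat_lit 0x3700001300000500003400c026, nat_lit 0x17000034000009000037012026, nat_lit 0x3f00001b00000d00003c00c024, nat_lit 0x1f00003c00001100003f012024, nat_lit 0x4700002300001500004400c026, nat_lit 0x27000044000019000047012026]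
noncomputable def sg0_3_S : List (List ℕ) := [sg0_3_S0]
noncomputable def sg0_3_defs : List ℕ := [(nat_lit 0xc0000800c0000700c0000600c0000500c0000400c0000300c0000200c00001011000070110000601000005010000040110000301100002010000010100000000f0000000000000)]
noncomputable def sg0_3_recs : List ℕ := [(nat_lit 0xf00008000091100010000110f0000600007100000e0000f0f0000400005110000c0000d0f0000200003100000a0000b)]
noncomputable def sg0_3_T : List (List ℕ × ℕ) := [([15,16,17,16,17,15,17,16,17,16], (nat_lit 0xc00001400001c00002400001d00002700001f00001700000f000007))]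
noncomputable def sg0_3_D : H26.Dag := ⟨[1,0,3,2,5,4,7,6,9,8,11,10,12,14,13,15,16,17], [[0,1],
  [1,0],
  [2,3],
  [3,2],
  [4,5],
  [5,4],
  [6,7],
  [7,6],
  [8,9],
  [9,8],
  [10,11],
  [11,10],
  [12,12],
  [13,14],
  [14,13],
  [15,15],
  [16,16],
  [17,17],
  [15,16,12,16,12],
  [15,17,12,17,12]], [], sg0_3_defs, sg0_3_recs⟩
theorem sg0_3_c : sg0_3_D.check sg0_3_S sg0_3_T = true := by decide +kernel
theorem sg0_3 {G : Type*} [Group G] {g : ℕ → G} (hR : Rels g sg0_r_R) {H : Subgroup G}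
    (hH : ∀ k ∈ [], g k ∈ H) : evA g [15,16,17,16,17,15,17,16,17,16] ∈ H :=
  mem_dag (K := 18) (J := [0,1,2,3,4,5,6,7,8,9,10,11,12,13,14,15,16,17,63,69]) (D := sg0_3_D) (by decide +kernel) sg0_3_c (by decide +kernel) hR hH
theorem sg0 {G : Type*} [Group G] {z w a c f d t m s n p : G}
    (h : CC z w a c f d m t)
    (k : SS z w a c f d m t s)
    (l : NN z w a c f d m t s n)
    (l2 : NN z c f w a d m t s p) :
    n * p * (n * p) * z = z * (n * p * (n * p)) ∧ n * p * (n * p) * w = w * (n * p * (n * p)) ∧ n * p * (n * p) * c = c * (n * p * (n * p)) ∧ n * p * (n * p) * s = s * (n * p * (n * p)) :=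
  ⟨mul_inv_eq_one.1 ((evA_eq_tm ((InvI.cons h.2.2.2.2.2.2.2.2.2.2.2.2.2.2.2.2.1 (InvI.cons k.1 (InvI.cons l.1 (InvI.cons l2.1 InvI.nil)))) : InvI [z, w, a, c, f, d, t, m, s, n, p] [(nat_lit 6), (nat_lit 8), (nat_lit 9), (nat_lit 10)]) [(.v (nat_lit 0)), (.inv (.v (nat_lit 0))), (.v (nat_lit 1)), (.inv (.v (nat_lit 1))), (.v (nat_lit 2)), (.inv (.v (nat_lit 2))), (.v (nat_lit 3)), (.inv (.v (nat_lit 3))), (.v (nat_lit 4)), (.inv (.v (nat_lit 4))), (.v (nat_lit 5)), (.inv (.v (nat_lit 5))), (.v (nat_lit 6)), (.v (nat_lit 7)), (.inv (.v (nat_lit 7))), (.v (nat_lit 8)), (.v (nat_lit 9)), (.v (nat_lit 10))] [1,16,17,16,17,0,17,16,17,16] (.mul (.mul (.mul (.mul (.v (nat_lit 9)) (.v (nat_lit 10))) (.mul (.v (nat_lit 9)) (.v (nat_lit 10)))) (.v (nat_lit 0))) (.inv (.mul (.v (nat_lit 0)) (.mul (.mul (.v (nat_lit 9)) (.v (nat_lit 10))) (.mul (.v (nat_lit 9)) (.v (nat_lit 10))))))) (by decide +kernel)).symm.trans (Subgroup.mem_bot.1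 (sg0_0 (sg0_r h k l l2) (H := ⊥) (List.forall_mem_nil _)))),
   mul_inv_eq_one.1 ((evA_eq_tm ((InvI.cons h.2.2.2.2.2.2.2.2.2.2.2.2.2.2.2.2.1 (InvI.cons k.1 (InvI.cons l.1 (InvI.cons l2.1 InvI.nil)))) : InvI [z, w, a, c, f, d, t, m, s, n, p] [(nat_lit 6), (nat_lit 8), (nat_lit 9), (nat_lit 10)]) [(.v (nat_lit 0)), (.inv (.v (nat_lit 0))), (.v (nat_lit 1)), (.inv (.v (nat_lit 1))), (.v (nat_lit 2)), (.inv (.v (nat_lit 2))), (.v (nat_lit 3)), (.inv (.v (nat_lit 3))), (.v (nat_lit 4)), (.inv (.v (nat_lit 4))), (.v (nat_lit 5)), (.inv (.v (nat_lit 5))), (.v (nat_lit 6)), (.v (nat_lit 7)), (.inv (.v (nat_lit 7))), (.v (nat_lit 8)), (.v (nat_lit 9)), (.v (nat_lit 10))] [3,16,17,16,17,2,17,16,17,16] (.mul (.mul (.mul (.mul (.v (nat_lit 9)) (.v (nat_lit 10))) (.mul (.v (nat_lit 9)) (.v (nat_lit 10)))) (.v (nat_lit 1))) (.inv (.mul (.v (nat_lit 1)) (.mul (.mul (.v (nat_lit 9)) (.v (nat_lit 10))) (.mul (.v (nat_lit 9))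 (.v (nat_lit 10))))))) (by decide +kernel)).symm.trans (Subgroup.mem_bot.1 (sg0_1 (sg0_r h k l l2) (H := ⊥) (List.forall_mem_nil _)))),
   mul_inv_eq_one.1 ((evA_eq_tm ((InvI.cons h.2.2.2.2.2.2.2.2.2.2.2.2.2.2.2.2.1 (InvI.cons k.1 (InvI.cons l.1 (InvI.cons l2.1 InvI.nil)))) : InvI [z, w, a, c, f, d, t, m, s, n, p] [(nat_lit 6), (nat_lit 8), (nat_lit 9), (nat_lit 10)]) [(.v (nat_lit 0)), (.inv (.v (nat_lit 0))), (.v (nat_lit 1)), (.inv (.v (nat_lit 1))), (.v (nat_lit 2)), (.inv (.v (nat_lit 2))), (.v (nat_lit 3)), (.inv (.v (nat_lit 3))), (.v (nat_lit 4)), (.inv (.v (nat_lit 4))), (.v (nat_lit 5)), (.inv (.v (nat_lit 5))), (.v (nat_lit 6)), (.v (nat_lit 7)), (.inv (.v (nat_lit 7))), (.v (nat_lit 8)), (.v (nat_lit 9)), (.v (nat_lit 10))] [7,16,17,16,17,6,17,16,17,16] (.mul (.mul (.mul (.mul (.v (nat_lit 9)) (.v (nat_lit 10))) (.mul (.v (nat_lit 9)) (.v (nat_lit 10)))) (.v (nat_lit 3))) (.inv (.mul (.v (nat_lit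 3)) (.mul (.mul (.v (nat_lit 9)) (.v (nat_lit 10))) (.mul (.v (nat_lit 9)) (.v (nat_lit 10))))))) (by decide +kernel)).symm.trans (Subgroup.mem_bot.1 (sg0_2 (sg0_r h k l l2) (H := ⊥) (List.forall_mem_nil _)))),
   mul_inv_eq_one.1 ((evA_eq_tm ((InvI.cons h.2.2.2.2.2.2.2.2.2.2.2.2.2.2.2.2.1 (InvI.cons k.1 (InvI.cons l.1 (InvI.cons l2.1 InvI.nil)))) : InvI [z, w, a, c, f, d, t, m, s, n, p] [(nat_lit 6), (nat_lit 8), (nat_lit 9), (nat_lit 10)]) [(.v (nat_lit 0)), (.inv (.v (nat_lit 0))), (.v (nat_lit 1)), (.inv (.v (nat_lit 1))), (.v (nat_lit 2)), (.inv (.v (nat_lit 2))), (.v (nat_lit 3)), (.inv (.v (nat_lit 3))), (.v (nat_lit 4)), (.inv (.v (nat_lit 4))), (.v (nat_lit 5)), (.inv (.v (nat_lit 5))), (.v (nat_lit 6)), (.v (nat_lit 7)), (.inv (.v (nat_lit 7))), (.v (nat_lit 8)), (.v (nat_lit 9)), (.v (nat_lit 10))] [15,16,17,16,17,15,17,16,17,16] (.mul (.mul (.mul (.mul (.v (nat_lit 9)) (.v (nat_lit 10))) (.mul (.v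 (nat_lit 9)) (.v (nat_lit 10)))) (.v (nat_lit 8))) (.inv (.mul (.v (nat_lit 8)) (.mul (.mul (.v (nat_lit 9)) (.v (nat_lit 10))) (.mul (.v (nat_lit 9)) (.v (nat_lit 10))))))) (by decide +kernel)).symm.trans (Subgroup.mem_bot.1 (sg0_3 (sg0_r h k l l2) (H := ⊥) (List.forall_mem_nil _))))⟩
noncomputable def kk_of_r_R : List (List ℕ) := [[0,1],
  [1,0],
  [2,3],
  [3,2],
  [4,5],
  [5,4],
  [6,7],
  [7,6],
  [8,9],
  [9,8],
  [10,11],
  [11,10],
  [12,12],
  [13,14],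
  [14,13],
  [15,15],
  [16,16],
  [17,17],
  [0,0,0],
  [2,2,2],
  [4,4,4],
  [6,6,6],
  [8,8,8],
  [1,3,0,2],
  [1,5,0,4],
  [1,7,0,6],
  [1,9,0,8],
  [5,3,4,2],
  [7,3,6,2],
  [9,5,8,4],
  [9,7,8,6],
  [1,9,3,8,2],
  [1,5,7,4,6],
  [10,10,10],
  [12,13,13],
  [10,13,10,13,10,13],
  [1,11,0,10],
  [1,14,0,13],
  [12,11,12,10],
  [3,11,2,10],
  [7,11,6,10],
  [5,2,11,4,10],
  [9,6,11,8,10],
  [5,14,2,13],
  [2,14,4,13],
  [9,14,6,13],
  [6,14,8,13],
  [1,12,0,12],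
  [2,12,2,12],
  [4,12,4,12],
  [6,12,6,12],
  [8,12,8,12],
  [0,15,0,15],
  [2,15,2,15],
  [6,15,6,15],
  [10,15,10,15],
  [13,15,13,15],
  [5,15,4,15],
  [9,15,8,15],
  [12,15,12,15],
  [3,16,0,16],
  [4,16,4,16],
  [11,16,6,16],
  [15,16,12,16,12],
  [9,16,12,9,16,12,9,16,12],
  [16,13,16,13,16,13],
  [7,17,0,17],
  [8,17,8,17],
  [11,17,2,17],
  [15,17,12,17,12],
  [5,17,12,5,17,12,5,17,12],
  [17,13,17,13,17,13],
  [17,16,17,16]]
theorem kk_of_r {G : Type*} [Group G] {z w a c f d t m s n p : G}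
    (h : CC z w a c f d m t)
    (k : SS z w a c f d m t s)
    (l : NN z w a c f d m t s n)
    (l2 : NN z c f w a d m t s p)
    (e : n * p * (n * p) = 1) :
    Rels (nthG [z, z⁻¹, w, w⁻¹, a, a⁻¹, c, c⁻¹, f, f⁻¹, d, d⁻¹, t, m, m⁻¹, s, n, p]) kk_of_r_R :=
  rels_of_eqs ((InvI.cons h.2.2.2.2.2.2.2.2.2.2.2.2.2.2.2.2.1 (InvI.cons k.1 (InvI.cons l.1 (InvI.cons l2.1 InvI.nil)))) : InvI [z, w, a, c, f, d, t, m, s, n, p] [(nat_lit 6), (nat_lit 8), (nat_lit 9), (nat_lit 10)])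
    (AllEq.append (show AllEq [z, w, a, c, f, d, t, m, s, n, p] [((.pw (.v (nat_lit 0)) (nat_lit 3)), .one), ((.pw (.v (nat_lit 1)) (nat_lit 3)), .one), ((.pw (.v (nat_lit 2)) (nat_lit 3)), .one), ((.pw (.v (nat_lit 3)) (nat_lit 3)), .one), ((.pw (.v (nat_lit 4)) (nat_lit 3)), .one), ((.mul (.v (nat_lit 1)) (.v (nat_lit 0))), (.mul (.v (nat_lit 0)) (.v (nat_lit 1)))), ((.mul (.v (nat_lit 2)) (.v (nat_lit 0))), (.mul (.v (nat_lit 0)) (.v (nat_lit 2)))), ((.mul (.v (nat_lit 3)) (.v (nat_lit 0))), (.mul (.v (nat_lit 0)) (.v (nat_lit 3)))), ((.mul (.v (nat_lit 4)) (.v (nat_lit 0))), (.mul (.v (nat_lit 0)) (.v (nat_lit 4)))), ((.mul (.v (nat_lit 1)) (.v (nat_lit 2))), (.mul (.v (nat_lit 2)) (.v (nat_lit 1)))), ((.mul (.v (nat_lit 1)) (.v (nat_lit 3))), (.mul (.v (nat_lit 3)) (.v (nat_lit 1)))), ((.mul (.v (nat_lit 2)) (.v (nat_lit 4))), (.mul (.v (nat_lit 4)) (.v (nat_lit 2)))), ((.mul (.v (nat_lit 3)) (.v (nat_lit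 4))), (.mul (.v (nat_lit 4)) (.v (nat_lit 3)))), ((.mul (.mul (.mul (.v (nat_lit 1)) (.v (nat_lit 4))) (.inv (.v (nat_lit 1)))) (.inv (.v (nat_lit 4)))), (.v (nat_lit 0))), ((.mul (.mul (.mul (.v (nat_lit 3)) (.v (nat_lit 2))) (.inv (.v (nat_lit 3)))) (.inv (.v (nat_lit 2)))), (.v (nat_lit 0))), ((.pw (.v (nat_lit 5)) (nat_lit 3)), .one), ((.mul (.v (nat_lit 6)) (.v (nat_lit 6))), .one), ((.mul (.v (nat_lit 7)) (.v (nat_lit 7))), (.v (nat_lit 6))), ((.pw (.mul (.v (nat_lit 7)) (.v (nat_lit 5))) (nat_lit 3)), .one), ((.mul (.v (nat_lit 5)) (.v (nat_lit 0))), (.mul (.v (nat_lit 0)) (.v (nat_lit 5)))), ((.mul (.v (nat_lit 7)) (.v (nat_lit 0))), (.mul (.v (nat_lit 0)) (.v (nat_lit 7)))), ((.mul (.v (nat_lit 5)) (.v (nat_lit 6))), (.mul (.v (nat_lit 6)) (.v (nat_lit 5)))), ((.mul (.v (nat_lit 5)) (.v (nat_lit 1))), (.mul (.v (nat_lit 1)) (.v (nat_lit 5)))), ((.mul (.v (nat_lit 5)) (.v (nat_lit 3))), (.mul (.v (nat_lit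 3)) (.v (nat_lit 5)))), ((.mul (.mul (.v (nat_lit 5)) (.v (nat_lit 2))) (.inv (.v (nat_lit 5)))), (.mul (.v (nat_lit 2)) (.inv (.v (nat_lit 1))))), ((.mul (.mul (.v (nat_lit 5)) (.v (nat_lit 4))) (.inv (.v (nat_lit 5)))), (.mul (.v (nat_lit 4)) (.inv (.v (nat_lit 3))))), ((.mul (.mul (.v (nat_lit 7)) (.v (nat_lit 1))) (.inv (.v (nat_lit 7)))), (.v (nat_lit 2))), ((.mul (.mul (.v (nat_lit 7)) (.v (nat_lit 2))) (.inv (.v (nat_lit 7)))), (.inv (.v (nat_lit 1)))), ((.mul (.mul (.v (nat_lit 7)) (.v (nat_lit 3))) (.inv (.v (nat_lit 7)))), (.v (nat_lit 4))), ((.mul (.mul (.v (nat_lit 7)) (.v (nat_lit 4))) (.inv (.v (nat_lit 7)))), (.inv (.v (nat_lit 3)))), ((.mul (.v (nat_lit 6)) (.v (nat_lit 0))), (.mul (.v (nat_lit 0)) (.v (nat_lit 6)))), ((.mul (.mul (.v (nat_lit 6)) (.v (nat_lit 1))) (.inv (.v (nat_lit 6)))), (.inv (.v (nat_lit 1)))), ((.mul (.mul (.v (nat_lit 6)) (.v (nat_lit 2))) (.inv (.v (nat_lit 6)))), (.inv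 (.v (nat_lit 2)))), ((.mul (.mul (.v (nat_lit 6)) (.v (nat_lit 3))) (.inv (.v (nat_lit 6)))), (.inv (.v (nat_lit 3)))), ((.mul (.mul (.v (nat_lit 6)) (.v (nat_lit 4))) (.inv (.v (nat_lit 6)))), (.inv (.v (nat_lit 4))))] from h)
    (AllEq.append (show AllEq [z, w, a, c, f, d, t, m, s, n, p] [((.mul (.v (nat_lit 8)) (.v (nat_lit 8))), .one), ((.mul (.mul (.v (nat_lit 8)) (.v (nat_lit 0))) (.inv (.v (nat_lit 8)))), (.inv (.v (nat_lit 0)))), ((.mul (.mul (.v (nat_lit 8)) (.v (nat_lit 1))) (.inv (.v (nat_lit 8)))), (.inv (.v (nat_lit 1)))), ((.mul (.mul (.v (nat_lit 8)) (.v (nat_lit 3))) (.inv (.v (nat_lit 8)))), (.inv (.v (nat_lit 3)))), ((.mul (.mul (.v (nat_lit 8)) (.v (nat_lit 5))) (.inv (.v (nat_lit 8)))), (.inv (.v (nat_lit 5)))), ((.mul (.mul (.v (nat_lit 8)) (.v (nat_lit 7))) (.inv (.v (nat_lit 8)))), (.inv (.v (nat_lit 7)))), ((.mul (.v (nat_lit 8)) (.v (nat_lit 2))), (.mul (.v (nat_lit 2)) (.v (nat_lit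 8)))), ((.mul (.v (nat_lit 8)) (.v (nat_lit 4))), (.mul (.v (nat_lit 4)) (.v (nat_lit 8)))), ((.mul (.v (nat_lit 8)) (.v (nat_lit 6))), (.mul (.v (nat_lit 6)) (.v (nat_lit 8))))] from k)
    (AllEq.append (show AllEq [z, w, a, c, f, d, t, m, s, n, p] [((.mul (.v (nat_lit 9)) (.v (nat_lit 9))), .one), ((.mul (.mul (.v (nat_lit 9)) (.v (nat_lit 0))) (.inv (.v (nat_lit 9)))), (.v (nat_lit 1))), ((.mul (.mul (.v (nat_lit 9)) (.v (nat_lit 2))) (.inv (.v (nat_lit 9)))), (.inv (.v (nat_lit 2)))), ((.mul (.mul (.v (nat_lit 9)) (.v (nat_lit 3))) (.inv (.v (nat_lit 9)))), (.v (nat_lit 5))), ((.pw (.mul (.v (nat_lit 6)) (.v (nat_lit 9))) (nat_lit 2)), (.v (nat_lit 8))), ((.pw (.mul (.mul (.v (nat_lit 6)) (.v (nat_lit 9))) (.inv (.v (nat_lit 4)))) (nat_lit 3)), .one), ((.pw (.mul (.v (nat_lit 7)) (.v (nat_lit 9))) (nat_lit 3)), .one)] from l)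
    (AllEq.append (show AllEq [z, w, a, c, f, d, t, m, s, n, p] [((.mul (.v (nat_lit 10)) (.v (nat_lit 10))), .one), ((.mul (.mul (.v (nat_lit 10)) (.v (nat_lit 0))) (.inv (.v (nat_lit 10)))), (.v (nat_lit 3))), ((.mul (.mul (.v (nat_lit 10)) (.v (nat_lit 4))) (.inv (.v (nat_lit 10)))), (.inv (.v (nat_lit 4)))), ((.mul (.mul (.v (nat_lit 10)) (.v (nat_lit 1))) (.inv (.v (nat_lit 10)))), (.v (nat_lit 5))), ((.pw (.mul (.v (nat_lit 6)) (.v (nat_lit 10))) (nat_lit 2)), (.v (nat_lit 8))), ((.pw (.mul (.mul (.v (nat_lit 6)) (.v (nat_lit 10))) (.inv (.v (nat_lit 2)))) (nat_lit 3)), .one), ((.pw (.mul (.v (nat_lit 7)) (.v (nat_lit 10))) (nat_lit 3)), .one)] from l2)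
    (show AllEq [z, w, a, c, f, d, t, m, s, n, p] [((.mul (.mul (.v (nat_lit 9)) (.v (nat_lit 10))) (.mul (.v (nat_lit 9)) (.v (nat_lit 10)))), .one)] from ⟨e, trivial⟩)))))
    [(.v (nat_lit 0)), (.inv (.v (nat_lit 0))), (.v (nat_lit 1)), (.inv (.v (nat_lit 1))), (.v (nat_lit 2)), (.inv (.v (nat_lit 2))), (.v (nat_lit 3)), (.inv (.v (nat_lit 3))), (.v (nat_lit 4)), (.inv (.v (nat_lit 4))), (.v (nat_lit 5)), (.inv (.v (nat_lit 5))), (.v (nat_lit 6)), (.v (nat_lit 7)), (.inv (.v (nat_lit 7))), (.v (nat_lit 8)), (.v (nat_lit 9)), (.v (nat_lit 10))] (by decide +kernel)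
noncomputable def kk_of_6_0_S0 : List ℕ := [nat_lit 0x1f00000b000008000010000026, nat_lit 0x1700000100001f000014008028, nat_lit 0x1b000005006024]
noncomputable def kk_of_6_0_S : List (List ℕ) := [kk_of_6_0_S0]
noncomputable def kk_of_6_0_defs : List ℕ := [(nat_lit 0xc0000200e000040110000301100002010000010100000000c0000000000000)]
noncomputable def kk_of_6_0_recs : List ℕ := [(nat_lit 0xe00005000060c00004000050f0000300007)]
noncomputable def kk_of_6_0_T : List (List ℕ × ℕ) := [([12,16,17,13,13,17,16], (nat_lit 0xc00001400001c00000a00001700000f000007))]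
noncomputable def kk_of_6_0_D : H26.Dag := ⟨[1,0,3,2,5,4,7,6,9,8,11,10,12,14,13,15,16,17], [[0,1],
  [1,0],
  [2,3],
  [3,2],
  [4,5],
  [5,4],
  [6,7],
  [7,6],
  [8,9],
  [9,8],
  [10,11],
  [11,10],
  [12,12],
  [13,14],
  [14,13],
  [15,15],
  [16,16],
  [17,17],
  [12,13,13],
  [15,16,12,16,12],
  [15,17,12,17,12]], [], kk_of_6_0_defs, kk_of_6_0_recs⟩
theorem kk_of_6_0_c : kk_of_6_0_D.check kk_of_6_0_S kk_of_6_0_T = true := by decide +kernel
theorem kk_of_6_0 {G : Type*} [Group G] {g : ℕ → G} (hR : Rels g kk_of_r_R) {H : Subgroup G}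
    (hH : ∀ k ∈ [], g k ∈ H) : evA g [12,16,17,13,13,17,16] ∈ H :=
  mem_dag (K := 18) (J := [0,1,2,3,4,5,6,7,8,9,10,11,12,13,14,15,16,17,34,63,69]) (D := kk_of_6_0_D) (by decide +kernel) kk_of_6_0_c (by decide +kernel) hR hH
theorem kk_of_6 {G : Type*} [Group G] {z w a c f d t m s n p : G}
    (h : CC z w a c f d m t)
    (k : SS z w a c f d m t s)
    (l : NN z w a c f d m t s n)
    (l2 : NN z c f w a d m t s p)
    (e : n * p * (n * p) = 1) :
    n * p * m * (n * p)⁻¹ * (n * p * m * (n * p)⁻¹) = t :=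
  mul_inv_eq_one.1 ((evA_eq_tm ((InvI.cons h.2.2.2.2.2.2.2.2.2.2.2.2.2.2.2.2.1 (InvI.cons k.1 (InvI.cons l.1 (InvI.cons l2.1 InvI.nil)))) : InvI [z, w, a, c, f, d, t, m, s, n, p] [(nat_lit 6), (nat_lit 8), (nat_lit 9), (nat_lit 10)]) [(.v (nat_lit 0)), (.inv (.v (nat_lit 0))), (.v (nat_lit 1)), (.inv (.v (nat_lit 1))), (.v (nat_lit 2)), (.inv (.v (nat_lit 2))), (.v (nat_lit 3)), (.inv (.v (nat_lit 3))), (.v (nat_lit 4)), (.inv (.v (nat_lit 4))), (.v (nat_lit 5)), (.inv (.v (nat_lit 5))), (.v (nat_lit 6)), (.v (nat_lit 7)), (.inv (.v (nat_lit 7))), (.v (nat_lit 8)), (.v (nat_lit 9)), (.v (nat_lit 10))] [12,16,17,13,13,17,16] (.mul (.mul (.mul (.mul (.mul (.v (nat_lit 9)) (.v (nat_lit 10))) (.v (nat_lit 7))) (.inv (.mul (.v (nat_lit 9)) (.v (nat_lit 10))))) (.mul (.mul (.mul (.v (nat_lit 9)) (.v (nat_lit 10))) (.v (nat_lit 7))) (.inv (.mul (.v (nat_lit 9)) (.v (nat_lit 10)))))) (.inv (.v (nat_lit 6)))) (by decide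 +kernel)).symm.trans (Subgroup.mem_bot.1 (kk_of_6_0 (kk_of_r h k l l2 e) (H := ⊥) (List.forall_mem_nil _))))
noncomputable def kk_of_8_0_S0 : List ℕ := [nat_lit 0xf00000700000c000026, nat_lit 0x17000002000014000028, nat_lit 0x3b00003300002b00e026, nat_lit 0x3f00003700002f000026, nat_lit 0x4300000a00002300e028, nat_lit 0x4700000e000027000028, nat_lit 0x1200001b000005000020000015002024]
noncomputable def kk_of_8_0_S : List (List ℕ) := [kk_of_8_0_S0]
noncomputable def kk_of_8_0_defs : List ℕ := [(nat_lit 0x110000f0110000e0100000d0100000c0000000b0010000a0100000901000008011000070110000600d0000500e00004011000030110000201000001010000000000000000000000)]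
noncomputable def kk_of_8_0_recs : List ℕ := [(nat_lit 0xe00011000100b00007000110a000060001003000090000f02000080000e0b0000400005030000200003)]
noncomputable def kk_of_8_0_T : List (List ℕ × ℕ) := [([0,16,17,13,17,16,0,16,17,13,17,16,0,16,17,13,17,16], (nat_lit 0xc00001400001c00002400002c00003400003c00004400001a00004700003f00003700002f00002700001f00001700000f000007))]
noncomputable def kk_of_8_0_D : H26.Dag := ⟨[1,0,3,2,5,4,7,6,9,8,11,10,12,14,13,15,16,17], [[0,1],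
  [1,0],
  [2,3],
  [3,2],
  [4,5],
  [5,4],
  [6,7],
  [7,6],
  [8,9],
  [9,8],
  [10,11],
  [11,10],
  [12,12],
  [13,14],
  [14,13],
  [15,15],
  [16,16],
  [17,17],
  [10,13,10,13,10,13],
  [3,16,0,16],
  [11,17,2,17]], [], kk_of_8_0_defs, kk_of_8_0_recs⟩
theorem kk_of_8_0_c : kk_of_8_0_D.check kk_of_8_0_S kk_of_8_0_T = true := by decide +kernel
theorem kk_of_8_0 {G : Type*} [Group G] {g : ℕ → G} (hR : Rels g kk_of_r_R) {H : Subgroup G}
    (hH : ∀ k ∈ [], g k ∈ H) : evA g [0,16,17,13,17,16,0,16,17,13,17,16,0,16,17,13,17,16] ∈ H :=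
  mem_dag (K := 18) (J := [0,1,2,3,4,5,6,7,8,9,10,11,12,13,14,15,16,17,35,60,68]) (D := kk_of_8_0_D) (by decide +kernel) kk_of_8_0_c (by decide +kernel) hR hH
theorem kk_of_8 {G : Type*} [Group G] {z w a c f d t m s n p : G}
    (h : CC z w a c f d m t)
    (k : SS z w a c f d m t s)
    (l : NN z w a c f d m t s n)
    (l2 : NN z c f w a d m t s p)
    (e : n * p * (n * p) = 1) :
    (n * p * m * (n * p)⁻¹ * z) ^ 3 = 1 :=
  mul_inv_eq_one.1 ((evA_eq_tm ((InvI.cons h.2.2.2.2.2.2.2.2.2.2.2.2.2.2.2.2.1 (InvI.cons k.1 (InvI.cons l.1 (InvI.cons l2.1 InvI.nil)))) : InvI [z, w, a, c, f, d, t, m, s, n, p] [(nat_lit 6), (nat_lit 8), (nat_lit 9), (nat_lit 10)]) [(.v (nat_lit 0)), (.inv (.v (nat_lit 0))), (.v (nat_lit 1)), (.inv (.v (nat_lit 1))), (.v (nat_lit 2)), (.inv (.v (nat_lit 2))), (.v (nat_lit 3)), (.inv (.v (nat_lit 3))), (.v (nat_lit 4)), (.inv (.v (nat_lit 4))), (.v (nat_lit 5)), (.inv (.v (nat_lit 5))), (.v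 (nat_lit 6)), (.v (nat_lit 7)), (.inv (.v (nat_lit 7))), (.v (nat_lit 8)), (.v (nat_lit 9)), (.v (nat_lit 10))] [0,16,17,13,17,16,0,16,17,13,17,16,0,16,17,13,17,16] (.mul (.pw (.mul (.mul (.mul (.mul (.v (nat_lit 9)) (.v (nat_lit 10))) (.v (nat_lit 7))) (.inv (.mul (.v (nat_lit 9)) (.v (nat_lit 10))))) (.v (nat_lit 0))) (nat_lit 3)) (.inv .one)) (by decide +kernel)).symm.trans (Subgroup.mem_bot.1 (kk_of_8_0 (kk_of_r h k l l2 e) (H := ⊥) (List.forall_mem_nil _))))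
noncomputable def kk_of_10_0_S0 : List ℕ := [nat_lit 0xf00000700000c004024]
noncomputable def kk_of_10_0_S : List (List ℕ) := [kk_of_10_0_S0]
noncomputable def kk_of_10_0_defs : List ℕ := [(nat_lit 0x1000010010000000c0000000000000)]
noncomputable def kk_of_10_0_recs : List ℕ := [(nat_lit 0xc0000200003)]
noncomputable def kk_of_10_0_T : List (List ℕ × ℕ) := [([12,1,12,0], (nat_lit 0xc00000100000f000007))]
noncomputable def kk_of_10_0_D : H26.Dag := ⟨[1,0,3,2,5,4,7,6,9,8,11,10,12,14,13,15,16,17], [[0,1],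
  [1,0],
  [2,3],
  [3,2],
  [4,5],
  [5,4],
  [6,7],
  [7,6],
  [8,9],
  [9,8],
  [10,11],
  [11,10],
  [12,12],
  [13,14],
  [14,13],
  [15,15],
  [16,16],
  [17,17],
  [1,12,0,12]], [], kk_of_10_0_defs, kk_of_10_0_recs⟩
theorem kk_of_10_0_c : kk_of_10_0_D.check kk_of_10_0_S kk_of_10_0_T = true := by decide +kernel
theorem kk_of_10_0 {G : Type*} [Group G] {g : ℕ → G} (hR : Rels g kk_of_r_R) {H : Subgroup G}
    (hH : ∀ k ∈ [], g k ∈ H) : evA g [12,1,12,0] ∈ H :=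
  mem_dag (K := 18) (J := [0,1,2,3,4,5,6,7,8,9,10,11,12,13,14,15,16,17,47]) (D := kk_of_10_0_D) (by decide +kernel) kk_of_10_0_c (by decide +kernel) hR hH
theorem kk_of_10 {G : Type*} [Group G] {z w a c f d t m s n p : G}
    (h : CC z w a c f d m t)
    (k : SS z w a c f d m t s)
    (l : NN z w a c f d m t s n)
    (l2 : NN z c f w a d m t s p)
    (e : n * p * (n * p) = 1) :
    z * t = t * z :=
  mul_inv_eq_one.1 ((evA_eq_tm ((InvI.cons h.2.2.2.2.2.2.2.2.2.2.2.2.2.2.2.2.1 (InvI.cons k.1 (InvI.cons l.1 (InvI.cons l2.1 InvI.nil)))) : InvI [z, w, a, c, f, d, t, m, s, n, p] [(nat_lit 6), (nat_lit 8), (nat_lit 9), (nat_lit 10)]) [(.v (nat_lit 0)), (.inv (.v (nat_lit 0))), (.v (nat_lit 1)), (.inv (.v (nat_lit 1))), (.v (nat_lit 2)), (.inv (.v (nat_lit 2))), (.v (nat_lit 3)), (.inv (.v (nat_lit 3))), (.v (nat_lit 4)), (.inv (.v (nat_lit 4))), (.v (nat_lit 5)), (.inv (.v (nat_lit 5))), (.v (nat_lit 6)), (.v (nat_lit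 7)), (.inv (.v (nat_lit 7))), (.v (nat_lit 8)), (.v (nat_lit 9)), (.v (nat_lit 10))] [12,1,12,0] (.mul (.mul (.v (nat_lit 0)) (.v (nat_lit 6))) (.inv (.mul (.v (nat_lit 6)) (.v (nat_lit 0))))) (by decide +kernel)).symm.trans (Subgroup.mem_bot.1 (kk_of_10_0 (kk_of_r h k l l2 e) (H := ⊥) (List.forall_mem_nil _))))
noncomputable def kk_of_13_0_S0 : List ℕ := [nat_lit 0x1300000b000008008026, nat_lit 0x1b000002000010008028, nat_lit 0x23000006000018008024, nat_lit 0x2b00000a00002000e028, nat_lit 0x2f00002700000d004026]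
noncomputable def kk_of_13_0_S : List (List ℕ) := [kk_of_13_0_S0]
noncomputable def kk_of_13_0_defs : List ℕ := [(nat_lit 0xb00009011000080100000700e00006011000050110000400e00003010000020110000100b000000100000000000000)]
noncomputable def kk_of_13_0_recs : List ℕ := [(nat_lit 0x100000a0000b06000070000a000000500008000000300006060000100004)]
noncomputable def kk_of_13_0_T : List (List ℕ × ℕ) := [([16,17,14,17,16,11,16,17,13,17,16,10], (nat_lit 0xc00001400001c00002400002c00001100002f00002700001f00001700000f000007))]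
noncomputable def kk_of_13_0_D : H26.Dag := ⟨[1,0,3,2,5,4,7,6,9,8,11,10,12,14,13,15,16,17], [[0,1],
  [1,0],
  [2,3],
  [3,2],
  [4,5],
  [5,4],
  [6,7],
  [7,6],
  [8,9],
  [9,8],
  [10,11],
  [11,10],
  [12,12],
  [13,14],
  [14,13],
  [15,15],
  [16,16],
  [17,17],
  [1,14,0,13],
  [11,16,6,16],
  [7,17,0,17]], [], kk_of_13_0_defs, kk_of_13_0_recs⟩
theorem kk_of_13_0_c : kk_of_13_0_D.check kk_of_13_0_S kk_of_13_0_T = true := by decide +kernel
theorem kk_of_13_0 {G : Type*} [Group G] {g : ℕ → G} (hR : Rels g kk_of_r_R) {H : Subgroup G}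
    (hH : ∀ k ∈ [], g k ∈ H) : evA g [16,17,14,17,16,11,16,17,13,17,16,10] ∈ H :=
  mem_dag (K := 18) (J := [0,1,2,3,4,5,6,7,8,9,10,11,12,13,14,15,16,17,37,62,66]) (D := kk_of_13_0_D) (by decide +kernel) kk_of_13_0_c (by decide +kernel) hR hH
theorem kk_of_13 {G : Type*} [Group G] {z w a c f d t m s n p : G}
    (h : CC z w a c f d m t)
    (k : SS z w a c f d m t s)
    (l : NN z w a c f d m t s n)
    (l2 : NN z c f w a d m t s p)
    (e : n * p * (n * p) = 1) :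
    d * (n * p * m * (n * p)⁻¹) = n * p * m * (n * p)⁻¹ * d :=
  mul_inv_eq_one.1 ((evA_eq_tm ((InvI.cons h.2.2.2.2.2.2.2.2.2.2.2.2.2.2.2.2.1 (InvI.cons k.1 (InvI.cons l.1 (InvI.cons l2.1 InvI.nil)))) : InvI [z, w, a, c, f, d, t, m, s, n, p] [(nat_lit 6), (nat_lit 8), (nat_lit 9), (nat_lit 10)]) [(.v (nat_lit 0)), (.inv (.v (nat_lit 0))), (.v (nat_lit 1)), (.inv (.v (nat_lit 1))), (.v (nat_lit 2)), (.inv (.v (nat_lit 2))), (.v (nat_lit 3)), (.inv (.v (nat_lit 3))), (.v (nat_lit 4)), (.inv (.v (nat_lit 4))), (.v (nat_lit 5)), (.inv (.v (nat_lit 5))), (.v (nat_lit 6)), (.v (nat_lit 7)), (.inv (.v (nat_lit 7))), (.v (nat_lit 8)), (.v (nat_lit 9)), (.v (nat_lit 10))] [16,17,14,17,16,11,16,17,13,17,16,10] (.mul (.mul (.v (nat_lit 5)) (.mul (.mul (.mul (.v (nat_lit 9)) (.v (nat_lit 10))) (.v (nat_lit 7))) (.inv (.mul (.v (nat_lit 9)) (.v (nat_lit 10)))))) (.inv (.mul (.mul (.mul (.mul (.v (nat_lit 9)) (.v (nat_lit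 10))) (.v (nat_lit 7))) (.inv (.mul (.v (nat_lit 9)) (.v (nat_lit 10))))) (.v (nat_lit 5))))) (by decide +kernel)).symm.trans (Subgroup.mem_bot.1 (kk_of_13_0 (kk_of_r h k l l2 e) (H := ⊥) (List.forall_mem_nil _))))
noncomputable def kk_of_14_0_S0 : List ℕ := [nat_lit 0x3700003400a024, nat_lit 0x3f00003c00a024, nat_lit 0x3f00001300000b000008000034006028, nat_lit 0x4700004400a024, nat_lit 0x4700001f00001700000f00003400602c, nat_lit 0x4b00002b00002300001b00003c00602c, nat_lit 0x57000002000009000006004026, nat_lit 0x5700000200001100000e00402a, nat_lit 0x1d00001a00001500402e, nat_lit 0x4f00004c00002100004300002800003000c028, nat_lit 0x5300002500004f000020, nat_lit 0x29000053000020]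
noncomputable def kk_of_14_0_S : List (List ℕ) := [kk_of_14_0_S0]
noncomputable def kk_of_14_0_defs : List ℕ := [(nat_lit 0xf0000d0100000b0100000a00e0000a00e0000700d0000700e0000400d0000400e0000100d0000100e00009011000080100000700e00006011000050110000400e00003010000020110000100e000000100000000000000)]
noncomputable def kk_of_14_0_recs : List ℕ := [(nat_lit 0x100000b0000aff0000a00014ff0000b00013100001200010110001000015100000e00015110000e00012110000c000110c0001000011100000c0000f0c0000e0000f0c0000c0000d)]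
noncomputable def kk_of_14_0_T : List (List ℕ × ℕ) := [([16,17,14,17,16,14,16,17,13,17,16,13], (nat_lit 0xc00001400001c00002400002c00002e00002f00002700001f00001700000f000007))]
noncomputable def kk_of_14_0_D : H26.Dag := ⟨[1,0,3,2,5,4,7,6,9,8,11,10,12,14,13,15,16,17], [[0,1],
  [1,0],
  [2,3],
  [3,2],
  [4,5],
  [5,4],
  [6,7],
  [7,6],
  [8,9],
  [9,8],
  [10,11],
  [11,10],
  [12,12],
  [13,14],
  [14,13],
  [15,15],
  [16,16],
  [17,17],
  [12,13,13],
  [15,16,12,16,12],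
  [16,13,16,13,16,13],
  [15,17,12,17,12],
  [17,13,17,13,17,13],
  [17,16,17,16]], [], kk_of_14_0_defs, kk_of_14_0_recs⟩
theorem kk_of_14_0_c : kk_of_14_0_D.check kk_of_14_0_S kk_of_14_0_T = true := by decide +kernel
theorem kk_of_14_0 {G : Type*} [Group G] {g : ℕ → G} (hR : Rels g kk_of_r_R) {H : Subgroup G}
    (hH : ∀ k ∈ [], g k ∈ H) : evA g [16,17,14,17,16,14,16,17,13,17,16,13] ∈ H :=
  mem_dag (K := 18) (J := [0,1,2,3,4,5,6,7,8,9,10,11,12,13,14,15,16,17,34,63,65,69,71,72]) (D := kk_of_14_0_D) (by decide +kernel) kk_of_14_0_c (by decide +kernel) hR hH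
theorem kk_of_14 {G : Type*} [Group G] {z w a c f d t m s n p : G}
    (h : CC z w a c f d m t)
    (k : SS z w a c f d m t s)
    (l : NN z w a c f d m t s n)
    (l2 : NN z c f w a d m t s p)
    (e : n * p * (n * p) = 1) :
    m * (n * p * m * (n * p)⁻¹) = n * p * m * (n * p)⁻¹ * m :=
  mul_inv_eq_one.1 ((evA_eq_tm ((InvI.cons h.2.2.2.2.2.2.2.2.2.2.2.2.2.2.2.2.1 (InvI.cons k.1 (InvI.cons l.1 (InvI.cons l2.1 InvI.nil)))) : InvI [z, w, a, c, f, d, t, m, s, n, p] [(nat_lit 6), (nat_lit 8), (nat_lit 9), (nat_lit 10)]) [(.v (nat_lit 0)), (.inv (.v (nat_lit 0))), (.v (nat_lit 1)), (.inv (.v (nat_lit 1))), (.v (nat_lit 2)), (.inv (.v (nat_lit 2))), (.v (nat_lit 3)), (.inv (.v (nat_lit 3))), (.v (nat_lit 4)), (.inv (.v (nat_lit 4))), (.v (nat_lit 5)), (.inv (.v (nat_lit 5))), (.v (nat_lit 6)), (.v (nat_lit 7)), (.inv (.v (nat_lit 7))), (.v (nat_lit 8)), (.v (nat_lit 9)), (.v (nat_lit 10))] [16,17,14,17,16,14,16,17,13,17,16,13]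 (.mul (.mul (.v (nat_lit 7)) (.mul (.mul (.mul (.v (nat_lit 9)) (.v (nat_lit 10))) (.v (nat_lit 7))) (.inv (.mul (.v (nat_lit 9)) (.v (nat_lit 10)))))) (.inv (.mul (.mul (.mul (.mul (.v (nat_lit 9)) (.v (nat_lit 10))) (.v (nat_lit 7))) (.inv (.mul (.v (nat_lit 9)) (.v (nat_lit 10))))) (.v (nat_lit 7))))) (by decide +kernel)).symm.trans (Subgroup.mem_bot.1 (kk_of_14_0 (kk_of_r h k l l2 e) (H := ⊥) (List.forall_mem_nil _))))
noncomputable def kk_of_18_0_S0 : List ℕ := [nat_lit 0x3b00000b000008000034006028, nat_lit 0x1300003c000002000033000038012028, nat_lit 0x600003700001e, nat_lit 0x4700000a00001000004000602a, nat_lit 0x1b00004800000e00003f00004401202a, nat_lit 0x1200004300001e, nat_lit 0x1700001500002400c026, nat_lit 0x4b000024000024, nat_lit 0x4f00001f00001a00001d00c02a, nat_lit 0x2b00001d00002100004f01202a, nat_lit 0x57000026000028000054006028, nat_lit 0x5800002a00005300003000e028]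
noncomputable def kk_of_18_0_S : List (List ℕ) := [kk_of_18_0_S0]
noncomputable def kk_of_18_0_defs : List ℕ := [(nat_lit 0xc0000a00c0000900c0000700d0000600c0000400f0000300c0000300c0000200f0000100c0000100f00009011000080100000700e00006011000050110000400d00003010000020110000100f000000100000000000000)]
noncomputable def kk_of_18_0_recs : List ℕ := [(nat_lit 0x100000b0000a1000014000150f000070000a1100012000130c00008000120f00008000050f0000300006ff0001000006110000f000110f0000100004ff0000d00004100000c0000e)]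
noncomputable def kk_of_18_0_T : List (List ℕ × ℕ) := [([16,17,13,17,16,15,16,17,13,17,16,15], (nat_lit 0xc00001400001c00002400002c00002e00002f00002700001f00001700000f000007))]
noncomputable def kk_of_18_0_D : H26.Dag := ⟨[1,0,3,2,5,4,7,6,9,8,11,10,12,14,13,15,16,17], [[0,1],
  [1,0],
  [2,3],
  [3,2],
  [4,5],
  [5,4],
  [6,7],
  [7,6],
  [8,9],
  [9,8],
  [10,11],
  [11,10],
  [12,12],
  [13,14],
  [14,13],
  [15,15],
  [16,16],
  [17,17],
  [12,13,13],
  [13,15,13,15],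
  [15,16,12,16,12],
  [15,17,12,17,12]], [], kk_of_18_0_defs, kk_of_18_0_recs⟩
theorem kk_of_18_0_c : kk_of_18_0_D.check kk_of_18_0_S kk_of_18_0_T = true := by decide +kernel
theorem kk_of_18_0 {G : Type*} [Group G] {g : ℕ → G} (hR : Rels g kk_of_r_R) {H : Subgroup G}
    (hH : ∀ k ∈ [], g k ∈ H) : evA g [16,17,13,17,16,15,16,17,13,17,16,15] ∈ H :=
  mem_dag (K := 18) (J := [0,1,2,3,4,5,6,7,8,9,10,11,12,13,14,15,16,17,34,56,63,69]) (D := kk_of_18_0_D) (by decide +kernel) kk_of_18_0_c (by decide +kernel) hR hH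
theorem kk_of_18 {G : Type*} [Group G] {z w a c f d t m s n p : G}
    (h : CC z w a c f d m t)
    (k : SS z w a c f d m t s)
    (l : NN z w a c f d m t s n)
    (l2 : NN z c f w a d m t s p)
    (e : n * p * (n * p) = 1) :
    s * (n * p * m * (n * p)⁻¹) * s⁻¹ = (n * p * m * (n * p)⁻¹)⁻¹ :=
  mul_inv_eq_one.1 ((evA_eq_tm ((InvI.cons h.2.2.2.2.2.2.2.2.2.2.2.2.2.2.2.2.1 (InvI.cons k.1 (InvI.cons l.1 (InvI.cons l2.1 InvI.nil)))) : InvI [z, w, a, c, f, d, t, m, s, n, p] [(nat_lit 6), (nat_lit 8), (nat_lit 9), (nat_lit 10)]) [(.v (nat_lit 0)), (.inv (.v (nat_lit 0))), (.v (nat_lit 1)), (.inv (.v (nat_lit 1))), (.v (nat_lit 2)), (.inv (.v (nat_lit 2))), (.v (nat_lit 3)), (.inv (.v (nat_lit 3))), (.v (nat_lit 4)), (.inv (.v (nat_lit 4))), (.v (nat_lit 5)), (.inv (.v (nat_lit 5))), (.v (nat_lit 6)), (.v (nat_lit 7)), (.inv (.v (nat_lit 7))), (.v (nat_lit 8)), (.v (nat_lit 9)), (.v (nat_lit 10))] [16,17,13,17,16,15,16,17,13,17,16,15]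 (.mul (.mul (.mul (.v (nat_lit 8)) (.mul (.mul (.mul (.v (nat_lit 9)) (.v (nat_lit 10))) (.v (nat_lit 7))) (.inv (.mul (.v (nat_lit 9)) (.v (nat_lit 10)))))) (.inv (.v (nat_lit 8)))) (.inv (.inv (.mul (.mul (.mul (.v (nat_lit 9)) (.v (nat_lit 10))) (.v (nat_lit 7))) (.inv (.mul (.v (nat_lit 9)) (.v (nat_lit 10)))))))) (by decide +kernel)).symm.trans (Subgroup.mem_bot.1 (kk_of_18_0 (kk_of_r h k l l2 e) (H := ⊥) (List.forall_mem_nil _))))
noncomputable def kk_of_20_0_S0 : List ℕ := [nat_lit 0xf00000700000c008024, nat_lit 0x17000002000014008026]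
noncomputable def kk_of_20_0_S : List (List ℕ) := [kk_of_20_0_S0]
noncomputable def kk_of_20_0_defs : List ℕ := [(nat_lit 0x110000301100002010000010100000000b0000000000000)]
noncomputable def kk_of_20_0_recs : List ℕ := [(nat_lit 0x400005060000200003)]
noncomputable def kk_of_20_0_T : List (List ℕ × ℕ) := [([11,16,17,0,17,16], (nat_lit 0xc00001400000500001700000f000007))]
noncomputable def kk_of_20_0_D : H26.Dag := ⟨[1,0,3,2,5,4,7,6,9,8,11,10,12,14,13,15,16,17], [[0,1],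
  [1,0],
  [2,3],
  [3,2],
  [4,5],
  [5,4],
  [6,7],
  [7,6],
  [8,9],
  [9,8],
  [10,11],
  [11,10],
  [12,12],
  [13,14],
  [14,13],
  [15,15],
  [16,16],
  [17,17],
  [11,16,6,16],
  [7,17,0,17]], [], kk_of_20_0_defs, kk_of_20_0_recs⟩
theorem kk_of_20_0_c : kk_of_20_0_D.check kk_of_20_0_S kk_of_20_0_T = true := by decide +kernel
theorem kk_of_20_0 {G : Type*} [Group G] {g : ℕ → G} (hR : Rels g kk_of_r_R) {H : Subgroup G}
    (hH : ∀ k ∈ [], g k ∈ H) : evA g [11,16,17,0,17,16] ∈ H :=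
  mem_dag (K := 18) (J := [0,1,2,3,4,5,6,7,8,9,10,11,12,13,14,15,16,17,62,66]) (D := kk_of_20_0_D) (by decide +kernel) kk_of_20_0_c (by decide +kernel) hR hH
theorem kk_of_20 {G : Type*} [Group G] {z w a c f d t m s n p : G}
    (h : CC z w a c f d m t)
    (k : SS z w a c f d m t s)
    (l : NN z w a c f d m t s n)
    (l2 : NN z c f w a d m t s p)
    (e : n * p * (n * p) = 1) :
    n * p * z * (n * p)⁻¹ = d :=
  mul_inv_eq_one.1 ((evA_eq_tm ((InvI.cons h.2.2.2.2.2.2.2.2.2.2.2.2.2.2.2.2.1 (InvI.cons k.1 (InvI.cons l.1 (InvI.cons l2.1 InvI.nil)))) : InvI [z, w, a, c, f, d, t, m, s, n, p] [(nat_lit 6), (nat_lit 8), (nat_lit 9), (nat_lit 10)]) [(.v (nat_lit 0)), (.inv (.v (nat_lit 0))), (.v (nat_lit 1)), (.inv (.v (nat_lit 1))), (.v (nat_lit 2)), (.inv (.v (nat_lit 2))), (.v (nat_lit 3)), (.inv (.v (nat_lit 3))), (.v (nat_lit 4)), (.inv (.v (nat_lit 4))), (.v (nat_lit 5)), (.inv (.v (nat_lit 5))), (.v (nat_lit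 6)), (.v (nat_lit 7)), (.inv (.v (nat_lit 7))), (.v (nat_lit 8)), (.v (nat_lit 9)), (.v (nat_lit 10))] [11,16,17,0,17,16] (.mul (.mul (.mul (.mul (.v (nat_lit 9)) (.v (nat_lit 10))) (.v (nat_lit 0))) (.inv (.mul (.v (nat_lit 9)) (.v (nat_lit 10))))) (.inv (.v (nat_lit 5)))) (by decide +kernel)).symm.trans (Subgroup.mem_bot.1 (kk_of_20_0 (kk_of_r h k l l2 e) (H := ⊥) (List.forall_mem_nil _))))
noncomputable def kk_of_21_0_S0 : List ℕ := [nat_lit 0xf00000700000c00e024, nat_lit 0x1700000200001400e026]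
noncomputable def kk_of_21_0_S : List (List ℕ) := [kk_of_21_0_S0]
noncomputable def kk_of_21_0_defs : List ℕ := [(nat_lit 0x11000030110000201000001010000000010000000000000)]
noncomputable def kk_of_21_0_recs : List ℕ := [(nat_lit 0xa0000400005020000200003)]
noncomputable def kk_of_21_0_T : List (List ℕ × ℕ) := [([1,16,17,10,17,16], (nat_lit 0xc00001400000500001700000f000007))]
noncomputable def kk_of_21_0_D : H26.Dag := ⟨[1,0,3,2,5,4,7,6,9,8,11,10,12,14,13,15,16,17], [[0,1],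
  [1,0],
  [2,3],
  [3,2],
  [4,5],
  [5,4],
  [6,7],
  [7,6],
  [8,9],
  [9,8],
  [10,11],
  [11,10],
  [12,12],
  [13,14],
  [14,13],
  [15,15],
  [16,16],
  [17,17],
  [3,16,0,16],
  [11,17,2,17]], [], kk_of_21_0_defs, kk_of_21_0_recs⟩
theorem kk_of_21_0_c : kk_of_21_0_D.check kk_of_21_0_S kk_of_21_0_T = true := by decide +kernel
theorem kk_of_21_0 {G : Type*} [Group G] {g : ℕ → G} (hR : Rels g kk_of_r_R) {H : Subgroup G}
    (hH : ∀ k ∈ [], g k ∈ H) : evA g [1,16,17,10,17,16] ∈ H :=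
  mem_dag (K := 18) (J := [0,1,2,3,4,5,6,7,8,9,10,11,12,13,14,15,16,17,60,68]) (D := kk_of_21_0_D) (by decide +kernel) kk_of_21_0_c (by decide +kernel) hR hH
theorem kk_of_21 {G : Type*} [Group G] {z w a c f d t m s n p : G}
    (h : CC z w a c f d m t)
    (k : SS z w a c f d m t s)
    (l : NN z w a c f d m t s n)
    (l2 : NN z c f w a d m t s p)
    (e : n * p * (n * p) = 1) :
    n * p * d * (n * p)⁻¹ = z :=
  mul_inv_eq_one.1 ((evA_eq_tm ((InvI.cons h.2.2.2.2.2.2.2.2.2.2.2.2.2.2.2.2.1 (InvI.cons k.1 (InvI.cons l.1 (InvI.cons l2.1 InvI.nil)))) : InvI [z, w, a, c, f, d, t, m, s, n, p] [(nat_lit 6), (nat_lit 8), (nat_lit 9), (nat_lit 10)]) [(.v (nat_lit 0)), (.inv (.v (nat_lit 0))), (.v (nat_lit 1)), (.inv (.v (nat_lit 1))), (.v (nat_lit 2)), (.inv (.v (nat_lit 2))), (.v (nat_lit 3)), (.inv (.v (nat_lit 3))), (.v (nat_lit 4)), (.inv (.v (nat_lit 4))), (.v (nat_lit 5)), (.inv (.v (nat_lit 5))), (.v (nat_lit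 6)), (.v (nat_lit 7)), (.inv (.v (nat_lit 7))), (.v (nat_lit 8)), (.v (nat_lit 9)), (.v (nat_lit 10))] [1,16,17,10,17,16] (.mul (.mul (.mul (.mul (.v (nat_lit 9)) (.v (nat_lit 10))) (.v (nat_lit 5))) (.inv (.mul (.v (nat_lit 9)) (.v (nat_lit 10))))) (.inv (.v (nat_lit 0)))) (by decide +kernel)).symm.trans (Subgroup.mem_bot.1 (kk_of_21_0 (kk_of_r h k l l2 e) (H := ⊥) (List.forall_mem_nil _))))
noncomputable def kk_of_23_0_S0 : List ℕ := [nat_lit 0x1f00000b00000800001c00c024, nat_lit 0xf00001c00000100001f012024, nat_lit 0x2700001300000500002400c026, nat_lit 0x17000024000009000027012026]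
noncomputable def kk_of_23_0_S : List (List ℕ) := [kk_of_23_0_S0]
noncomputable def kk_of_23_0_defs : List ℕ := [(nat_lit 0xc0000400c0000300c0000200c000010110000301100002010000010100000000f0000000000000)]
noncomputable def kk_of_23_0_recs : List ℕ := [(nat_lit 0xf00004000051100008000090f0000200003100000600007)]
noncomputable def kk_of_23_0_T : List (List ℕ × ℕ) := [([15,16,17,15,17,16], (nat_lit 0xc00001400000d00001700000f000007))]
noncomputable def kk_of_23_0_D : H26.Dag := ⟨[1,0,3,2,5,4,7,6,9,8,11,10,12,14,13,15,16,17], [[0,1],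
  [1,0],
  [2,3],
  [3,2],
  [4,5],
  [5,4],
  [6,7],
  [7,6],
  [8,9],
  [9,8],
  [10,11],
  [11,10],
  [12,12],
  [13,14],
  [14,13],
  [15,15],
  [16,16],
  [17,17],
  [15,16,12,16,12],
  [15,17,12,17,12]], [], kk_of_23_0_defs, kk_of_23_0_recs⟩
theorem kk_of_23_0_c : kk_of_23_0_D.check kk_of_23_0_S kk_of_23_0_T = true := by decide +kernel
theorem kk_of_23_0 {G : Type*} [Group G] {g : ℕ → G} (hR : Rels g kk_of_r_R) {H : Subgroup G}
    (hH : ∀ k ∈ [], g k ∈ H) : evA g [15,16,17,15,17,16] ∈ H :=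
  mem_dag (K := 18) (J := [0,1,2,3,4,5,6,7,8,9,10,11,12,13,14,15,16,17,63,69]) (D := kk_of_23_0_D) (by decide +kernel) kk_of_23_0_c (by decide +kernel) hR hH
theorem kk_of_23 {G : Type*} [Group G] {z w a c f d t m s n p : G}
    (h : CC z w a c f d m t)
    (k : SS z w a c f d m t s)
    (l : NN z w a c f d m t s n)
    (l2 : NN z c f w a d m t s p)
    (e : n * p * (n * p) = 1) :
    n * p * s = s * (n * p) :=
  mul_inv_eq_one.1 ((evA_eq_tm ((InvI.cons h.2.2.2.2.2.2.2.2.2.2.2.2.2.2.2.2.1 (InvI.cons k.1 (InvI.cons l.1 (InvI.cons l2.1 InvI.nil)))) : InvI [z, w, a, c, f, d, t, m, s, n, p] [(nat_lit 6), (nat_lit 8), (nat_lit 9), (nat_lit 10)]) [(.v (nat_lit 0)), (.inv (.v (nat_lit 0))), (.v (nat_lit 1)), (.inv (.v (nat_lit 1))), (.v (nat_lit 2)), (.inv (.v (nat_lit 2))), (.v (nat_lit 3)), (.inv (.v (nat_lit 3))), (.v (nat_lit 4)), (.inv (.v (nat_lit 4))), (.v (nat_lit 5)), (.inv (.v (nat_lit 5))), (.v (nat_lit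 6)), (.v (nat_lit 7)), (.inv (.v (nat_lit 7))), (.v (nat_lit 8)), (.v (nat_lit 9)), (.v (nat_lit 10))] [15,16,17,15,17,16] (.mul (.mul (.mul (.v (nat_lit 9)) (.v (nat_lit 10))) (.v (nat_lit 8))) (.inv (.mul (.v (nat_lit 8)) (.mul (.v (nat_lit 9)) (.v (nat_lit 10)))))) (by decide +kernel)).symm.trans (Subgroup.mem_bot.1 (kk_of_23_0 (kk_of_r h k l l2 e) (H := ⊥) (List.forall_mem_nil _))))
noncomputable def kk_of_24_0_S0 : List ℕ := [nat_lit 0x1b00000b000008000010000024, nat_lit 0x1700000100001b000014008026]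
noncomputable def kk_of_24_0_S : List (List ℕ) := [kk_of_24_0_S0]
noncomputable def kk_of_24_0_defs : List ℕ := [(nat_lit 0xc000020110000301100002010000010100000000c0000000000000)]
noncomputable def kk_of_24_0_recs : List ℕ := [(nat_lit 0xc00004000050f0000300006)]
noncomputable def kk_of_24_0_T : List (List ℕ × ℕ) := [([12,16,17,12,17,16], (nat_lit 0xc00001400000500001700000f000007))]
noncomputable def kk_of_24_0_D : H26.Dag := ⟨[1,0,3,2,5,4,7,6,9,8,11,10,12,14,13,15,16,17], [[0,1],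
  [1,0],
  [2,3],
  [3,2],
  [4,5],
  [5,4],
  [6,7],
  [7,6],
  [8,9],
  [9,8],
  [10,11],
  [11,10],
  [12,12],
  [13,14],
  [14,13],
  [15,15],
  [16,16],
  [17,17],
  [15,16,12,16,12],
  [15,17,12,17,12]], [], kk_of_24_0_defs, kk_of_24_0_recs⟩
theorem kk_of_24_0_c : kk_of_24_0_D.check kk_of_24_0_S kk_of_24_0_T = true := by decide +kernel
theorem kk_of_24_0 {G : Type*} [Group G] {g : ℕ → G} (hR : Rels g kk_of_r_R) {H : Subgroup G}
    (hH : ∀ k ∈ [], g k ∈ H) : evA g [12,16,17,12,17,16] ∈ H :=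
  mem_dag (K := 18) (J := [0,1,2,3,4,5,6,7,8,9,10,11,12,13,14,15,16,17,63,69]) (D := kk_of_24_0_D) (by decide +kernel) kk_of_24_0_c (by decide +kernel) hR hH
theorem kk_of_24 {G : Type*} [Group G] {z w a c f d t m s n p : G}
    (h : CC z w a c f d m t)
    (k : SS z w a c f d m t s)
    (l : NN z w a c f d m t s n)
    (l2 : NN z c f w a d m t s p)
    (e : n * p * (n * p) = 1) :
    n * p * t = t * (n * p) :=
  mul_inv_eq_one.1 ((evA_eq_tm ((InvI.cons h.2.2.2.2.2.2.2.2.2.2.2.2.2.2.2.2.1 (InvI.cons k.1 (InvI.cons l.1 (InvI.cons l2.1 InvI.nil)))) : InvI [z, w, a, c, f, d, t, m, s, n, p] [(nat_lit 6), (nat_lit 8), (nat_lit 9), (nat_lit 10)]) [(.v (nat_lit 0)), (.inv (.v (nat_lit 0))), (.v (nat_lit 1)), (.inv (.v (nat_lit 1))), (.v (nat_lit 2)), (.inv (.v (nat_lit 2))), (.v (nat_lit 3)), (.inv (.v (nat_lit 3))), (.v (nat_lit 4)), (.inv (.v (nat_lit 4))), (.v (nat_lit 5)), (.inv (.v (nat_lit 5))), (.v (nat_lit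 6)), (.v (nat_lit 7)), (.inv (.v (nat_lit 7))), (.v (nat_lit 8)), (.v (nat_lit 9)), (.v (nat_lit 10))] [12,16,17,12,17,16] (.mul (.mul (.mul (.v (nat_lit 9)) (.v (nat_lit 10))) (.v (nat_lit 6))) (.inv (.mul (.v (nat_lit 6)) (.mul (.v (nat_lit 9)) (.v (nat_lit 10)))))) (by decide +kernel)).symm.trans (Subgroup.mem_bot.1 (kk_of_24_0 (kk_of_r h k l l2 e) (H := ⊥) (List.forall_mem_nil _))))
noncomputable def kk_of_25_0_S0 : List ℕ := [nat_lit 0xb000008006024, nat_lit 0xf00000100a024]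
noncomputable def kk_of_25_0_S : List (List ℕ) := [kk_of_25_0_S0]
noncomputable def kk_of_25_0_defs : List ℕ := [(nat_lit 0xe0000100e0000000c0000000000000)]
noncomputable def kk_of_25_0_recs : List ℕ := [(nat_lit 0xc00002000030e0000100002)]
noncomputable def kk_of_25_0_T : List (List ℕ × ℕ) := [([12,14,12,13], (nat_lit 0xc00000500000f000007))]
noncomputable def kk_of_25_0_D : H26.Dag := ⟨[1,0,3,2,5,4,7,6,9,8,11,10,12,14,13,15,16,17], [[0,1],
  [1,0],
  [2,3],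
  [3,2],
  [4,5],
  [5,4],
  [6,7],
  [7,6],
  [8,9],
  [9,8],
  [10,11],
  [11,10],
  [12,12],
  [13,14],
  [14,13],
  [15,15],
  [16,16],
  [17,17],
  [12,13,13]], [], kk_of_25_0_defs, kk_of_25_0_recs⟩
theorem kk_of_25_0_c : kk_of_25_0_D.check kk_of_25_0_S kk_of_25_0_T = true := by decide +kernel
theorem kk_of_25_0 {G : Type*} [Group G] {g : ℕ → G} (hR : Rels g kk_of_r_R) {H : Subgroup G}
    (hH : ∀ k ∈ [], g k ∈ H) : evA g [12,14,12,13] ∈ H :=
  mem_dag (K := 18) (J := [0,1,2,3,4,5,6,7,8,9,10,11,12,13,14,15,16,17,34]) (D := kk_of_25_0_D) (by decide +kernel) kk_of_25_0_c (by decide +kernel) hR hH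
theorem kk_of_25 {G : Type*} [Group G] {z w a c f d t m s n p : G}
    (h : CC z w a c f d m t)
    (k : SS z w a c f d m t s)
    (l : NN z w a c f d m t s n)
    (l2 : NN z c f w a d m t s p)
    (e : n * p * (n * p) = 1) :
    m * t = t * m :=
  mul_inv_eq_one.1 ((evA_eq_tm ((InvI.cons h.2.2.2.2.2.2.2.2.2.2.2.2.2.2.2.2.1 (InvI.cons k.1 (InvI.cons l.1 (InvI.cons l2.1 InvI.nil)))) : InvI [z, w, a, c, f, d, t, m, s, n, p] [(nat_lit 6), (nat_lit 8), (nat_lit 9), (nat_lit 10)]) [(.v (nat_lit 0)), (.inv (.v (nat_lit 0))), (.v (nat_lit 1)), (.inv (.v (nat_lit 1))), (.v (nat_lit 2)), (.inv (.v (nat_lit 2))), (.v (nat_lit 3)), (.inv (.v (nat_lit 3))), (.v (nat_lit 4)), (.inv (.v (nat_lit 4))), (.v (nat_lit 5)), (.inv (.v (nat_lit 5))), (.v (nat_lit 6)), (.v (nat_lit 7)), (.inv (.v (nat_lit 7))), (.v (nat_lit 8)), (.v (nat_lit 9)), (.v (nat_lit 10))] [12,14,12,13] (.mul (.mul (.v (nat_lit 7)) (.v (nat_lit 6))) (.inv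 (.mul (.v (nat_lit 6)) (.v (nat_lit 7))))) (by decide +kernel)).symm.trans (Subgroup.mem_bot.1 (kk_of_25_0 (kk_of_r h k l l2 e) (H := ⊥) (List.forall_mem_nil _))))
noncomputable def kk_of_26_0_S0 : List ℕ := [nat_lit 0x3300000b000008000010000026, nat_lit 0x17000001000033000014008028, nat_lit 0x1b000005006024, nat_lit 0x1f00000900a024, nat_lit 0x3700002300000d000028000028, nat_lit 0x2b00003800001200003000a026]
noncomputable def kk_of_26_0_S : List (List ℕ) := [kk_of_26_0_S0]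
noncomputable def kk_of_26_0_defs : List ℕ := [(nat_lit 0xc0000800c000020100000901000008011000070110000600e0000500e000040110000301100002010000010100000000c0000000000000)]
noncomputable def kk_of_26_0_recs : List ℕ := [(nat_lit 0xc0000b0000a0f000090000d0c00006000070e00005000060c00004000050f000030000c)]
noncomputable def kk_of_26_0_T : List (List ℕ × ℕ) := [([12,16,17,14,17,16,12,16,17,13,17,16], (nat_lit 0xc00001400001c00002400002c00001600002f00002700001f00001700000f000007))]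
noncomputable def kk_of_26_0_D : H26.Dag := ⟨[1,0,3,2,5,4,7,6,9,8,11,10,12,14,13,15,16,17], [[0,1],
  [1,0],
  [2,3],
  [3,2],
  [4,5],
  [5,4],
  [6,7],
  [7,6],
  [8,9],
  [9,8],
  [10,11],
  [11,10],
  [12,12],
  [13,14],
  [14,13],
  [15,15],
  [16,16],
  [17,17],
  [12,13,13],
  [15,16,12,16,12],
  [15,17,12,17,12]], [], kk_of_26_0_defs, kk_of_26_0_recs⟩
theorem kk_of_26_0_c : kk_of_26_0_D.check kk_of_26_0_S kk_of_26_0_T = true := by decide +kernel
theorem kk_of_26_0 {G : Type*} [Group G] {g : ℕ → G} (hR : Rels g kk_of_r_R) {H : Subgroup G}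
    (hH : ∀ k ∈ [], g k ∈ H) : evA g [12,16,17,14,17,16,12,16,17,13,17,16] ∈ H :=
  mem_dag (K := 18) (J := [0,1,2,3,4,5,6,7,8,9,10,11,12,13,14,15,16,17,34,63,69]) (D := kk_of_26_0_D) (by decide +kernel) kk_of_26_0_c (by decide +kernel) hR hH
theorem kk_of_26 {G : Type*} [Group G] {z w a c f d t m s n p : G}
    (h : CC z w a c f d m t)
    (k : SS z w a c f d m t s)
    (l : NN z w a c f d m t s n)
    (l2 : NN z c f w a d m t s p)
    (e : n * p * (n * p) = 1) :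
    n * p * m * (n * p)⁻¹ * t = t * (n * p * m * (n * p)⁻¹) :=
  mul_inv_eq_one.1 ((evA_eq_tm ((InvI.cons h.2.2.2.2.2.2.2.2.2.2.2.2.2.2.2.2.1 (InvI.cons k.1 (InvI.cons l.1 (InvI.cons l2.1 InvI.nil)))) : InvI [z, w, a, c, f, d, t, m, s, n, p] [(nat_lit 6), (nat_lit 8), (nat_lit 9), (nat_lit 10)]) [(.v (nat_lit 0)), (.inv (.v (nat_lit 0))), (.v (nat_lit 1)), (.inv (.v (nat_lit 1))), (.v (nat_lit 2)), (.inv (.v (nat_lit 2))), (.v (nat_lit 3)), (.inv (.v (nat_lit 3))), (.v (nat_lit 4)), (.inv (.v (nat_lit 4))), (.v (nat_lit 5)), (.inv (.v (nat_lit 5))), (.v (nat_lit 6)), (.v (nat_lit 7)), (.inv (.v (nat_lit 7))), (.v (nat_lit 8)), (.v (nat_lit 9)), (.v (nat_lit 10))] [12,16,17,14,17,16,12,16,17,13,17,16] (.mul (.mul (.mul (.mul (.mul (.v (nat_lit 9)) (.v (nat_lit 10))) (.v (nat_lit 7))) (.inv (.mul (.v (nat_lit 9)) (.v (nat_lit 10))))) (.v (nat_lit 6))) (.inv (.mul (.v (nat_lit 6)) (.mul (.mul (.mul (.v (nat_lit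 9)) (.v (nat_lit 10))) (.v (nat_lit 7))) (.inv (.mul (.v (nat_lit 9)) (.v (nat_lit 10)))))))) (by decide +kernel)).symm.trans (Subgroup.mem_bot.1 (kk_of_26_0 (kk_of_r h k l l2 e) (H := ⊥) (List.forall_mem_nil _))))
noncomputable def kk_of_27_0_S0 : List ℕ := [nat_lit 0x1b00001300000b008024, nat_lit 0x1f00001700000f008024]
noncomputable def kk_of_27_0_S : List (List ℕ) := [kk_of_27_0_S0]
noncomputable def kk_of_27_0_defs : List ℕ := [(nat_lit 0x1000005010000040110000301100002010000010100000000e0000000000000)]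
noncomputable def kk_of_27_0_recs : List ℕ := [(nat_lit 0x110000100007110000000006)]
noncomputable def kk_of_27_0_T : List (List ℕ × ℕ) := [([14,16,17,16,17,13,17,16,17,16], (nat_lit 0xc00001400001c00000200000800000500001f00001700000f000007))]
noncomputable def kk_of_27_0_D : H26.Dag := ⟨[1,0,3,2,5,4,7,6,9,8,11,10,12,14,13,15,16,17], [[0,1],
  [1,0],
  [2,3],
  [3,2],
  [4,5],
  [5,4],
  [6,7],
  [7,6],
  [8,9],
  [9,8],
  [10,11],
  [11,10],
  [12,12],
  [13,14],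
  [14,13],
  [15,15],
  [16,16],
  [17,17],
  [17,16,17,16]], [], kk_of_27_0_defs, kk_of_27_0_recs⟩
theorem kk_of_27_0_c : kk_of_27_0_D.check kk_of_27_0_S kk_of_27_0_T = true := by decide +kernel
theorem kk_of_27_0 {G : Type*} [Group G] {g : ℕ → G} (hR : Rels g kk_of_r_R) {H : Subgroup G}
    (hH : ∀ k ∈ [], g k ∈ H) : evA g [14,16,17,16,17,13,17,16,17,16] ∈ H :=
  mem_dag (K := 18) (J := [0,1,2,3,4,5,6,7,8,9,10,11,12,13,14,15,16,17,72]) (D := kk_of_27_0_D) (by decide +kernel) kk_of_27_0_c (by decide +kernel) hR hH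
theorem kk_of_27 {G : Type*} [Group G] {z w a c f d t m s n p : G}
    (h : CC z w a c f d m t)
    (k : SS z w a c f d m t s)
    (l : NN z w a c f d m t s n)
    (l2 : NN z c f w a d m t s p)
    (e : n * p * (n * p) = 1) :
    n * p * (n * p * m * (n * p)⁻¹) * (n * p)⁻¹ = m :=
  mul_inv_eq_one.1 ((evA_eq_tm ((InvI.cons h.2.2.2.2.2.2.2.2.2.2.2.2.2.2.2.2.1 (InvI.cons k.1 (InvI.cons l.1 (InvI.cons l2.1 InvI.nil)))) : InvI [z, w, a, c, f, d, t, m, s, n, p] [(nat_lit 6), (nat_lit 8), (nat_lit 9), (nat_lit 10)]) [(.v (nat_lit 0)), (.inv (.v (nat_lit 0))), (.v (nat_lit 1)), (.inv (.v (nat_lit 1))), (.v (nat_lit 2)), (.inv (.v (nat_lit 2))), (.v (nat_lit 3)), (.inv (.v (nat_lit 3))), (.v (nat_lit 4)), (.inv (.v (nat_lit 4))), (.v (nat_lit 5)), (.inv (.v (nat_lit 5))), (.v (nat_lit 6)), (.v (nat_lit 7)), (.inv (.v (nat_lit 7))), (.v (nat_lit 8)), (.v (nat_lit 9)), (.v (nat_lit 10))] [14,16,17,16,17,13,17,16,17,16]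 (.mul (.mul (.mul (.mul (.v (nat_lit 9)) (.v (nat_lit 10))) (.mul (.mul (.mul (.v (nat_lit 9)) (.v (nat_lit 10))) (.v (nat_lit 7))) (.inv (.mul (.v (nat_lit 9)) (.v (nat_lit 10)))))) (.inv (.mul (.v (nat_lit 9)) (.v (nat_lit 10))))) (.inv (.v (nat_lit 7)))) (by decide +kernel)).symm.trans (Subgroup.mem_bot.1 (kk_of_27_0 (kk_of_r h k l l2 e) (H := ⊥) (List.forall_mem_nil _))))
theorem kk_of {G : Type*} [Group G] {z w a c f d t m s n p : G}
    (h : CC z w a c f d m t)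
    (k : SS z w a c f d m t s)
    (l : NN z w a c f d m t s n)
    (l2 : NN z c f w a d m t s p)
    (e : n * p * (n * p) = 1) :
    KK d z m (n * p * m * (n * p)⁻¹) t s (n * p) :=
  ⟨h.2.2.2.2.2.2.2.2.2.2.2.2.2.2.2.1,
   h.1,
   h.2.2.2.2.2.2.2.2.2.2.2.2.2.2.2.2.1,
   k.1,
   e,
   h.2.2.2.2.2.2.2.2.2.2.2.2.2.2.2.2.2.1,
   kk_of_6 h k l l2 e,
   h.2.2.2.2.2.2.2.2.2.2.2.2.2.2.2.2.2.2.1,
   kk_of_8 h k l l2 e,
   h.2.2.2.2.2.2.2.2.2.2.2.2.2.2.2.2.2.2.2.2.2.1,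
   kk_of_10 h k l l2 e,
   h.2.2.2.2.2.2.2.2.2.2.2.2.2.2.2.2.2.2.2.1,
   h.2.2.2.2.2.2.2.2.2.2.2.2.2.2.2.2.2.2.2.2.1,
   kk_of_13 h k l l2 e,
   kk_of_14 h k l l2 e,
   k.2.1,
   k.2.2.2.2.1,
   k.2.2.2.2.2.1,
   kk_of_18 h k l l2 e,
   k.2.2.2.2.2.2.2.2.1,
   kk_of_20 h k l l2 e,
   kk_of_21 h k l l2 e,
   rfl,
   kk_of_23 h k l l2 e,
   kk_of_24 h k l l2 e,
   kk_of_25 h k l l2 e,
   kk_of_26 h k l l2 e,
   kk_of_27 h k l l2 e, trivial⟩
noncomputable def K_r_R : List (List ℕ) := [[0,1],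
  [1,0],
  [2,3],
  [3,2],
  [4,5],
  [5,4],
  [6,7],
  [7,6],
  [8,8],
  [9,9],
  [10,10],
  [0,0,0],
  [2,2,2],
  [8,4,4],
  [8,6,6],
  [0,4,0,4,0,4],
  [2,6,2,6,2,6],
  [8,1,8,0],
  [8,3,8,2],
  [3,1,2,0],
  [3,5,2,4],
  [7,1,6,0],
  [7,5,6,4],
  [2,9,2,9],
  [0,9,0,9],
  [4,9,4,9],
  [6,9,6,9],
  [8,9,8,9],
  [1,10,2,10],
  [3,10,0,10],
  [7,10,4,10],
  [9,10,9,10],
  [8,10,8,10],
  [8,5,8,4],
  [8,7,8,6],
  [5,10,6,10]]
theorem K_r {G : Type*} [Group G] {d z m y t s g : G}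
    (h : KK d z m y t s g) :
    Rels (nthG [d, d⁻¹, z, z⁻¹, m, m⁻¹, y, y⁻¹, t, s, g]) K_r_R :=
  rels_of_eqs ((InvI.cons h.2.2.1 (InvI.cons h.2.2.2.1 (InvI.cons h.2.2.2.2.1 InvI.nil))) : InvI [d, z, m, y, t, s, g] [(nat_lit 4), (nat_lit 5), (nat_lit 6)])
    (show AllEq [d, z, m, y, t, s, g] [((.pw (.v (nat_lit 0)) (nat_lit 3)), .one), ((.pw (.v (nat_lit 1)) (nat_lit 3)), .one), ((.mul (.v (nat_lit 4)) (.v (nat_lit 4))), .one), ((.mul (.v (nat_lit 5)) (.v (nat_lit 5))), .one), ((.mul (.v (nat_lit 6)) (.v (nat_lit 6))), .one), ((.mul (.v (nat_lit 2)) (.v (nat_lit 2))), (.v (nat_lit 4))), ((.mul (.v (nat_lit 3)) (.v (nat_lit 3))), (.v (nat_lit 4))), ((.pw (.mul (.v (nat_lit 2)) (.v (nat_lit 0))) (nat_lit 3)), .one), ((.pw (.mul (.v (nat_lit 3)) (.v (nat_lit 1))) (nat_lit 3)), .one), ((.mul (.v (nat_lit 0)) (.v (nat_lit 4))), (.mul (.v (nat_lit 4)) (.v (nat_lit 0)))), ((.mul (.v (nat_lit 1)) (.v (nat_lit 4))),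 (.mul (.v (nat_lit 4)) (.v (nat_lit 1)))), ((.mul (.v (nat_lit 0)) (.v (nat_lit 1))), (.mul (.v (nat_lit 1)) (.v (nat_lit 0)))), ((.mul (.v (nat_lit 2)) (.v (nat_lit 1))), (.mul (.v (nat_lit 1)) (.v (nat_lit 2)))), ((.mul (.v (nat_lit 0)) (.v (nat_lit 3))), (.mul (.v (nat_lit 3)) (.v (nat_lit 0)))), ((.mul (.v (nat_lit 2)) (.v (nat_lit 3))), (.mul (.v (nat_lit 3)) (.v (nat_lit 2)))), ((.mul (.mul (.v (nat_lit 5)) (.v (nat_lit 1))) (.inv (.v (nat_lit 5)))), (.inv (.v (nat_lit 1)))), ((.mul (.mul (.v (nat_lit 5)) (.v (nat_lit 0))) (.inv (.v (nat_lit 5)))), (.inv (.v (nat_lit 0)))), ((.mul (.mul (.v (nat_lit 5)) (.v (nat_lit 2))) (.inv (.v (nat_lit 5)))), (.inv (.v (nat_lit 2)))), ((.mul (.mul (.v (nat_lit 5)) (.v (nat_lit 3))) (.inv (.v (nat_lit 5)))), (.inv (.v (nat_lit 3)))), ((.mul (.v (nat_lit 5)) (.v (nat_lit 4))), (.mul (.v (nat_lit 4)) (.v (nat_lit 5)))), ((.mul (.mul (.v (nat_lit 6)) (.v (nat_lit 1)))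 (.inv (.v (nat_lit 6)))), (.v (nat_lit 0))), ((.mul (.mul (.v (nat_lit 6)) (.v (nat_lit 0))) (.inv (.v (nat_lit 6)))), (.v (nat_lit 1))), ((.mul (.mul (.v (nat_lit 6)) (.v (nat_lit 2))) (.inv (.v (nat_lit 6)))), (.v (nat_lit 3))), ((.mul (.v (nat_lit 6)) (.v (nat_lit 5))), (.mul (.v (nat_lit 5)) (.v (nat_lit 6)))), ((.mul (.v (nat_lit 6)) (.v (nat_lit 4))), (.mul (.v (nat_lit 4)) (.v (nat_lit 6)))), ((.mul (.v (nat_lit 2)) (.v (nat_lit 4))), (.mul (.v (nat_lit 4)) (.v (nat_lit 2)))), ((.mul (.v (nat_lit 3)) (.v (nat_lit 4))), (.mul (.v (nat_lit 4)) (.v (nat_lit 3)))), ((.mul (.mul (.v (nat_lit 6)) (.v (nat_lit 3))) (.inv (.v (nat_lit 6)))), (.v (nat_lit 2)))] from h)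
    [(.v (nat_lit 0)), (.inv (.v (nat_lit 0))), (.v (nat_lit 1)), (.inv (.v (nat_lit 1))), (.v (nat_lit 2)), (.inv (.v (nat_lit 2))), (.v (nat_lit 3)), (.inv (.v (nat_lit 3))), (.v (nat_lit 4)), (.v (nat_lit 5)), (.v (nat_lit 6))] (by decide +kernel)
noncomputable abbrev K_o : Ops := pops (nat_lit 32) (nat_lit 5) (nat_lit 31) (nat_lit 0xffbbcdeb38bdab49ca307b9ac5a928398a418820)
noncomputable def K_cs : List ℕ := [(nat_lit 0xb568a4a338bb58be6f507bbfeece51004c7188a4), (nat_lit 0x6b17394738bffdd525107bad5a737a21420188c7), (nat_lit 0x24fa6b6850b9f942fe23cb80a585a8dd7d2c3d89), (nat_lit 0x917b53e9e3becd4f1238139215b008b727f8654d), (nat_lit 0xe6f539454947fddb568d62f38bc1ee214e600462), (nat_lit 0xb569ff75ac5ce51e6f4a4a20f76717290c708043), (nat_lit 0x97c95e19f916ec7f4cb880d2d03141d53b1bb968), (nat_lit 0xf4cbbb1f101d78697c8fc898a0a5a0a6a3d75d0b), (nat_lit 0x9ca36ad20f7737affbb9c5d494358b31c8510c01), (nat_lit 0xdf35eff719bca71ada8f8392a431ab214c710c20),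 (nat_lit 0xac9f69c291773f9dfb1aedcc411ca35352c42c01)]
noncomputable def K_L : List (List ℕ) := [[(nat_lit 0xffbbcdeb38bdab49ca307b9ac5a928398a418820), (nat_lit 0xb568a4a338bb58be6f507bbfeece51004c7188a4), (nat_lit 0x6b17394738bffdd525107bad5a737a21420188c7), (nat_lit 0x24fa6b6850b9f942fe23cb80a585a8dd7d2c3d89), (nat_lit 0x917b53e9e3becd4f1238139215b008b727f8654d), (nat_lit 0xe6f539454947fddb568d62f38bc1ee214e600462), (nat_lit 0xb569ff75ac5ce51e6f4a4a20f76717290c708043), (nat_lit 0x97c95e19f916ec7f4cb880d2d03141d53b1bb968), (nat_lit 0xf4cbbb1f101d78697c8fc898a0a5a0a6a3d75d0b), (nat_lit 0x9ca36ad20f7737affbb9c5d494358b31c8510c01), (nat_lit 0x3f2816a050b814b35b43cb893e97f14b2bbc3fd2), (nat_lit 0xd9a8c021e3ba42ba9f5813a45ef8916ab968667f), (nat_lit 0xffbb07b949467179ca2d62f9bd5ab410ca4004e6), (nat_lit 0xdd8ec505f9125a0af0d880e5f27a6542e9abbbb1), (nat_lit 0xaf0c9683101b141dd8efc8bd32cbe45a35475e3d), (nat_lit 0xe6f4d62e0f72928b5699c5e728ffdd080e610c85),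 (nat_lit 0xe7f2728e9171882b4e1aedeb27efd8081aa42d2c), (nat_lit 0x2965fc450b927d0b503cb8fca1ada97989c3ebb), (nat_lit 0x4857e245e3bc8bd6011813b66a54fafcd4d86796), (nat_lit 0x4b41e995f914be46283880f763d7868f568bba9a), (nat_lit 0x62832f93101fa654b40fc8abc36ec7ec50b75f54), (nat_lit 0x3105bf62917564f3947aedf9fcda706240142daa), (nat_lit 0x35b45fc42d4127d3f28052c50b8f2e97b754b30f), (nat_lit 0x3f2849f40a597f135b416a07970a17f4abb625f8), (nat_lit 0xa9f5e24580448bdd9a890ade3be04efcedc6aa19), (nat_lit 0xd9a922f5215f891a9f4c0230273c779ff9653730), (nat_lit 0xaf0de9958a0cbe4dd8e9681f9162038f75442eee), (nat_lit 0xdd8f2f912d07a65af0cc507101bf22ec69a5a1d7), (nat_lit 0x24fa3cb82d40a172fe2052cd6d1f947e3d24b375), (nat_lit 0xd54eb485d812180a6cd778e3e27645536dccc3f3), (nat_lit 0x35b4052c79705a83f28285cbf8927d627757e25e), (nat_lit 0x917b81398043c77f12290aea7d6cd4cc27f6aadc)],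
  [(nat_lit 0xffbbcdeb38bdab49ca307b9ac5a928398a418820), (nat_lit 0xdf35eff719bca71ada8f8392a431ab214c710c20), (nat_lit 0xdfb1cfe75dbda70ac9f48b8e5198826a9895a020), (nat_lit 0xe6f59c5ffeec1eeb5693945ac5a928188e629020), (nat_lit 0xce2fff779bd4e5183dd6ad1ac5a9282906239820), (nat_lit 0xff33ede3babcaaf9da11a3886114e34b14d42c20), (nat_lit 0xe7f3aedf7ec522eb4e1593ce5198825a1aa62420), (nat_lit 0xf7fb8cdf7cd3e0e94e35b512a431ab10c8531c20), (nat_lit 0xc66fbe6bdfed6d47c1d29c52a431ab31c4321420), (nat_lit 0xd76fbf639fcd64fa45d69c0e519882625686a820), (nat_lit 0xf6f1dd5ffccc68e955f3b4086114e342d2c53420), (nat_lit 0xeeaffe67dbc4ed08d1d2abc86114e35350b4b020)],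
  [(nat_lit 0xffbbcdeb38bdab49ca307b9ac5a928398a418820), (nat_lit 0xeffdae6ef9c52d58ce4e83d6d62149398a418820), (nat_lit 0xf77fbd7317cd6969466f7418b6a50a398a418820)]]
noncomputable def K_WW : List (List (List ℕ)) := [[[],
  [(nat_lit 0)],
  [(nat_lit 1)],
  [(nat_lit 2)],
  [(nat_lit 3)],
  [(nat_lit 4)],
  [(nat_lit 5)],
  [(nat_lit 6)],
  [(nat_lit 7)],
  [(nat_lit 8)],
  [(nat_lit 0), (nat_lit 2)],
  [(nat_lit 0), (nat_lit 3)],
  [(nat_lit 0), (nat_lit 4)],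
  [(nat_lit 0), (nat_lit 6)],
  [(nat_lit 0), (nat_lit 7)],
  [(nat_lit 0), (nat_lit 8)],
  [(nat_lit 0), (nat_lit 10)],
  [(nat_lit 1), (nat_lit 2)],
  [(nat_lit 1), (nat_lit 3)],
  [(nat_lit 1), (nat_lit 6)],
  [(nat_lit 1), (nat_lit 7)],
  [(nat_lit 1), (nat_lit 10)],
  [(nat_lit 2), (nat_lit 4)],
  [(nat_lit 2), (nat_lit 5)],
  [(nat_lit 3), (nat_lit 4)],
  [(nat_lit 3), (nat_lit 5)],
  [(nat_lit 4), (nat_lit 6)],
  [(nat_lit 4), (nat_lit 7)],
  [(nat_lit 0), (nat_lit 2), (nat_lit 4)],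
  [(nat_lit 0), (nat_lit 2), (nat_lit 6)],
  [(nat_lit 0), (nat_lit 2), (nat_lit 8)],
  [(nat_lit 0), (nat_lit 3), (nat_lit 4)]],
  [[],
  [(nat_lit 9)],
  [(nat_lit 8), (nat_lit 10)],
  [(nat_lit 0), (nat_lit 5), (nat_lit 0)],
  [(nat_lit 1), (nat_lit 4), (nat_lit 1)],
  [(nat_lit 8), (nat_lit 9), (nat_lit 10)],
  [(nat_lit 0), (nat_lit 4), (nat_lit 0), (nat_lit 10)],
  [(nat_lit 0), (nat_lit 5), (nat_lit 0), (nat_lit 9)],
  [(nat_lit 1), (nat_lit 4), (nat_lit 1), (nat_lit 9)],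
  [(nat_lit 1), (nat_lit 5), (nat_lit 1), (nat_lit 10)],
  [(nat_lit 0), (nat_lit 4), (nat_lit 0), (nat_lit 9), (nat_lit 10)],
  [(nat_lit 1), (nat_lit 5), (nat_lit 1), (nat_lit 9), (nat_lit 10)]],
  [[],
  [(nat_lit 2), (nat_lit 7), (nat_lit 2)],
  [(nat_lit 3), (nat_lit 6), (nat_lit 3)]]]
noncomputable def K_b2_S0 : List ℕ := [nat_lit 0xb000008006004]
noncomputable def K_b2_S : List (List ℕ) := [K_b2_S0]
noncomputable def K_b2_defs : List ℕ := [(nat_lit 0x1000000000000000000000)]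
noncomputable def K_b2_recs : List ℕ := [(nat_lit 0x10000100002)]
noncomputable def K_b2_L0 : List ℕ := [nat_lit 0x700000100000b000002, nat_lit 0x2000002000008000000, nat_lit 0xc000000000001000001]
noncomputable def K_b2_L : List (List ℕ) := [K_b2_L0]
noncomputable def K_b2_V : List ℕ := [(nat_lit 0x20000000100000000)]
noncomputable def K_b2_D : H26.Dag := ⟨[1,0], [[0,1],
  [1,0],
  [0,0,0]], [], K_b2_defs, K_b2_recs⟩
theorem K_b2_c : K_b2_D.checkTab K_b2_S 3 2 K_b2_V K_b2_L = true := by decide +kernel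
theorem K_b2 : Bound K_r_R 2 3 :=
  bound_dag (Bound.zero K_r_R) (K := 2) (J := [0,1,11]) (by decide +kernel) K_b2_c (by decide +kernel)
noncomputable def K_b4_S0 : List ℕ := [nat_lit 0x1, nat_lit 0x700000200000800c00a, nat_lit 0xb000008006008, nat_lit 0xb00000100000c00400a]
noncomputable def K_b4_S : List (List ℕ) := [K_b4_S0]
noncomputable def K_b4_defs : List ℕ := [(nat_lit 0x3000000020000000000000)]
noncomputable def K_b4_recs : List ℕ := [(nat_lit 0x10000200002030000100002000000100001000000000000)]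
noncomputable def K_b4_L0 : List ℕ := [nat_lit 0x100000000000200000000000700000100000b000002, nat_lit 0x500000100000600000100000a000002000008000000, nat_lit 0xe00000200000d00000200000c000000000009000001]
noncomputable def K_b4_L : List (List ℕ) := [K_b4_L0]
noncomputable def K_b4_V : List ℕ := [(nat_lit 0x20000000100000000)]
noncomputable def K_b4_D : H26.Dag := ⟨[1,0,3,2], [[0,1],
  [1,0],
  [2,3],
  [3,2],
  [2,2,2],
  [3,1,2,0]], [0,1], K_b4_defs, K_b4_recs⟩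
theorem K_b4_c : K_b4_D.checkTab K_b4_S 3 4 K_b4_V K_b4_L = true := by decide +kernel
theorem K_b4 : Bound K_r_R 4 9 :=
  bound_dag K_b2 (K := 4) (J := [0,1,2,3,12,19]) (by decide +kernel) K_b4_c (by decide +kernel)
noncomputable def K_b9_S0 : List ℕ := [nat_lit 0x1, nat_lit 0x1, nat_lit 0x7000005000008000024, nat_lit 0xb00000800a016, nat_lit 0xb00000600000c008024, nat_lit 0xf00000200001000c026, nat_lit 0x1300001000a018, nat_lit 0x13000001000014004026, nat_lit 0x1700000c004016, nat_lit 0x17000008002016, nat_lit 0x17000014004018, nat_lit 0x17000010002018, nat_lit 0x1700000100001800401e, nat_lit 0x17000005000018004020, nat_lit 0x1b00000a00001c000022, nat_lit 0x1f00001c006012, nat_lit 0x1f000009000020008022, nat_lit 0x2300000d008018, nat_lit 0x2300002500002a00c028, nat_lit 0x23000007000010002028, nat_lit 0x2700000d006018, nat_lit 0x2700002400a018, nat_lit 0x27000007000014004028, nat_lit 0x2700002500002e00a028,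 nat_lit 0x2b00000e00001c00001e, nat_lit 0x2b00001100002c000022, nat_lit 0x2b00002100003200002600002000401a, nat_lit 0x69000062008016, nat_lit 0x2f00002c006012, nat_lit 0x2f00000e00002000801e, nat_lit 0x2f000012000030008022, nat_lit 0x2f00000b00000200000800001c00a01a, nat_lit 0x6200007d002016, nat_lit 0x3300001600003400c022, nat_lit 0x37000034006014, nat_lit 0x37000015000038004022, nat_lit 0x3b00001a000034000020, nat_lit 0x3b00001d00003c00c022, nat_lit 0x3b00002900003600002e00003800401c, nat_lit 0x99000092008018, nat_lit 0x3f00003c006014, nat_lit 0x3f00001a000038008020, nat_lit 0x3f00001e000040004022, nat_lit 0x3f00001300000600001000003400a01c, nat_lit 0x920000ad002018, nat_lit 0x43000061008018, nat_lit 0x4300001b000024002026, nat_lit 0x47000061006018, nat_lit 0x4700004400a018, nat_lit 0x4700001b000028004026, nat_lit 0x4b000075008018, nat_lit 0x4b00001f00002400c026, nat_lit 0x4b00003e000044002026, nat_lit 0x4b00006e00004400c028,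 nat_lit 0x4b0000690000bd002028, nat_lit 0x4f000075006018, nat_lit 0x4f00004c00a018, nat_lit 0x4f00003e000048004026, nat_lit 0x4f00001f00002800a026, nat_lit 0x4f0000690000b5004028, nat_lit 0x4f00006e00004800a028, nat_lit 0x5300004a00003c00c024, nat_lit 0x5300004e000034002024, nat_lit 0x57000054006014]
noncomputable def K_b9_S1 : List ℕ := [nat_lit 0x5700004e000038004024, nat_lit 0x5700004a00004000a024, nat_lit 0xf60000b2000105006028, nat_lit 0x5b000056000054000020, nat_lit 0x5b00005e00003400c024, nat_lit 0x5b00005a00003c002024, nat_lit 0x5b00005200001100004500005800401c, nat_lit 0x5f00005c006014, nat_lit 0x5f000056000058008020, nat_lit 0x5f00005a000040004024, nat_lit 0x5f00005e00003800a024, nat_lit 0x5f00002700000900002400005400a01c, nat_lit 0x10e00012d002018, nat_lit 0x630000ba000054002022, nat_lit 0x67000064006014, nat_lit 0x670000ba000058004022, nat_lit 0x13600010a00013d000026, nat_lit 0x6b0000c2000064000020,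 nat_lit 0x6b0000c600005c002022, nat_lit 0x6b0000be0000660000b500006800401c, nat_lit 0x6f00006c006014, nat_lit 0x6f0000c2000068008020, nat_lit 0x6f0000c6000060004022, nat_lit 0x6f00004700003900004400006400a01c, nat_lit 0x14600015d002018, nat_lit 0x730000ce00005400c022, nat_lit 0x730000d2000064002022, nat_lit 0x730000d600006400c024, nat_lit 0x730000da00006c002024, nat_lit 0x77000074006014, nat_lit 0x770000d2000068004022, nat_lit 0x770000ce00005800a022, nat_lit 0x770000da000070004024, nat_lit 0x770000d600006800a024, nat_lit 0x16e000142000185006028, nat_lit 0x7b0000e2000074000020, nat_lit 0x7b0000ea00005c00c022, nat_lit 0x7b0000e600006c002022, nat_lit 0x7b0000f200006c00c024, nat_lit 0x7b0000ee000064002024, nat_lit 0x7b0000de0000790000c900007800401c, nat_lit 0x7f00007c006014, nat_lit 0x7f0000e2000078008020, nat_lit 0x7f0000e6000070004022, nat_lit 0x7f0000ea00006000a022, nat_lit 0x7f0000ee000068004024, nat_lit 0x7f0000f200007000a024,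 nat_lit 0x7f00004f00004200004c00007400a01c, nat_lit 0x18e0001bd002018]
noncomputable def K_b9_S : List (List ℕ) := [K_b9_S0, K_b9_S1]
noncomputable def K_b9_defs : List ℕ := [(nat_lit 0x30001300200013003000120020001200300011002000110030001000200010003000090020000900300008002000080070000700600007007000060060000600300004002000040030000300200003001000020000000200700001006000010010000100000001008000000070000000600000005000000040000000000000)]
noncomputable def K_b9_recs : List ℕ := [(nat_lit 0x30001400015050000c00014040000e00014040001100013050001000013000000900013010001100013080001200013070000b00013050001100012040001000012010001000012000000800012060000b00012010000900011080001000011070000a00011010000800010060000a00010070000f0000e070000c0000f010000f0000f080000d0000f030000e0000f060000c0000d060000d0000e000000e0000e080000c0000e010000d0000d030000c0000d000000c0000c050000b0000a05000060000b020000b0000b08000070000b010000a0000b04000060000704000070000a030000a0000a08000060000a040000300009050000400009080000800009070000200009050000300008040000400008060000200008020000700007010000600007030000600006030000500005010000500005070000300005060000400005050000100005040000200005010000400004080000300004000000300003020000200002080000100002030000100001020000000000000000000000),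
  (nat_lit 0x70001f0001e070001c0001f040001b0001f05000190001f00000170001f010001b0001f080001d0001f030001e0001f060001d0001e05000180001e040001a0001e010001a0001e00000160001e080001c0001e070001d0001c04000190001d050001b0001d00000150001d01000190001d030001c0001d050001a0001c04000180001c01000180001c00000140001c070001b0001a07000180001b01000170001b08000190001b030001a0001b06000190001a01000160001a08000180001a070001900018010001500019030001800019010001400018070001700016070001400017040000d00017050000f00017080001500017030001600017060001500016050000e00016040000c00016080001400016070001500014040000f00015050000d00015)]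
noncomputable def K_b9_L0 : List ℕ := [nat_lit 0x100000000000200000000000500000000000600000000000700000100000b00000200000f000003000013000004000017000005, nat_lit 0x1b00000600001f00000700000a00000100000900000100002600000500000800000000002300000800002700000900000e000002, nat_lit 0x2b00000a00002f00000b00001100000200001200000200000c00000000002200000500005200000900004600000800000d000001, nat_lit 0x1500000300001600000300003300000c00003700000d00004e00000800005e00000900002e00000500001000000000001a000004, nat_lit 0x1e00000400001d00000400003b00000e00003f00000f00005a00000900004a00000800001400000000002a000005000019000003, nat_lit 0x3200000500003100000500003600000500003500000500002100000200002500000100002900000400002d000003000018000000, nat_lit 0x3e00000700001c00000100003a00000600003900000600007e00000b00006e00000700004300001000004700001100006200000a, nat_lit 0x2000000100003d00000600004100000700004200000700006d00000600006a00000a00004b00001200004f00001300007600000b,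 nat_lit 0xba0000100000ce00001200005300001400005700001500004900000400004d000003000045000002000024000001000056000009, nat_lit 0xc60000110000ea00001300005b00001600005f00001700005d000003000059000004000028000001000051000002000055000008, nat_lit 0x7200000b00002c00000200006600000a00006500000a00006900000700008100000b0000be0000110000b6000010000061000006, nat_lit 0x3000000200007100000a00007900000b00007a00000b00008200000a00007d0000060000de0000130000ca000012000075000007, nat_lit 0x8500000c00008600000c00008a00000d0000340000030000fa0000140001120000160000ae00000f00009e00000d00009200000e, nat_lit 0x8e00000d00008d00000d00003800000300008900000c00010200001500012a00001700009d00000c00009a00000e0000a600000f, nat_lit 0x9500000e00009600000e0000a200000f00003c0000040001160000160000f600001400009900000d0000b100000f00009100000c, nat_lit 0xaa00000f0000a900000f0000400000040000a100000e0001260000170001060000150000b200000e0000ad00000c0000a500000d,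 nat_lit 0xd20000120000b90000080000630000180000670000190000ee0000130000d60000120000b500000a0000440000060000c2000011, nat_lit 0xe60000130000c500000900006b00001a00006f00001b0000da0000120000f20000130000480000060000bd00000a0000c1000010, nat_lit 0xcd0000080000d100001000007300001c00007700001d0000d50000100000d90000110000c900000b00004c0000070000e2000013, nat_lit 0xe90000090000e500001100007b00001e00007f00001f0000f10000110000ed0000100000500000070000dd00000b0000e1000012, nat_lit 0x13600001800016600001c0000fe0000150000540000080000f500000e0000f900000c00012e00001700010900001500010e000016, nat_lit 0x13e00001900017e00001d0000580000080000fd00001400010500000f00010100000d00010a00001400011a000016000122000017, nat_lit 0x14a00001a00019200001e00011e00001700005c00000900011100000c00011500000e00011900001500013100001700010d000014, nat_lit 0x15a00001b0001b200001f00006000000900011d00001600012900000d00012500000f00013200001600012d000014000121000015,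 nat_lit 0x16a00001c00013500001400013a00001900006400001000019e00001e00016e00001c00015e00001b00014100001900014600001a, nat_lit 0x17a00001d00013d0000150000680000100001390000180001b600001f00018600001d00014200001800014e00001a00015600001b, nat_lit 0x19600001e00014900001600015200001b00006c00001100017200001c00019a00001e00014d00001900016100001b000145000018, nat_lit 0x1ae00001f00015900001700007000001100015100001a00018200001d0001ba00001f00016200001a00015d000018000155000019, nat_lit 0x16500001400016900001800017600001d00007400001200016d00001800017100001a0001be00001f00018900001d00018e00001e, nat_lit 0x17d00001500017900001900007800001200017500001c00018500001900018100001b00018a00001c0001a200001e0001aa00001f, nat_lit 0x19100001600019500001a0001a600001f00007c00001300019900001a00019d0000180001a100001d0001c100001f00018d00001c, nat_lit 0x1b10000170001ad00001b0000800000130001a500001e0001b900001b0001b50000190001c200001e0001bd00001c0001a900001d]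
noncomputable def K_b9_L : List (List ℕ) := [K_b9_L0]
noncomputable def K_b9_V : List ℕ := [(nat_lit 0x1f0000001e0000001d0000001c0000001b0000001a000000190000001800000017000000160000001500000014000000130000001200000011000000100000000f0000000e0000000d0000000c0000000b0000000a00000009000000080000000700000006000000050000000400000003000000020000000100000000)]
noncomputable def K_b9_D : H26.Dag := ⟨[1,0,3,2,5,4,7,6,8], [[0,1],
  [1,0],
  [2,3],
  [3,2],
  [4,5],
  [5,4],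
  [6,7],
  [7,6],
  [8,8],
  [0,0,0],
  [2,2,2],
  [8,4,4],
  [8,6,6],
  [0,4,0,4,0,4],
  [2,6,2,6,2,6],
  [8,1,8,0],
  [8,3,8,2],
  [3,1,2,0],
  [3,5,2,4],
  [7,1,6,0],
  [7,5,6,4]], [0,1,2,3], K_b9_defs, K_b9_recs⟩
theorem K_b9_c : K_b9_D.checkTab K_b9_S 32 9 K_b9_V K_b9_L = true := by decide +kernel
theorem K_b9 : Bound K_r_R 9 288 :=
  bound_dag K_b4 (K := 9) (J := [0,1,2,3,4,5,6,7,8,11,12,13,14,15,16,17,18,19,20,21,22]) (by decide +kernel) K_b9_c (by decide +kernel)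
noncomputable def K_b10_S0 : List ℕ := [nat_lit 0x1, nat_lit 0x1, nat_lit 0x1, nat_lit 0x1, nat_lit 0x1, nat_lit 0x7000005000008008014, nat_lit 0x7000001000008008016, nat_lit 0x7000009000008008018, nat_lit 0x700000d00000800801a, nat_lit 0x700001100000800801c]
noncomputable def K_b10_S : List (List ℕ) := [K_b10_S0]
noncomputable def K_b10_defs : List ℕ := [(nat_lit 0x90000000000000)]
noncomputable def K_b10_recs : List ℕ := [(nat_lit 0x80000100001060000100001040000100001000000100001020000100001080000000000060000000000040000000000020000000000000000000000)]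
noncomputable def K_b10_L0 : List ℕ := [nat_lit 0x100000000000200000000000500000000000600000000000900000000000a00000000000d00000000000e000000000011000000000007000001, nat_lit 0x1900000100001a00000100001500000100001600000100001d00000100001e000001000021000001000022000001000025000001000008000000]
noncomputable def K_b10_L : List (List ℕ) := [K_b10_L0]
noncomputable def K_b10_V : List ℕ := [(nat_lit 0x100000000)]
noncomputable def K_b10_D : H26.Dag := ⟨[1,0,3,2,5,4,7,6,8,9], [[0,1],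
  [1,0],
  [2,3],
  [3,2],
  [4,5],
  [5,4],
  [6,7],
  [7,6],
  [8,8],
  [9,9],
  [2,9,2,9],
  [0,9,0,9],
  [4,9,4,9],
  [6,9,6,9],
  [8,9,8,9]], [0,1,2,3,4,5,6,7,8], K_b10_defs, K_b10_recs⟩
theorem K_b10_c : K_b10_D.checkTab K_b10_S 2 10 K_b10_V K_b10_L = true := by decide +kernel
theorem K_b10 : Bound K_r_R 10 576 :=
  bound_dag K_b9 (K := 10) (J := [0,1,2,3,4,5,6,7,8,9,23,24,25,26,27]) (by decide +kernel) K_b10_c (by decide +kernel)
noncomputable def K_b11_S0 : List ℕ := [nat_lit 0x1, nat_lit 0x1, nat_lit 0x1, nat_lit 0x1, nat_lit 0x1, nat_lit 0x1, nat_lit 0x7000002000008008016, nat_lit 0x7000005000008000016, nat_lit 0x700000e000008008018, nat_lit 0x7000009000008000018, nat_lit 0x700001500000800801a, nat_lit 0x700001100000800801c]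
noncomputable def K_b11_S : List (List ℕ) := [K_b11_S0]
noncomputable def K_b11_defs : List ℕ := [(nat_lit 0xa0000000000000)]
noncomputable def K_b11_recs : List ℕ := [(nat_lit 0x80000100001090000100001070000100001040000100001010000100001020000100001090000000000080000000000060000000000040000000000020000000000000000000000)]
noncomputable def K_b11_L0 : List ℕ := [nat_lit 0x100000000000200000000000500000000000600000000000900000000000a00000000000d00000000000e000000000011000000000015000000000007000001, nat_lit 0x1e00000100001d00000100001900000100001a00000100002100000100002200000100002600000100002500000100002d000001000029000001000008000000]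
noncomputable def K_b11_L : List (List ℕ) := [K_b11_L0]
noncomputable def K_b11_V : List ℕ := [(nat_lit 0x100000000)]
noncomputable def K_b11_D : H26.Dag := ⟨[1,0,3,2,5,4,7,6,8,9,10], [[0,1],
  [1,0],
  [2,3],
  [3,2],
  [4,5],
  [5,4],
  [6,7],
  [7,6],
  [8,8],
  [9,9],
  [10,10],
  [1,10,2,10],
  [7,10,4,10],
  [9,10,9,10],
  [8,10,8,10]], [0,1,2,3,4,5,6,7,8,9], K_b11_defs, K_b11_recs⟩
theorem K_b11_c : K_b11_D.checkTab K_b11_S 2 11 K_b11_V K_b11_L = true := by decide +kernel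
theorem K_b11 : Bound K_r_R 11 1152 :=
  bound_dag K_b10 (K := 11) (J := [0,1,2,3,4,5,6,7,8,9,10,28,30,31,32]) (by decide +kernel) K_b11_c (by decide +kernel)
theorem K_P : PModel (nat_lit 32) (nat_lit 5) (nat_lit 31) (nat_lit 0xffbbcdeb38bdab49ca307b9ac5a928398a418820) K_cs K_r_R K_L 1152 :=
  ⟨PkOK.of (by decide +kernel), by decide +kernel, by decide +kernel, K_b11, ⟨K_WW, by decide +kernel⟩,
    ⟨fun c => Nat.mod c (nat_lit 248272), by decide +kernel⟩⟩
noncomputable def K_soc_t0 : ST := (.node (nat_lit 57615) (.node (nat_lit 29563) (.node (nat_lit 15455) (.node (nat_lit 7056) (.node (nat_lit 3418) (.node (nat_lit 1854) (.node (nat_lit 468) (.node (nat_lit 129) (.node (nat_lit 121) (.leaf (nat_lit 5)) (.leaf (nat_lit 0))) (.node (nat_lit 300) (.leaf (nat_lit 130)) (.node (nat_lit 376) (.leaf (nat_lit 5)) (.leaf (nat_lit 130))))) (.node (nat_lit 636) (.node (nat_lit 493) (.leaf (nat_lit 5)) (.leaf (nat_lit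 0))) (.node (nat_lit 836) (.leaf (nat_lit 130)) (.node (nat_lit 1134) (.leaf (nat_lit 0)) (.leaf (nat_lit 130)))))) (.node (nat_lit 2562) (.node (nat_lit 1957) (.node (nat_lit 1919) (.leaf (nat_lit 5)) (.leaf (nat_lit 130))) (.node (nat_lit 2166) (.leaf (nat_lit 5)) (.node (nat_lit 2548) (.leaf (nat_lit 130)) (.leaf (nat_lit 5))))) (.node (nat_lit 2953) (.node (nat_lit 2700) (.leaf (nat_lit 130)) (.node (nat_lit 2793) (.leaf (nat_lit 5)) (.leaf (nat_lit 7)))) (.node (nat_lit 3064) (.leaf (nat_lit 5)) (.node (nat_lit 3070) (.leaf (nat_lit 0)) (.leaf (nat_lit 5))))))) (.node (nat_lit 4863) (.node (nat_lit 3804) (.node (nat_lit 3679) (.node (nat_lit 3537) (.leaf (nat_lit 130)) (.leaf (nat_lit 5))) (.node (nat_lit 3751) (.leaf (nat_lit 130)) (.node (nat_lit 3755) (.leaf (nat_lit 5)) (.leaf (nat_lit 130))))) (.node (nat_lit 4379) (.node (nat_lit 4218) (.leaf (nat_lit 5)) (.leaf (nat_lit 130))) (.node (nat_lit 4635)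 (.leaf (nat_lit 5)) (.node (nat_lit 4733) (.leaf (nat_lit 130)) (.leaf (nat_lit 5)))))) (.node (nat_lit 6015) (.node (nat_lit 5319) (.node (nat_lit 5300) (.leaf (nat_lit 130)) (.leaf (nat_lit 0))) (.node (nat_lit 5764) (.leaf (nat_lit 130)) (.node (nat_lit 5967) (.leaf (nat_lit 5)) (.leaf (nat_lit 130))))) (.node (nat_lit 6513) (.node (nat_lit 6090) (.leaf (nat_lit 5)) (.node (nat_lit 6503) (.leaf (nat_lit 130)) (.leaf (nat_lit 0)))) (.node (nat_lit 6860) (.leaf (nat_lit 130)) (.node (nat_lit 7042) (.leaf (nat_lit 0)) (.leaf (nat_lit 130)))))))) (.node (nat_lit 12509) (.node (nat_lit 8269) (.node (nat_lit 7453) (.node (nat_lit 7156) (.node (nat_lit 7092) (.leaf (nat_lit 5)) (.leaf (nat_lit 0))) (.node (nat_lit 7273) (.leaf (nat_lit 130)) (.node (nat_lit 7413) (.leaf (nat_lit 5)) (.leaf (nat_lit 130))))) (.node (nat_lit 7509) (.node (nat_lit 7478) (.leaf (nat_lit 5)) (.leaf (nat_lit 0))) (.node (nat_lit 7542)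 (.leaf (nat_lit 5)) (.node (nat_lit 7851) (.leaf (nat_lit 130)) (.leaf (nat_lit 5)))))) (.node (nat_lit 9474) (.node (nat_lit 8609) (.node (nat_lit 8368) (.leaf (nat_lit 130)) (.leaf (nat_lit 5))) (.node (nat_lit 8630) (.leaf (nat_lit 0)) (.node (nat_lit 9274) (.leaf (nat_lit 130)) (.leaf (nat_lit 0))))) (.node (nat_lit 10410) (.node (nat_lit 9753) (.leaf (nat_lit 5)) (.node (nat_lit 10057) (.leaf (nat_lit 130)) (.leaf (nat_lit 5)))) (.node (nat_lit 10542) (.leaf (nat_lit 130)) (.node (nat_lit 10568) (.leaf (nat_lit 5)) (.leaf (nat_lit 130))))))) (.node (nat_lit 13742) (.node (nat_lit 13375) (.node (nat_lit 12857) (.node (nat_lit 12619) (.leaf (nat_lit 0)) (.leaf (nat_lit 5))) (.node (nat_lit 13050) (.leaf (nat_lit 130)) (.node (nat_lit 13200) (.leaf (nat_lit 5)) (.leaf (nat_lit 130))))) (.node (nat_lit 13550) (.node (nat_lit 13393) (.leaf (nat_lit 5)) (.leaf (nat_lit 130))) (.node (nat_lit 13629) (.leaf (nat_lit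 5)) (.node (nat_lit 13667) (.leaf (nat_lit 0)) (.leaf (nat_lit 130)))))) (.node (nat_lit 14450) (.node (nat_lit 14019) (.node (nat_lit 13987) (.leaf (nat_lit 5)) (.leaf (nat_lit 7))) (.node (nat_lit 14303) (.leaf (nat_lit 5)) (.node (nat_lit 14405) (.leaf (nat_lit 130)) (.leaf (nat_lit 5))))) (.node (nat_lit 15122) (.node (nat_lit 14747) (.leaf (nat_lit 130)) (.node (nat_lit 15002) (.leaf (nat_lit 0)) (.leaf (nat_lit 130)))) (.node (nat_lit 15136) (.leaf (nat_lit 5)) (.node (nat_lit 15290) (.leaf (nat_lit 0)) (.leaf (nat_lit 130))))))))) (.node (nat_lit 22807) (.node (nat_lit 19247) (.node (nat_lit 17156) (.node (nat_lit 16780) (.node (nat_lit 16095) (.node (nat_lit 15693) (.leaf (nat_lit 5)) (.leaf (nat_lit 130))) (.node (nat_lit 16365) (.leaf (nat_lit 5)) (.node (nat_lit 16684) (.leaf (nat_lit 130)) (.leaf (nat_lit 5))))) (.node (nat_lit 16967) (.node (nat_lit 16929) (.leaf (nat_lit 130)) (.leaf (nat_lit 0)))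 (.node (nat_lit 17051) (.leaf (nat_lit 130)) (.node (nat_lit 17093) (.leaf (nat_lit 5)) (.leaf (nat_lit 130)))))) (.node (nat_lit 17882) (.node (nat_lit 17404) (.node (nat_lit 17178) (.leaf (nat_lit 5)) (.leaf (nat_lit 130))) (.node (nat_lit 17589) (.leaf (nat_lit 5)) (.node (nat_lit 17790) (.leaf (nat_lit 130)) (.leaf (nat_lit 5))))) (.node (nat_lit 18350) (.node (nat_lit 18054) (.leaf (nat_lit 130)) (.node (nat_lit 18271) (.leaf (nat_lit 0)) (.leaf (nat_lit 5)))) (.node (nat_lit 18403) (.leaf (nat_lit 130)) (.node (nat_lit 18558) (.leaf (nat_lit 5)) (.leaf (nat_lit 130))))))) (.node (nat_lit 20204) (.node (nat_lit 19775) (.node (nat_lit 19599) (.node (nat_lit 19297) (.leaf (nat_lit 5)) (.leaf (nat_lit 130))) (.node (nat_lit 19622) (.leaf (nat_lit 5)) (.node (nat_lit 19753) (.leaf (nat_lit 130)) (.leaf (nat_lit 5))))) (.node (nat_lit 20127) (.node (nat_lit 20125) (.leaf (nat_lit 130)) (.leaf (nat_lit 5))) (.node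 (nat_lit 20167) (.leaf (nat_lit 0)) (.node (nat_lit 20184) (.leaf (nat_lit 5)) (.leaf (nat_lit 130)))))) (.node (nat_lit 22150) (.node (nat_lit 20339) (.node (nat_lit 20256) (.leaf (nat_lit 5)) (.leaf (nat_lit 0))) (.node (nat_lit 21988) (.leaf (nat_lit 130)) (.node (nat_lit 21990) (.leaf (nat_lit 5)) (.leaf (nat_lit 130))))) (.node (nat_lit 22438) (.node (nat_lit 22230) (.leaf (nat_lit 0)) (.node (nat_lit 22396) (.leaf (nat_lit 5)) (.leaf (nat_lit 130)))) (.node (nat_lit 22454) (.leaf (nat_lit 0)) (.node (nat_lit 22483) (.leaf (nat_lit 5)) (.leaf (nat_lit 130)))))))) (.node (nat_lit 25940) (.node (nat_lit 24024) (.node (nat_lit 23646) (.node (nat_lit 23331) (.node (nat_lit 23268) (.leaf (nat_lit 5)) (.leaf (nat_lit 7))) (.node (nat_lit 23374) (.leaf (nat_lit 130)) (.node (nat_lit 23437) (.leaf (nat_lit 5)) (.leaf (nat_lit 130))))) (.node (nat_lit 23693) (.node (nat_lit 23687) (.leaf (nat_lit 5)) (.leaf (nat_lit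 0))) (.node (nat_lit 23764) (.leaf (nat_lit 130)) (.node (nat_lit 23985) (.leaf (nat_lit 5)) (.leaf (nat_lit 130)))))) (.node (nat_lit 24940) (.node (nat_lit 24172) (.node (nat_lit 24052) (.leaf (nat_lit 0)) (.leaf (nat_lit 5))) (.node (nat_lit 24278) (.leaf (nat_lit 0)) (.node (nat_lit 24579) (.leaf (nat_lit 130)) (.leaf (nat_lit 5))))) (.node (nat_lit 25518) (.node (nat_lit 25115) (.leaf (nat_lit 130)) (.node (nat_lit 25206) (.leaf (nat_lit 0)) (.leaf (nat_lit 130)))) (.node (nat_lit 25735) (.leaf (nat_lit 5)) (.node (nat_lit 25790) (.leaf (nat_lit 130)) (.leaf (nat_lit 5))))))) (.node (nat_lit 27382) (.node (nat_lit 26905) (.node (nat_lit 26472) (.node (nat_lit 25958) (.leaf (nat_lit 0)) (.leaf (nat_lit 130))) (.node (nat_lit 26683) (.leaf (nat_lit 5)) (.node (nat_lit 26821) (.leaf (nat_lit 130)) (.leaf (nat_lit 5))))) (.node (nat_lit 27062) (.node (nat_lit 26919) (.leaf (nat_lit 130)) (.node (nat_lit 27028)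 (.leaf (nat_lit 5)) (.leaf (nat_lit 130)))) (.node (nat_lit 27305) (.leaf (nat_lit 5)) (.node (nat_lit 27330) (.leaf (nat_lit 130)) (.leaf (nat_lit 5)))))) (.node (nat_lit 27904) (.node (nat_lit 27540) (.node (nat_lit 27413) (.leaf (nat_lit 7)) (.leaf (nat_lit 130))) (.node (nat_lit 27696) (.leaf (nat_lit 5)) (.node (nat_lit 27735) (.leaf (nat_lit 130)) (.leaf (nat_lit 5))))) (.node (nat_lit 28993) (.node (nat_lit 28264) (.leaf (nat_lit 130)) (.node (nat_lit 28668) (.leaf (nat_lit 5)) (.leaf (nat_lit 130)))) (.node (nat_lit 29026) (.leaf (nat_lit 5)) (.node (nat_lit 29546) (.leaf (nat_lit 130)) (.leaf (nat_lit 5)))))))))) (.node (nat_lit 42301) (.node (nat_lit 36040) (.node (nat_lit 33271) (.node (nat_lit 31212) (.node (nat_lit 30473) (.node (nat_lit 30056) (.node (nat_lit 29899) (.leaf (nat_lit 130)) (.leaf (nat_lit 5))) (.node (nat_lit 30211) (.leaf (nat_lit 130)) (.node (nat_lit 30279) (.leaf (nat_lit 5))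 (.leaf (nat_lit 0))))) (.node (nat_lit 30745) (.node (nat_lit 30501) (.leaf (nat_lit 130)) (.leaf (nat_lit 0))) (.node (nat_lit 30762) (.leaf (nat_lit 5)) (.node (nat_lit 31023) (.leaf (nat_lit 130)) (.leaf (nat_lit 0)))))) (.node (nat_lit 32297) (.node (nat_lit 31811) (.node (nat_lit 31721) (.leaf (nat_lit 130)) (.leaf (nat_lit 5))) (.node (nat_lit 32030) (.leaf (nat_lit 0)) (.node (nat_lit 32161) (.leaf (nat_lit 130)) (.leaf (nat_lit 0))))) (.node (nat_lit 32864) (.node (nat_lit 32784) (.leaf (nat_lit 130)) (.node (nat_lit 32787) (.leaf (nat_lit 0)) (.leaf (nat_lit 130)))) (.node (nat_lit 33018) (.leaf (nat_lit 5)) (.node (nat_lit 33187) (.leaf (nat_lit 130)) (.leaf (nat_lit 5))))))) (.node (nat_lit 34222) (.node (nat_lit 33588) (.node (nat_lit 33315) (.node (nat_lit 33284) (.leaf (nat_lit 130)) (.leaf (nat_lit 5))) (.node (nat_lit 33431) (.leaf (nat_lit 130)) (.node (nat_lit 33584) (.leaf (nat_lit 5)) (.leaf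 (nat_lit 130))))) (.node (nat_lit 34001) (.node (nat_lit 33954) (.leaf (nat_lit 5)) (.leaf (nat_lit 0))) (.node (nat_lit 34007) (.leaf (nat_lit 5)) (.node (nat_lit 34094) (.leaf (nat_lit 130)) (.leaf (nat_lit 5)))))) (.node (nat_lit 34828) (.node (nat_lit 34411) (.node (nat_lit 34381) (.leaf (nat_lit 0)) (.leaf (nat_lit 130))) (.node (nat_lit 34462) (.leaf (nat_lit 5)) (.node (nat_lit 34753) (.leaf (nat_lit 7)) (.leaf (nat_lit 0))))) (.node (nat_lit 35300) (.node (nat_lit 35081) (.leaf (nat_lit 130)) (.node (nat_lit 35104) (.leaf (nat_lit 0)) (.leaf (nat_lit 130)))) (.node (nat_lit 35384) (.leaf (nat_lit 5)) (.node (nat_lit 35768) (.leaf (nat_lit 130)) (.leaf (nat_lit 5)))))))) (.node (nat_lit 39107) (.node (nat_lit 37810) (.node (nat_lit 37423) (.node (nat_lit 36688) (.node (nat_lit 36125) (.leaf (nat_lit 0)) (.leaf (nat_lit 5))) (.node (nat_lit 36715) (.leaf (nat_lit 130)) (.node (nat_lit 36775) (.leaf (nat_lit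 5)) (.leaf (nat_lit 130))))) (.node (nat_lit 37605) (.node (nat_lit 37591) (.leaf (nat_lit 5)) (.leaf (nat_lit 130))) (.node (nat_lit 37651) (.leaf (nat_lit 5)) (.node (nat_lit 37770) (.leaf (nat_lit 130)) (.leaf (nat_lit 5)))))) (.node (nat_lit 38496) (.node (nat_lit 38029) (.node (nat_lit 37830) (.leaf (nat_lit 130)) (.leaf (nat_lit 5))) (.node (nat_lit 38387) (.leaf (nat_lit 130)) (.node (nat_lit 38414) (.leaf (nat_lit 5)) (.leaf (nat_lit 130))))) (.node (nat_lit 38905) (.node (nat_lit 38605) (.leaf (nat_lit 5)) (.node (nat_lit 38851) (.leaf (nat_lit 130)) (.leaf (nat_lit 5)))) (.node (nat_lit 38929) (.leaf (nat_lit 130)) (.node (nat_lit 39042) (.leaf (nat_lit 5)) (.leaf (nat_lit 130))))))) (.node (nat_lit 40663) (.node (nat_lit 39963) (.node (nat_lit 39435) (.node (nat_lit 39136) (.leaf (nat_lit 0)) (.leaf (nat_lit 5))) (.node (nat_lit 39829) (.leaf (nat_lit 130)) (.node (nat_lit 39850) (.leaf (nat_lit 5))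 (.leaf (nat_lit 130))))) (.node (nat_lit 40109) (.node (nat_lit 39991) (.leaf (nat_lit 0)) (.node (nat_lit 40027) (.leaf (nat_lit 130)) (.leaf (nat_lit 5)))) (.node (nat_lit 40450) (.leaf (nat_lit 130)) (.node (nat_lit 40492) (.leaf (nat_lit 5)) (.leaf (nat_lit 0)))))) (.node (nat_lit 41582) (.node (nat_lit 40961) (.node (nat_lit 40849) (.leaf (nat_lit 130)) (.leaf (nat_lit 0))) (.node (nat_lit 41378) (.leaf (nat_lit 130)) (.node (nat_lit 41455) (.leaf (nat_lit 5)) (.leaf (nat_lit 130))))) (.node (nat_lit 41934) (.node (nat_lit 41734) (.leaf (nat_lit 5)) (.node (nat_lit 41891) (.leaf (nat_lit 130)) (.leaf (nat_lit 0)))) (.node (nat_lit 42033) (.leaf (nat_lit 5)) (.node (nat_lit 42211) (.leaf (nat_lit 130)) (.leaf (nat_lit 0))))))))) (.node (nat_lit 49321) (.node (nat_lit 45636) (.node (nat_lit 43566) (.node (nat_lit 42935) (.node (nat_lit 42524) (.node (nat_lit 42495) (.leaf (nat_lit 130)) (.leaf (nat_lit 0)))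 (.node (nat_lit 42778) (.leaf (nat_lit 130)) (.node (nat_lit 42876) (.leaf (nat_lit 5)) (.leaf (nat_lit 130))))) (.node (nat_lit 43284) (.node (nat_lit 42971) (.leaf (nat_lit 0)) (.leaf (nat_lit 130))) (.node (nat_lit 43385) (.leaf (nat_lit 5)) (.node (nat_lit 43452) (.leaf (nat_lit 130)) (.leaf (nat_lit 5)))))) (.node (nat_lit 44714) (.node (nat_lit 44194) (.node (nat_lit 43600) (.leaf (nat_lit 130)) (.leaf (nat_lit 5))) (.node (nat_lit 44289) (.leaf (nat_lit 130)) (.node (nat_lit 44516) (.leaf (nat_lit 5)) (.leaf (nat_lit 0))))) (.node (nat_lit 45042) (.node (nat_lit 44737) (.leaf (nat_lit 5)) (.node (nat_lit 44878) (.leaf (nat_lit 130)) (.leaf (nat_lit 5)))) (.node (nat_lit 45499) (.leaf (nat_lit 130)) (.node (nat_lit 45620) (.leaf (nat_lit 5)) (.leaf (nat_lit 0))))))) (.node (nat_lit 47332) (.node (nat_lit 46494) (.node (nat_lit 46130) (.node (nat_lit 45948) (.leaf (nat_lit 130)) (.leaf (nat_lit 5))) (.node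 (nat_lit 46353) (.leaf (nat_lit 130)) (.node (nat_lit 46446) (.leaf (nat_lit 5)) (.leaf (nat_lit 130))))) (.node (nat_lit 46769) (.node (nat_lit 46542) (.leaf (nat_lit 5)) (.leaf (nat_lit 130))) (.node (nat_lit 46888) (.leaf (nat_lit 7)) (.node (nat_lit 47042) (.leaf (nat_lit 5)) (.leaf (nat_lit 130)))))) (.node (nat_lit 48230) (.node (nat_lit 47396) (.node (nat_lit 47388) (.leaf (nat_lit 0)) (.leaf (nat_lit 7))) (.node (nat_lit 47722) (.leaf (nat_lit 130)) (.node (nat_lit 47725) (.leaf (nat_lit 5)) (.leaf (nat_lit 130))))) (.node (nat_lit 48429) (.node (nat_lit 48294) (.leaf (nat_lit 0)) (.node (nat_lit 48358) (.leaf (nat_lit 130)) (.leaf (nat_lit 5)))) (.node (nat_lit 48550) (.leaf (nat_lit 130)) (.node (nat_lit 48872) (.leaf (nat_lit 5)) (.leaf (nat_lit 130)))))))) (.node (nat_lit 53463) (.node (nat_lit 51269) (.node (nat_lit 49863) (.node (nat_lit 49471) (.node (nat_lit 49384) (.leaf (nat_lit 5)) (.leaf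 (nat_lit 130))) (.node (nat_lit 49601) (.leaf (nat_lit 0)) (.node (nat_lit 49656) (.leaf (nat_lit 130)) (.leaf (nat_lit 5))))) (.node (nat_lit 50459) (.node (nat_lit 50285) (.leaf (nat_lit 130)) (.leaf (nat_lit 0))) (.node (nat_lit 51184) (.leaf (nat_lit 130)) (.node (nat_lit 51253) (.leaf (nat_lit 5)) (.leaf (nat_lit 130)))))) (.node (nat_lit 52181) (.node (nat_lit 51686) (.node (nat_lit 51270) (.leaf (nat_lit 5)) (.leaf (nat_lit 130))) (.node (nat_lit 51748) (.leaf (nat_lit 0)) (.node (nat_lit 52043) (.leaf (nat_lit 130)) (.leaf (nat_lit 0))))) (.node (nat_lit 53134) (.node (nat_lit 52209) (.leaf (nat_lit 5)) (.node (nat_lit 52240) (.leaf (nat_lit 7)) (.leaf (nat_lit 130)))) (.node (nat_lit 53214) (.leaf (nat_lit 5)) (.node (nat_lit 53453) (.leaf (nat_lit 130)) (.leaf (nat_lit 5))))))) (.node (nat_lit 55098) (.node (nat_lit 54494) (.node (nat_lit 53771) (.node (nat_lit 53662) (.leaf (nat_lit 130)) (.leaf (nat_lit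 5))) (.node (nat_lit 53854) (.leaf (nat_lit 130)) (.node (nat_lit 53946) (.leaf (nat_lit 5)) (.leaf (nat_lit 130))))) (.node (nat_lit 54816) (.node (nat_lit 54545) (.leaf (nat_lit 5)) (.node (nat_lit 54646) (.leaf (nat_lit 130)) (.leaf (nat_lit 5)))) (.node (nat_lit 54837) (.leaf (nat_lit 0)) (.node (nat_lit 54894) (.leaf (nat_lit 5)) (.leaf (nat_lit 0)))))) (.node (nat_lit 56419) (.node (nat_lit 56301) (.node (nat_lit 55483) (.leaf (nat_lit 130)) (.leaf (nat_lit 5))) (.node (nat_lit 56411) (.leaf (nat_lit 130)) (.node (nat_lit 56417) (.leaf (nat_lit 0)) (.leaf (nat_lit 130))))) (.node (nat_lit 56580) (.node (nat_lit 56473) (.leaf (nat_lit 5)) (.node (nat_lit 56555) (.leaf (nat_lit 0)) (.leaf (nat_lit 5)))) (.node (nat_lit 56675) (.leaf (nat_lit 130)) (.node (nat_lit 57601) (.leaf (nat_lit 5)) (.leaf (nat_lit 130))))))))))) (.node (nat_lit 86677) (.node (nat_lit 71567) (.node (nat_lit 65113) (.node (nat_lit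 61172) (.node (nat_lit 59784) (.node (nat_lit 58806) (.node (nat_lit 58334) (.node (nat_lit 58201) (.leaf (nat_lit 5)) (.leaf (nat_lit 130))) (.node (nat_lit 58526) (.leaf (nat_lit 5)) (.node (nat_lit 58657) (.leaf (nat_lit 0)) (.leaf (nat_lit 130))))) (.node (nat_lit 59106) (.node (nat_lit 58853) (.leaf (nat_lit 0)) (.leaf (nat_lit 5))) (.node (nat_lit 59424) (.leaf (nat_lit 130)) (.node (nat_lit 59731) (.leaf (nat_lit 0)) (.leaf (nat_lit 5)))))) (.node (nat_lit 60203) (.node (nat_lit 59885) (.node (nat_lit 59850) (.leaf (nat_lit 130)) (.leaf (nat_lit 5))) (.node (nat_lit 59996) (.leaf (nat_lit 130)) (.node (nat_lit 60008) (.leaf (nat_lit 5)) (.leaf (nat_lit 130))))) (.node (nat_lit 60494) (.node (nat_lit 60411) (.leaf (nat_lit 5)) (.node (nat_lit 60451) (.leaf (nat_lit 130)) (.leaf (nat_lit 5)))) (.node (nat_lit 60852) (.leaf (nat_lit 130)) (.node (nat_lit 60956) (.leaf (nat_lit 5)) (.leaf (nat_lit 130)))))))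 (.node (nat_lit 62652) (.node (nat_lit 61865) (.node (nat_lit 61488) (.node (nat_lit 61364) (.leaf (nat_lit 5)) (.leaf (nat_lit 130))) (.node (nat_lit 61796) (.leaf (nat_lit 5)) (.node (nat_lit 61856) (.leaf (nat_lit 130)) (.leaf (nat_lit 0))))) (.node (nat_lit 62315) (.node (nat_lit 62309) (.leaf (nat_lit 130)) (.leaf (nat_lit 0))) (.node (nat_lit 62378) (.leaf (nat_lit 130)) (.node (nat_lit 62563) (.leaf (nat_lit 5)) (.leaf (nat_lit 0)))))) (.node (nat_lit 63895) (.node (nat_lit 63574) (.node (nat_lit 63092) (.leaf (nat_lit 130)) (.leaf (nat_lit 5))) (.node (nat_lit 63625) (.leaf (nat_lit 130)) (.node (nat_lit 63759) (.leaf (nat_lit 5)) (.leaf (nat_lit 130))))) (.node (nat_lit 64732) (.node (nat_lit 64012) (.leaf (nat_lit 0)) (.node (nat_lit 64565) (.leaf (nat_lit 130)) (.leaf (nat_lit 5)))) (.node (nat_lit 64824) (.leaf (nat_lit 130)) (.node (nat_lit 65069) (.leaf (nat_lit 5)) (.leaf (nat_lit 130))))))))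 (.node (nat_lit 69133) (.node (nat_lit 66692) (.node (nat_lit 66320) (.node (nat_lit 66101) (.node (nat_lit 65312) (.leaf (nat_lit 5)) (.leaf (nat_lit 130))) (.node (nat_lit 66230) (.leaf (nat_lit 5)) (.node (nat_lit 66254) (.leaf (nat_lit 0)) (.leaf (nat_lit 130))))) (.node (nat_lit 66466) (.node (nat_lit 66366) (.leaf (nat_lit 0)) (.leaf (nat_lit 130))) (.node (nat_lit 66502) (.leaf (nat_lit 0)) (.node (nat_lit 66657) (.leaf (nat_lit 5)) (.leaf (nat_lit 130)))))) (.node (nat_lit 67388) (.node (nat_lit 66729) (.node (nat_lit 66718) (.leaf (nat_lit 5)) (.leaf (nat_lit 0))) (.node (nat_lit 67051) (.leaf (nat_lit 5)) (.node (nat_lit 67310) (.leaf (nat_lit 130)) (.leaf (nat_lit 5))))) (.node (nat_lit 68846) (.node (nat_lit 67613) (.leaf (nat_lit 130)) (.node (nat_lit 68524) (.leaf (nat_lit 5)) (.leaf (nat_lit 130)))) (.node (nat_lit 68914) (.leaf (nat_lit 5)) (.node (nat_lit 69021) (.leaf (nat_lit 130)) (.leaf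 (nat_lit 5))))))) (.node (nat_lit 70300) (.node (nat_lit 69639) (.node (nat_lit 69371) (.node (nat_lit 69157) (.leaf (nat_lit 130)) (.leaf (nat_lit 5))) (.node (nat_lit 69417) (.leaf (nat_lit 130)) (.node (nat_lit 69525) (.leaf (nat_lit 5)) (.leaf (nat_lit 0))))) (.node (nat_lit 70192) (.node (nat_lit 69777) (.leaf (nat_lit 130)) (.node (nat_lit 70018) (.leaf (nat_lit 5)) (.leaf (nat_lit 0)))) (.node (nat_lit 70256) (.leaf (nat_lit 130)) (.node (nat_lit 70296) (.leaf (nat_lit 5)) (.leaf (nat_lit 130)))))) (.node (nat_lit 71048) (.node (nat_lit 70516) (.node (nat_lit 70440) (.leaf (nat_lit 7)) (.leaf (nat_lit 5))) (.node (nat_lit 70757) (.leaf (nat_lit 130)) (.node (nat_lit 71036) (.leaf (nat_lit 5)) (.leaf (nat_lit 130))))) (.node (nat_lit 71360) (.node (nat_lit 71176) (.leaf (nat_lit 0)) (.node (nat_lit 71213) (.leaf (nat_lit 5)) (.leaf (nat_lit 130)))) (.node (nat_lit 71386) (.leaf (nat_lit 5)) (.node (nat_lit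 71427) (.leaf (nat_lit 130)) (.leaf (nat_lit 0))))))))) (.node (nat_lit 79248) (.node (nat_lit 75619) (.node (nat_lit 73139) (.node (nat_lit 72409) (.node (nat_lit 72118) (.node (nat_lit 72032) (.leaf (nat_lit 130)) (.leaf (nat_lit 7))) (.node (nat_lit 72215) (.leaf (nat_lit 130)) (.node (nat_lit 72303) (.leaf (nat_lit 7)) (.leaf (nat_lit 130))))) (.node (nat_lit 72892) (.node (nat_lit 72567) (.leaf (nat_lit 5)) (.leaf (nat_lit 130))) (.node (nat_lit 72945) (.leaf (nat_lit 5)) (.node (nat_lit 73061) (.leaf (nat_lit 130)) (.leaf (nat_lit 5)))))) (.node (nat_lit 74034) (.node (nat_lit 73910) (.node (nat_lit 73681) (.leaf (nat_lit 130)) (.leaf (nat_lit 5))) (.node (nat_lit 73989) (.leaf (nat_lit 130)) (.node (nat_lit 74019) (.leaf (nat_lit 0)) (.leaf (nat_lit 5))))) (.node (nat_lit 74682) (.node (nat_lit 74471) (.leaf (nat_lit 130)) (.node (nat_lit 74483) (.leaf (nat_lit 5)) (.leaf (nat_lit 130)))) (.node (nat_lit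 75213) (.leaf (nat_lit 0)) (.node (nat_lit 75239) (.leaf (nat_lit 130)) (.leaf (nat_lit 0))))))) (.node (nat_lit 77459) (.node (nat_lit 76776) (.node (nat_lit 75780) (.node (nat_lit 75675) (.leaf (nat_lit 130)) (.leaf (nat_lit 5))) (.node (nat_lit 76039) (.leaf (nat_lit 130)) (.node (nat_lit 76177) (.leaf (nat_lit 5)) (.leaf (nat_lit 130))))) (.node (nat_lit 77013) (.node (nat_lit 76784) (.leaf (nat_lit 0)) (.leaf (nat_lit 130))) (.node (nat_lit 77040) (.leaf (nat_lit 5)) (.node (nat_lit 77190) (.leaf (nat_lit 130)) (.leaf (nat_lit 5)))))) (.node (nat_lit 78532) (.node (nat_lit 77973) (.node (nat_lit 77668) (.leaf (nat_lit 130)) (.leaf (nat_lit 5))) (.node (nat_lit 78340) (.leaf (nat_lit 130)) (.node (nat_lit 78407) (.leaf (nat_lit 5)) (.leaf (nat_lit 130))))) (.node (nat_lit 78702) (.node (nat_lit 78548) (.leaf (nat_lit 0)) (.node (nat_lit 78557) (.leaf (nat_lit 130)) (.leaf (nat_lit 0)))) (.node (nat_lit 78845)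 (.leaf (nat_lit 130)) (.node (nat_lit 79239) (.leaf (nat_lit 5)) (.leaf (nat_lit 130)))))))) (.node (nat_lit 83234) (.node (nat_lit 80491) (.node (nat_lit 79898) (.node (nat_lit 79643) (.node (nat_lit 79592) (.leaf (nat_lit 5)) (.leaf (nat_lit 130))) (.node (nat_lit 79690) (.leaf (nat_lit 0)) (.node (nat_lit 79704) (.leaf (nat_lit 5)) (.leaf (nat_lit 130))))) (.node (nat_lit 80306) (.node (nat_lit 79929) (.leaf (nat_lit 5)) (.leaf (nat_lit 130))) (.node (nat_lit 80395) (.leaf (nat_lit 5)) (.node (nat_lit 80457) (.leaf (nat_lit 0)) (.leaf (nat_lit 5)))))) (.node (nat_lit 81992) (.node (nat_lit 81086) (.node (nat_lit 80862) (.leaf (nat_lit 130)) (.leaf (nat_lit 0))) (.node (nat_lit 81346) (.leaf (nat_lit 5)) (.node (nat_lit 81353) (.leaf (nat_lit 130)) (.leaf (nat_lit 5))))) (.node (nat_lit 82649) (.node (nat_lit 82351) (.leaf (nat_lit 130)) (.node (nat_lit 82411) (.leaf (nat_lit 0)) (.leaf (nat_lit 130)))) (.node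 (nat_lit 82963) (.leaf (nat_lit 5)) (.node (nat_lit 83098) (.leaf (nat_lit 130)) (.leaf (nat_lit 5))))))) (.node (nat_lit 84784) (.node (nat_lit 83603) (.node (nat_lit 83458) (.node (nat_lit 83247) (.leaf (nat_lit 130)) (.leaf (nat_lit 0))) (.node (nat_lit 83527) (.leaf (nat_lit 130)) (.node (nat_lit 83590) (.leaf (nat_lit 5)) (.leaf (nat_lit 0))))) (.node (nat_lit 84384) (.node (nat_lit 83645) (.leaf (nat_lit 5)) (.node (nat_lit 84144) (.leaf (nat_lit 130)) (.leaf (nat_lit 5)))) (.node (nat_lit 84666) (.leaf (nat_lit 130)) (.node (nat_lit 84754) (.leaf (nat_lit 5)) (.leaf (nat_lit 130)))))) (.node (nat_lit 85501) (.node (nat_lit 84875) (.node (nat_lit 84809) (.leaf (nat_lit 5)) (.leaf (nat_lit 130))) (.node (nat_lit 84905) (.leaf (nat_lit 5)) (.node (nat_lit 85407) (.leaf (nat_lit 130)) (.leaf (nat_lit 5))))) (.node (nat_lit 85840) (.node (nat_lit 85630) (.leaf (nat_lit 130)) (.node (nat_lit 85745) (.leaf (nat_lit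 5)) (.leaf (nat_lit 130)))) (.node (nat_lit 86283) (.leaf (nat_lit 0)) (.node (nat_lit 86631) (.leaf (nat_lit 130)) (.leaf (nat_lit 0)))))))))) (.node (nat_lit 100312) (.node (nat_lit 94336) (.node (nat_lit 90491) (.node (nat_lit 87958) (.node (nat_lit 87736) (.node (nat_lit 87188) (.node (nat_lit 87025) (.leaf (nat_lit 5)) (.leaf (nat_lit 130))) (.node (nat_lit 87258) (.leaf (nat_lit 5)) (.node (nat_lit 87492) (.leaf (nat_lit 130)) (.leaf (nat_lit 5))))) (.node (nat_lit 87781) (.node (nat_lit 87752) (.leaf (nat_lit 130)) (.leaf (nat_lit 5))) (.node (nat_lit 87927) (.leaf (nat_lit 130)) (.node (nat_lit 87939) (.leaf (nat_lit 7)) (.leaf (nat_lit 5)))))) (.node (nat_lit 89180) (.node (nat_lit 88358) (.node (nat_lit 88350) (.leaf (nat_lit 130)) (.leaf (nat_lit 5))) (.node (nat_lit 89129) (.leaf (nat_lit 130)) (.node (nat_lit 89139) (.leaf (nat_lit 0)) (.leaf (nat_lit 130))))) (.node (nat_lit 89788) (.node (nat_lit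 89472) (.leaf (nat_lit 5)) (.node (nat_lit 89480) (.leaf (nat_lit 130)) (.leaf (nat_lit 5)))) (.node (nat_lit 90249) (.leaf (nat_lit 130)) (.node (nat_lit 90276) (.leaf (nat_lit 0)) (.leaf (nat_lit 130))))))) (.node (nat_lit 92075) (.node (nat_lit 90973) (.node (nat_lit 90512) (.node (nat_lit 90503) (.leaf (nat_lit 5)) (.leaf (nat_lit 130))) (.node (nat_lit 90588) (.leaf (nat_lit 5)) (.node (nat_lit 90919) (.leaf (nat_lit 130)) (.leaf (nat_lit 5))))) (.node (nat_lit 91433) (.node (nat_lit 91239) (.leaf (nat_lit 130)) (.leaf (nat_lit 5))) (.node (nat_lit 91994) (.leaf (nat_lit 0)) (.node (nat_lit 92043) (.leaf (nat_lit 130)) (.leaf (nat_lit 0)))))) (.node (nat_lit 92918) (.node (nat_lit 92335) (.node (nat_lit 92156) (.leaf (nat_lit 5)) (.leaf (nat_lit 130))) (.node (nat_lit 92795) (.leaf (nat_lit 5)) (.node (nat_lit 92873) (.leaf (nat_lit 0)) (.leaf (nat_lit 130))))) (.node (nat_lit 93804) (.node (nat_lit 93089)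 (.leaf (nat_lit 5)) (.node (nat_lit 93301) (.leaf (nat_lit 130)) (.leaf (nat_lit 5)))) (.node (nat_lit 93829) (.leaf (nat_lit 0)) (.node (nat_lit 93961) (.leaf (nat_lit 130)) (.leaf (nat_lit 5)))))))) (.node (nat_lit 96802) (.node (nat_lit 95568) (.node (nat_lit 95009) (.node (nat_lit 94529) (.node (nat_lit 94441) (.leaf (nat_lit 130)) (.leaf (nat_lit 0))) (.node (nat_lit 94857) (.leaf (nat_lit 130)) (.node (nat_lit 94892) (.leaf (nat_lit 5)) (.leaf (nat_lit 0))))) (.node (nat_lit 95167) (.node (nat_lit 95161) (.leaf (nat_lit 7)) (.leaf (nat_lit 5))) (.node (nat_lit 95459) (.leaf (nat_lit 130)) (.node (nat_lit 95563) (.leaf (nat_lit 0)) (.leaf (nat_lit 7)))))) (.node (nat_lit 96019) (.node (nat_lit 95596) (.node (nat_lit 95589) (.leaf (nat_lit 0)) (.leaf (nat_lit 5))) (.node (nat_lit 95696) (.leaf (nat_lit 7)) (.node (nat_lit 95749) (.leaf (nat_lit 5)) (.leaf (nat_lit 130))))) (.node (nat_lit 96474) (.node (nat_lit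 96157) (.leaf (nat_lit 5)) (.node (nat_lit 96160) (.leaf (nat_lit 130)) (.leaf (nat_lit 5)))) (.node (nat_lit 96549) (.leaf (nat_lit 130)) (.node (nat_lit 96800) (.leaf (nat_lit 5)) (.leaf (nat_lit 130))))))) (.node (nat_lit 98809) (.node (nat_lit 97778) (.node (nat_lit 97137) (.node (nat_lit 97007) (.leaf (nat_lit 5)) (.leaf (nat_lit 130))) (.node (nat_lit 97169) (.leaf (nat_lit 5)) (.node (nat_lit 97409) (.leaf (nat_lit 130)) (.leaf (nat_lit 5))))) (.node (nat_lit 98546) (.node (nat_lit 98299) (.leaf (nat_lit 130)) (.node (nat_lit 98360) (.leaf (nat_lit 5)) (.leaf (nat_lit 130)))) (.node (nat_lit 98642) (.leaf (nat_lit 5)) (.node (nat_lit 98724) (.leaf (nat_lit 130)) (.leaf (nat_lit 5)))))) (.node (nat_lit 99278) (.node (nat_lit 99007) (.node (nat_lit 98946) (.leaf (nat_lit 130)) (.leaf (nat_lit 5))) (.node (nat_lit 99099) (.leaf (nat_lit 0)) (.node (nat_lit 99275) (.leaf (nat_lit 130)) (.leaf (nat_lit 5)))))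 (.node (nat_lit 99712) (.node (nat_lit 99407) (.leaf (nat_lit 0)) (.node (nat_lit 99467) (.leaf (nat_lit 5)) (.leaf (nat_lit 130)))) (.node (nat_lit 99861) (.leaf (nat_lit 0)) (.node (nat_lit 100307) (.leaf (nat_lit 130)) (.leaf (nat_lit 0))))))))) (.node (nat_lit 107238) (.node (nat_lit 103474) (.node (nat_lit 102315) (.node (nat_lit 100811) (.node (nat_lit 100401) (.node (nat_lit 100363) (.leaf (nat_lit 5)) (.leaf (nat_lit 130))) (.node (nat_lit 100496) (.leaf (nat_lit 0)) (.node (nat_lit 100752) (.leaf (nat_lit 5)) (.leaf (nat_lit 130))))) (.node (nat_lit 101044) (.node (nat_lit 100868) (.leaf (nat_lit 5)) (.leaf (nat_lit 0))) (.node (nat_lit 101199) (.leaf (nat_lit 130)) (.node (nat_lit 101605) (.leaf (nat_lit 5)) (.leaf (nat_lit 130)))))) (.node (nat_lit 102911) (.node (nat_lit 102678) (.node (nat_lit 102560) (.leaf (nat_lit 5)) (.leaf (nat_lit 0))) (.node (nat_lit 102720) (.leaf (nat_lit 7)) (.node (nat_lit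 102734) (.leaf (nat_lit 0)) (.leaf (nat_lit 130))))) (.node (nat_lit 103163) (.node (nat_lit 103077) (.leaf (nat_lit 0)) (.node (nat_lit 103130) (.leaf (nat_lit 130)) (.leaf (nat_lit 5)))) (.node (nat_lit 103396) (.leaf (nat_lit 130)) (.node (nat_lit 103453) (.leaf (nat_lit 5)) (.leaf (nat_lit 130))))))) (.node (nat_lit 106542) (.node (nat_lit 105134) (.node (nat_lit 103829) (.node (nat_lit 103552) (.leaf (nat_lit 5)) (.leaf (nat_lit 130))) (.node (nat_lit 104045) (.leaf (nat_lit 5)) (.node (nat_lit 104564) (.leaf (nat_lit 130)) (.leaf (nat_lit 5))))) (.node (nat_lit 105845) (.node (nat_lit 105759) (.leaf (nat_lit 130)) (.leaf (nat_lit 0))) (.node (nat_lit 106484) (.leaf (nat_lit 130)) (.node (nat_lit 106507) (.leaf (nat_lit 5)) (.leaf (nat_lit 130)))))) (.node (nat_lit 106982) (.node (nat_lit 106783) (.node (nat_lit 106762) (.leaf (nat_lit 5)) (.leaf (nat_lit 0))) (.node (nat_lit 106833) (.leaf (nat_lit 5))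 (.node (nat_lit 106886) (.leaf (nat_lit 130)) (.leaf (nat_lit 5))))) (.node (nat_lit 107076) (.node (nat_lit 107027) (.leaf (nat_lit 0)) (.node (nat_lit 107029) (.leaf (nat_lit 5)) (.leaf (nat_lit 130)))) (.node (nat_lit 107121) (.leaf (nat_lit 5)) (.node (nat_lit 107181) (.leaf (nat_lit 0)) (.leaf (nat_lit 5)))))))) (.node (nat_lit 111800) (.node (nat_lit 110043) (.node (nat_lit 109486) (.node (nat_lit 108663) (.node (nat_lit 108603) (.leaf (nat_lit 130)) (.leaf (nat_lit 5))) (.node (nat_lit 108958) (.leaf (nat_lit 130)) (.node (nat_lit 109112) (.leaf (nat_lit 5)) (.leaf (nat_lit 130))))) (.node (nat_lit 109644) (.node (nat_lit 109591) (.leaf (nat_lit 5)) (.leaf (nat_lit 130))) (.node (nat_lit 109681) (.leaf (nat_lit 5)) (.node (nat_lit 109889) (.leaf (nat_lit 130)) (.leaf (nat_lit 0)))))) (.node (nat_lit 110676) (.node (nat_lit 110200) (.node (nat_lit 110085) (.leaf (nat_lit 130)) (.leaf (nat_lit 5))) (.node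 (nat_lit 110364) (.leaf (nat_lit 130)) (.node (nat_lit 110424) (.leaf (nat_lit 5)) (.leaf (nat_lit 130))))) (.node (nat_lit 110874) (.node (nat_lit 110726) (.leaf (nat_lit 5)) (.node (nat_lit 110750) (.leaf (nat_lit 130)) (.leaf (nat_lit 5)))) (.node (nat_lit 111231) (.leaf (nat_lit 130)) (.node (nat_lit 111332) (.leaf (nat_lit 5)) (.leaf (nat_lit 130))))))) (.node (nat_lit 114025) (.node (nat_lit 112323) (.node (nat_lit 111956) (.node (nat_lit 111850) (.leaf (nat_lit 0)) (.leaf (nat_lit 130))) (.node (nat_lit 112182) (.leaf (nat_lit 0)) (.node (nat_lit 112233) (.leaf (nat_lit 130)) (.leaf (nat_lit 5))))) (.node (nat_lit 113333) (.node (nat_lit 112820) (.leaf (nat_lit 130)) (.node (nat_lit 112839) (.leaf (nat_lit 5)) (.leaf (nat_lit 130)))) (.node (nat_lit 113625) (.leaf (nat_lit 5)) (.node (nat_lit 113967) (.leaf (nat_lit 130)) (.leaf (nat_lit 5)))))) (.node (nat_lit 115208) (.node (nat_lit 114093) (.node (nat_lit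 114043) (.leaf (nat_lit 130)) (.leaf (nat_lit 5))) (.node (nat_lit 114637) (.leaf (nat_lit 130)) (.node (nat_lit 115110) (.leaf (nat_lit 5)) (.leaf (nat_lit 0))))) (.node (nat_lit 116072) (.node (nat_lit 115969) (.leaf (nat_lit 130)) (.node (nat_lit 116048) (.leaf (nat_lit 5)) (.leaf (nat_lit 0)))) (.node (nat_lit 116231) (.leaf (nat_lit 130)) (.node (nat_lit 116334) (.leaf (nat_lit 0)) (.leaf (nat_lit 130))))))))))))
noncomputable def K_soc_t1 : ST := (.node (nat_lit 10121) (.node (nat_lit 5256) (.node (nat_lit 3209) (.node (nat_lit 1280) (.node (nat_lit 1082) (.node (nat_lit 825) (.node (nat_lit 803) (.leaf (nat_lit 5)) (.leaf (nat_lit 130))) (.node (nat_lit 829) (.leaf (nat_lit 5)) (.node (nat_lit 833) (.leaf (nat_lit 130)) (.leaf (nat_lit 5))))) (.node (nat_lit 1118) (.node (nat_lit 1101) (.leaf (nat_lit 7)) (.node (nat_lit 1117) (.leaf (nat_lit 5)) (.leaf (nat_lit 7)))) (.node (nat_lit 1141) (.leaf (nat_lit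 5)) (.node (nat_lit 1145) (.leaf (nat_lit 130)) (.leaf (nat_lit 5)))))) (.node (nat_lit 1858) (.node (nat_lit 1567) (.node (nat_lit 1283) (.leaf (nat_lit 130)) (.leaf (nat_lit 5))) (.node (nat_lit 1601) (.leaf (nat_lit 7)) (.node (nat_lit 1839) (.leaf (nat_lit 5)) (.leaf (nat_lit 7))))) (.node (nat_lit 2614) (.node (nat_lit 2158) (.leaf (nat_lit 5)) (.node (nat_lit 2167) (.leaf (nat_lit 130)) (.leaf (nat_lit 5)))) (.node (nat_lit 2629) (.leaf (nat_lit 130)) (.node (nat_lit 3197) (.leaf (nat_lit 5)) (.leaf (nat_lit 130))))))) (.node (nat_lit 4910) (.node (nat_lit 3802) (.node (nat_lit 3396) (.node (nat_lit 3376) (.leaf (nat_lit 5)) (.leaf (nat_lit 130))) (.node (nat_lit 3769) (.leaf (nat_lit 5)) (.node (nat_lit 3774) (.leaf (nat_lit 130)) (.leaf (nat_lit 5))))) (.node (nat_lit 3966) (.node (nat_lit 3832) (.leaf (nat_lit 0)) (.node (nat_lit 3961) (.leaf (nat_lit 5)) (.leaf (nat_lit 130)))) (.node (nat_lit 4638)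 (.leaf (nat_lit 5)) (.node (nat_lit 4649) (.leaf (nat_lit 772)) (.leaf (nat_lit 5)))))) (.node (nat_lit 5137) (.node (nat_lit 4924) (.node (nat_lit 4915) (.leaf (nat_lit 130)) (.leaf (nat_lit 5))) (.node (nat_lit 4929) (.leaf (nat_lit 130)) (.node (nat_lit 5098) (.leaf (nat_lit 5)) (.leaf (nat_lit 130))))) (.node (nat_lit 5238) (.node (nat_lit 5196) (.leaf (nat_lit 5)) (.node (nat_lit 5206) (.leaf (nat_lit 7)) (.leaf (nat_lit 5)))) (.node (nat_lit 5244) (.leaf (nat_lit 130)) (.node (nat_lit 5246) (.leaf (nat_lit 5)) (.leaf (nat_lit 130)))))))) (.node (nat_lit 7987) (.node (nat_lit 6621) (.node (nat_lit 6203) (.node (nat_lit 5793) (.node (nat_lit 5762) (.leaf (nat_lit 5)) (.leaf (nat_lit 130))) (.node (nat_lit 5795) (.leaf (nat_lit 7)) (.node (nat_lit 6196) (.leaf (nat_lit 5)) (.leaf (nat_lit 130))))) (.node (nat_lit 6367) (.node (nat_lit 6253) (.leaf (nat_lit 5)) (.node (nat_lit 6302) (.leaf (nat_lit 130)) (.leaf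 (nat_lit 5)))) (.node (nat_lit 6373) (.leaf (nat_lit 7)) (.node (nat_lit 6620) (.leaf (nat_lit 5)) (.leaf (nat_lit 130)))))) (.node (nat_lit 7343) (.node (nat_lit 7018) (.node (nat_lit 6981) (.leaf (nat_lit 5)) (.leaf (nat_lit 130))) (.node (nat_lit 7079) (.leaf (nat_lit 5)) (.node (nat_lit 7110) (.leaf (nat_lit 130)) (.leaf (nat_lit 5))))) (.node (nat_lit 7826) (.node (nat_lit 7406) (.leaf (nat_lit 130)) (.node (nat_lit 7820) (.leaf (nat_lit 5)) (.leaf (nat_lit 130)))) (.node (nat_lit 7869) (.leaf (nat_lit 5)) (.node (nat_lit 7877) (.leaf (nat_lit 130)) (.leaf (nat_lit 5))))))) (.node (nat_lit 9222) (.node (nat_lit 8346) (.node (nat_lit 8077) (.node (nat_lit 7997) (.leaf (nat_lit 7)) (.leaf (nat_lit 130))) (.node (nat_lit 8234) (.leaf (nat_lit 5)) (.node (nat_lit 8236) (.leaf (nat_lit 130)) (.leaf (nat_lit 5))))) (.node (nat_lit 8407) (.node (nat_lit 8368) (.leaf (nat_lit 7)) (.node (nat_lit 8379) (.leaf (nat_lit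 5)) (.leaf (nat_lit 7)))) (.node (nat_lit 8733) (.leaf (nat_lit 5)) (.node (nat_lit 8755) (.leaf (nat_lit 7)) (.leaf (nat_lit 5)))))) (.node (nat_lit 9675) (.node (nat_lit 9529) (.node (nat_lit 9223) (.leaf (nat_lit 130)) (.leaf (nat_lit 5))) (.node (nat_lit 9581) (.leaf (nat_lit 130)) (.node (nat_lit 9667) (.leaf (nat_lit 5)) (.leaf (nat_lit 130))))) (.node (nat_lit 9928) (.node (nat_lit 9770) (.leaf (nat_lit 5)) (.node (nat_lit 9795) (.leaf (nat_lit 130)) (.leaf (nat_lit 5)))) (.node (nat_lit 9989) (.leaf (nat_lit 130)) (.node (nat_lit 10104) (.leaf (nat_lit 5)) (.leaf (nat_lit 130))))))))) (.node (nat_lit 16378) (.node (nat_lit 13155) (.node (nat_lit 12108) (.node (nat_lit 11174) (.node (nat_lit 10395) (.node (nat_lit 10377) (.leaf (nat_lit 5)) (.leaf (nat_lit 130))) (.node (nat_lit 10831) (.leaf (nat_lit 5)) (.node (nat_lit 10847) (.leaf (nat_lit 130)) (.leaf (nat_lit 5))))) (.node (nat_lit 11796) (.node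 (nat_lit 11189) (.leaf (nat_lit 130)) (.node (nat_lit 11786) (.leaf (nat_lit 5)) (.leaf (nat_lit 130)))) (.node (nat_lit 11902) (.leaf (nat_lit 5)) (.node (nat_lit 11934) (.leaf (nat_lit 130)) (.leaf (nat_lit 5)))))) (.node (nat_lit 12683) (.node (nat_lit 12669) (.node (nat_lit 12135) (.leaf (nat_lit 130)) (.leaf (nat_lit 5))) (.node (nat_lit 12672) (.leaf (nat_lit 130)) (.node (nat_lit 12679) (.leaf (nat_lit 5)) (.leaf (nat_lit 130))))) (.node (nat_lit 13078) (.node (nat_lit 12736) (.leaf (nat_lit 5)) (.node (nat_lit 12740) (.leaf (nat_lit 130)) (.leaf (nat_lit 5)))) (.node (nat_lit 13084) (.leaf (nat_lit 130)) (.node (nat_lit 13129) (.leaf (nat_lit 5)) (.leaf (nat_lit 130))))))) (.node (nat_lit 14744) (.node (nat_lit 14527) (.node (nat_lit 13349) (.node (nat_lit 13310) (.leaf (nat_lit 5)) (.leaf (nat_lit 130))) (.node (nat_lit 14213) (.leaf (nat_lit 5)) (.node (nat_lit 14232) (.leaf (nat_lit 130)) (.leaf (nat_lit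 5))))) (.node (nat_lit 14607) (.node (nat_lit 14536) (.leaf (nat_lit 7)) (.node (nat_lit 14580) (.leaf (nat_lit 5)) (.leaf (nat_lit 130)))) (.node (nat_lit 14672) (.leaf (nat_lit 5)) (.node (nat_lit 14725) (.leaf (nat_lit 130)) (.leaf (nat_lit 5)))))) (.node (nat_lit 15833) (.node (nat_lit 15212) (.node (nat_lit 14755) (.leaf (nat_lit 130)) (.leaf (nat_lit 5))) (.node (nat_lit 15213) (.leaf (nat_lit 772)) (.node (nat_lit 15808) (.leaf (nat_lit 5)) (.leaf (nat_lit 130))))) (.node (nat_lit 16279) (.node (nat_lit 15899) (.leaf (nat_lit 5)) (.node (nat_lit 15914) (.leaf (nat_lit 130)) (.leaf (nat_lit 5)))) (.node (nat_lit 16333) (.leaf (nat_lit 130)) (.node (nat_lit 16367) (.leaf (nat_lit 5)) (.leaf (nat_lit 7)))))))) (.node (nat_lit 18844) (.node (nat_lit 17371) (.node (nat_lit 16815) (.node (nat_lit 16493) (.node (nat_lit 16460) (.leaf (nat_lit 5)) (.leaf (nat_lit 130))) (.node (nat_lit 16757) (.leaf (nat_lit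 5)) (.node (nat_lit 16786) (.leaf (nat_lit 7)) (.leaf (nat_lit 5))))) (.node (nat_lit 17038) (.node (nat_lit 16832) (.leaf (nat_lit 130)) (.node (nat_lit 17034) (.leaf (nat_lit 5)) (.leaf (nat_lit 7)))) (.node (nat_lit 17237) (.leaf (nat_lit 5)) (.node (nat_lit 17248) (.leaf (nat_lit 130)) (.leaf (nat_lit 5)))))) (.node (nat_lit 18371) (.node (nat_lit 17496) (.node (nat_lit 17416) (.leaf (nat_lit 130)) (.leaf (nat_lit 5))) (.node (nat_lit 17524) (.leaf (nat_lit 130)) (.node (nat_lit 18347) (.leaf (nat_lit 5)) (.leaf (nat_lit 7))))) (.node (nat_lit 18748) (.node (nat_lit 18656) (.leaf (nat_lit 5)) (.node (nat_lit 18659) (.leaf (nat_lit 130)) (.leaf (nat_lit 5)))) (.node (nat_lit 18760) (.leaf (nat_lit 130)) (.node (nat_lit 18839) (.leaf (nat_lit 5)) (.leaf (nat_lit 130))))))) (.node (nat_lit 19920) (.node (nat_lit 19380) (.node (nat_lit 18875) (.node (nat_lit 18861) (.leaf (nat_lit 5)) (.leaf (nat_lit 7))) (.node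 (nat_lit 19307) (.leaf (nat_lit 5)) (.node (nat_lit 19327) (.leaf (nat_lit 7)) (.leaf (nat_lit 5))))) (.node (nat_lit 19523) (.node (nat_lit 19388) (.leaf (nat_lit 130)) (.node (nat_lit 19472) (.leaf (nat_lit 5)) (.leaf (nat_lit 130)))) (.node (nat_lit 19903) (.leaf (nat_lit 5)) (.node (nat_lit 19907) (.leaf (nat_lit 130)) (.leaf (nat_lit 7)))))) (.node (nat_lit 20763) (.node (nat_lit 20340) (.node (nat_lit 20285) (.leaf (nat_lit 5)) (.leaf (nat_lit 130))) (.node (nat_lit 20641) (.leaf (nat_lit 5)) (.node (nat_lit 20650) (.leaf (nat_lit 130)) (.leaf (nat_lit 5))))) (.node (nat_lit 21089) (.node (nat_lit 20764) (.leaf (nat_lit 130)) (.node (nat_lit 21079) (.leaf (nat_lit 5)) (.leaf (nat_lit 130)))) (.node (nat_lit 21391) (.leaf (nat_lit 5)) (.node (nat_lit 21483) (.leaf (nat_lit 130)) (.leaf (nat_lit 5))))))))))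
noncomputable def K_soc_F : Fm := (.all K_L (.or (.qf (.eq (.v (nat_lit 0)) .one)) (.exF K_L (fun cs => K_soc_t1.find (Nat.mod (nth (nat_lit 0) cs (nat_lit 0)) (nat_lit 22065))) (.exF K_L (fun cs => K_soc_t0.find (Nat.mod (Nat.add (nth (nat_lit 0) cs (nat_lit 0)) (Nat.mul (nat_lit 7919) (nth (nat_lit 0) cs (nat_lit 1)))) (nat_lit 116491))) (.qf (.or (.eq (.mul (.mul (.v (nat_lit 0)) (.v (nat_lit 2))) (.inv (.v (nat_lit 0)))) (.v (nat_lit 11))) (.or (.eq (.mul (.mul (.v (nat_lit 0)) (.v (nat_lit 2))) (.inv (.v (nat_lit 0)))) (.v (nat_lit 11))) (.or (.eq (.mul (.mul (.v (nat_lit 0)) (.mul (.mul (.mul (.v (nat_lit 2)) (.v (nat_lit 1))) (.inv (.v (nat_lit 2)))) (.inv (.v (nat_lit 1))))) (.inv (.v (nat_lit 0)))) (.v (nat_lit 11))) (.or (.eq (.mul (.mul (.v (nat_lit 0)) (.mul (.mul (.mul (.v (nat_lit 2)) (.v (nat_lit 1))) (.inv (.v (nat_lit 2)))) (.inv (.v (nat_lit 1))))) (.inv (.v (nat_lit 0)))) (.v (nat_lit 11)))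 (.or (.eq (.mul (.mul (.mul (.mul (.mul (.mul (.v (nat_lit 2)) (.v (nat_lit 1))) (.inv (.v (nat_lit 2)))) (.inv (.v (nat_lit 1)))) (.v (nat_lit 0))) (.inv (.mul (.mul (.mul (.v (nat_lit 2)) (.v (nat_lit 1))) (.inv (.v (nat_lit 2)))) (.inv (.v (nat_lit 1)))))) (.inv (.v (nat_lit 0)))) (.v (nat_lit 11))) (.eq (.mul (.mul (.mul (.mul (.mul (.mul (.v (nat_lit 2)) (.v (nat_lit 1))) (.inv (.v (nat_lit 2)))) (.inv (.v (nat_lit 1)))) (.v (nat_lit 0))) (.inv (.mul (.mul (.mul (.v (nat_lit 2)) (.v (nat_lit 1))) (.inv (.v (nat_lit 2)))) (.inv (.v (nat_lit 1)))))) (.inv (.v (nat_lit 0)))) (.v (nat_lit 11)))))))))))))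
theorem K_soc_chk : Fm.chk K_o K_soc_F K_cs = true := by decide +kernel
theorem K_soc {G : Type*} [Group G] {R : ℕ → G → Prop} {d D_ z Z_ m M_ y Y_ t s g : G} {H : Subgroup G}
    (M : Mdl K_o K_cs K_L R [d, D_, z, Z_, m, M_, y, Y_, t, s, g] H) :
    ∀ y_ ∈ H, y_ = 1 ∨ (∃ q_ ∈ H, ∃ k_ ∈ H, k_ * y_ * k_⁻¹ = t ∨ k_ * y_ * k_⁻¹ = t ∨ k_ * ⁅y_, q_⁆ * k_⁻¹ = t ∨ k_ * ⁅y_, q_⁆ * k_⁻¹ = t ∨ ⁅⁅y_, q_⁆, k_⁆ = t ∨ ⁅⁅y_, q_⁆, k_⁆ = t) :=
  have h : ∀ y_, InL K_o R K_L y_ → y_ = 1 ∨ (Good K_o R K_L → prods K_o K_L K_o.one ≠ [] → ∃ q_, InL K_o R K_L q_ ∧ (Good K_o R K_L → prods K_o K_L K_o.one ≠ [] → ∃ k_, InL K_o R K_L k_ ∧ (k_ * y_ * k_⁻¹ = t ∨ k_ * y_ * k_⁻¹ = t ∨ k_ * ⁅y_, q_⁆ * k_⁻¹ = t ∨ k_ * ⁅y_, q_⁆ * k_⁻¹ = t ∨ ⁅⁅y_, q_⁆, k_⁆ = t ∨ ⁅⁅y_, q_⁆, k_⁆ = t))) :=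
    Fm.sound M.μ K_soc_F K_soc_chk M.reps
  (fun y_ h0 => (Or.imp (fun h1 => h1) (fun h1 => (Exists.imp (fun q_ h2 => ⟨M.H.iff.1 h2.1, (Exists.imp (fun k_ h3 => ⟨M.H.iff.1 h3.1, h3.2⟩) (h2.2 M.H.good M.H.ne))⟩) (h1 M.H.good M.H.ne))) (h y_ (M.H.iff.2 h0))))
theorem K_mdl {G : Type*} [Group G] {d z m y t s g : G}
    (h : KK d z m y t s g)
    (n1 : t ≠ 1) :
    ∃ R, Mdl K_o K_cs K_L R [d, d⁻¹, z, z⁻¹, m, m⁻¹, y, y⁻¹, t, s, g] (sp [d, d⁻¹, z, z⁻¹, m, m⁻¹, y, y⁻¹, t, s, g]) ∧ #(sp [d, d⁻¹, z, z⁻¹, m, m⁻¹, y, y⁻¹, t, s, g]) = 1152 :=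
  mdl_of K_P rfl (K_r h) (.v (nat_lit 8)) (.v (nat_lit 8)) n1 n1 
    fun _ ms _ M hl => match ms, M, (hl : ms.length = 11) with
      | [_, _, _, _, _, _, _, _, _, _, _], M, _ => K_soc M
noncomputable def K_lQ : List ℕ := [(nat_lit 0xffbbcdeb38bdab49ca307b9ac5a928398a418820), (nat_lit 0xe6f539454947fddb568d62f38bc1ee214e600462), (nat_lit 0xce2ed62e728a92883ddff76d5a737a08062214c7), (nat_lit 0x97c95e19f916ec7f4cb880d2d03141d53b1bb968), (nat_lit 0x2f647d547779a9b247c27602b4810cb727f8654d), (nat_lit 0x9ca36ad20f7737affbb9c5d494358b31c8510c01), (nat_lit 0x6b1707bb9bd671752516ad2728ffdd10c2039885), (nat_lit 0xaf0de9958a0cbe4dd8e9681f9162038f75442eee), (nat_lit 0x3eaa48f808617b2353615a477789d8fcedc6aa19), (nat_lit 0x52519c5ed5a41ee6b17cdebfeece511880131ca4), (nat_lit 0x7e449683d32b141c4072f93763d7865a2ee8f69a), (nat_lit 0x1dde15a491f010c13b05ec8d4d9f5553619fcf96), (nat_lit 0x897f43f1c3ce8d6e9277141016ac0aaee5e7e12c),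 (nat_lit 0xe927a35ae2850fc897ee1e5605202ddd7d2c3d89), (nat_lit 0xb569ff75ac5ce51e6f4a4a20f76717290c708043), (nat_lit 0x83dca4a3feeb58bce2f39479bd5ab400443290e6), (nat_lit 0xf4cbbb1f101d78697c8fc898a0a5a0a6a3d75d0b), (nat_lit 0x247c6a6c4ec1f552f643bbc0860569e5bf3cc1aa), (nat_lit 0x4b41880ebc33f226283bb1fd32cbe475d68d523d), (nat_lit 0xad22760faa8eef02186a6c91f17b2cc14db73f3), (nat_lit 0xa1f9d24d60544bfd1ac80b5c3cdc50f4abb625f8), (nat_lit 0xd1ad12fd016f493a1f8b02ae28387997b754b30f), (nat_lit 0x6282fc8b763e2034b415e1a5f27a65bb90ba6bb1), (nat_lit 0x2183bbcd4d89d80ad27d54bd9123e865aae5a7f), (nat_lit 0x70f280b7a49ac0ab8a112ff46b50fc4b1f8f4b75), (nat_lit 0xb8a0b02a25fa02d70f3d24e87e68d66270f97abb), (nat_lit 0xdd8f2f912d07a65af0cc507101bf22ec69a5a1d7), (nat_lit 0x35365ec82b4923e3eaa04304ec0eef9ff9653730), (nat_lit 0xc406c5065f225a07e45e996bc36ec742dd7ec754), (nat_lit 0x13b00430bd905691dde48f8faa9a9b6ab309fedc), (nat_lit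 0x405b714287e38795815a35ba49c4bfc3d2caefd2), (nat_lit 0x5814e1e746b5c50405b43f225ff4937e189dd65e)]
noncomputable def K_lQ_W : List (List ℕ) := [[],
  [(nat_lit 0)],
  [(nat_lit 1)],
  [(nat_lit 2)],
  [(nat_lit 3)],
  [(nat_lit 0), (nat_lit 0)],
  [(nat_lit 0), (nat_lit 1)],
  [(nat_lit 0), (nat_lit 2)],
  [(nat_lit 0), (nat_lit 3)],
  [(nat_lit 1), (nat_lit 0)],
  [(nat_lit 1), (nat_lit 2)],
  [(nat_lit 1), (nat_lit 3)],
  [(nat_lit 2), (nat_lit 3)],
  [(nat_lit 3), (nat_lit 2)],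
  [(nat_lit 0), (nat_lit 0), (nat_lit 0)],
  [(nat_lit 0), (nat_lit 0), (nat_lit 1)],
  [(nat_lit 0), (nat_lit 0), (nat_lit 2)],
  [(nat_lit 0), (nat_lit 0), (nat_lit 3)],
  [(nat_lit 0), (nat_lit 1), (nat_lit 2)],
  [(nat_lit 0), (nat_lit 1), (nat_lit 3)],
  [(nat_lit 0), (nat_lit 2), (nat_lit 3)],
  [(nat_lit 0), (nat_lit 3), (nat_lit 2)],
  [(nat_lit 1), (nat_lit 0), (nat_lit 2)],
  [(nat_lit 1), (nat_lit 0), (nat_lit 3)],
  [(nat_lit 1), (nat_lit 2), (nat_lit 3)],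
  [(nat_lit 1), (nat_lit 3), (nat_lit 2)],
  [(nat_lit 0), (nat_lit 0), (nat_lit 0), (nat_lit 2)],
  [(nat_lit 0), (nat_lit 0), (nat_lit 0), (nat_lit 3)],
  [(nat_lit 0), (nat_lit 0), (nat_lit 1), (nat_lit 2)],
  [(nat_lit 0), (nat_lit 0), (nat_lit 1), (nat_lit 3)],
  [(nat_lit 0), (nat_lit 1), (nat_lit 2), (nat_lit 3)],
  [(nat_lit 0), (nat_lit 1), (nat_lit 3), (nat_lit 2)]]
noncomputable def K_lQ_h (c : ℕ) : ℕ := Nat.mod c (nat_lit 32)
theorem K_lQ_E {G : Type*} [Group G] {R : ℕ → G → Prop} {d z m y t s g : G} {H : Subgroup G}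
    (M : Mdl K_o K_cs K_L R [d, d⁻¹, z, z⁻¹, m, m⁻¹, y, y⁻¹, t, s, g] H) :
    EnumS R K_lQ (sp [m, d * m * d⁻¹, y, z * y * z⁻¹]) :=
  enumS_sp M.μ.1 (M.reps.tms M.μ.1 [(.v (nat_lit 4)), (.mul (.mul (.v (nat_lit 0)) (.v (nat_lit 4))) (.v (nat_lit 1))), (.v (nat_lit 6)), (.mul (.mul (.v (nat_lit 2)) (.v (nat_lit 6))) (.v (nat_lit 3)))] (cs' := [(nat_lit 0xe6f539454947fddb568d62f38bc1ee214e600462), (nat_lit 0xce2ed62e728a92883ddff76d5a737a08062214c7), (nat_lit 0x97c95e19f916ec7f4cb880d2d03141d53b1bb968), (nat_lit 0x2f647d547779a9b247c27602b4810cb727f8654d)]) (by decide +kernel))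
    (Ws := K_lQ_W) (by decide +kernel) (by decide +kernel)
theorem K_lQ_c {G : Type*} [Group G] {R : ℕ → G → Prop} {d z m y t s g : G} {H : Subgroup G}
    (M : Mdl K_o K_cs K_L R [d, d⁻¹, z, z⁻¹, m, m⁻¹, y, y⁻¹, t, s, g] H) :
    #(sp [m, d * m * d⁻¹, y, z * y * z⁻¹]) = 32 :=
  (K_lQ_E M).card M.μ (h := K_lQ_h) (by decide +kernel)
noncomputable def K_lB : List ℕ := [(nat_lit 0xffbbcdeb38bdab49ca307b9ac5a928398a418820), (nat_lit 0x24fa6b6850b9f942fe23cb80a585a8dd7d2c3d89), (nat_lit 0xb568a4a338bb58be6f507bbfeece51004c7188a4), (nat_lit 0x9ca36ad20f7737affbb9c5d494358b31c8510c01), (nat_lit 0xdf35eff719bca71ada8f8392a431ab214c710c20), (nat_lit 0xac9f69c291773f9dfb1aedcc411ca35352c42c01), (nat_lit 0x917b53e9e3becd4f1238139215b008b727f8654d), (nat_lit 0x3f2816a050b814b35b43cb893e97f14b2bbc3fd2), (nat_lit 0x2fe27e507971ada24fa285c2d4014baee5e7e12c), (nat_lit 0x3d7459746fb93d136e82c380c4052bfcf96cc14d), (nat_lit 0x66dede417a72ad94d708a5c27100c39fe5e8f485),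 (nat_lit 0x6b17394738bffdd525107bad5a737a21420188c7), (nat_lit 0xe6f4d62e0f72928b5699c5e728ffdd080e610c85), (nat_lit 0x94e2c6af19ba548f7faf83b7cd56d4004a410cc7), (nat_lit 0xe7f2728e9171882b4e1aedeb27efd8081aa42d2c), (nat_lit 0xada929c5f077bfddf358cdd8d5a548290e618801), (nat_lit 0xdfb1cfe75dbda70ac9f48b8e5198826a9895a020), (nat_lit 0xb1b5327602bfcb1e1e991b9a14280b97abb7e189), (nat_lit 0x4a915b5319bef9a6356f83a538fbfd3982010ca4), (nat_lit 0x9da12abe3477b78ff33dd5ca7190c2625aa5a001), (nat_lit 0xd9a8c021e3ba42ba9f5813a45ef8916ab968667f), (nat_lit 0xf123b35302754fa917af1dd804242be5bf3cc1aa), (nat_lit 0xf25ff543a874db9933115dca011023e5b75d50e6), (nat_lit 0x2965fc450b927d0b503cb8fca1ada97989c3ebb), (nat_lit 0x35b4052c79705a83f28285cbf8927d627757e25e), (nat_lit 0x27a214ac6fb81882cba2c38f5d1b746aa7fcc396), (nat_lit 0x55b2030d7a704e26f208a5d9b7a6b8293f38f65e), (nat_lit 0x36e84f44587165d3d7437dc29581889fedc865aa), (nat_lit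 0x4d70ab6514bb79066debd3806184e2fcfd2ec4a4), (nat_lit 0x3106dd06fb9eba0a562c389e8965db714dcc27f), (nat_lit 0x57e09f3d1d732586cf2b8dc24180a2aeedca68e6), (nat_lit 0x5251ff760f74e516b179c5f9bd5ab42900110ce6), (nat_lit 0x3105bf62917564f3947aedf9fcda706240142daa), (nat_lit 0xf7fa9521f0731ab94e38cdeb6a6f9a08085188e6), (nat_lit 0xb4e0620b5db9ca3e7f348bb7ec564f0054d5a189), (nat_lit 0xf962a02e02bb428993b91bac6d70f44b3d27e2bb), (nat_lit 0xf6f0430a34714e3955fdd5e7687f990812c5a1aa), (nat_lit 0xe1e9f2c72374c9db1b5015d405b428f4b75c3d2c), (nat_lit 0x6357be69f0756d44a918cdfdfeca7131c0118885), (nat_lit 0xff33ede3babcaaf9da11a3886114e34b14d42c20), (nat_lit 0x6851c3d202bd8da501791bbe58cc9ddd5897e3d2), (nat_lit 0xe361b63f4b75538b2b3445cc019c22f4bf3ec485), (nat_lit 0x29c7fe663474ed02185dd5fdbc4aaf534015a12c), (nat_lit 0x4857e245e3bc8bd6011813b66a54fafcd4d86796), (nat_lit 0xa9f490af0273008d9a8f1dfc48c8bd536dccc3f3), (nat_lit 0x9b72408fa871402faa115dfc97c99831edcd5375),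 (nat_lit 0x933136e62bbfd50f25fd4388119402b72bba68c7), (nat_lit 0xb5049f479717f10296285cd6d1f94f492c7e375), (nat_lit 0x9c49ae17a7336f01868a5d56cb790f48858f7f3), (nat_lit 0x2cba0620587052b27a237dcdba1eba537f3866dc), (nat_lit 0x6f20138914b80c355b2bd3935c336f2167fec7d2), (nat_lit 0x64b002891d704834f9eb8dd5f8367931f75a6adc), (nat_lit 0xa567ae85871b74031037dcb2e93d1e59aa867f3), (nat_lit 0x6cf2c96171ba7cf57e08eb80510483dd796d50c7), (nat_lit 0x906d9e51d72bf00144b8dd92c27cfe58e6a6b75), (nat_lit 0x3947593f5dbefd8310548bad3873f94b0205a14d), (nat_lit 0x993ad0a3237280bf963015f87a58da6265ec3f75), (nat_lit 0x955e538fbab90c2f6f11a3bfccced00058942d4d), (nat_lit 0xaa70708b4b71803db1f445f8d859592925eec7f3), (nat_lit 0x5017636b23770f46851015e64efcb1aed2cc3e5e), (nat_lit 0xb2b354e288bed8fe361a5b8e11180397a7f8f4a4), (nat_lit 0x21853b43babff9929c71a3a557fb786a82042d89), (nat_lit 0x300765674b771b03845445ea9c6d8f9fc85ec65e), (nat_lit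 0x601122f702778914856f1dea7d6cd49fdaacc2dc), (nat_lit 0x28052663a87792f204715de6dcfd50aece6d52dc), (nat_lit 0xfaa0500a2bb90239b73d43a4cc792f39b96a6abb), (nat_lit 0x186cdbd14ba6b809c4bd39bc82ad9978a4ec67f), (nat_lit 0x4f9e120d71b80a264b08eb9b3cabf039abbd5396), (nat_lit 0x144afc171bb67909068eb93e7b258b70c7d52bb), (nat_lit 0xdb1e600e88b9c22aa71a5bacacf1b0217d28f67f), (nat_lit 0x3845c6c288bd9593007a5bb6c7d538fcca48f7d2), (nat_lit 0x2047e4be2bbc9982805d43bea84db9dd4c7a6b96)]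
noncomputable def K_lB_W : List (List ℕ) := [[],
  [(nat_lit 0)],
  [(nat_lit 1)],
  [(nat_lit 2)],
  [(nat_lit 3)],
  [(nat_lit 4)],
  [(nat_lit 0), (nat_lit 0)],
  [(nat_lit 0), (nat_lit 1)],
  [(nat_lit 0), (nat_lit 2)],
  [(nat_lit 0), (nat_lit 3)],
  [(nat_lit 0), (nat_lit 4)],
  [(nat_lit 1), (nat_lit 1)],
  [(nat_lit 1), (nat_lit 2)],
  [(nat_lit 1), (nat_lit 3)],
  [(nat_lit 1), (nat_lit 4)],
  [(nat_lit 2), (nat_lit 3)],
  [(nat_lit 2), (nat_lit 4)],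
  [(nat_lit 3), (nat_lit 0)],
  [(nat_lit 3), (nat_lit 1)],
  [(nat_lit 3), (nat_lit 4)],
  [(nat_lit 0), (nat_lit 0), (nat_lit 1)],
  [(nat_lit 0), (nat_lit 0), (nat_lit 2)],
  [(nat_lit 0), (nat_lit 0), (nat_lit 4)],
  [(nat_lit 0), (nat_lit 1), (nat_lit 1)],
  [(nat_lit 0), (nat_lit 1), (nat_lit 2)],
  [(nat_lit 0), (nat_lit 1), (nat_lit 3)],
  [(nat_lit 0), (nat_lit 1), (nat_lit 4)],
  [(nat_lit 0), (nat_lit 2), (nat_lit 3)],
  [(nat_lit 0), (nat_lit 2), (nat_lit 4)],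
  [(nat_lit 0), (nat_lit 3), (nat_lit 1)],
  [(nat_lit 0), (nat_lit 3), (nat_lit 4)],
  [(nat_lit 1), (nat_lit 1), (nat_lit 2)],
  [(nat_lit 1), (nat_lit 1), (nat_lit 4)],
  [(nat_lit 1), (nat_lit 2), (nat_lit 3)],
  [(nat_lit 1), (nat_lit 2), (nat_lit 4)],
  [(nat_lit 1), (nat_lit 3), (nat_lit 0)],
  [(nat_lit 1), (nat_lit 3), (nat_lit 4)],
  [(nat_lit 2), (nat_lit 3), (nat_lit 0)],
  [(nat_lit 2), (nat_lit 3), (nat_lit 1)],
  [(nat_lit 2), (nat_lit 3), (nat_lit 4)],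
  [(nat_lit 3), (nat_lit 0), (nat_lit 1)],
  [(nat_lit 3), (nat_lit 0), (nat_lit 4)],
  [(nat_lit 3), (nat_lit 1), (nat_lit 4)],
  [(nat_lit 0), (nat_lit 0), (nat_lit 1), (nat_lit 1)],
  [(nat_lit 0), (nat_lit 0), (nat_lit 1), (nat_lit 2)],
  [(nat_lit 0), (nat_lit 0), (nat_lit 1), (nat_lit 4)],
  [(nat_lit 0), (nat_lit 0), (nat_lit 2), (nat_lit 4)],
  [(nat_lit 0), (nat_lit 1), (nat_lit 1), (nat_lit 2)],
  [(nat_lit 0), (nat_lit 1), (nat_lit 1), (nat_lit 4)],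
  [(nat_lit 0), (nat_lit 1), (nat_lit 2), (nat_lit 3)],
  [(nat_lit 0), (nat_lit 1), (nat_lit 2), (nat_lit 4)],
  [(nat_lit 0), (nat_lit 1), (nat_lit 3), (nat_lit 4)],
  [(nat_lit 0), (nat_lit 2), (nat_lit 3), (nat_lit 1)],
  [(nat_lit 0), (nat_lit 2), (nat_lit 3), (nat_lit 4)],
  [(nat_lit 0), (nat_lit 3), (nat_lit 1), (nat_lit 4)],
  [(nat_lit 1), (nat_lit 1), (nat_lit 2), (nat_lit 4)],
  [(nat_lit 1), (nat_lit 2), (nat_lit 3), (nat_lit 0)],
  [(nat_lit 1), (nat_lit 2), (nat_lit 3), (nat_lit 4)],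
  [(nat_lit 1), (nat_lit 3), (nat_lit 0), (nat_lit 4)],
  [(nat_lit 2), (nat_lit 3), (nat_lit 0), (nat_lit 1)],
  [(nat_lit 2), (nat_lit 3), (nat_lit 0), (nat_lit 4)],
  [(nat_lit 2), (nat_lit 3), (nat_lit 1), (nat_lit 4)],
  [(nat_lit 3), (nat_lit 0), (nat_lit 1), (nat_lit 4)],
  [(nat_lit 0), (nat_lit 0), (nat_lit 1), (nat_lit 1), (nat_lit 2)],
  [(nat_lit 0), (nat_lit 0), (nat_lit 1), (nat_lit 1), (nat_lit 4)],
  [(nat_lit 0), (nat_lit 0), (nat_lit 1), (nat_lit 2), (nat_lit 4)],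
  [(nat_lit 0), (nat_lit 1), (nat_lit 1), (nat_lit 2), (nat_lit 4)],
  [(nat_lit 0), (nat_lit 1), (nat_lit 2), (nat_lit 3), (nat_lit 4)],
  [(nat_lit 0), (nat_lit 2), (nat_lit 3), (nat_lit 1), (nat_lit 4)],
  [(nat_lit 1), (nat_lit 2), (nat_lit 3), (nat_lit 0), (nat_lit 4)],
  [(nat_lit 2), (nat_lit 3), (nat_lit 0), (nat_lit 1), (nat_lit 4)],
  [(nat_lit 0), (nat_lit 0), (nat_lit 1), (nat_lit 1), (nat_lit 2), (nat_lit 4)]]
noncomputable def K_lB_h (c : ℕ) : ℕ := Nat.mod c (nat_lit 860)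
theorem K_lB_E {G : Type*} [Group G] {R : ℕ → G → Prop} {d z m y t s g : G} {H : Subgroup G}
    (M : Mdl K_o K_cs K_L R [d, d⁻¹, z, z⁻¹, m, m⁻¹, y, y⁻¹, t, s, g] H) :
    EnumS R K_lB (sp [z, d, t, s, g]) :=
  enumS_sp M.μ.1 (M.reps.tms M.μ.1 [(.v (nat_lit 2)), (.v (nat_lit 0)), (.v (nat_lit 8)), (.v (nat_lit 9)), (.v (nat_lit 10))] (cs' := [(nat_lit 0x24fa6b6850b9f942fe23cb80a585a8dd7d2c3d89), (nat_lit 0xb568a4a338bb58be6f507bbfeece51004c7188a4), (nat_lit 0x9ca36ad20f7737affbb9c5d494358b31c8510c01), (nat_lit 0xdf35eff719bca71ada8f8392a431ab214c710c20), (nat_lit 0xac9f69c291773f9dfb1aedcc411ca35352c42c01)]) (by decide +kernel))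
    (Ws := K_lB_W) (by decide +kernel) (by decide +kernel)
theorem K_lB_c {G : Type*} [Group G] {R : ℕ → G → Prop} {d z m y t s g : G} {H : Subgroup G}
    (M : Mdl K_o K_cs K_L R [d, d⁻¹, z, z⁻¹, m, m⁻¹, y, y⁻¹, t, s, g] H) :
    #(sp [z, d, t, s, g]) = 72 :=
  (K_lB_E M).card M.μ (h := K_lB_h) (by decide +kernel)
noncomputable def K_lE : List ℕ := [(nat_lit 0xffbbcdeb38bdab49ca307b9ac5a928398a418820), (nat_lit 0x9ca36ad20f7737affbb9c5d494358b31c8510c01), (nat_lit 0xaf0de9958a0cbe4dd8e9681f9162038f75442eee), (nat_lit 0x1dde15a491f010c13b05ec8d4d9f5553619fcf96), (nat_lit 0xdd8f2f912d07a65af0cc507101bf22ec69a5a1d7), (nat_lit 0x13b00430bd905691dde48f8faa9a9b6ab309fedc), (nat_lit 0x405b714287e38795815a35ba49c4bfc3d2caefd2), (nat_lit 0x5814e1e746b5c50405b43f225ff4937e189dd65e)]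
noncomputable def K_lE_W : List (List ℕ) := [[],
  [(nat_lit 0)],
  [(nat_lit 1)],
  [(nat_lit 2)],
  [(nat_lit 0), (nat_lit 1)],
  [(nat_lit 0), (nat_lit 2)],
  [(nat_lit 1), (nat_lit 2)],
  [(nat_lit 0), (nat_lit 1), (nat_lit 2)]]
noncomputable def K_lE_h (c : ℕ) : ℕ := Nat.mod c (nat_lit 26)
theorem K_lE_E {G : Type*} [Group G] {R : ℕ → G → Prop} {d z m y t s g : G} {H : Subgroup G}
    (M : Mdl K_o K_cs K_L R [d, d⁻¹, z, z⁻¹, m, m⁻¹, y, y⁻¹, t, s, g] H) :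
    EnumS R K_lE (sp [t, m * y, d * m * d⁻¹ * (z * y * z⁻¹)]) :=
  enumS_sp M.μ.1 (M.reps.tms M.μ.1 [(.v (nat_lit 8)), (.mul (.v (nat_lit 4)) (.v (nat_lit 6))), (.mul (.mul (.mul (.v (nat_lit 0)) (.v (nat_lit 4))) (.v (nat_lit 1))) (.mul (.mul (.v (nat_lit 2)) (.v (nat_lit 6))) (.v (nat_lit 3))))] (cs' := [(nat_lit 0x9ca36ad20f7737affbb9c5d494358b31c8510c01), (nat_lit 0xaf0de9958a0cbe4dd8e9681f9162038f75442eee), (nat_lit 0x1dde15a491f010c13b05ec8d4d9f5553619fcf96)]) (by decide +kernel))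
    (Ws := K_lE_W) (by decide +kernel) (by decide +kernel)
theorem K_lE_c {G : Type*} [Group G] {R : ℕ → G → Prop} {d z m y t s g : G} {H : Subgroup G}
    (M : Mdl K_o K_cs K_L R [d, d⁻¹, z, z⁻¹, m, m⁻¹, y, y⁻¹, t, s, g] H) :
    #(sp [t, m * y, d * m * d⁻¹ * (z * y * z⁻¹)]) = 8 :=
  (K_lE_E M).card M.μ (h := K_lE_h) (by decide +kernel)
noncomputable def K_lD : List ℕ := [(nat_lit 0xffbbcdeb38bdab49ca307b9ac5a928398a418820), (nat_lit 0x24fa6b6850b9f942fe23cb80a585a8dd7d2c3d89), (nat_lit 0xb568a4a338bb58be6f507bbfeece51004c7188a4), (nat_lit 0x917b53e9e3becd4f1238139215b008b727f8654d), (nat_lit 0x3f2816a050b814b35b43cb893e97f14b2bbc3fd2), (nat_lit 0x6b17394738bffdd525107bad5a737a21420188c7), (nat_lit 0xd9a8c021e3ba42ba9f5813a45ef8916ab968667f), (nat_lit 0x2965fc450b927d0b503cb8fca1ada97989c3ebb), (nat_lit 0x4857e245e3bc8bd6011813b66a54fafcd4d86796)]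
noncomputable def K_lD_W : List (List ℕ) := [[],
  [(nat_lit 0)],
  [(nat_lit 1)],
  [(nat_lit 0), (nat_lit 0)],
  [(nat_lit 0), (nat_lit 1)],
  [(nat_lit 1), (nat_lit 1)],
  [(nat_lit 0), (nat_lit 0), (nat_lit 1)],
  [(nat_lit 0), (nat_lit 1), (nat_lit 1)],
  [(nat_lit 0), (nat_lit 0), (nat_lit 1), (nat_lit 1)]]
noncomputable def K_lD_h (c : ℕ) : ℕ := Nat.mod c (nat_lit 16)
theorem K_lD_E {G : Type*} [Group G] {R : ℕ → G → Prop} {d z m y t s g : G} {H : Subgroup G}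
    (M : Mdl K_o K_cs K_L R [d, d⁻¹, z, z⁻¹, m, m⁻¹, y, y⁻¹, t, s, g] H) :
    EnumS R K_lD (sp [z, d]) :=
  enumS_sp M.μ.1 (M.reps.tms M.μ.1 [(.v (nat_lit 2)), (.v (nat_lit 0))] (cs' := [(nat_lit 0x24fa6b6850b9f942fe23cb80a585a8dd7d2c3d89), (nat_lit 0xb568a4a338bb58be6f507bbfeece51004c7188a4)]) (by decide +kernel))
    (Ws := K_lD_W) (by decide +kernel) (by decide +kernel)
theorem K_lD_c {G : Type*} [Group G] {R : ℕ → G → Prop} {d z m y t s g : G} {H : Subgroup G}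
    (M : Mdl K_o K_cs K_L R [d, d⁻¹, z, z⁻¹, m, m⁻¹, y, y⁻¹, t, s, g] H) :
    #(sp [z, d]) = 9 :=
  (K_lD_E M).card M.μ (h := K_lD_h) (by decide +kernel)
noncomputable def K_lF : List ℕ := [(nat_lit 0xffbbcdeb38bdab49ca307b9ac5a928398a418820), (nat_lit 0xdf35eff719bca71ada8f8392a431ab214c710c20), (nat_lit 0xac9f69c291773f9dfb1aedcc411ca35352c42c01), (nat_lit 0x9da12abe3477b78ff33dd5ca7190c2625aa5a001)]
noncomputable def K_lF_W : List (List ℕ) := [[],
  [(nat_lit 0)],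
  [(nat_lit 1)],
  [(nat_lit 0), (nat_lit 1)]]
noncomputable def K_lF_h (c : ℕ) : ℕ := Nat.mod c (nat_lit 15)
theorem K_lF_E {G : Type*} [Group G] {R : ℕ → G → Prop} {d z m y t s g : G} {H : Subgroup G}
    (M : Mdl K_o K_cs K_L R [d, d⁻¹, z, z⁻¹, m, m⁻¹, y, y⁻¹, t, s, g] H) :
    EnumS R K_lF (sp [s, g]) :=
  enumS_sp M.μ.1 (M.reps.tms M.μ.1 [(.v (nat_lit 9)), (.v (nat_lit 10))] (cs' := [(nat_lit 0xdf35eff719bca71ada8f8392a431ab214c710c20), (nat_lit 0xac9f69c291773f9dfb1aedcc411ca35352c42c01)]) (by decide +kernel))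
    (Ws := K_lF_W) (by decide +kernel) (by decide +kernel)
theorem K_lF_c {G : Type*} [Group G] {R : ℕ → G → Prop} {d z m y t s g : G} {H : Subgroup G}
    (M : Mdl K_o K_cs K_L R [d, d⁻¹, z, z⁻¹, m, m⁻¹, y, y⁻¹, t, s, g] H) :
    #(sp [s, g]) = 4 :=
  (K_lF_E M).card M.μ (h := K_lF_h) (by decide +kernel)
noncomputable def K_Q_F : Fm := (.allS K_lQ (.and (.allS K_lQ (.qf (.or (.eq (.mul (.mul (.mul (.v (nat_lit 1)) (.v (nat_lit 0))) (.inv (.v (nat_lit 1)))) (.inv (.v (nat_lit 0)))) .one) (.eq (.mul (.mul (.mul (.v (nat_lit 1)) (.v (nat_lit 0))) (.inv (.v (nat_lit 1)))) (.inv (.v (nat_lit 0)))) (.v (nat_lit 10)))))) (.and (.qf (.or (.eq (.mul (.v (nat_lit 0)) (.v (nat_lit 0))) .one) (.eq (.mul (.v (nat_lit 0)) (.v (nat_lit 0))) (.v (nat_lit 9))))) (.and (.qf (.eq (.mul (.v (nat_lit 0)) (.v (nat_lit 9))) (.mul (.v (nat_lit 9)) (.v (nat_lit 0))))) (.imp (.eq (.mul (.v (nat_lit 0)) (.v (nat_lit 5))) (.mul (.v (nat_lit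 5)) (.v (nat_lit 0)))) (.imp (.eq (.mul (.v (nat_lit 0)) (.mul (.mul (.v (nat_lit 1)) (.v (nat_lit 5))) (.v (nat_lit 2)))) (.mul (.mul (.mul (.v (nat_lit 1)) (.v (nat_lit 5))) (.v (nat_lit 2))) (.v (nat_lit 0)))) (.imp (.eq (.mul (.v (nat_lit 0)) (.v (nat_lit 7))) (.mul (.v (nat_lit 7)) (.v (nat_lit 0)))) (.imp (.eq (.mul (.v (nat_lit 0)) (.mul (.mul (.v (nat_lit 3)) (.v (nat_lit 7))) (.v (nat_lit 4)))) (.mul (.mul (.mul (.v (nat_lit 3)) (.v (nat_lit 7))) (.v (nat_lit 4))) (.v (nat_lit 0)))) (.qf (.or (.eq (.v (nat_lit 0)) .one) (.eq (.v (nat_lit 0)) (.v (nat_lit 9)))))))))))))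
theorem K_Q_chk : Fm.chk K_o K_Q_F K_cs = true := by decide +kernel
theorem K_Q {G : Type*} [Group G] {R : ℕ → G → Prop} {d z m y t s g : G} {H : Subgroup G}
    (M : Mdl K_o K_cs K_L R [d, d⁻¹, z, z⁻¹, m, m⁻¹, y, y⁻¹, t, s, g] H) :
    ∀ x ∈ sp [m, d * m * d⁻¹, y, z * y * z⁻¹], (∀ u ∈ sp [m, d * m * d⁻¹, y, z * y * z⁻¹], ⁅x, u⁆ = 1 ∨ ⁅x, u⁆ = t) ∧ (x * x = 1 ∨ x * x = t) ∧ x * t = t * x ∧ (x * m = m * x → x * (d * m * d⁻¹) = d * m * d⁻¹ * x → x * y = y * x → x * (z * y * z⁻¹) = z * y * z⁻¹ * x → x = 1 ∨ x = t) :=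
  have h : ∀ x, InS R K_lQ x → (∀ u, InS R K_lQ u → ⁅x, u⁆ = 1 ∨ ⁅x, u⁆ = t) ∧ (x * x = 1 ∨ x * x = t) ∧ x * t = t * x ∧ (x * m = m * x → x * (d * m * d⁻¹) = d * m * d⁻¹ * x → x * y = y * x → x * (z * y * z⁻¹) = z * y * z⁻¹ * x → x = 1 ∨ x = t) :=
    Fm.sound M.μ K_Q_F K_Q_chk M.reps
  (fun x h0 => (And.imp (fun h1 => (fun u h2 => (h1 u ((K_lQ_E M).iff.2 h2)))) (fun h1 => h1) (h x ((K_lQ_E M).iff.2 h0))))
noncomputable def K_e_F : Fm := (.qf (.and (.mem (.v (nat_lit 8)) K_lQ) (.and (.not (.eq (.mul (.v (nat_lit 4)) (.mul (.mul (.v (nat_lit 0)) (.v (nat_lit 4))) (.v (nat_lit 1)))) (.mul (.mul (.mul (.v (nat_lit 0)) (.v (nat_lit 4))) (.v (nat_lit 1))) (.v (nat_lit 4))))) (.eq (.pw (.v (nat_lit 4)) (nat_lit 4)) .one))))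
theorem K_e_chk : Fm.chk K_o K_e_F K_cs = true := by decide +kernel
theorem K_e {G : Type*} [Group G] {R : ℕ → G → Prop} {d z m y t s g : G} {H : Subgroup G}
    (M : Mdl K_o K_cs K_L R [d, d⁻¹, z, z⁻¹, m, m⁻¹, y, y⁻¹, t, s, g] H) :
    t ∈ sp [m, d * m * d⁻¹, y, z * y * z⁻¹] ∧ m * (d * m * d⁻¹) ≠ d * m * d⁻¹ * m ∧ m ^ 4 = 1 :=
  have h : InS R K_lQ (t) ∧ m * (d * m * d⁻¹) ≠ d * m * d⁻¹ * m ∧ m ^ 4 = 1 :=
    Fm.sound M.μ K_e_F K_e_chk M.reps
  ((and_congr (K_lQ_E M).iff Iff.rfl).1 h)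
noncomputable def K_E_F : Fm := (.allS K_lE (.qf (.and (.eq (.mul (.v (nat_lit 0)) (.v (nat_lit 0))) .one) (.mem (.v (nat_lit 0)) K_lQ))))
theorem K_E_chk : Fm.chk K_o K_E_F K_cs = true := by decide +kernel
theorem K_E {G : Type*} [Group G] {R : ℕ → G → Prop} {d z m y t s g : G} {H : Subgroup G}
    (M : Mdl K_o K_cs K_L R [d, d⁻¹, z, z⁻¹, m, m⁻¹, y, y⁻¹, t, s, g] H) :
    ∀ x ∈ sp [t, m * y, d * m * d⁻¹ * (z * y * z⁻¹)], x * x = 1 ∧ x ∈ sp [m, d * m * d⁻¹, y, z * y * z⁻¹] :=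
  have h : ∀ x, InS R K_lE x → x * x = 1 ∧ InS R K_lQ (x) :=
    Fm.sound M.μ K_E_F K_E_chk M.reps
  (fun x h0 => ((and_congr Iff.rfl (K_lQ_E M).iff).1 (h x ((K_lE_E M).iff.2 h0))))
noncomputable def K_B_F : Fm := (.allS K_lB (.qf (.and (.not (.eq (.mul (.v (nat_lit 0)) (.v (nat_lit 0))) (.v (nat_lit 9)))) (.mem (.mul (.v (nat_lit 0)) (.v (nat_lit 0))) K_lD))))
theorem K_B_chk : Fm.chk K_o K_B_F K_cs = true := by decide +kernel
theorem K_B {G : Type*} [Group G] {R : ℕ → G → Prop} {d z m y t s g : G} {H : Subgroup G}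
    (M : Mdl K_o K_cs K_L R [d, d⁻¹, z, z⁻¹, m, m⁻¹, y, y⁻¹, t, s, g] H) :
    ∀ x ∈ sp [z, d, t, s, g], x * x ≠ t ∧ x * x ∈ sp [z, d] :=
  have h : ∀ x, InS R K_lB x → x * x ≠ t ∧ InS R K_lD (x * x) :=
    Fm.sound M.μ K_B_F K_B_chk M.reps
  (fun x h0 => ((and_congr Iff.rfl (K_lD_E M).iff).1 (h x ((K_lB_E M).iff.2 h0))))
noncomputable def K_D_F : Fm := (.allS K_lD (.imp (.eq (.mul (.v (nat_lit 0)) (.v (nat_lit 5))) (.mul (.v (nat_lit 5)) (.v (nat_lit 0)))) (.imp (.eq (.mul (.v (nat_lit 0)) (.v (nat_lit 7))) (.mul (.v (nat_lit 7)) (.v (nat_lit 0)))) (.qf (.eq (.v (nat_lit 0)) .one)))))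
theorem K_D_chk : Fm.chk K_o K_D_F K_cs = true := by decide +kernel
theorem K_D {G : Type*} [Group G] {R : ℕ → G → Prop} {d z m y t s g : G} {H : Subgroup G}
    (M : Mdl K_o K_cs K_L R [d, d⁻¹, z, z⁻¹, m, m⁻¹, y, y⁻¹, t, s, g] H) :
    ∀ x ∈ sp [z, d], x * m = m * x → x * y = y * x → x = 1 :=
  have h : ∀ x, InS R K_lD x → x * m = m * x → x * y = y * x → x = 1 :=
    Fm.sound M.μ K_D_F K_D_chk M.reps
  (fun x h0 => (h x ((K_lD_E M).iff.2 h0)))
noncomputable def K_F_F : Fm := (.allS K_lD (.imp (.or (.or (.eq (.v (nat_lit 0)) (.v (nat_lit 3))) (.eq (.v (nat_lit 0)) (.v (nat_lit 4)))) (.or (.eq (.v (nat_lit 0)) (.v (nat_lit 1))) (.eq (.v (nat_lit 0)) (.v (nat_lit 2))))) (.exS K_lF (.qf (.eq (.mul (.mul (.v (nat_lit 0)) (.v (nat_lit 1))) (.inv (.v (nat_lit 0)))) (.v (nat_lit 4)))))))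
theorem K_F_chk : Fm.chk K_o K_F_F K_cs = true := by decide +kernel
theorem K_F {G : Type*} [Group G] {R : ℕ → G → Prop} {d z m y t s g : G} {H : Subgroup G}
    (M : Mdl K_o K_cs K_L R [d, d⁻¹, z, z⁻¹, m, m⁻¹, y, y⁻¹, t, s, g] H) :
    ∀ x ∈ sp [z, d], (x = z ∨ x = z⁻¹) ∨ x = d ∨ x = d⁻¹ → (∃ k ∈ sp [s, g], k * x * k⁻¹ = z) :=
  have h : ∀ x, InS R K_lD x → (x = z ∨ x = z⁻¹) ∨ x = d ∨ x = d⁻¹ → (GoodS R K_lF → ∃ k, InS R K_lF k ∧ k * x * k⁻¹ = z) :=
    Fm.sound M.μ K_F_F K_F_chk M.reps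
  (fun x h0 => (fun h1 => (Exists.imp (fun k h2 => ⟨(K_lF_E M).iff.1 h2.1, h2.2⟩) (((h x ((K_lD_E M).iff.2 h0)) h1) (K_lF_E M).good))))
noncomputable def K_x_F : Fm := (.all K_L (.qf (.eq (.pw (.pw (.v (nat_lit 0)) (nat_lit 16)) (nat_lit 3)) .one)))
theorem K_x_chk : Fm.chk K_o K_x_F K_cs = true := by decide +kernel
theorem K_x {G : Type*} [Group G] {R : ℕ → G → Prop} {d z m y t s g : G} {H : Subgroup G}
    (M : Mdl K_o K_cs K_L R [d, d⁻¹, z, z⁻¹, m, m⁻¹, y, y⁻¹, t, s, g] H) :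
    ∀ x ∈ H, (x ^ 16) ^ 3 = 1 :=
  have h : ∀ x, InL K_o R K_L x → (x ^ 16) ^ 3 = 1 :=
    Fm.sound M.μ K_x_F K_x_chk M.reps
  (fun x h0 => (h x (M.H.iff.2 h0)))

end H24.L4
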