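import Cfsg.Agent.H24.Hall4b
import Cfsg.Agent.H24.Homog
import Cfsg.Agent.H24.NormMT
import Cfsg.Agent.H19.Amb3
import Cfsg.Agent.H12.SymIdx

/-! Groups induced on `(k+1)`-subsets by `k`-transitive groups. -/

set_option autoImplicit false

namespace H24
open MulAction Subgroup Equiv Cfsg H19 Pointwise

variable {G Ω : Type*} [Group G] [MulAction G Ω]

variable (G) in
/-- the group induced on a finite set by its stabilizer -/
def IndG (Δ : Finset Ω) : Subgroup (Perm Δ) where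
  carrier := {σ | ∃ g : G, ∀ x : Δ, g • (x : Ω) = σ x}
  one_mem' := ⟨1, fun _ => one_smul _ _⟩
  mul_mem' := by
    rintro σ τ ⟨g, hg⟩ ⟨h, hh⟩
    exact ⟨g * h, fun x => by rw [mul_smul, hh, hg]; rfl⟩
  inv_mem' := by
    rintro σ ⟨g, hg⟩
    exact ⟨g⁻¹, fun x => by rw [inv_smul_eq_iff, hg]; simp⟩

theorem ind_eq_top [DecidableEq Ω] {Δ : Finset Ω}
    (h : ∀ a ∈ Δ, ∀ b ∈ Δ, a ≠ b → ∃ g : G, ∀ x ∈ Δ, g • x = swap a b x) : IndG G Δ = ⊤ :=
  eq_top_iff.2 fun σ _ => by
    induction σ using Perm.swap_induction_on with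
    | one => exact one_mem _
    | swap_mul σ a b hab ih =>
      obtain ⟨g, hg⟩ := h a a.2 b b.2 fun e => hab (Subtype.ext e)
      exact mul_mem ⟨g, fun x => (hg x x.2).trans (Subtype.val_injective.swap_apply a b x)⟩
        (ih trivial)

theorem le_fix_iff {P : Subgroup G} {s : Set Ω} : P ≤ fixingSubgroup G s ↔ s ⊆ fixedPoints P Ω :=
  ⟨fun h x hx g => H17.mem_fix_iff.1 (h g.2) x hx,
    fun h g hg => H17.mem_fix_iff.2 fun _ hx => h hx ⟨g, hg⟩⟩

theorem exists_sq_mem [Finite G] {P Q : Subgroup G} (hQ : PG 2 Q) (h : ¬ Q ≤ P) :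
    ∃ t ∈ Q, t ∉ P ∧ t * t ∈ P := by
  obtain ⟨x, hx, hxP⟩ := SetLike.not_le_iff_exists.1 h
  obtain ⟨k, hk⟩ := hQ.isPGroup ⟨x, hx⟩
  replace hk : x ^ 2 ^ k ∈ P := by rw [show x ^ 2 ^ k = 1 from congrArg Subtype.val hk]; exact one_mem _
  induction k with
  | zero => exact absurd (by simpa using hk) hxP
  | succ k ih =>
    by_cases h1 : x ^ 2 ^ k ∈ P
    · exact ih h1
    · exact ⟨_, pow_mem hx _, h1, by rwa [← pow_add, ← mul_two, ← pow_succ]⟩

theorem caseB [Finite G] [Finite Ω] {k : ℕ} (hk : 2 ≤ k) {P : Subgroup G} (hP : PG 2 P)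
    (hmax : ∀ Q : Subgroup G, PG 2 Q → P ≤ Q → k + 1 ≤ (fixedPoints Q Ω).ncard → Q = P)
    (hns : ∀ Γ : Finset Ω, Γ.card = k → ¬ Syl 2 P (fixingSubgroup G (Γ : Set Ω)))
    {Δ : Finset Ω} (hΔ : Δ.card = k + 1) (hf : (Δ : Set Ω) ⊆ fixedPoints P Ω) : IndG G Δ = ⊤ := by
  classical
  refine ind_eq_top fun a ha b hb hab => ?_
  obtain ⟨δ, hδ, hδ'⟩ := Finset.exists_mem_notMem_of_card_lt_card (s := {a, b}) (t := Δ)
    (by rw [Finset.card_pair hab]; omega)
  have hm : ∀ Q : Subgroup G, PG 2 Q → P ≤ Q → ∀ s : Finset Ω, s.card = k + 1 →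
      (s : Set Ω) ⊆ fixedPoints Q Ω → Q = P := fun Q h1 h2 s h3 h4 =>
    hmax Q h1 h2 (by rw [← h3, ← Set.ncard_coe_finset]; exact Set.ncard_le_ncard h4)
  have hΓ : (Δ.erase δ).card = k := by rw [Finset.card_erase_of_mem hδ, hΔ]; rfl
  obtain ⟨Q0, h1, h2, h3, h4⟩ := hP.exists_lt_norm (le_fix_iff.2 ((Finset.coe_subset.2
    (Finset.erase_subset δ Δ)).trans hf)) (hns _ hΓ)
  obtain ⟨t, ht, htP, htt⟩ := exists_sq_mem h2 h1.not_ge
  set Q := P ⊔ zpowers t
  have hQ0 : Q ≤ Q0 := sup_le h1.le (zpowers_le.2 ht)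
  have hQ : PG 2 Q := h2.of_le hQ0
  have htQ : t ∈ Q := mem_sup_right (mem_zpowers t)
  have hQP : Q ≠ P := fun e => htP (e ▸ htQ)
  have hfQ : ∀ x, x ∈ fixedPoints Q Ω ↔ x ∈ Δ.erase δ := fun x =>
    ⟨fun hx => by_contra fun hx' => hQP (hm Q hQ le_sup_left (insert x (Δ.erase δ))
      (by rw [Finset.card_insert_of_notMem hx', hΓ]) (by
        rw [Finset.coe_insert]; exact Set.insert_subset hx (le_fix_iff.1 (hQ0.trans h3)))),
    fun hx => le_fix_iff.1 (hQ0.trans h3) hx⟩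
  have tf : ∀ x ∈ Δ, x ≠ δ → t • x = x := fun x hx h =>
    (hfQ x).2 (Finset.mem_erase.2 ⟨h, hx⟩) ⟨t, htQ⟩
  have tδ : t • δ ≠ δ := fun e => by
    simpa using (hfQ δ).1 (mem_fp.2 (sup_le (mem_fp.1 (hf hδ)) (zpowers_le.2 e)))
  have tδ' : t • δ ∉ Δ := fun e => tδ ((smul_left_cancel_iff t).1 (tf _ e tδ))
  have ttδ : t • t • δ = δ := by rw [smul_smul]; exact hf hδ ⟨_, htt⟩
  set Γ := insert (t • δ) (Δ \ {a, b})
  have hab' : ({a, b} : Finset Ω) ⊆ Δ := by simp [Finset.insert_subset_iff, ha, hb]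
  have hΓ' : Γ.card = k := by
    rw [Finset.card_insert_of_notMem (by simp [tδ']), Finset.card_sdiff_of_subset hab',
      Finset.card_pair hab]; omega
  set H := fixingSubgroup G (Γ : Set Ω)
  have hδΓ : δ ∈ Γ := Finset.mem_insert_of_mem (Finset.mem_sdiff.2 ⟨hδ, hδ'⟩)
  have hPH : P ≤ H := le_fix_iff.2 (by
    rw [Finset.coe_insert]
    exact Set.insert_subset (smul_mem_fp (h4 ht) (hf hδ))
      ((Finset.coe_subset.2 Finset.sdiff_subset).trans hf))
  have hn : Q ≤ N(H) := sup_le (norms_of_le hPH) (zpowers_le.2 (by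
    rw [← inv_mem_iff]
    refine H17.mem_normalizer_of_conj_mem fun x hx => H17.mem_fix_iff.2 fun y hy => ?_
    rw [inv_inv, mul_smul, mul_smul, H17.mem_fix_iff.1 hx, inv_smul_smul]
    rcases Finset.mem_insert.1 hy with rfl | hy'
    · rwa [ttδ]
    · by_cases e : y = δ
      · rw [e]; exact Finset.mem_insert_self _ _
      · rwa [tf y (Finset.mem_sdiff.1 hy').1 e]))
  obtain ⟨R, hR, hQR⟩ := hQ.exists_syl (le_sup_right : Q ≤ H ⊔ Q)
  have hD := hR.inf_normal (left_normal_sup hn)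
  have hPD : P ≤ R ⊓ H := le_inf (le_sup_left.trans hQR) hPH
  have hDQ : ¬ R ⊓ H ≤ Q := fun e => hns Γ hΓ' (by
    suffices R ⊓ H = P from this ▸ hD
    refine le_antisymm (fun x hx => ?_) hPD
    obtain ⟨u, hu, _, ⟨i, rfl⟩, rfl⟩ := (mem_sup_of_norm (zpowers_le.2 (h4 ht))).1 (e hx)
    refine mul_mem hu ?_
    have h5 : ∀ j : ℤ, t ^ (2 * j) ∈ P := fun j => by
      rw [zpow_mul, zpow_two]; exact zpow_mem htt j
    obtain ⟨j, rfl | rfl⟩ := Int.even_or_odd' i
    · exact h5 j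
    · have h6 : t ∈ H := by
        have := mul_mem (inv_mem (hPH (h5 j))) (mul_mem (inv_mem (hPH hu)) hx.2)
        simpa [zpow_add] using this
      exact absurd (H17.mem_fix_iff.1 h6 δ hδΓ) tδ)
  have hnD : Q ≤ N(R ⊓ H) := norms_inf (norms_of_le hQR) hn
  obtain ⟨y, ⟨hy1, hy2⟩, hy3⟩ := SetLike.exists_of_lt ((hR.pi.of_le (sup_le inf_le_left hQR)).lt_norm
    (lt_of_le_of_ne (le_sup_right : Q ≤ R ⊓ H ⊔ Q) fun e => hDQ (e ▸ le_sup_left)))
  obtain ⟨d, hd, u, hu, rfl⟩ := (mem_sup_of_norm hnD).1 hy1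
  have hdN : d ∈ N(Q) := by simpa using N(Q).mul_mem hy2 (inv_mem (le_normalizer hu))
  have df : ∀ x ∈ Δ, x ≠ a → x ≠ b → d • x = x := fun x hx h h' =>
    H17.mem_fix_iff.1 hd.2 x (Finset.mem_insert_of_mem (by simp [hx, h, h']))
  simp only [Finset.mem_insert, Finset.mem_singleton, not_or] at hδ'
  have dab : ∀ x ∈ Δ, x ≠ δ → (x = a ∨ x = b) → d • x = a ∨ d • x = b := fun x hx h h' => by
    by_contra e
    push Not at e
    have := (smul_left_cancel_iff d).1 (df _ (Finset.mem_erase.1 ((hfQ _).1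
      (smul_mem_fp hdN ((hfQ x).2 (Finset.mem_erase.2 ⟨h, hx⟩))))).2 e.1 e.2)
    rw [this] at e
    tauto
  have e1 := dab a ha (Ne.symm hδ'.1) (Or.inl rfl)
  have e2 := dab b hb (Ne.symm hδ'.2) (Or.inr rfl)
  have e3 : d • a ≠ d • b := by simpa using hab
  have e4 : d • a ≠ a := fun e => hy3 (mul_mem (le_sup_left (a := P) ((hm (R ⊓ H ⊓
    fixingSubgroup G (Δ : Set Ω)) (hD.pi.infl _) (le_inf hPD (le_fix_iff.2 hf)) Δ hΔ
    (le_fix_iff.1 inf_le_right)).le ⟨hd, H17.mem_fix_iff.2 fun x hx => by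
      by_cases h : x = a
      · rw [h, e]
      by_cases h' : x = b
      · rw [h']; exact e2.resolve_left fun e' => e3 (e.trans e'.symm)
      exact df x hx h h'⟩)) hu)
  refine ⟨d, fun x hx => ?_⟩
  by_cases h : x = a
  · rw [h, swap_apply_left]; exact e1.resolve_left e4
  by_cases h' : x = b
  · rw [h', swap_apply_right]
    exact e2.resolve_right fun e' => e3 ((e1.resolve_left e4).trans e'.symm)
  rw [swap_apply_of_ne_of_ne h h', df x hx h h']

/-- `k`-transitive, with no involution fixing `k` points -/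
structure HK (k : ℕ) (G Ω : Type*) [Group G] [MulAction G Ω] : Prop where
  mt : IsMultiplyPretransitive G Ω k
  one : ∀ (t : G) (s : Finset Ω), s.card = k → t * t = 1 → (∀ x ∈ s, t • x = x) → t = 1

theorem HK.stab {k : ℕ} [Finite Ω] (h : HK (k + 1) G Ω) (hk : k + 1 ≤ Nat.card Ω) (a : Ω) :
    HK k (stabilizer G a) (SubMulAction.ofStabilizer G a) := by
  classical
  have := is_one_pretransitive_iff.1 (H17.mt_of_le h.mt (Nat.succ_pos k) hk)
  refine ⟨SubMulAction.ofStabilizer.isMultiplyPretransitive.1 h.mt, fun t s hs ht e =>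
    Subtype.ext (h.one t (insert a (s.map (Function.Embedding.subtype _))) ?_
      (congrArg Subtype.val ht) fun x hx => ?_)⟩
  · rw [Finset.card_insert_of_notMem, Finset.card_map, hs]
    simp only [Finset.mem_map, not_exists, not_and]
    exact fun x _ => x.2
  · rcases Finset.mem_insert.1 hx with rfl | hx
    · exact t.2
    · obtain ⟨y, hy, rfl⟩ := Finset.mem_map.1 hx
      exact congrArg Subtype.val (e y hy)

theorem HK.range {k : ℕ} [FaithfulSMul G Ω] (h : HK k G Ω) : HK k (toPermHom G Ω).range Ω :=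
  ⟨H17.range_mt_iff.2 h.mt, by
    rintro ⟨_, g, rfl⟩ s hs ht e
    have := h.one g s hs (eq_of_smul_eq_smul (α := Ω) fun x => by
      rw [mul_smul, one_smul]; exact DFunLike.congr_fun (congrArg Subtype.val ht) x) e
    subst this
    exact Subtype.ext (map_one _)⟩

universe u v in
theorem HK.hall (k : ℕ) : ∀ {G : Type u} {Ω : Type v} [Group G] [MulAction G Ω] [Finite Ω]
    [FaithfulSMul G Ω], HK (k + 4) G Ω → k + 4 ≤ Nat.card Ω → Nat.card Ω ≤ k + 5 ∨
      (Nat.card Ω = k + 6 ∨ Nat.card Ω = k + 7) ∧ 2 * Nat.card G = (Nat.card Ω).factorial ∨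
      Nat.card Ω = k + 11 ∧ Nat.card G = (k + 11).descFactorial (k + 4) := by
  induction k with
  | zero =>
    intro G Ω _ _ _ _ h hk
    classical
    have := Fintype.ofFinite Ω
    have hc := Nat.card_eq_fintype_card (α := Ω)
    have h1 := H4.hall (G := (toPermHom G Ω).range) ⟨h.range.mt, fun t p q r s d ht e =>
      h.range.one t {p, q, r, s} (by
        rw [← Set.ncard_coe_finset, Set.ncard_def]; simp [d.encard]) ht
        (by simpa [mem_St4] using e)⟩ (by omega)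
    rw [H17.card_range, ← hc] at h1
    refine h1.imp (by omega) (Or.imp (And.imp_right fun e => ?_) (And.imp_right fun e => e))
    have : Nontrivial Ω := Finite.one_lt_card_iff_nontrivial.1 (by omega)
    rw [← H17.card_range (α := Ω), e, two_mul_nat_card_alternatingGroup, Nat.card_perm]
  | succ k ih =>
    intro G Ω _ _ _ _ h hk
    obtain ⟨a⟩ := (Nat.card_pos_iff.1 (show 0 < Nat.card Ω by omega)).1
    have := H17.faithful_stab (G := G) a
    have hc := SubMulAction.nat_card_ofStabilizer_add_one_eq G a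
    have := is_one_pretransitive_iff.1 (H17.mt_of_le (m := 1) h.mt (by omega) hk)
    have h2 := H17.card_mul_stabilizer (G := G) a
    rcases ih (HK.stab (k := k + 4) (by rwa [add_right_comm]) (by omega) a) (by omega) with
      h1 | ⟨h1, h3⟩ | ⟨h1, h3⟩
    · omega
    · refine Or.inr (Or.inl ⟨by omega, ?_⟩)
      rw [← h2, ← hc, Nat.factorial_succ, ← h3]; ring
    · refine Or.inr (Or.inr ⟨by omega, ?_⟩)
      rw [← h2, h3, ← hc, h1, add_right_comm k 1 11, add_right_comm k 1 4,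
        Nat.succ_descFactorial_succ (k + 11)]

theorem card_le_index {α : Type*} [Fintype α] [DecidableEq α] (h : 5 ≤ Fintype.card α)
    {H : Subgroup (Perm α)} (hH : ¬ alternatingGroup α ≤ H) : Fintype.card α ≤ H.index := by
  have hc := H12.normalCore_eq_bot h (H := H) (fun e => hH (e ▸ le_top)) fun e => hH e.ge
  rw [normalCore_eq_ker, MonoidHom.ker_eq_bot_iff] at hc
  have := Nat.card_le_card_of_injective _ hc
  rw [Nat.card_perm, Nat.card_perm, ← index_eq_card, Nat.card_eq_fintype_card] at this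
  have h0 := H.index_ne_zero_of_finite
  by_contra h
  exact this.not_gt ((Nat.factorial_lt (by omega)).2 (by omega))

/-- restriction of the set stabilizer -/
def resHom [DecidableEq Ω] (Δ : Finset Ω) : stabilizer G Δ →* Perm Δ where
  toFun g := (toPerm (g : G) : Perm Ω).subtypePerm fun x => by
    have := Finset.smul_mem_smul_finset_iff (s := Δ) (b := x) (g : G)
    rwa [show (g : G) • Δ = Δ from g.2] at this
  map_one' := by ext; simp
  map_mul' g h := Equiv.ext fun x => Subtype.ext (mul_smul (g : G) (h : G) (x : Ω))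

theorem resHom_apply [DecidableEq Ω] (Δ : Finset Ω) (g : stabilizer G Δ) (x : Δ) :
    (resHom Δ g x : Ω) = (g : G) • (x : Ω) := rfl

theorem range_resHom [DecidableEq Ω] (Δ : Finset Ω) : (resHom (G := G) Δ).range = IndG G Δ := by
  ext σ
  refine ⟨?_, fun ⟨g, hg⟩ => ⟨⟨g, Finset.eq_of_subset_of_card_le ?_ (by simp)⟩,
    Equiv.ext fun x => Subtype.ext (hg x)⟩⟩
  · rintro ⟨g, rfl⟩; exact ⟨g, fun _ => rfl⟩
  · intro y hy
    obtain ⟨x, hx, rfl⟩ := Finset.mem_smul_finset.1 hy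
    exact hg ⟨x, hx⟩ ▸ (σ ⟨x, hx⟩).2

theorem card_stab_finset [DecidableEq Ω] (Δ : Finset Ω) : Nat.card (stabilizer G Δ) =
    Nat.card (fixingSubgroup G (Δ : Set Ω)) * Nat.card (IndG G Δ) := by
  rw [← range_resHom, ← index_ker, ← (resHom Δ).ker.card_mul_index]
  congr 1
  refine Nat.card_congr ⟨fun g => ⟨g.1.1, H17.mem_fix_iff.2 fun x hx =>
    congrArg Subtype.val (Equiv.congr_fun (MonoidHom.mem_ker.1 g.2) (⟨x, hx⟩ : Δ))⟩,
    fun g => ⟨⟨g.1, Finset.eq_of_subset_of_card_le (fun y hy => ?_) (by simp)⟩,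
      Equiv.ext fun x => Subtype.ext (H17.mem_fix_iff.1 g.2 x x.2)⟩, fun _ => rfl, fun _ => rfl⟩
  obtain ⟨x, hx, rfl⟩ := Finset.mem_smul_finset.1 hy
  rwa [H17.mem_fix_iff.1 g.2 x hx]

theorem alt_le_ind [Fintype Ω] [DecidableEq Ω] (h : alternatingGroup Ω ≤ (toPermHom G Ω).range)
    (Δ : Finset Ω) : alternatingGroup Δ ≤ IndG G Δ := fun σ hσ => by
  obtain ⟨g, hg⟩ := h (show Perm.ofSubtype σ ∈ alternatingGroup Ω by
    rw [Perm.mem_alternatingGroup, Perm.sign_ofSubtype]; convert Perm.mem_alternatingGroup.1 hσ)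
  exact ⟨g, fun x => (DFunLike.congr_fun hg (x : Ω)).trans (Perm.ofSubtype_apply_coe σ x)⟩

theorem HK.exists_alt [Finite Ω] [DecidableEq Ω] [FaithfulSMul G Ω] {k : ℕ} (h : HK k G Ω)
    (h4 : 4 ≤ k) (hk : k < Nat.card Ω) :
    ∃ Δ : Finset Ω, Δ.card = k + 1 ∧ alternatingGroup Δ ≤ IndG G Δ := by
  have := Fintype.ofFinite Ω
  have := H17.finite_of_faithful G Ω
  have hc := Nat.card_eq_fintype_card (α := Ω)
  obtain ⟨Δ, -, hΔ⟩ := Finset.exists_subset_card_eq (s := (Finset.univ : Finset Ω)) (n := k + 1)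
    (by rw [Finset.card_univ]; omega)
  by_cases h1 : Nat.card Ω ≤ k + 3
  · exact ⟨Δ, hΔ, alt_le_ind (H17.alt_le_of_mt_small _ (k := k) (by omega) (by omega) h.range.mt
      (by omega)) Δ⟩
  obtain ⟨k, rfl⟩ := Nat.exists_eq_add_of_le' h4
  obtain ⟨h2, h3⟩ := ((HK.hall k h hk.le).resolve_left (by omega)).resolve_left (by omega)
  have hs : ∀ s : Finset Ω, k + 4 ≤ s.card → fixingSubgroup G (s : Set Ω) = ⊥ := fun s hs => by
    obtain ⟨t, h4, h5⟩ := Finset.exists_subset_card_eq hs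
    have := index_fix h.mt (s := t) (by simp [h5])
    rw [h3, h2] at this
    exact le_bot_iff.1 ((fixingSubgroup_antitone G Ω (Finset.coe_subset.2 h4)).trans
      (card_eq_one.1 ((Nat.mul_eq_left (Nat.descFactorial_pos.2 (by omega)).ne').1 this.symm)).le)
  have hk2 : k ≤ 1 := by
    by_contra h4
    obtain ⟨k, rfl⟩ := Nat.exists_eq_add_of_le' (show 2 ≤ k by omega)
    have := Sh.card_six k (G := G) (Ω := Ω) ⟨h.mt, H17.sharp_of_finset fun s e g hg =>
      (eq_bot_iff_forall _).1 (hs s (by omega)) g (H17.mem_fix_iff.2 hg)⟩ (by omega)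
    omega
  by_contra h4
  push Not at h4
  have h5 : ∀ s : Finset Ω, s.card = k + 4 + 1 → Nat.card G ≤ (orbit G s).ncard * (k + 4).factorial :=
    fun s e => by
      have h6 := card_le_index (by simp [e]) (h4 s e)
      have h7 := (IndG G s).card_mul_index
      rw [Nat.card_perm, Nat.card_eq_fintype_card (α := s), Fintype.card_coe, e,
        Nat.factorial_succ] at h7
      rw [Fintype.card_coe, e] at h6
      rw [← H17.card_orbit_mul s, card_stab_finset, hs s (by omega), card_bot, one_mul]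
      refine Nat.mul_le_mul_left _ (Nat.le_of_mul_le_mul_right ?_ (k + 4).succ_pos)
      rw [mul_comm (Nat.factorial _), ← h7]
      exact Nat.mul_le_mul_left _ h6
  have h6 : {s : Finset Ω | s.card = k + 4 + 1}.ncard = (k + 11).choose (k + 4 + 1) := by
    rw [← h2, ← Set.powersetCard.card]; rfl
  have h7 : ∀ s : Finset Ω, s.card = k + 4 + 1 → orbit G s ⊆ {s | s.card = k + 4 + 1} := by
    rintro s e _ ⟨g, rfl⟩; simpa using e
  by_cases h8 : orbit G Δ = {s | s.card = k + 4 + 1}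
  · have : (orbit G Δ).ncard ∣ Nat.card G := index_stabilizer G Δ ▸ index_dvd_card _
    rw [h8, h6, h3] at this
    interval_cases k <;> revert this <;> decide
  · obtain ⟨s, e, h9⟩ := Set.exists_of_ssubset ((h7 Δ hΔ).ssubset_of_ne h8)
    have := Set.ncard_le_ncard (Set.union_subset (h7 Δ hΔ) (h7 s e))
    rw [Set.ncard_union_eq ((orbit.eq_or_disjoint Δ s).resolve_left fun e' =>
      h9 (e' ▸ mem_orbit_self s)), h6] at this
    have e1 := h5 Δ hΔ
    have e2 := h5 s e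
    rw [h3] at e1 e2
    interval_cases k <;> simp [Nat.descFactorial, Nat.factorial, Nat.choose] at e1 e2 this <;> omega

theorem exists_alt [Finite G] [Finite Ω] [DecidableEq Ω] {k : ℕ}
    (h : IsMultiplyPretransitive G Ω k) (h4 : 4 ≤ k) (hk : k < Nat.card Ω) :
    ∃ Δ : Finset Ω, Δ.card = k + 1 ∧ alternatingGroup Δ ≤ IndG G Δ := by
  obtain ⟨P, -, ⟨hP, hf⟩, hmax⟩ := exists_maximal_ge_of_wellFoundedGT
    (fun P : Subgroup G => PG 2 P ∧ k + 1 ≤ (fixedPoints P Ω).ncard) ⊥ ⟨PiN.bot, by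
      rwa [Set.eq_univ_of_forall (s := fixedPoints (⊥ : Subgroup G) Ω) fun x => mem_fp.2 bot_le,
        Set.ncard_univ]⟩
  by_cases hs : ∀ Γ : Finset Ω, Γ.card = k → ¬ Syl 2 P (fixingSubgroup G (Γ : Set Ω))
  · obtain ⟨Δ, h1, h2⟩ := Set.exists_subset_card_eq hf
    lift Δ to Finset Ω using Set.toFinite _
    rw [Set.ncard_coe_finset] at h2
    exact ⟨Δ, h2, le_top.trans (caseB (by omega) hP
      (fun Q h1 h2 h3 => le_antisymm (hmax ⟨h1, h3⟩ h2) h2) hs h2 h1).ge⟩
  push Not at hs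
  obtain ⟨Γ, hΓ, hs⟩ := hs
  have hw : ∀ u : G, (∀ x ∈ Γ, u • x ∈ fixedPoints P Ω) → ∃ n ∈ N(P), ∀ x ∈ Γ, n • x = u • x :=
    fun u hu => H17.witt_normalizer (p := 2) _ hs.le (by
      obtain ⟨S, rfl⟩ := hs.exists_sylow
      rw [card_map_of_injective (subtype_injective _), Sylow.card_eq_multiplicity]) u hu
  have hΓf := le_fix_iff.1 hs.le
  have hK : HK k (toPermHom N(P) (fixSub Ω P)).range (fixSub Ω P) := by
    refine ⟨H17.range_mt_iff.2 (H17.mt_iff.2 fun x y hx hy => ?_), ?_⟩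
    · let e := (Finset.equivFinOfCardEq hΓ).symm
      have : ∀ x : Fin k → fixSub Ω P, Function.Injective x →
          ∃ n : N(P), ∀ i, (n : G) • (e i : Ω) = x i := fun x hx => by
        obtain ⟨u, hu⟩ := H17.mt_iff.1 h (fun i => e i) (fun i => x i)
          (Subtype.val_injective.comp e.injective) (Subtype.val_injective.comp hx)
        obtain ⟨n, hn, hn'⟩ := hw u fun z hz => by
          obtain ⟨i, hi⟩ := e.surjective ⟨z, hz⟩
          rw [← show (e i : Ω) = z from congrArg Subtype.val hi, hu]; exact (x i).2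
        exact ⟨⟨n, hn⟩, fun i => (hn' _ (e i).2).trans (hu i)⟩
      obtain ⟨m, hm⟩ := this x hx
      obtain ⟨n, hn⟩ := this y hy
      exact ⟨n * m⁻¹, fun i => Subtype.ext (by
        change ((n : G) * (m : G)⁻¹) • (x i : Ω) = y i
        rw [← hm, mul_smul, inv_smul_smul, hn])⟩
    · rintro ⟨_, g, rfl⟩ s hs' ht e
      obtain ⟨j, m, ⟨m, rfl⟩, e'⟩ := Nat.exists_eq_two_pow_mul_odd (orderOf_pos g).ne'
      set Γ' := s.map (Function.Embedding.subtype _)
      have h1 : P ≤ fixingSubgroup G (Γ' : Set Ω) := le_fix_iff.2 fun x hx => by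
        obtain ⟨y, -, rfl⟩ := Finset.mem_map.1 hx; exact y.2
      have h2 : Syl 2 P (fixingSubgroup G (Γ' : Set Ω)) := by
        obtain ⟨R, hR, h3⟩ := hP.exists_syl h1
        refine hR.of_card_dvd h1 hP (PiN.dvd_of_dvd_mul hR.pi hs.idx ?_)
        rw [hs.card_mul, card_fix_eq h hΓ (t := Γ') (by rw [Finset.card_map, hs'])]
        exact card_dvd hR.le
      have h3 : ((g ^ (2 * m + 1) : N(P)) : G) ∈ P := h2.mem_of_norm (pow_mem (H17.mem_fix_iff.2
        fun x hx => by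
          obtain ⟨y, hy, rfl⟩ := Finset.mem_map.1 hx
          exact congrArg Subtype.val (e y hy)) _) ((PiN.prime_pow Nat.prime_two j).dvd
        (orderOf_dvd_of_pow_eq_one (by
          rw [← coe_pow, ← pow_mul, mul_comm, ← e', pow_orderOf_eq_one, coe_one]))) (g ^ _).2
      have h5 : toPermHom N(P) (fixSub Ω P) (g ^ (2 * m + 1)) = 1 :=
        Equiv.ext fun x => Subtype.ext (x.2 ⟨_, h3⟩)
      rw [map_pow, pow_succ, pow_mul, sq, show toPermHom N(P) (fixSub Ω P) g * _ = 1 from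
        congrArg Subtype.val ht, one_pow, one_mul] at h5
      exact Subtype.ext h5
  obtain ⟨Δ, h1, h2⟩ := hK.exists_alt h4 hf
  refine ⟨Δ.map (Function.Embedding.subtype _), by rw [Finset.card_map, h1], fun σ hσ => ?_⟩
  let e : Δ ≃ Δ.map (Function.Embedding.subtype _) := Finset.equivMap _ _
  obtain ⟨⟨_, g, rfl⟩, hg⟩ := h2 (show e.symm.permCongr σ ∈ alternatingGroup Δ by
    rw [Perm.mem_alternatingGroup, Perm.sign_permCongr]; exact hσ)
  refine ⟨g, fun x => ?_⟩
  obtain ⟨y, rfl⟩ := e.surjective x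
  have he : ∀ z, (e z : Ω) = z := fun _ => rfl
  rw [he, ← e.apply_symm_apply (σ _), he]
  exact congrArg Subtype.val (hg y)

end H24
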