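import Cfsg.Agent.H3.ND3

/-! S4780 (solvable groups without divisibility among degrees). Interface; sketches in `notes/h24_ND.md`. -/

set_option autoImplicit false
set_option linter.unusedVariables false

open Subgroup MulAction H19 H20 H6 Cfsg H3.PT H3.GR H3.ND Module
open scoped commutatorElement

namespace H24.ND

universe u
variable {G : Type u} [Group G] [Finite G]

/-- no divisibility among nonlinear degrees -/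
def NDA (G : Type u) [Group G] [Finite G] : Prop := ∀ χ ∈ Irr (⊤ : Subgroup G), ∀ ξ ∈ Irr (⊤ : Subgroup G),
  deg χ ≠ 1 → deg χ ∣ deg ξ → deg χ = deg ξ

/-- `G/K` Frobenius with kernel `N/K` and cyclic complement -/
structure Nd (N K : Subgroup G) (p : ℕ) : Prop where
  dG : ⁅(⊤ : Subgroup G), ⊤⁆ ≤ N
  dN : ⁅N, N⁆ ≤ K
  nle : ¬ N ≤ K
  ne : N ≠ ⊤
  pi : PiN {p} (K.relIndex N)
  np : ¬ p ∣ N.relIndex ⊤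
  fp : ∀ x, x ∉ N → Fpf N K x
  pd : ∀ χ ∈ Irr ⊤, ¬ ⁅N, N⁆ ≤ cker χ → p ∣ deg χ
  nd : NDA G
  cyc : ∃ g, N ⊔ zpowers g = ⊤
  lf : ∀ χ ∈ Irr ⊤, ⁅N, N⁆ ≤ cker χ → deg χ = 1 ∨ deg χ = N.relIndex ⊤
  df : ∃ χ ∈ Irr ⊤, K ≤ cker χ ∧ deg χ = N.relIndex ⊤
  nq : ∀ (r : ℕ) (L : Subgroup G), r.Prime → L.Normal → PiN {r} (L.relIndex ⊤) → ⁅(⊤ : Subgroup G), ⊤⁆ ≤ L

/-- the Camina property -/
structure Ca (N K : Subgroup G) (p : ℕ) : Prop extends Nd N K p where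
  fw : ∀ x, x ∉ N → Fpf N (Wd N) x
  cw : (N.relIndex ⊤).Coprime ((Wd N).relIndex N)
  st : ∀ ψ ∈ Irr N, deg ψ ≠ 1 → ¬ H20.inertia ⊤ ψ ≤ N
  van : ∀ ψ ∈ Irr N, deg ψ ≠ 1 → ∀ n, ψ n ≠ 0 → n ∈ Wd N
  cj : ∀ n ∈ N, n ∉ Wd N → ∀ y ∈ ⁅N, N⁆, ∃ g ∈ N, g * n * g⁻¹ = y * n

def S0 : Prop := ∀ {G : Type u} [Group G] [Finite G] [Group.IsSolvable G], NDA G →
  (∃ m, ∀ χ ∈ Irr (⊤ : Subgroup G), deg χ = 1 ∨ deg χ = m) ∨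
  ∃ (N K : Subgroup G) (p : ℕ), p.Prime ∧ N.Normal ∧ K.Normal ∧ Nd N K p
def QT : Prop := ∀ {G : Type u} [Group G] [Finite G] {N K L : Subgroup G} {p : ℕ} [N.Normal] [K.Normal] [L.Normal],
  Nd N K p → L ≤ ⁅N, N⁆ → Nd (N.map (QuotientGroup.mk' L)) (K.map (QuotientGroup.mk' L)) p
def CAM : Prop := ∀ {G : Type u} [Group G] [Finite G] {N K : Subgroup G} {p : ℕ} [N.Normal] [K.Normal],
  p.Prime → Nd N K p → Ca N K p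

abbrev g2 (P : Subgroup G) : Subgroup G := ⁅P, P⁆
abbrev g3 (P : Subgroup G) : Subgroup G := ⁅g2 P, P⁆
abbrev g4 (P : Subgroup G) : Subgroup G := ⁅g3 P, P⁆
abbrev g5 (P : Subgroup G) : Subgroup G := ⁅g4 P, P⁆
abbrev V1 (P H : Subgroup G) : Subgroup G := g2 P ⊔ (P ⊓ C(H))
/-- `c` centralizes `X/Y` -/
def Ce (Y X : Subgroup G) (c : G) : Prop := ∀ x ∈ X, c * x * c⁻¹ * x⁻¹ ∈ Y
noncomputable def dd (H : Subgroup G) (ψ : G → ℂ) : ℕ := (H20.inertia H ψ).relIndex H * deg ψ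

/-- normal Sylow `p`-subgroup with abelian complement -/
structure PC (P H : Subgroup G) (p : ℕ) : Prop where
  pr : p.Prime
  nP : P.Normal
  pg : PG p P
  np : ¬ p ∣ #H
  ab : Ab H
  sup : P ⊔ H = ⊤
  cyc : ∃ g ∈ H, H ≤ (H ⊓ C(P)) ⊔ zpowers g
  nV : ¬ P ≤ V1 P H
  fp : ∀ c ∈ H, c ∉ C(P) → Fpf P (V1 P H) c
  cam : ∀ x ∈ P, x ∉ V1 P H → ∀ y ∈ g2 P, ∃ g ∈ P, g * x * g⁻¹ = y * x
  st : ∀ ψ ∈ Irr P, deg ψ ≠ 1 → ∃ c ∈ H, c ∉ C(P) ∧ cfj c ψ = ψ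
  nd : ∀ ψ ∈ Irr P, ∀ φ ∈ Irr P, deg ψ ≠ 1 → dd H ψ ∣ dd H φ → dd H ψ = dd H φ

structure Out (P H : Subgroup G) : Prop where
  c3 : g4 P = ⊥
  two : ∃ m₁ m₂, ∀ ψ ∈ Irr P, deg ψ ≠ 1 → dd H ψ = m₁ ∨ dd H ψ = m₂
  lt : ∀ ψ ∈ Irr P, deg ψ ≠ 1 → ∀ S, S ≤ V1 P H → Ab S → deg ψ < S.relIndex P
  cen : g2 P ⊓ C(H) = ⊥ → P ⊓ C(H) ≤ C(P)
  inv : ∀ X, X ≤ H → g2 P ⊓ C(X) ≠ ⊥ → ∃ ψ ∈ Irr P, deg ψ ≠ 1 ∧ X ≤ H20.inertia H ψ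

def DG : Prop := ∀ {G : Type u} [Group G] [Finite G] {P H : Subgroup G} {p : ℕ} [P.Normal], p.Prime → PG p P →
  ¬ p ∣ #H → Ab H → P ⊔ H = ⊤ → ∀ ψ ∈ Irr P, ∀ χ ∈ Irr (⊤ : Subgroup G), dot P χ ψ ≠ 0 → deg χ = dd H ψ
def ST : Prop := ∀ {G : Type u} [Group G] [Finite G] [Group.IsSolvable G] {N K : Subgroup G} {p : ℕ} [N.Normal]
  [K.Normal], p.Prime → Ca N K p → ⁅N, N⁆ ⊓ Oc {p}ᶜ N = ⊥ → ⁅N, N⁆ ≠ ⊥ →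
  ∃ P H, PC P H p ∧ P ≤ N ∧ g2 P = ⁅N, N⁆ ∧ V1 P H = P ⊓ Wd N ∧ (H ⊓ C(P)).relIndex H = N.relIndex ⊤
/-- regular orbit on the dual of a coprime abelian section -/
def RO : Prop := ∀ {G : Type u} [Group G] [Finite G] {H X Y : Subgroup G} {p : ℕ} [X.Normal] [Y.Normal], p.Prime →
  PG p X → ¬ p ∣ #H → Ab H → ⁅X, X⁆ ≤ Y → Y ≤ X →
  ∃ ν, Lin X ν ∧ Y ≤ cker ν ∧ ∀ c ∈ H, cfj c ν = ν → Ce Y X c
def RA : Prop := ∀ {G : Type u} [Group G] [Finite G] {P H X Y : Subgroup G} {p : ℕ} [X.Normal] [Y.Normal],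
  PC P H p → Y ≤ X → X ≤ g2 P → ⁅X, P⁆ ≤ Y → ∃ c ∈ H, c ∉ C(P) ∧ Ce Y X c
def CS : Prop := ∀ {G : Type u} [Group G] [Finite G] {P H : Subgroup G} {p : ℕ} {c : G}, PC P H p → c ∈ H →
  c ∉ C(P) → ∀ x ∈ P, ∃ y ∈ P, ∃ a ∈ P ⊓ C(H), ∃ w ∈ g2 P, x = c * y * c⁻¹ * y⁻¹ * a * w
def FP : Prop := ∀ {G : Type u} [Group G] [Finite G] {P H X : Subgroup G} {p : ℕ} {c : G} [X.Normal],
  PC P H p → X ≤ P → ⁅X, V1 P H⁆ ≤ ⁅⁅X, P⁆, P⁆ → c ∈ H → c ∉ C(P) → Ce ⁅X, P⁆ X c → Fpf ⁅X, P⁆ ⁅⁅X, P⁆, P⁆ c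
def JI : Prop := ∀ {G : Type u} [Group G] [Finite G] {P H X Y : Subgroup G} {p : ℕ} [X.Normal] [Y.Normal],
  PC P H p → Y ≤ X → X ≤ g2 P → ⁅X, P⁆ ≤ Y → ⁅P ⊓ C(H), P⁆ ≤ X → X ⊓ C(H) ≤ Y → ⁅P ⊓ C(H), P⁆ ≤ Y
def LV : Prop := ∀ {G : Type u} [Group G] [Finite G] {P H X Y : Subgroup G} {p : ℕ} [X.Normal] [Y.Normal],
  PC P H p → Y ≤ X → X ≤ g2 P → ⁅X, P⁆ ≤ Y → ⁅P ⊓ C(H), P⁆ ≤ Y →
  (∀ x ∈ P, x ∉ X ⊔ (P ⊓ C(H)) → ∀ y ∈ X, ∃ g ∈ P, g * x * g⁻¹ * (y * x)⁻¹ ∈ Y) →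
  (∀ c ∈ H, Ce Y X c ∨ Fpf X Y c) ∧ ∀ ψ ∈ Irr P, Y ≤ cker ψ → ¬ X ≤ cker ψ →
    deg ψ ^ 2 = (X ⊔ (P ⊓ C(H))).relIndex P ∧ ∀ c ∈ H, cfj c ψ = ψ ↔ Ce Y X c
def SO : Prop := ∀ {G : Type u} [Group G] [Finite G] {P H X Y Z : Subgroup G} {p : ℕ} [X.Normal] [Y.Normal]
  [Z.Normal], PC P H p → Z ≤ Y → Y ≤ X → X ≤ g2 P → ⁅X, X⁆ ≤ Z → ⁅X, P⁆ ≤ Y → ⁅Y, P⁆ ≤ Z →
  (∀ c ∈ H, Ce Y X c ∨ Fpf X Y c) → (∀ c ∈ H, c ∉ C(P) → Ce Y X c → Fpf Y Z c) →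
  ∀ w ∈ X, w ∉ Y → ∀ y ∈ Y, ∃ g ∈ P, g * w * g⁻¹ * w⁻¹ * y⁻¹ ∈ Z
def C4 : Prop := ∀ {G : Type u} [Group G] [Finite G] {P J : Subgroup G} {p : ℕ}, p.Prime → PG p P → J ≤ P →
  ⁅J, P⁆ ≤ g5 P → (∀ x ∈ P, x ∉ g2 P ⊔ J → ∀ y ∈ g2 P, ∃ g ∈ P, g * x * g⁻¹ = y * x) →
  (∀ w ∈ g2 P, w ∉ g3 P → ∀ y ∈ g3 P, ∃ g ∈ P, g * w * g⁻¹ * w⁻¹ * y⁻¹ ∈ g4 P) →
  (∀ w ∈ g3 P, w ∉ g4 P → ∀ y ∈ g4 P, ∃ g ∈ P, g * w * g⁻¹ * w⁻¹ * y⁻¹ ∈ g5 P) → g4 P ≤ g5 P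
def W0 : Prop := ∀ {G : Type u} [Group G] [Finite G] {P H : Subgroup G} {p : ℕ}, PC P H p →
  ¬ g2 P ⊓ C(H) ≤ g3 P → Out P H
def W1 : Prop := ∀ {G : Type u} [Group G] [Finite G] {P H : Subgroup G} {p : ℕ}, PC P H p →
  g2 P ⊓ C(H) ≤ g3 P → Out P H

/-- a space of nondegenerate alternating forms -/
def PF : Prop := ∀ (p : ℕ) [Fact p.Prime] (S A : Type u) [AddCommGroup S] [Module (ZMod p) S] [Finite S]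
  [AddCommGroup A] [Module (ZMod p) A] [Finite A] [Nontrivial A] (β : S →ₗ[ZMod p] A →ₗ[ZMod p] A →ₗ[ZMod p] ZMod p),
  (∀ s x, β s x x = 0) → (∀ s, s ≠ 0 → ∀ x, (∀ y, β s x y = 0) → x = 0) → 2 * finrank (ZMod p) S ≤ finrank (ZMod p) A
/-- commuting spread sets -/
def SA : Prop := ∀ (p : ℕ) [Fact p.Prime] (T U : Type u) [AddCommGroup T] [Module (ZMod p) T] [Finite T]
  [AddCommGroup U] [Module (ZMod p) U] [Finite U] [Nontrivial U] (ω : U →ₗ[ZMod p] U →ₗ[ZMod p] ZMod p)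
  (S : T →ₗ[ZMod p] U →ₗ[ZMod p] U) (e : T), (∀ a, ω a a = 0) → (∀ a, (∀ b, ω a b = 0) → a = 0) →
  finrank (ZMod p) U ≤ finrank (ZMod p) T → (∀ t a, S t a = 0 → t = 0 ∨ a = 0) → (∀ a, S e a = a) →
  (∀ t t' a, S t (S t' a) = S t' (S t a)) →
  (∀ t t' a b, ω (S t (S t' a)) b - ω (S t' a) (S t b) = ω (S t (S t' b)) a - ω (S t' b) (S t a)) → False
/-- the graded Lie ring of a Camina group of class four -/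
def ML : Prop := ∀ (p : ℕ) [Fact p.Prime] (A W Y : Type u) [AddCommGroup A] [Module (ZMod p) A] [Finite A]
  [AddCommGroup W] [Module (ZMod p) W] [Finite W] [Nontrivial W] [AddCommGroup Y] [Module (ZMod p) Y] [Finite Y]
  [Nontrivial Y] (b : A →ₗ[ZMod p] A →ₗ[ZMod p] W) (m : W →ₗ[ZMod p] A →ₗ[ZMod p] Y)
  (n : Y →ₗ[ZMod p] A →ₗ[ZMod p] ZMod p) (ω : W →ₗ[ZMod p] W →ₗ[ZMod p] ZMod p),
  (∀ x, b x x = 0) → (∀ w, ω w w = 0) → (∀ x y z, m (b x y) z + m (b y z) x + m (b z x) y = 0) →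
  (∀ w x y, n (m w x) y - n (m w y) x = ω w (b x y)) → (∀ x, x ≠ 0 → Function.Surjective (b x)) →
  (∀ w, w ≠ 0 → Function.Surjective (m w)) → (∀ y, (∀ x, n y x = 0) → y = 0) →
  (∀ T : Submodule (ZMod p) A, (∀ x ∈ T, x ≠ 0 → LinearMap.ker (b x) = T) → ∀ I : Submodule (ZMod p) Y,
    (∀ w, ∀ x ∈ T, m w x ∈ I) → ∃ κ : T →ₗ[ZMod p] T →ₗ[ZMod p] (Y ⧸ I), (∀ x, κ x x = 0) ∧
      ∀ x, x ≠ 0 → Function.Surjective (κ x)) → False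

def DN : Prop := ∀ {G : Type u} [Group G] [Finite G] {P H : Subgroup G} {p : ℕ} (V : Type u) [AddCommGroup V]
  [Finite V] [Nontrivial V] [DistribMulAction G V], PC P H p → Out P H → g2 P ≠ ⊥ → ¬ p ∣ Nat.card V →
  (∀ U : AddSubgroup V, (∀ (g : G), ∀ v ∈ U, g • v ∈ U) → U = ⊥ ∨ U = ⊤) →
  (∀ x ∈ P, x ∉ V1 P H → ∀ v : V, x • v = v → v = 0) →
  (∀ v : V, v ≠ 0 → Ab (stabilizer G v) ∧ ¬ (H ⊓ C(P)).relIndex H ∣ (stabilizer G v).index ∧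
    ∀ ψ ∈ Irr P, deg ψ ≠ 1 → dd H ψ ∣ (stabilizer G v).index → dd H ψ = (stabilizer G v).index) →
  ((H ⊓ C(P)).relIndex H).Prime
def DA : Prop := ∀ {G : Type u} [Group G] [Finite G] {B : Subgroup G} [B.Normal] (V : Type u) [AddCommGroup V]
  [Finite V] [Nontrivial V] [DistribMulAction G V], Ab B → (∃ g, B ⊔ zpowers g = ⊤) → B ≠ ⊤ → ¬ B ≤ center G →
  (∀ x, x ∉ B → Fpf B (center G) x) → B.index.Coprime ((center G).relIndex B) →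
  (∀ U : AddSubgroup V, (∀ (g : G), ∀ v ∈ U, g • v ∈ U) → U = ⊥ ∨ U = ⊤) →
  (∀ x ∈ B, x ∉ center G → ∀ v : V, x • v = v → v = 0) →
  (∀ v : V, v ≠ 0 → Ab (stabilizer G v) ∧ ¬ B.index ∣ (stabilizer G v).index ∧
    ∀ w : V, w ≠ 0 → (stabilizer G v).index ∣ (stabilizer G w).index →
      (stabilizer G v).index = (stabilizer G w).index) → B.index.Prime
def DD : Prop := ∀ {G : Type u} [Group G] [Finite G] [Group.IsSolvable G] {N K : Subgroup G} {p : ℕ} [N.Normal]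
  [K.Normal], p.Prime → Ca N K p → ⁅N, N⁆ ⊓ Oc {p}ᶜ N ≠ ⊥ → (N.relIndex ⊤).Prime
def FN : Prop := ∀ {G : Type u} [Group G] [Finite G] [Group.IsSolvable G], NDA G →
  (∃ a b c, ∀ χ ∈ Irr (⊤ : Subgroup G), deg χ = 1 ∨ deg χ = a ∨ deg χ = b ∨ deg χ = c) ∧ derivedSeries G 3 = ⊥

end H24.ND
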