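import Cfsg.Agent.H24.ND0

/-! S4780: the glue. -/

set_option autoImplicit false

open Subgroup MulAction H19 H20 H6 Cfsg H3.PT H3.GR H3.ND
open scoped commutatorElement

namespace H24.ND

universe u

theorem fn (s0 : S0.{u}) (cam : CAM.{u}) (st : ST.{u}) (dg : DG.{u}) (w0 : W0.{u}) (w1 : W1.{u}) (dD : DD.{u}) :
    FN.{u} := fun {G} _ _ _ nd => by
  rcases s0 nd with ⟨m, t⟩ | ⟨N, K, p, hp, hN, hK, h⟩
  · refine ⟨⟨m, m, m, fun χ a => (t χ a).imp_right Or.inl⟩, (dser_top 3).symm.trans (H19.eq_bot_mono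
      (dser_anti _ (by norm_num : 2 ≤ 3)) (two_deg_dser (m := m) fun χ a _ => t χ a))⟩
  have := Fact.mk hp
  have key : (∃ m₁ m₂, ∀ χ ∈ Irr (⊤ : Subgroup G), ¬ ⁅N, N⁆ ≤ cker χ → deg χ = m₁ ∨ deg χ = m₂) ∧
      ⁅⁅N, N⁆, ⁅N, N⁆⁆ = ⊥ := by
    have c := cam hp h
    by_cases e : ⁅N, N⁆ ⊓ Oc {p}ᶜ N = ⊥
    · by_cases e' : ⁅N, N⁆ = ⊥
      · exact ⟨⟨0, 0, fun χ _ b => absurd (e'.le.trans bot_le) b⟩, by rw [e', commutator_bot_left]⟩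
      obtain ⟨P, H, k, PN, eP, -, -⟩ := st hp c e e'
      have o : Out P H := (em _).elim (w1 k) (w0 k)
      obtain ⟨m₁, m₂, t⟩ := o.two
      have := k.nP
      refine ⟨⟨m₁, m₂, fun χ a b => ?_⟩, ?_⟩
      · obtain ⟨θ, c1, c2, c3⟩ := ex_nl (F := P) a (der_le P) (fun q => b (eP.ge.trans q))
        rw [dg hp k.pg k.np k.ab k.sup θ c1 χ a c2]
        exact t θ c1 fun q => c3 ((der_le_cker c1).2 q)
      · rw [← eP]
        exact three_subgroup ((congrArg (⁅·, P⁆) (commutator_comm _ _)).trans o.c3) o.c3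
    · have f := dD hp c e
      obtain ⟨β, b1, -, b2⟩ := h.df
      have y : Hy N K p := ⟨h.dG, h.dN, h.nle, h.ne, h.pi, h.np, h.fp, fun χ a b => f.coprime_iff_not_dvd.2 fun q =>
        h.np (b2.symm.trans (h.nd β b1 χ a (b2 ▸ f.ne_one) (b2 ▸ q)) ▸ h.pd χ a b), h.pd,
        fun ξ a φ b c _ => nd ξ a φ b fun e => c ((der_mono le_top).trans ((der_le_cker a).2 e))⟩
      have t := main _ G rfl N K y
      obtain ⟨m, t'⟩ := id t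
      exact ⟨⟨m, m, fun χ a b => .inl (t' χ a b)⟩, y.dser2 t⟩
  obtain ⟨⟨m₁, m₂, t⟩, d⟩ := key
  refine ⟨⟨N.relIndex ⊤, m₁, m₂, fun χ a => (em _).elim (fun e => (h.lf χ a e).imp_right Or.inl)
    fun e => .inr (.inr (t χ a e))⟩, H19.eq_bot_mono ?_ d⟩
  exact der_mono (der_mono h.dG)

theorem fin (fn : FN.{u}) {G : Type u} [Group G] [Finite G] [Group.IsSolvable G]
    (hnd : ∀ a ∈ charDegrees G, ∀ b ∈ charDegrees G, 1 < a → a < b → ¬ a ∣ b) :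
    Nat.card ↥(charDegrees G) ≤ 4 ∧ derivedSeries G 3 = ⊥ := by
  have m : ∀ {d}, d ∈ charDegrees G ↔ ∃ χ ∈ H20.Irr (⊤ : Subgroup G), H20.deg χ = d :=
    ⟨fun ⟨χ, h⟩ => ⟨χ.1, H20.mem_Irr_top.2 χ.2, h⟩, fun ⟨χ, a, h⟩ => ⟨⟨χ, H20.mem_Irr_top.1 a⟩, h⟩⟩
  obtain ⟨⟨a, b, c, t⟩, d⟩ := fn (G := G) fun χ c ξ d e h => by_contra fun n => hnd _ (m.2 ⟨χ, c, rfl⟩) _
    (m.2 ⟨ξ, d, rfl⟩) (lt_of_le_of_ne (H20.irr_deg_pos c) (Ne.symm e))
      ((Nat.le_of_dvd (H20.irr_deg_pos d) h).lt_of_ne n) h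
  refine ⟨?_, d⟩
  rw [Nat.card_coe_set_eq]
  refine (Set.ncard_le_ncard (t := {1, a, b, c}) fun d hd => ?_).trans ?_
  · obtain ⟨ξ, c, rfl⟩ := m.1 hd
    simpa using t ξ c
  · refine (Set.ncard_insert_le _ _).trans (Nat.succ_le_succ ((Set.ncard_insert_le _ _).trans (Nat.succ_le_succ
      ((Set.ncard_insert_le _ _).trans (Nat.succ_le_succ (Set.ncard_singleton _).le)))))

end H24.ND
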