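import Cfsg.Agent.H24.ND0

/-! S4780: basic structure under `Ca`. -/

set_option autoImplicit false
set_option linter.unusedSectionVars false

open Subgroup MulAction H19 H20 H6 Cfsg H3.PT H3.GR H3.ND
open scoped commutatorElement

namespace H24.ND

universe u
variable {G : Type u} [Group G] [Finite G] {p : ℕ} [hp : Fact p.Prime]
  {B D E K L N X : Subgroup G} {χ ψ φ ξ : G → ℂ} {g n x y : G}

namespace Nd
variable [hN : N.Normal] [hK : K.Normal] (h : Nd N K p)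
include h

theorem f1 : N.relIndex ⊤ ≠ 1 := fun e => h.ne (top_le_iff.1 (relIndex_eq_one.1 e))

theorem fd (hχ : χ ∈ Irr ⊤) (e : N.relIndex ⊤ ∣ deg χ) : deg χ = N.relIndex ⊤ := by
  obtain ⟨β, b, -, c⟩ := h.df
  exact (h.nd β b χ hχ (c ▸ h.f1) (c ▸ e)).symm.trans c

theorem WK : Wd N ≤ K := fun n hn => by
  obtain ⟨x, -, hx⟩ := SetLike.not_le_iff_exists.1 (mt top_le_iff.1 h.ne)
  exact h.fp x hx n (mem_W.1 hn).1 (h.dN ((mem_W.1 hn).2 x))

theorem pN (hψ : ψ ∈ Irr N) (h1 : deg ψ ≠ 1) : p ∣ deg ψ :=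
  (frob_deg normalIn_top normalIn_top (K := K ⊓ N) inf_le_right (le_inf h.dN (der_le N))
    (fun x _ a w b c => ⟨h.fp x a w b c.1, b⟩) hψ).elim
    (fun ⟨ξ, c, d⟩ => absurd ((Nat.mul_eq_left (H19.relIndex_ne_zero' _ _)).1
      (d.symm.trans (h.fd c (d ▸ dvd_mul_right _ _)))) h1)
    fun e => hp.out.dvd_of_dvd_pow ((h.pi.dvd_of_ne_one fun q => h.nle (relIndex_eq_one.1 q)).2.trans
      (by rwa [inf_relIndex_right] at e))

theorem hallM : Hall {p}ᶜ (Oc {p}ᶜ N) N :=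
  (thompson_hall hp.out fun _ hψ _ h1 => h.pN hψ h1).Oc_hall (Ores_normal _ _).norm

theorem idxM : PiN {p} ((Oc {p}ᶜ N).relIndex N) := by simpa using h.hallM.idx

theorem PN {P : Subgroup G} (hP : PG p P) : P ≤ N :=
  le_of_pi_of_relIndex nr le_top le_top hP (PiN.of_not_dvd h.np)

theorem exP (P : Sylow p G) : ∃ n ∈ (P : Subgroup G), n ∉ K :=
  SetLike.not_le_iff_exists.1 fun e => h.nle ((le_sup_syl h.pi P).trans (sup_le le_rfl e))

variable (hD : ⁅N, N⁆ ⊓ Oc {p}ᶜ N = D)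
include hD

theorem DP (P : Sylow p G) : D ⊓ (P : Subgroup G) = ⊥ :=
  ((Oc_pi _ _).of_le (hD.ge.trans inf_le_right)).inf_eq_bot' (spi P)

theorem supH [D.Normal] (P : Sylow p G) : D ⊔ N((P : Subgroup G)) = ⊤ := by
  subst hD
  exact frat (nt (((syl_sylow_top P).of_le (h.PN (spi P)) le_top).sup_norm_of_nil_quo nr
    (nil_quo_inf nr nr (nil_of_ab ((ab_quo_iff nr).2 le_rfl)) ((piG_quo_iff nr).2 h.idxM).nil) nr nr))

end Nd

namespace Ca
variable [hN : N.Normal] [hK : K.Normal] (h : Ca N K p) (hD : ⁅N, N⁆ ⊓ Oc {p}ᶜ N = D)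
include h hD

theorem fpfP (hn : n ∈ N) (h1 : n ∉ Wd N) (h2 : PiE {p} n) : Fpf D ⊥ n := fun y hy e => by
  subst hD
  obtain ⟨g, -, h3⟩ := h.cj n hn h1 y hy.1
  have h4 : Commute y n := (commutatorElement_eq_one_iff_commute.1 (mem_bot.1 e)).symm
  have h5 : y ^ orderOf n = 1 := by
    have := congrArg (· ^ orderOf n) h3
    simpa [h4.mul_pow] using this.symm
  exact orderOf_eq_one_iff.1 ((h2.dvd (orderOf_dvd_of_pow_eq_one h5)).eq_one
    ((Oc_pi _ _).elt hy.2))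

variable [D.Normal]

theorem infH (P : Sylow p G) : D ⊓ N((P : Subgroup G)) = ⊥ := eq_bot_iff.2 fun y hy => by
  obtain ⟨n, a, b⟩ := h.exP P
  refine h.fpfP hD (h.PN (spi P) a) (fun e => b (h.WK e)) ((spi P).elt a) y hy.1
    ((h.DP hD P).le ⟨mul_mem (Normal.conj_mem ‹_› y hy.1 n) (D.inv_mem hy.1), ?_⟩)
  rw [mul_assoc, mul_assoc, ← mul_assoc y]
  exact mul_mem a (conj_mem_of_norm hy.2 (inv_mem a))

theorem exw [Group.IsSolvable G] {w : Du D} (w0 : w ≠ 0) :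
    (∃ χ ∈ Irr ⊤, ¬ ⁅N, N⁆ ≤ cker χ ∧ deg χ = (stabilizer G w).relIndex ⊤) ∧
    ⁅stabilizer G w, stabilizer G w⁆ ≤ D := by
  have a := H20.le_inertia (L := ⊤) (irr_cinv w.lin.irr) le_top
  have k : ∀ β ∈ Irr (H20.inertia ⊤ w.fn), D ≤ cker β → ∃ χ ∈ Irr ⊤, ¬ ⁅N, N⁆ ≤ cker χ ∧
      deg χ = (H20.inertia ⊤ w.fn).relIndex ⊤ * deg β := fun β b c => by
    obtain ⟨χ, d, e⟩ := exists_deg_of_ext normalIn_top w.lin.irr
      (ext_split (h.supH hD default) (h.infH hD default) w) b c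
    rw [w.lin.deg, mul_one] at e
    exact ⟨χ, (mem_ovr.1 d).1, nk (hD.ge.trans inf_le_left) (mem_ovr.1 d).1 w0 (mem_ovr.1 d).2, e⟩
  rw [Du.stab]
  obtain ⟨χ, b, c, d⟩ := k _ (triv_mem_Irr _) (by rwa [cker_triv])
  rw [deg_triv, mul_one] at d
  refine ⟨⟨χ, b, c, d⟩, (dg_one (normalIn_top.of_le a le_top)).1 fun β e f => ?_⟩
  obtain ⟨ξ, b', -, d'⟩ := k β e f
  have := h.nd χ b ξ b' (fun e => c ((der_mono le_top).trans ((der_le_cker b).2 e)))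
    (d ▸ d' ▸ dvd_mul_right _ _)
  rw [d, d'] at this
  exact ((Nat.mul_eq_left (H19.relIndex_ne_zero' _ _)).1 this.symm)

end Ca

end H24.ND
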