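import Cfsg.Agent.H24.ND2

/-! S4780: the case `N' ⊓ O_{p'}(N) ≠ 1` (draft by helper26). -/

set_option autoImplicit false
set_option linter.unusedSectionVars false
set_option linter.unusedVariables false

open Subgroup MulAction H19 H20 H6 Cfsg H3.PT H3.GR H3.ND
open scoped commutatorElement

namespace H24.ND

universe u
variable {G : Type u} [Group G] [Finite G] {p : ℕ} [hp : Fact p.Prime]
  {B D E K L N X : Subgroup G} {χ ψ φ ξ : G → ℂ} {g n x y : G}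

theorem n1 (hχ : χ ∈ Irr ⊤) (c : ¬ ⁅N, N⁆ ≤ cker χ) : deg χ ≠ 1 := fun e =>
  c ((der_mono le_top).trans ((der_le_cker hχ).2 e))

theorem Ca.inW [N.Normal] [K.Normal] (h : Ca N K p) (hD : ⁅N, N⁆ ⊓ Oc {p}ᶜ N = D) [D.Normal] {w : Du D}
    (w0 : w ≠ 0) (hM : ⁅N, N⁆ ≤ D) : stabilizer G w ⊓ N ≤ Wd N := fun n hn => by_contra fun e => by
  obtain ⟨P⟩ : Nonempty (Sylow p G) := inferInstance
  have hDN : D ≤ ⁅N, N⁆ := hD.ge.trans inf_le_left
  have b : D ⊔ N((P : Subgroup G)) ⊓ N = N := by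
    rw [← sup_inf_modl nr (hDN.trans (der_le N)), h.supH hD, top_inf_eq]
  obtain ⟨d, hd, y, hy, rfl⟩ := (mem_sup_of_norm nr).1 (b.ge hn.2)
  refine w0 (nofix (fpfE (comm_iff_der.2 (eq_bot_iff.2 ((le_inf ((der_mono inf_le_right).trans hM)
    ((der_le _).trans inf_le_left)).trans (h.infH hD P).le))) hy fun z hz => ?_)
      ((mul_mem_cancel_left (le_st w hd)).1 hn.1))
  rw [b]
  exact h.cj y hy.2 (fun e' => e (mul_mem (le_W (hDN hd)) e')) z (hDN hz)

theorem dd' (qt : QT.{u}) (cam : CAM.{u}) (st : ST.{u}) (dg : DG.{u}) (w0 : W0.{u}) (w1 : W1.{u})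
    (dn : DN.{u}) (da : DA.{u}) : DD.{u} := by
  intro G _ _ _ N K p hN hK hp h hD0
  have := Fact.mk hp
  obtain ⟨D, hD⟩ : ∃ D, ⁅N, N⁆ ⊓ Oc {p}ᶜ N = D := ⟨_, rfl⟩
  have nD : D.Normal := hD ▸ normal_inf_normal _ _
  rw [hD] at hD0
  have hDN : D ≤ ⁅N, N⁆ := hD.ge.trans inf_le_left
  have a := hDN.trans (der_le N)
  obtain ⟨z, z0⟩ := ntv hD0
  have : Nontrivial (Du D) := ⟨z, 0, z0⟩
  obtain ⟨X, ⟨hX, X0⟩, hm⟩ := exists_minimal_of_wellFoundedLT
    (fun X : AddSubgroup (Du D) => BS.Inv G (Du D) X ∧ X ≠ ⊥) ⟨⊤, fun _ _ _ => trivial, top_ne_bot⟩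
  let _ := BS.subAct X hX
  have := (X.nontrivial_iff_ne_bot).2 X0
  have hi : BS.Irr G X := fun L hL => or_iff_not_imp_left.2 fun e => eq_top_iff.2 fun x _ => by
    obtain ⟨y, a, b⟩ := hm (y := L.map X.subtype) ⟨by
      rintro g _ ⟨y, hy, rfl⟩
      exact ⟨g • y, hL g y hy, rfl⟩, fun e' => e ((AddSubgroup.map_eq_bot_iff_of_injective _
        X.subtype_injective).1 e')⟩ (AddSubgroup.map_subtype_le L) x.2
    rwa [← (Subtype.ext b : y = x)]
  let _ : DistribMulAction (G ⧸ D) X := quoAct D fun w g hg => Subtype.ext (le_st w.1 hg)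
  have hs : ∀ (g : G) (v : X), QuotientGroup.mk' D g • v = g • v := fun _ _ => rfl
  have sj := QuotientGroup.mk'_surjective D
  have hi0 : ∀ U : AddSubgroup X, (∀ g : G ⧸ D, ∀ v ∈ U, g • v ∈ U) → U = ⊥ ∨ U = ⊤ :=
    fun U hU => hi U fun g v hv => hs g v ▸ hU _ v hv
  have cs : ∀ v : X, (stabilizer (G ⧸ D) v).comap (QuotientGroup.mk' D) = stabilizer G v.1 :=
    fun v => Subgroup.ext fun g => by
      rw [mem_comap, mem_stabilizer_iff, mem_stabilizer_iff, hs, Subtype.ext_iff]; rfl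
  have c : ∀ {X : Subgroup G}, D ≤ X → X ⊔ (QuotientGroup.mk' D).ker = X := fun e => by
    rw [QuotientGroup.ker_mk', sup_eq_left.2 e]
  have f0 : (N.map (QuotientGroup.mk' D)).relIndex ⊤ = N.relIndex ⊤ := by
    rw [← map_top_q, relIndex_map_map, c a, top_sup_eq]
  have key : ∀ v : X, v ≠ 0 → Ab (stabilizer (G ⧸ D) v) ∧
      ¬ N.relIndex ⊤ ∣ (stabilizer (G ⧸ D) v).index ∧
      ∃ χ ∈ Irr (⊤ : Subgroup G), deg χ ≠ 1 ∧ deg χ = (stabilizer (G ⧸ D) v).index := fun v v0 => by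
    obtain ⟨⟨χ, b1, b2, b3⟩, b4⟩ := h.exw hD (w := v.1) fun e => v0 (Subtype.ext e)
    rw [relIndex_top_right, ← cs, index_comap_of_surjective _ sj] at b3
    refine ⟨comm_iff_der.2 ?_, fun e => ?_, χ, b1, n1 b1 b2, b3⟩
    · rw [← map_comap_eq_self_of_surjective sj (stabilizer (G ⧸ D) v), cs, ← Subgroup.map_commutator,
        Subgroup.map_eq_bot_iff, QuotientGroup.ker_mk']
      exact b4
    · obtain ⟨ξ, d1, -, d2⟩ := h.df
      have := h.nd ξ d1 χ b1 (fun e => h.ne (top_le_iff.1 (relIndex_eq_one.1 (d2 ▸ e))))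
        (by rw [d2, b3]; exact e)
      exact h.np (by rw [← d2, this]; exact h.pd χ b1 b2)
  have nN := hN.map _ sj
  have nK := hK.map _ sj
  have h0 := cam hp (qt h.toNd hDN)
  have hW : ∀ n ∈ Wd N, QuotientGroup.mk' D n ∈ Wd (N.map (QuotientGroup.mk' D)) := fun n hn =>
    mem_W.2 ⟨mem_map_of_mem _ (mem_W.1 hn).1, fun x => by
      obtain ⟨x, rfl⟩ := sj x
      rw [← Subgroup.map_commutator]
      simpa only [map_mul, map_inv] using mem_map_of_mem (QuotientGroup.mk' D) ((mem_W.1 hn).2 x)⟩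
  by_cases e : ⁅N.map (QuotientGroup.mk' D), N.map (QuotientGroup.mk' D)⁆ = ⊥
  · have hM : ⁅N, N⁆ ≤ D := by
      rwa [← Subgroup.map_commutator, Subgroup.map_eq_bot_iff, QuotientGroup.ker_mk'] at e
    have hZ : Wd (N.map (QuotientGroup.mk' D)) = center _ ⊓ N.map (QuotientGroup.mk' D) :=
      Subgroup.ext fun y => by
        rw [mem_W, e, mem_inf, and_comm, mem_center_iff]
        refine and_congr_left' (forall_congr' fun x => ?_)
        rw [mem_bot, mul_inv_eq_one, mul_inv_eq_iff_eq_mul]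
    rw [← f0, relIndex_top_right]
    refine da X (comm_iff_der.2 e) h0.cyc h0.ne (fun e' => h0.nle ?_) (fun x hx y hy e' => ?_) ?_ hi0
      ?_ fun v v0 => ⟨(key v v0).1, by rw [← relIndex_top_right, f0]; exact (key v v0).2.1,
        fun w w0 e' => ?_⟩
    · exact (le_inf e' le_rfl).trans (hZ.ge.trans h0.WK)
    · exact (hZ.le (h0.fw x hx y hy (hZ.ge ⟨e', mul_mem (nN.conj_mem y hy x) (Subgroup.inv_mem _ hy)⟩))).1
    · have := h0.cw
      rwa [hZ, inf_relIndex_right, relIndex_top_right] at this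
    · rintro _ ⟨n, hn, rfl⟩ h1 v h2
      by_contra v0
      exact h1 (hZ.le (hW n (h.inW hD (w := v.1) (fun e => v0 (Subtype.ext e)) hM
        ⟨congrArg Subtype.val h2, hn⟩))).1
    · obtain ⟨-, -, χ, b1, b2, b3⟩ := key v v0
      obtain ⟨-, -, ξ, d1, d2, d3⟩ := key w w0
      rw [← b3, ← d3] at e' ⊢
      exact h.nd χ b1 ξ d1 b2 e'
  have hp0 : PG p ⁅N.map (QuotientGroup.mk' D), N.map (QuotientGroup.mk' D)⁆ := by
    rw [← Subgroup.map_commutator]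
    change PiN _ _
    rw [← relIndex_ker, QuotientGroup.ker_mk', ← hD, inf_comm, inf_relIndex_right]
    exact h.idxM.dvd (relIndex_dvd_of_norm nr (Oc_le _ _) (der_le N))
  obtain ⟨P, H, pc, b1, b2, b3, b4⟩ := st hp h0 ((Oc_pi _ _).inf_eq_bot' hp0 ▸ inf_comm _ _) e
  have nP := pc.nP
  rw [← f0, ← b4]
  refine dn X pc ((em _).elim (w1 pc) (w0 pc)) (b2 ▸ e) (fun e' => ?_) hi0 (fun x hx h1 v h2 => ?_)
    fun v v0 => ⟨(key v v0).1, by rw [b4, f0]; exact (key v v0).2.1, fun ψ d1 d2 d3 => ?_⟩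
  · exact (((Oc_pi {p}ᶜ N).of_le (hD.ge.trans inf_le_right)) p hp
      (e'.trans ((AddSubgroup.card_addSubgroup_dvd_card X).trans Du.card_dvd))) rfl
  · obtain ⟨S⟩ : Nonempty (Sylow p G) := inferInstance
    have hS : P ≤ (S.mapSurjective sj : Subgroup (G ⧸ D)) :=
      (pG_iff.1 pc.pg).le_sylow_of_normal _
    obtain ⟨n, hn, rfl⟩ := hS hx
    by_contra v0
    refine v0 (Subtype.ext (nofix (h.fpfP hD (h.PN (spi S) hn) (fun e' => h1 ?_) ((spi S).elt hn))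
      (congrArg Subtype.val h2)))
    rw [b3]
    exact ⟨hx, hW n e'⟩
  · obtain ⟨-, -, χ, a1, a2, a3⟩ := key v v0
    obtain ⟨ξ, a4⟩ := exists_ovr le_top d1
    have a5 := dg hp pc.pg pc.np pc.ab pc.sup ψ d1 ξ (mem_ovr.1 a4).1 (mem_ovr.1 a4).2
    have k : deg (ξ ∘ QuotientGroup.mk' D) = deg ξ := deg_congr rfl
    rw [← a3, ← a5, ← k] at d3 ⊢
    refine h.nd _ (irr_q (mem_ovr.1 a4).1) χ a1 (fun e' => d2 ?_) d3
    rw [k, a5] at e'
    exact Nat.eq_one_of_mul_eq_one_left e'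

end H24.ND
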