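import Cfsg.Agent.H24.ND1
import Cfsg.Agent.H24.ND3
import Cfsg.Agent.H3.NE1
import Cfsg.Agent.H6.ND1
import Cfsg.Agent.H10.ND.B
import Cfsg.Agent.H15.ND1
import Cfsg.Agent.H18.ND1
import Cfsg.Agent.H19.ND1
import Cfsg.Agent.H19.ND2
import Cfsg.Agent.H21.ND1
import Cfsg.Agent.H23.ND1
import Cfsg.Agent.H25.ND1
import Cfsg.Agent.H28.ND1

/-! S4780: assembly. -/

namespace H24.ND

universe u

theorem asm (cam : CAM.{u}) (dg : DG.{u}) (da : DA.{u}) : FN.{u} :=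
  have w0 : W0.{u} := H23.ND.w0 H19.ND.ra H15.ND.cs H15.ND.fp
  have w1 : W1.{u} := H25.NW.w1 H19.ND.ra H15.ND.fp (H15.ND.ji H19.ND.ra) (H21.ND.lv H19.ND.ro) H18.ND.so
    (H28.ND.c4 H19.NM.ml)
  fn H3.NE.s0 cam (H6.ND.st dg) dg w0 w1 (dd' H3.NE.qt cam (H6.ND.st dg) dg w0 w1 H10.ND.dn da)

end H24.ND
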