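import Mathlib.FieldTheory.Finite.Basic
import Mathlib.Algebra.Polynomial.Module.AEval
import Mathlib.RingTheory.Polynomial.Pochhammer
import Mathlib.LinearAlgebra.Dual.Lemmas
import Mathlib.Data.Nat.Prime.Factorial

/-! A trace argument over free orbits of an elementary abelian group. -/

set_option autoImplicit false
set_option linter.unusedSectionVars false

namespace H24.NE
open Polynomial Module

theorem sum_free {A X M : Type*} [AddCommGroup A] [Fintype A] [AddCommMonoid M] (act : A → X → X)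
    (h0 : ∀ x, act 0 x = x) (ha : ∀ a b x, act (a + b) x = act a (act b x)) (Φ : X → M) (s : Finset X)
    (hs : ∀ x ∈ s, ∀ a, act a x ∈ s) (fr : ∀ x ∈ s, ∀ a, act a x = x → a = 0)
    (hΦ : ∀ x ∈ s, ∑ a, Φ (act a x) = 0) : ∑ x ∈ s, Φ x = 0 := by
  classical
  induction s using Finset.strongInduction with
  | H s ih =>
  rcases s.eq_empty_or_nonempty with rfl | ⟨x, hx⟩
  · simp
  let O := Finset.univ.image fun a => act a x
  have hO : O ⊆ s := fun y hy => by
    obtain ⟨a, -, rfl⟩ := Finset.mem_image.1 hy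
    exact hs x hx a
  have inj : Function.Injective fun a => act a x := fun a b e => by
    have : act (-b + a) x = x := by
      rw [ha, show act a x = act b x from e, ← ha, neg_add_cancel, h0]
    exact (neg_add_eq_zero.1 (fr x hx _ this)).symm
  have xO : x ∈ O := Finset.mem_image.2 ⟨0, Finset.mem_univ _, h0 x⟩
  rw [← Finset.sum_sdiff hO, ih (s \ O) (Finset.sdiff_ssubset hO ⟨x, xO⟩) ?_
    (fun y hy => fr y (Finset.mem_sdiff.1 hy).1) (fun y hy => hΦ y (Finset.mem_sdiff.1 hy).1),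
    Finset.sum_image inj.injOn, hΦ x hx, add_zero]
  intro y hy a
  obtain ⟨h1, h2⟩ := Finset.mem_sdiff.1 hy
  refine Finset.mem_sdiff.2 ⟨hs y h1 a, fun h => h2 ?_⟩
  obtain ⟨b, -, e⟩ := Finset.mem_image.1 h
  exact Finset.mem_image.2 ⟨-a + b, Finset.mem_univ _, by rw [ha, e, ← ha, neg_add_cancel, h0]⟩

variable {p : ℕ} [hp : Fact p.Prime] {ι : Type} [Fintype ι] [DecidableEq ι] {w : ι → ℕ}

/-- polynomial functions of weighted degree at most `n` -/
def Dg (p : ℕ) (w : ι → ℕ) (n : ℕ) : Submodule (ZMod p) ((ι → ZMod p) → ZMod p) :=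
  Submodule.span _ {f | ∃ e : ι → ℕ, ∑ i, w i * e i ≤ n ∧ f = fun x => ∏ i, x i ^ e i}

theorem Dg_mono {a b : ℕ} (h : a ≤ b) : Dg p w a ≤ Dg p w b :=
  Submodule.span_mono fun _ ⟨e, he, hf⟩ => ⟨e, he.trans h, hf⟩

theorem Dg_mul {a b : ℕ} {f g : (ι → ZMod p) → ZMod p} (hf : f ∈ Dg p w a) (hg : g ∈ Dg p w b) :
    f * g ∈ Dg p w (a + b) := by
  have := Submodule.mul_mem_mul hf hg
  rw [Dg, Dg, Submodule.span_mul_span] at this
  refine Submodule.span_mono ?_ this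
  rintro _ ⟨_, ⟨e, he, rfl⟩, _, ⟨e', he', rfl⟩, rfl⟩
  refine ⟨e + e', ?_, ?_⟩
  · simp only [Pi.add_apply, mul_add, Finset.sum_add_distrib]; omega
  · ext x; simp [pow_add, Finset.prod_mul_distrib]

theorem Dg_one : (1 : (ι → ZMod p) → ZMod p) ∈ Dg p w 0 :=
  Submodule.subset_span ⟨0, by simp, by ext; simp⟩

theorem Dg_prod {κ : Type*} (s : Finset κ) (n : κ → ℕ) (f : κ → (ι → ZMod p) → ZMod p)
    (h : ∀ k ∈ s, f k ∈ Dg p w (n k)) : ∏ k ∈ s, f k ∈ Dg p w (∑ k ∈ s, n k) := by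
  classical
  induction s using Finset.induction_on with
  | empty => simpa using Dg_one
  | insert a s ha ih =>
    rw [Finset.prod_insert ha, Finset.sum_insert ha]
    exact Dg_mul (h a (by simp)) (ih fun k hk => h k (by simp [hk]))

theorem Dg_neg {a : ℕ} {f : (ι → ZMod p) → ZMod p} (hf : f ∈ Dg p w a) :
    (fun x => f (-x)) ∈ Dg p w a := by
  induction hf using Submodule.span_induction with
  | mem f hf =>
    obtain ⟨e, he, rfl⟩ := hf
    have : (fun x : ι → ZMod p => ∏ i, (-x) i ^ e i) =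
        (∏ i, (-1 : ZMod p) ^ e i) • fun x : ι → ZMod p => ∏ i, x i ^ e i := by
      ext x; simp only [Pi.neg_apply, Pi.smul_apply, smul_eq_mul, ← Finset.prod_mul_distrib, ← mul_pow, neg_one_mul]
    rw [this]
    exact Submodule.smul_mem _ _ (Submodule.subset_span ⟨e, he, rfl⟩)
  | zero => exact zero_mem _
  | add f g _ _ h1 h2 => exact add_mem h1 h2
  | smul c f _ h => exact Submodule.smul_mem _ c h

theorem Dg_sum {a : ℕ} (ha : a < (p - 1) * ∑ i, w i) {f : (ι → ZMod p) → ZMod p} (hf : f ∈ Dg p w a) :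
    ∑ x, f x = 0 := by
  induction hf using Submodule.span_induction with
  | mem f hf =>
    obtain ⟨e, he, rfl⟩ := hf
    obtain ⟨i, hi⟩ : ∃ i, e i < p - 1 := by
      by_contra! h
      have : (p - 1) * ∑ i, w i ≤ ∑ i, w i * e i := by
        rw [Finset.mul_sum]
        exact Finset.sum_le_sum fun i _ => by rw [mul_comm]; exact Nat.mul_le_mul_left _ (h i)
      omega
    rw [← Fintype.piFinset_univ, ← Finset.prod_univ_sum (fun _ => Finset.univ) fun i x => x ^ e i]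
    exact Finset.prod_eq_zero (Finset.mem_univ i)
      (FiniteField.sum_pow_lt_card_sub_one _ _ (by rwa [ZMod.card]))
  | zero => simp
  | add f g _ _ h1 h2 => simp [Finset.sum_add_distrib, h1, h2]
  | smul c f _ h => simp [← Finset.mul_sum, h]

theorem Dg_choose (i : ι) {j : ℕ} (hj : j < p) :
    (fun x : ι → ZMod p => (((x i).val.choose j : ℕ) : ZMod p)) ∈ Dg p w (w i * j) := by
  have h1 : ∀ j, (fun x : ι → ZMod p => (descPochhammer (ZMod p) j).eval (x i)) ∈ Dg p w (w i * j) := by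
    intro j
    induction j with
    | zero => rw [mul_zero]; convert Dg_one (p := p) (w := w) using 1; ext x; simp
    | succ j ih =>
      have h2 : (fun x : ι → ZMod p => x i - j) ∈ Dg p w (w i) := by
        have h3 : (fun x : ι → ZMod p => x i) ∈ Dg p w (w i) :=
          Submodule.subset_span ⟨Pi.single i 1, by simp [Pi.single_apply], by
            ext x; simp [Pi.single_apply, pow_ite]⟩
        convert sub_mem h3 (Submodule.smul_mem _ (j : ZMod p) (Dg_mono (Nat.zero_le _) Dg_one)) using 1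
        ext x; simp
      rw [mul_add, mul_one]
      convert Dg_mul ih h2 using 1
      ext x; simp [descPochhammer_succ_eval]
  have h0 : ((j.factorial : ℕ) : ZMod p) ≠ 0 := by
    rw [Ne, ZMod.natCast_eq_zero_iff, Nat.Prime.dvd_factorial hp.out]; omega
  convert Submodule.smul_mem _ ((j.factorial : ℕ) : ZMod p)⁻¹ (h1 j) using 1
  ext x
  have := descPochhammer_eval_eq_descFactorial (ZMod p) (x i).val j
  rw [ZMod.natCast_zmod_val, Nat.descFactorial_eq_factorial_mul_choose] at this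
  simp only [Pi.smul_apply, smul_eq_mul, this]
  push_cast; field_simp

variable {V : Type*} [AddCommGroup V] [Module (ZMod p) V] {N : End (ZMod p) V}

/-- families of polynomials in `N` with coefficients of matching degree -/
def Eg (w : ι → ℕ) (N : End (ZMod p) V) : Submodule (ZMod p) ((ι → ZMod p) → End (ZMod p) V) :=
  Submodule.span _ {R | ∃ n c, ∃ q : (ZMod p)[X], c ∈ Dg p w n ∧ R = fun a => c a • (N ^ n * aeval N q)}

theorem cm_ae (q : (ZMod p)[X]) (n : ℕ) : aeval N q * N ^ n = N ^ n * aeval N q := by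
  rw [← aeval_X_pow (R := ZMod p), ← map_mul, ← map_mul, mul_comm]

theorem Eg_mul {R R' : (ι → ZMod p) → End (ZMod p) V} (h : R ∈ Eg w N) (h' : R' ∈ Eg w N) :
    R * R' ∈ Eg w N := by
  have := Submodule.mul_mem_mul h h'
  rw [Eg, Submodule.span_mul_span] at this
  refine Submodule.span_mono ?_ this
  rintro _ ⟨_, ⟨n, c, q, hc, rfl⟩, _, ⟨n', c', q', hc', rfl⟩, rfl⟩
  refine ⟨n + n', c * c', q * q', Dg_mul hc hc', ?_⟩
  ext1 a
  simp only [Pi.mul_apply, smul_mul_smul_comm, pow_add, map_mul, mul_assoc]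
  rw [← mul_assoc (aeval N q), cm_ae, mul_assoc]

theorem Eg_neg {R : (ι → ZMod p) → End (ZMod p) V} (h : R ∈ Eg w N) : (fun a => R (-a)) ∈ Eg w N := by
  induction h using Submodule.span_induction with
  | mem f hf =>
    obtain ⟨n, c, q, hc, rfl⟩ := hf
    exact Submodule.subset_span ⟨n, _, q, Dg_neg hc, rfl⟩
  | zero => exact zero_mem _
  | add f g _ _ h1 h2 => exact add_mem h1 h2
  | smul c f _ h => exact Submodule.smul_mem _ c h

theorem Eg_pow (i : ι) {x : End (ZMod p) V} (q : (ZMod p)[X]) (h : x - 1 = N ^ w i * aeval N q) :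
    (fun a : ι → ZMod p => x ^ (a i).val) ∈ Eg w N := by
  have : (fun a : ι → ZMod p => x ^ (a i).val) = ∑ j ∈ Finset.range p, fun a : ι → ZMod p =>
      (((a i).val.choose j : ℕ) : ZMod p) • (N ^ (w i * j) * aeval N (q ^ j)) := by
    ext1 a
    rw [Finset.sum_apply, eq_add_of_sub_eq h, (Commute.one_right _).add_pow]
    rw [← Finset.sum_subset (Finset.range_mono (Nat.succ_le_of_lt (a i).val_lt)) fun j _ hj => by
      rw [Nat.choose_eq_zero_of_lt (by simpa using hj)]; simp]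
    refine Finset.sum_congr rfl fun j _ => ?_
    rw [one_pow, mul_one, Commute.mul_pow (cm_ae q _).symm, ← pow_mul, map_pow, Nat.cast_smul_eq_nsmul,
      nsmul_eq_mul, Nat.cast_comm]
  rw [this]
  exact sum_mem fun j hj => Submodule.subset_span ⟨_, _, _, Dg_choose i (Finset.mem_range.1 hj), rfl⟩

theorem ae_mem {W : Submodule (ZMod p) V} (h : ∀ v ∈ W, N v ∈ W) (q : (ZMod p)[X]) {v : V} (hv : v ∈ W) :
    aeval N q v ∈ W := aeval_apply_smul_mem_of_le_comap hv q N h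

theorem pw_mem {W : Submodule (ZMod p) V} (h : ∀ v ∈ W, N v ∈ W) (n : ℕ) {v : V} (hv : v ∈ W) :
    (N ^ n) v ∈ W := by simpa using ae_mem h (X ^ n) hv

theorem deg {W W' : Submodule (ZMod p) V} (hW : ∀ v ∈ W, N v ∈ W) (hW' : ∀ v ∈ W', N v ∈ W')
    {R R' : (ι → ZMod p) → End (ZMod p) V} (h : R ∈ Eg w N) (h' : R' ∈ Eg w N) {B : End (ZMod p) V}
    (hB : ∀ v ∈ W, B v ∈ W) (hB' : ∀ v ∈ W', B v ∈ W') {i j : ℕ} {v : V} (hv : v ∈ W)
    (hj : (N ^ (j + 1)) v ∈ W') {f : Dual (ZMod p) V} (f0 : ∀ x ∈ W', f x = 0)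
    (hi : ∀ x ∈ W, f ((N ^ (i + 1)) x) = 0) : (fun a => f (R a (B (R' a v)))) ∈ Dg p w (i + j) := by
  induction h using Submodule.span_induction with
  | zero => convert zero_mem (Dg p w (i + j)) using 1; ext; simp
  | add f g _ _ h1 h2 => convert add_mem h1 h2 using 1; ext; simp
  | smul c f _ h => convert Submodule.smul_mem _ c h using 1; ext; simp
  | mem _ hf =>
  obtain ⟨n, c, q, hc, rfl⟩ := hf
  induction h' using Submodule.span_induction with
  | zero => convert zero_mem (Dg p w (i + j)) using 1; ext; simp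
  | add f g _ _ h1 h2 => convert add_mem h1 h2 using 1; ext; simp [mul_add]
  | smul c f _ h => convert Submodule.smul_mem _ c h using 1; ext; simp [mul_left_comm]
  | mem _ hf =>
  obtain ⟨n', c', q', hc', rfl⟩ := hf
  have e : (fun a => f ((c a • (N ^ n * aeval N q)) (B ((c' a • (N ^ n' * aeval N q')) v)))) =
      f ((N ^ n * aeval N q) (B ((N ^ n' * aeval N q') v))) • (c * c') := by
    ext a; simp; ring
  rw [e]
  by_cases h1 : i < n
  · obtain ⟨k, rfl⟩ := Nat.exists_eq_add_of_lt h1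
    rw [show i + k + 1 = i + 1 + k by omega, pow_add, mul_assoc, End.mul_apply, hi _ ?_, zero_smul]
    · exact zero_mem _
    · exact pw_mem hW _ (ae_mem hW _ (hB _ (pw_mem hW _ (ae_mem hW _ hv))))
  by_cases h2 : j < n'
  · obtain ⟨k, rfl⟩ := Nat.exists_eq_add_of_lt h2
    rw [f0 _ ?_, zero_smul]
    · exact zero_mem _
    · refine pw_mem hW' _ (ae_mem hW' _ (hB' _ ?_))
      rw [← cm_ae, show j + k + 1 = k + (j + 1) by omega, pow_add]
      exact ae_mem hW' _ (pw_mem hW' _ hj)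
  exact Submodule.smul_mem _ _ (Dg_mono (by omega) (Dg_mul hc hc'))

variable {L : Type*} [Group L] (ρ : L →* End (ZMod p) V)

theorem rho_inv (g : L) (v : V) : ρ g⁻¹ (ρ g v) = v := by
  rw [← End.mul_apply, ← map_mul, inv_mul_cancel, map_one, End.one_apply]

theorem rho_inv' (g : L) (v : V) : ρ g (ρ g⁻¹ v) = v := by simpa using rho_inv ρ g⁻¹ v

theorem conj_pw (g x : L) (r : ℕ) : (ρ (g * x * g⁻¹) - 1) ^ r = ρ g * (ρ x - 1) ^ r * ρ g⁻¹ := by
  have h : ρ g⁻¹ * ρ g = 1 := by rw [← map_mul, inv_mul_cancel, map_one]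
  have h' : ρ g * ρ g⁻¹ = 1 := by rw [← map_mul, mul_inv_cancel, map_one]
  induction r with
  | zero => simp [h']
  | succ r ih =>
    rw [pow_succ, ih, pow_succ, map_mul, map_mul]
    simp only [mul_sub, sub_mul, mul_assoc, mul_one]
    rw [← mul_assoc (ρ g⁻¹), h, one_mul]

theorem trace [Finite L] {s : L} {W W' : Submodule (ZMod p) V} (hW : ∀ g, ∀ v ∈ W, ρ g v ∈ W)
    (hW' : ∀ g, ∀ v ∈ W', ρ g v ∈ W') {u : ℕ} (hu : ∀ v ∈ W, ((ρ s - 1) ^ (u + 1)) v ∈ W') {v₀ : V}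
    (h₀ : v₀ ∈ W) (h₀' : ((ρ s - 1) ^ u) v₀ ∉ W')
    (irr : ∀ X : Submodule (ZMod p) V, (∀ g, ∀ v ∈ X, ρ g v ∈ X) → X ≤ W →
      (∀ v ∈ W, (ρ s - 1) v ∈ W' → v ∈ X) → W ≤ X)
    (φ : (ι → ZMod p) → L) (φ0 : φ 0 = 1) (φa : ∀ a b, φ (a + b) = φ a * φ b)
    (hφ : (fun a => ρ (φ a)) ∈ Eg w (ρ s - 1)) {y : L} (hy : ¬ p ∣ Nat.card {ω // IsConj y ω})
    (H1 : ∀ ω, IsConj y ω → (∀ a, Commute (φ a) ω) ∨ ∀ a, Commute (φ a) ω → a = 0)
    {m k r₀ : ℕ} (r : Fin k → ℕ) {κ : ZMod p} (hκ : κ ≠ 0)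
    (H2 : ∀ ω, IsConj y ω → (∀ a, Commute (φ a) ω) → ∃ c q,
      ρ ω - 1 = (ρ s - 1) ^ m * aeval (ρ s - 1) (C c + X * q) ∧ c ^ (r₀ + ∑ i, r i) = κ)
    (m1 : 1 ≤ m * r₀) (m2 : m * r₀ ≤ u) (m3 : ∀ i, m * r i ≤ u)
    (n1 : (2 * k + 1) * u < (p - 1) * ∑ i, w i)
    (n2 : m * (r₀ + ∑ i, r i) + (k + 1) * u < (p - 1) * ∑ i, w i) : False := by
  classical
  cases nonempty_fintype L
  set N := ρ s - 1 with hN
  have sb : ∀ {U : Submodule (ZMod p) V}, (∀ g, ∀ v ∈ U, ρ g v ∈ U) → ∀ g, ∀ v ∈ U, (ρ g - 1) v ∈ U :=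
    fun h g v hv => sub_mem (h g v hv) hv
  let Ω := Finset.univ.filter (IsConj y)
  let Fx := Ω.filter fun ω => ∀ a, Commute (φ a) ω
  have φn : ∀ a, φ (-a) = (φ a)⁻¹ := fun a => eq_inv_of_mul_eq_one_left (by rw [← φa, neg_add_cancel, φ0])
  have key : ∀ Φ : L → ZMod p, (∀ ω, ∑ a, Φ (φ a * ω * (φ a)⁻¹) = 0) → ∑ ω ∈ Ω, Φ ω = ∑ ω ∈ Fx, Φ ω := by
    intro Φ hΦ
    rw [← Finset.sum_filter_add_sum_filter_not Ω fun ω => ∀ a, Commute (φ a) ω, sum_free
      (fun a ω => φ a * ω * (φ a)⁻¹) (by simp [φ0]) (fun a b x => by rw [φa]; group) Φ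
      (Ω.filter fun ω => ¬ ∀ a, Commute (φ a) ω) ?_ ?_ fun ω _ => hΦ ω, add_zero]
    · simp only [Ω, Finset.mem_filter, Finset.mem_univ, true_and]
      refine fun ω ⟨h1, h2⟩ a => ⟨h1.trans (isConj_iff.2 ⟨_, rfl⟩), fun h => h2 fun b => ?_⟩
      have h3 := h b
      have h4 : Commute (φ a) (φ b) := by rw [Commute, SemiconjBy, ← φa, ← φa, add_comm]
      rw [← h4.mul_inv_cancel, Commute.conj_iff] at h3
      exact h3
    · simp only [Ω, Finset.mem_filter, Finset.mem_univ, true_and]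
      exact fun ω ⟨h1, h2⟩ a e => (H1 ω h1).resolve_left h2 a (mul_inv_eq_iff_eq_mul.1 e)
  let Φ : V → Dual (ZMod p) V → (Fin k → V) → (Fin k → Dual (ZMod p) V) → L → ZMod p :=
    fun v f vs fs ω => f (((ρ ω - 1) ^ r₀) v) * ∏ i, fs i (((ρ ω - 1) ^ r i) (vs i))
  have ev : ∀ v f vs fs (i j : ℕ) (is : Fin k → ℕ), v ∈ W → (N ^ (j + 1)) v ∈ W' → (∀ x ∈ W', f x = 0) →
      (∀ x ∈ W, f ((N ^ (i + 1)) x) = 0) → (∀ l, vs l ∈ W) → (∀ l, ∀ x ∈ W', fs l x = 0) →
      (∀ l, ∀ x ∈ W, fs l ((N ^ (is l + 1)) x) = 0) → i + j + ∑ l, (is l + u) < (p - 1) * ∑ i, w i →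
      ∑ ω ∈ Ω, Φ v f vs fs ω = ∑ ω ∈ Fx, Φ v f vs fs ω := by
    intro v f vs fs i j is a1 a2 a3 a4 a5 a6 a7 a8
    refine key _ fun ω => Dg_sum a8 ?_
    simp only [Φ, conj_pw, End.mul_apply]
    simp only [← φn]
    have := Dg_mul (deg (sb hW s) (sb hW' s) hφ (Eg_neg hφ) (fun _ => pw_mem (sb hW ω) r₀)
      (fun _ => pw_mem (sb hW' ω) r₀) a1 a2 a3 a4) (Dg_prod Finset.univ _ _ fun l _ =>
        deg (sb hW s) (sb hW' s) hφ (Eg_neg hφ) (fun _ => pw_mem (sb hW ω) (r l))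
          (fun _ => pw_mem (sb hW' ω) (r l)) (a5 l) (hu _ (a5 l)) (a6 l) (a7 l))
    convert this using 1
    ext a; simp
  have fx : ∀ ω ∈ Fx, ∃ c q, ρ ω - 1 = N ^ m * aeval N (C c + X * q) ∧ c ^ (r₀ + ∑ i, r i) = κ :=
    fun ω h => H2 ω (Finset.mem_filter.1 (Finset.mem_filter.1 h).1).2 (Finset.mem_filter.1 h).2
  let W₀ : Submodule (ZMod p) V :=
    { carrier := {v | v ∈ W ∧ ∀ f vs fs, (∀ x ∈ W', f x = 0) → (∀ l, vs l ∈ W) →
        (∀ l, ∀ x ∈ W', fs l x = 0) → ∑ ω ∈ Ω, Φ v f vs fs ω = 0}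
      zero_mem' := ⟨zero_mem _, by simp [Φ]⟩
      add_mem' := fun {a b} ha hb => ⟨add_mem ha.1 hb.1, fun f vs fs h1 h2 h3 => by
        have := ha.2 f vs fs h1 h2 h3
        have := hb.2 f vs fs h1 h2 h3
        simp only [Φ, map_add, add_mul, Finset.sum_add_distrib] at *
        simp [*]⟩
      smul_mem' := fun c a ha => ⟨W.smul_mem c ha.1, fun f vs fs h1 h2 h3 => by
        have := ha.2 f vs fs h1 h2 h3
        simp only [Φ, map_smul, smul_eq_mul, mul_assoc, ← Finset.mul_sum] at *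
        simp [*]⟩ }
  have all : W ≤ W₀ := irr W₀ (fun g v hv => ⟨hW g v hv.1, fun f vs fs h1 h2 h3 => ?_⟩) (fun _ h => h.1)
    fun v hv hv' => ⟨hv, fun f vs fs h1 h2 h3 => ?_⟩
  · obtain ⟨f₀, f1, f2⟩ := Submodule.exists_dual_map_eq_bot_of_notMem h₀' inferInstance
    have f3 : ∀ x ∈ W', f₀ x = 0 := fun x hx => (Submodule.mem_bot _).1 (f2 ▸ Submodule.mem_map_of_mem hx)
    let g : ℕ → Dual (ZMod p) V := fun n => f₀ ∘ₗ N ^ (u - m * n)
    have g1 : ∀ n, ∀ x ∈ W', g n x = 0 := fun n x hx => f3 _ (pw_mem (sb hW' s) _ hx)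
    have g2 : ∀ n, m * n ≤ u → ∀ x ∈ W, g n ((N ^ (m * n + 1)) x) = 0 := fun n hn x hx => by
      simp only [g, LinearMap.comp_apply]
      rw [← End.mul_apply, ← pow_add, show u - m * n + (m * n + 1) = u + 1 by omega]
      exact f3 _ (hu x hx)
    have g3 : ∀ n c q, m * n ≤ u → g n (((N ^ m * aeval N (C c + X * q)) ^ n) v₀) =
        c ^ n * f₀ ((N ^ u) v₀) := fun n c q hn => by
      obtain ⟨q', hq⟩ : ∃ q', (C c + X * q) ^ n = C (c ^ n) + X * q' := by
        obtain ⟨q', h⟩ := X_dvd_iff (f := (C c + X * q) ^ n - C (c ^ n)).2 (by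
          simp [coeff_zero_eq_eval_zero])
        exact ⟨q', by rw [← h]; ring⟩
      simp only [g, LinearMap.comp_apply]
      rw [Commute.mul_pow (cm_ae _ _).symm, ← map_pow, hq, ← pow_mul, ← End.mul_apply, ← mul_assoc,
        ← pow_add, show u - m * n + m * n = u by omega, map_add, map_mul, aeval_C, aeval_X, mul_add,
        ← mul_assoc, ← pow_succ, LinearMap.add_apply, map_add,
        End.mul_apply (N ^ (u + 1)), f3 _ (hu _ (ae_mem (sb hW s) _ h₀)), End.mul_apply,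
        Module.algebraMap_end_apply, map_smul, map_smul, add_zero, smul_eq_mul]
    have e1 := (all h₀).2 (g r₀) (fun _ => v₀) (fun l => g (r l)) (g1 _) (fun _ => h₀) fun l => g1 _
    rw [ev _ _ _ _ (m * r₀) u (fun l => m * r l) h₀ (hu _ h₀) (g1 _) (g2 _ m2) (fun _ => h₀)
      (fun l => g1 _) (fun l => g2 _ (m3 l)) (by
        simp only [Finset.sum_add_distrib, ← Finset.mul_sum, Finset.sum_const, Finset.card_univ,
          Fintype.card_fin, smul_eq_mul]
        refine lt_of_eq_of_lt ?_ n2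
        ring), Finset.sum_congr rfl (g := fun _ => κ * f₀ ((N ^ u) v₀) ^ (k + 1)) fun ω h => ?_,
      Finset.sum_const, nsmul_eq_mul, mul_eq_zero, ZMod.natCast_eq_zero_iff] at e1
    · refine e1.elim (fun h => hy ?_) (mul_ne_zero hκ (pow_ne_zero _ f1))
      have := key (fun _ => 1) fun _ => by
        have : 0 < (p - 1) * ∑ i, w i := by omega
        exact Dg_sum this Dg_one
      simp only [Finset.sum_const, nsmul_eq_mul, mul_one] at this
      rw [Nat.card_eq_fintype_card, Fintype.card_subtype, ← ZMod.natCast_eq_zero_iff, this,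
        ZMod.natCast_eq_zero_iff]
      exact h
    · obtain ⟨c, q, e, hc⟩ := fx ω h
      simp only [Φ, e, g3 _ _ _ m2, fun l => g3 _ c q (m3 l), Finset.prod_mul_distrib,
        Finset.prod_pow_eq_pow_sum, Finset.prod_const, Finset.card_univ, Fintype.card_fin, ← hc]
      ring
  · rw [← hv.2 (f ∘ₗ ρ g) (fun l => ρ g⁻¹ (vs l)) (fun l => fs l ∘ₗ ρ g) (fun x hx => h1 _ (hW' g x hx))
      (fun l => hW _ _ (h2 l)) fun l x hx => h3 l _ (hW' g x hx)]
    symm
    refine Finset.sum_bijective (fun ω => g * ω * g⁻¹) (MulAut.conj g).bijective (fun ω => ?_) fun ω _ => ?_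
    · simp only [Ω, Finset.mem_filter, Finset.mem_univ, true_and]
      exact ⟨fun h => h.trans (isConj_iff.2 ⟨_, rfl⟩), fun h => h.trans (isConj_iff.2 ⟨_, rfl⟩).symm⟩
    · simp only [Φ, conj_pw, End.mul_apply, LinearMap.comp_apply, rho_inv]
  · rw [ev v f vs fs u 0 (fun _ => u) hv (by simpa using hv') h1 (fun x hx => h1 _ (hu x hx)) h2 h3
      (fun l x hx => h3 l _ (hu x hx)) (by
        simp only [Finset.sum_const, Finset.card_univ, Fintype.card_fin, smul_eq_mul]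
        refine lt_of_eq_of_lt ?_ n1
        ring)]
    refine Finset.sum_eq_zero fun ω h => ?_
    obtain ⟨c, q, e, -⟩ := fx ω h
    obtain ⟨l, hl⟩ := Nat.exists_eq_add_of_le' m1
    simp only [Φ]
    rw [e, Commute.mul_pow (cm_ae _ _).symm, ← map_pow, ← pow_mul, ← cm_ae, hl, pow_succ,
      h1 _ ?_, zero_mul]
    exact ae_mem (sb hW' s) _ (pw_mem (sb hW' s) _ hv')

end H24.NE
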