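import Cfsg.Agent.H24.NE1
import Mathlib.NumberTheory.Multiplicity

/-! Cyclic modules for a nilpotent operator. -/

set_option autoImplicit false
set_option linter.unusedSectionVars false

namespace H24.NE
open Polynomial Module

variable {p : ℕ} [hp : Fact p.Prime] {V : Type*} [AddCommGroup V] [Module (ZMod p) V]
variable {N A : End (ZMod p) V} {d m i j : ℕ} {v₀ v : V} {c c' : ZMod p} {q q' : (ZMod p)[X]}

/-- the kernel of the `j`-th power -/
abbrev VV (N : End (ZMod p) V) (j : ℕ) : Submodule (ZMod p) V := LinearMap.ker (N ^ j)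

/-- `c + N q(N)` -/
noncomputable abbrev Un (N : End (ZMod p) V) (c : ZMod p) (q : (ZMod p)[X]) : End (ZMod p) V :=
  aeval N (C c + X * q)

theorem frob (x : End (ZMod p) V) (k : ℕ) : (x - 1) ^ p ^ k = x ^ p ^ k - 1 := by
  have := congrArg (aeval x) (sub_pow_char_pow (X : (ZMod p)[X]) 1 (p := p) k)
  simpa using this

theorem pow_eq_one_of_nil {x : End (ZMod p) V} (h : (x - 1) ^ d = 0) {k : ℕ} (hd : d ≤ p ^ k) :
    x ^ p ^ k = 1 := by
  rw [← sub_eq_zero, ← frob, pow_eq_zero_of_le hd h]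

theorem VV_mono (h : i ≤ j) : VV N i ≤ VV N j := fun v hv => by
  obtain ⟨k, rfl⟩ := Nat.exists_eq_add_of_le' h
  rw [LinearMap.mem_ker, pow_add, End.mul_apply, LinearMap.mem_ker.1 hv, map_zero]

theorem pow_mem_VV : (N ^ i) v ∈ VV N j ↔ v ∈ VV N (j + i) := by
  rw [LinearMap.mem_ker, LinearMap.mem_ker, pow_add, End.mul_apply]

theorem N_mem_VV : N v ∈ VV N j ↔ v ∈ VV N (j + 1) := by rw [← pow_mem_VV, pow_one]

theorem N_VV (hv : v ∈ VV N j) : N v ∈ VV N j := N_mem_VV.2 (VV_mono j.le_succ hv)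

theorem ae_VV (hv : v ∈ VV N j) : aeval N q v ∈ VV N j := ae_mem (fun _ => N_VV) q hv

theorem ae_conj {P Q : End (ZMod p) V} (h : Q * P = 1) (h' : P * Q = 1) (f : (ZMod p)[X]) :
    aeval (P * N * Q) f = P * aeval N f * Q := by
  induction f using Polynomial.induction_on with
  | C a => simp [Algebra.algebraMap_eq_smul_one, h']
  | add f g h1 h2 => simp [h1, h2, mul_add, add_mul]
  | monomial n a ih =>
    rw [pow_succ, ← mul_assoc, map_mul, ih, map_mul _ _ X, aeval_X, aeval_X]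
    simp only [mul_assoc]
    rw [← mul_assoc Q, h, one_mul]

theorem un_pow (c : ZMod p) (q : (ZMod p)[X]) (n : ℕ) : ∃ q', (C c + X * q) ^ n = C (c ^ n) + X * q' := by
  obtain ⟨q', h⟩ := X_dvd_iff (f := (C c + X * q) ^ n - C (c ^ n)).2 (by simp [coeff_zero_eq_eval_zero])
  exact ⟨q', by rw [← h]; ring⟩

theorem ex_un (f : (ZMod p)[X]) : ∃ q, f = C (f.coeff 0) + X * q :=
  ⟨f.divX, by rw [add_comm, X_mul_divX_add]⟩

theorem Un_apply : Un N c q v = c • v + N (aeval N q v) := by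
  simp [Un, Module.algebraMap_end_apply]

/-- a nilpotent operator with a cyclic vector -/
structure Cy (N : End (ZMod p) V) (d : ℕ) (v₀ : V) : Prop where
  nil : N ^ (d + 1) = 0
  ne : (N ^ d) v₀ ≠ 0
  cyc : ∀ v, ∃ f : (ZMod p)[X], v = aeval N f v₀

namespace Cy
variable (y : Cy N d v₀)
include y

theorem top (h : d < j) : v ∈ VV N j := by
  rw [LinearMap.mem_ker, pow_eq_zero_of_le h y.nil, LinearMap.zero_apply]

theorem v0 (h : v₀ ∈ VV N j) : d < j := not_le.1 fun h' => y.ne (VV_mono h' h)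

theorem comm (h : Commute A N) : ∃ f : (ZMod p)[X], A = aeval N f := by
  obtain ⟨f, hf⟩ := y.cyc (A v₀)
  refine ⟨f, LinearMap.ext fun v => ?_⟩
  obtain ⟨g, rfl⟩ := y.cyc v
  have : Commute A (aeval N g) := by
    rw [aeval_def, eval₂_eq_sum]
    exact Commute.sum_right _ _ _ fun i _ => (Algebra.commute_algebraMap_right _ _).mul_right (h.pow_right _)
  rw [← End.mul_apply, this.eq, End.mul_apply, hf, ← End.mul_apply, ← End.mul_apply, ← map_mul, ← map_mul,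
    mul_comm]

theorem inv (hc : c ≠ 0) : ∃ f : (ZMod p)[X], aeval N f * Un N c q = 1 ∧ Un N c q * aeval N f = 1 := by
  have h : IsCoprime (X : (ZMod p)[X]) (C c + X * q) :=
    IsCoprime.add_mul_left_right ⟨0, C c⁻¹, by rw [zero_mul, zero_add, ← C_mul, inv_mul_cancel₀ hc, C_1]⟩ q
  obtain ⟨a, b, e⟩ := h.pow_left (m := d + 1)
  have := congrArg (aeval N) e
  rw [map_add, map_mul, map_pow, aeval_X, y.nil, mul_zero, zero_add, map_one] at this
  exact ⟨b, by rwa [← map_mul], by rwa [← map_mul, mul_comm]⟩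

theorem un_VV (hc : c ≠ 0) : Un N c q v ∈ VV N j ↔ v ∈ VV N j := by
  obtain ⟨f, h, -⟩ := y.inv (q := q) hc
  exact ⟨fun hv => by have := ae_VV (q := f) hv; rwa [← End.mul_apply, h] at this, ae_VV⟩

theorem nu_VV (hc : c ≠ 0) : (N ^ m * Un N c q) v ∈ VV N j ↔ v ∈ VV N (j + m) := by
  rw [End.mul_apply, pow_mem_VV, y.un_VV hc]

theorem dec (f : (ZMod p)[X]) (h : aeval N f ≠ 0) :
    ∃ m ≤ d, ∃ c q, c ≠ 0 ∧ aeval N f = N ^ m * Un N c q := by
  have h0 : f ≠ 0 := by rintro rfl; simp at h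
  obtain ⟨g, e, hg⟩ := exists_eq_pow_rootMultiplicity_mul_and_not_dvd f h0 0
  simp only [map_zero, sub_zero, X_dvd_iff] at e hg
  obtain ⟨q, hq⟩ := ex_un g
  have e' : aeval N f = N ^ rootMultiplicity 0 f * Un N (g.coeff 0) q := by
    rw [Un, ← hq]; nth_rewrite 1 [e]; simp
  exact ⟨_, not_lt.1 fun h' => h (by rw [e', pow_eq_zero_of_le h' y.nil, zero_mul]), _, q, hg, e'⟩

theorem uniq (hm : m ≤ d) (h : N ^ m * Un N c q = N ^ m * Un N c' q') : c = c' := by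
  have k : ∀ c q, (N ^ (d - m)) ((N ^ m * Un N c q) v₀) = c • (N ^ d) v₀ := fun c q => by
    rw [← End.mul_apply, ← mul_assoc, ← pow_add, show d - m + m = d by omega, End.mul_apply, Un_apply,
      map_add, map_smul, ← End.mul_apply, ← pow_succ, y.nil, LinearMap.zero_apply, add_zero]
  have := k c q
  rw [h, k] at this
  exact (smul_left_injective _ y.ne this).symm

theorem mem_VV (hj : j ≤ d + 1) (hv : v ∈ VV N j) : ∃ u, v = (N ^ (d + 1 - j)) u := by
  obtain ⟨f, rfl⟩ := y.cyc v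
  by_cases h : aeval N f = 0
  · exact ⟨0, by simp [h]⟩
  obtain ⟨m, -, c, q, hc, e⟩ := y.dec f h
  rw [e] at hv ⊢
  obtain ⟨k, hk⟩ := Nat.exists_eq_add_of_le (show d + 1 - j ≤ m by have := y.v0 ((y.nu_VV hc).1 hv); omega)
  exact ⟨_, by rw [hk, pow_add, mul_assoc, End.mul_apply]⟩

theorem pow_VV (h : d < i + j) : (N ^ i) v ∈ VV N j := pow_mem_VV.2 (y.top (by omega))

theorem line (hj : j ≤ d) (hv : v ∈ VV N (j + 1)) : ∃ c : ZMod p, v - c • (N ^ (d - j)) v₀ ∈ VV N j := by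
  obtain ⟨u, rfl⟩ := y.mem_VV (by omega) hv
  obtain ⟨f, rfl⟩ := y.cyc u
  obtain ⟨g, hg⟩ := ex_un f
  refine ⟨f.coeff 0, ?_⟩
  nth_rewrite 1 [hg]
  rw [Un_apply, map_add, map_smul, Nat.add_sub_add_right, add_sub_cancel_left, pow_mem_VV, N_mem_VV]
  exact y.top (by omega)

theorem e_not (hj : j ≤ d) (h : c • (N ^ (d - j)) v₀ ∈ VV N j) : c = 0 := by_contra fun hc => by
  have := y.v0 (pow_mem_VV.1 ((Submodule.smul_mem_iff _ hc).1 h)); omega

theorem unip (hj : j ≤ d) {n : ℕ} (hA : A ^ n = 0) (h1 : ∀ v ∈ VV N j, A v ∈ VV N j)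
    (h2 : ∀ v ∈ VV N (j + 1), A v ∈ VV N (j + 1)) (hv : v ∈ VV N (j + 1)) : A v ∈ VV N j := by
  have he : (N ^ (d - j)) v₀ ∈ VV N (j + 1) := y.pow_VV (by omega)
  obtain ⟨c, hc⟩ := y.line hj (h2 _ he)
  have k : ∀ n, (A ^ n) ((N ^ (d - j)) v₀) - c ^ n • (N ^ (d - j)) v₀ ∈ VV N j := fun n => by
    induction n with
    | zero => simp
    | succ n ih =>
      convert add_mem (h1 _ ih) (Submodule.smul_mem _ (c ^ n) hc) using 1
      rw [pow_succ', End.mul_apply, map_sub, map_smul, smul_sub, smul_smul, pow_succ]; abel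
  have := k n
  rw [hA, LinearMap.zero_apply, zero_sub, neg_mem_iff] at this
  obtain ⟨c', hc'⟩ := y.line hj hv
  rw [eq_zero_of_pow_eq_zero (y.e_not hj this), zero_smul, sub_zero] at hc
  simpa using add_mem (h1 _ hc') (Submodule.smul_mem _ c' hc)

theorem inv_eq {U : Submodule (ZMod p) V} (hU : ∀ v ∈ U, N v ∈ U) : ∃ i ≤ d + 1, U = VV N i := by
  classical
  have ex : ∃ i, U ≤ VV N i := ⟨d + 1, fun _ _ => y.top d.lt_succ_self⟩
  have h1 : Nat.find ex ≤ d + 1 := Nat.find_min' ex fun _ _ => y.top d.lt_succ_self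
  refine ⟨_, h1, le_antisymm (Nat.find_spec ex) fun v hv => ?_⟩
  rcases h : Nat.find ex with _ | i
  · rw [h, LinearMap.mem_ker, pow_zero, End.one_apply] at hv
    exact hv ▸ zero_mem _
  obtain ⟨x, hx, hx'⟩ := SetLike.not_le_iff_exists.1 (Nat.find_min ex (m := i) (by omega))
  have hx'' := Nat.find_spec ex hx
  obtain ⟨f, rfl⟩ := y.cyc x
  obtain ⟨m, -, c, q, hc, e⟩ := y.dec f fun h => hx' (by simp [h])
  obtain ⟨u, rfl⟩ := y.mem_VV h1 hv
  obtain ⟨g, rfl⟩ := y.cyc u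
  obtain ⟨g', k, -⟩ := y.inv (q := q) hc
  rw [e, y.nu_VV hc] at hx' hx''
  have h2 := y.v0 hx''
  have h3 : i + m ≤ d := not_lt.1 fun h => hx' (y.top h)
  have := ae_mem hU (g * g') hx
  rwa [e, ← cm_ae, ← End.mul_apply, map_mul, mul_assoc, ← mul_assoc _ _ (N ^ m), k, one_mul, cm_ae,
    show m = d + 1 - Nat.find ex by omega] at this

theorem adj (hc : c ≠ 0) (f : (ZMod p)[X]) : ∃ f' : (ZMod p)[X], aeval N f = aeval (N * Un N c q) f' := by
  suffices h : ∀ k j, j + k = d + 1 → ∀ f : (ZMod p)[X], ∃ f' : (ZMod p)[X],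
      N ^ j * aeval N f = aeval (N * Un N c q) f' by simpa using h (d + 1) 0 (by omega) f
  intro k
  induction k with
  | zero => exact fun j h f => ⟨0, by rw [show j = d + 1 by omega, y.nil]; simp⟩
  | succ k ih =>
  intro j h f
  obtain ⟨g, hg⟩ := ex_un f
  obtain ⟨g', hg'⟩ := un_pow c q j
  obtain ⟨f', e⟩ := ih (j + 1) (by omega) (g - C (f.coeff 0 / c ^ j) * g')
  refine ⟨C (f.coeff 0 / c ^ j) * X ^ j + f', ?_⟩
  have e1 : N * Un N c q = aeval N (X * (C c + X * q)) := by simp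
  have e2 : ∀ n, N ^ n = aeval N ((X : (ZMod p)[X]) ^ n) := fun n => by simp
  rw [map_add, ← e, map_mul, map_pow, aeval_X, aeval_C, ← aeval_C N, e1, e2 j, e2 (j + 1), ← map_pow,
    ← map_mul, ← map_mul, ← map_mul, ← map_add, mul_pow, hg']
  congr 1
  have : C (f.coeff 0 / c ^ j) * C (c ^ j) = C (f.coeff 0) := by
    rw [← C_mul, div_mul_cancel₀ _ (pow_ne_zero _ hc)]
  linear_combination X ^ j * hg - X ^ j * this

theorem comm' (hc : c ≠ 0) (h : Commute A (N * Un N c q)) : ∃ f : (ZMod p)[X], A = aeval N f := by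
  obtain ⟨f, e⟩ := y.adj (q := q) hc X
  refine y.comm ?_
  rw [aeval_X] at e
  rw [e, aeval_def, eval₂_eq_sum]
  exact Commute.sum_right _ _ _ fun i _ => (Algebra.commute_algebraMap_right _ _).mul_right (h.pow_right _)

end Cy

section gap
variable {L : Type*} [Group L] (ρ : L →* End (ZMod p) V) (N)

/-- the `j`-th kernel is invariant -/
def JJ (j : ℕ) : Prop := ∀ g, ∀ v ∈ VV N j, ρ g v ∈ VV N j

/-- a composition factor of dimension `u + 1` -/
def Gap (a u : ℕ) : Prop := JJ N ρ a ∧ JJ N ρ (a + u + 1) ∧ ∀ i, a < i → i < a + u + 1 → ¬ JJ N ρ i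

/-- the elements acting trivially on all composition factors -/
def QQ : Subgroup L where
  carrier := {x | ∀ a u, Gap N ρ a u → ∀ v ∈ VV N (a + u + 1), ρ x v - v ∈ VV N a}
  one_mem' := by simp
  mul_mem' := fun {x y} hx hy a u h v hv => by
    have := add_mem (hx a u h _ (h.2.1 y v hv)) (hy a u h v hv)
    simpa using this
  inv_mem' := fun {x} hx a u h v hv => by
    have := neg_mem (hx a u h _ (h.2.1 x⁻¹ v hv))
    simpa [rho_inv'] using this

instance QQ_normal : (QQ N ρ).Normal := ⟨fun x hx g a u h v hv => by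
  have := h.1 g _ (hx a u h _ (h.2.1 g⁻¹ v hv))
  simpa [rho_inv'] using this⟩

variable {ρ N}

theorem Cy.JJ_top (y : Cy N d v₀) (h : d < j) : JJ N ρ j := fun _ _ _ => y.top h

theorem Cy.ex_gap (y : Cy N d v₀) {a : ℕ} (h : JJ N ρ a) : ∃ u, Gap N ρ a u := by
  classical
  have ex : ∃ u, JJ N ρ (a + u + 1) := ⟨d, y.JJ_top (by omega)⟩
  exact ⟨_, h, Nat.find_spec ex, fun i h1 h2 h3 => Nat.find_min ex (m := i - a - 1) (by omega)
    (by rwa [show a + (i - a - 1) + 1 = i by omega])⟩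

theorem Cy.QQ_pow (y : Cy N d v₀) (hd : d < p) {x : L} (hx : x ∈ QQ N ρ) : ρ (x ^ p) = 1 := by
  have : ∀ n, ∃ a, n ≤ a ∧ JJ N ρ a ∧ ∀ v ∈ VV N a, ((ρ x - 1) ^ n) v = 0 := by
    intro n
    induction n with
    | zero => exact ⟨0, le_rfl, fun g v hv => by simp_all, by simp⟩
    | succ n ih =>
      obtain ⟨a, h1, h2, h3⟩ := ih
      obtain ⟨u, hu⟩ := y.ex_gap h2
      exact ⟨_, by omega, hu.2.1, fun v hv => by rw [pow_succ]; exact h3 _ (hx a u hu v hv)⟩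
  obtain ⟨a, h1, -, h3⟩ := this (d + 1)
  simpa using pow_eq_one_of_nil (d := d + 1) (k := 1) (LinearMap.ext fun v => h3 v (y.top h1)) (by simpa)

theorem mem_QQ {x : L} (h : ∀ a u, Gap N ρ a u → d < a ∨ u < m) (y : Cy N d v₀)
    (hx : ρ x - 1 = N ^ m * aeval N q) : x ∈ QQ N ρ := fun a u hu v hv => by
  rcases h a u hu with h | h
  · exact y.top h
  show (ρ x - 1) v ∈ _
  rw [hx]
  exact pow_mem_VV.2 (ae_VV (VV_mono (by omega) hv))

theorem Cy.gap_le (y : Cy N d v₀) {a u : ℕ} (h : Gap N ρ a u) (ha : a ≤ d) : a + u ≤ d :=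
  not_lt.1 fun h' => h.2.2 (d + 1) (by omega) (by omega) (y.JJ_top (by omega))

variable {ι : Type} [Fintype ι] [DecidableEq ι] {w : ι → ℕ}

theorem Cy.trace [Finite L] {s : L} (y : Cy (ρ s - 1) d v₀) {a u : ℕ} (h : Gap (ρ s - 1) ρ a u)
    (ha : a ≤ d) (φ : (ι → ZMod p) → L) (φ0 : φ 0 = 1) (φa : ∀ a b, φ (a + b) = φ a * φ b)
    (hφ : (fun a => ρ (φ a)) ∈ Eg w (ρ s - 1)) {z : L} (hy : ¬ p ∣ Nat.card {ω // IsConj z ω})
    (H1 : ∀ ω, IsConj z ω → (∀ a, Commute (φ a) ω) ∨ ∀ a, Commute (φ a) ω → a = 0)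
    {m k r₀ : ℕ} (r : Fin k → ℕ) {κ : ZMod p} (hκ : κ ≠ 0)
    (H2 : ∀ ω, IsConj z ω → (∀ a, Commute (φ a) ω) → ∃ c q,
      ρ ω - 1 = (ρ s - 1) ^ m * aeval (ρ s - 1) (C c + X * q) ∧ c ^ (r₀ + ∑ i, r i) = κ)
    (m1 : 1 ≤ m * r₀) (m2 : m * r₀ ≤ u) (m3 : ∀ i, m * r i ≤ u)
    (n1 : (2 * k + 1) * u < (p - 1) * ∑ i, w i)
    (n2 : m * (r₀ + ∑ i, r i) + (k + 1) * u < (p - 1) * ∑ i, w i) : False := by
  have l := y.gap_le h ha
  refine H24.NE.trace ρ h.2.1 h.1 (u := u) (fun v hv => pow_mem_VV.2 hv)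
    (v₀ := ((ρ s - 1) ^ (d - (a + u))) v₀) (y.pow_VV (by omega)) (fun h' => ?_) (fun U h1 h2 h3 => ?_)
    φ φ0 φa hφ hy H1 r hκ H2 m1 m2 m3 n1 n2
  · have := y.v0 (pow_mem_VV.1 (pow_mem_VV.1 h')); omega
  · obtain ⟨i, hi, rfl⟩ := y.inv_eq (U := U) fun v hv => sub_mem (h1 s v hv) hv
    refine VV_mono (not_lt.1 fun h4 => h.2.2 i (not_le.1 fun h5 => ?_) h4 h1)
    have := y.v0 (pow_mem_VV.1 (h3 _ (y.pow_VV (i := d - a) (by omega)) (N_mem_VV.2 (y.pow_VV (by omega)))))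
    omega

end gap
end H24.NE
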