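import Cfsg.Agent.H24.NE2
import Cfsg.Agent.H25.Syl
import Cfsg.Agent.H10.Count

/-! Linear groups of small degree with a Sylow subgroup of order `p ^ 2` containing a regular element. -/

set_option autoImplicit false
set_option linter.unusedSectionVars false

namespace H24.NE
open Polynomial Module Subgroup H25

variable {p : ℕ} [hp : Fact p.Prime] {V : Type*} [AddCommGroup V] [Module (ZMod p) V]
variable {G : Type*} [Group G] [Finite G] {ρ : G →* End (ZMod p) V} {T : Subgroup G}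
variable {s t x z g ω : G} {d m : ℕ} {v₀ : V} {c c₀ : ZMod p} {q q₀ : (ZMod p)[X]}

theorem zp_add (h : x ^ p = 1) (a b : ZMod p) : x ^ (a + b).val = x ^ a.val * x ^ b.val := by
  rw [← pow_add, ZMod.val_add, ← pow_eq_pow_mod _ h]

theorem pow_eq_one_of_cast (h : x ^ p = 1) {a : ℕ} (ha : (a : ZMod p) = 0) : x ^ a = 1 := by
  obtain ⟨k, rfl⟩ := (ZMod.natCast_eq_zero_iff _ _).1 ha
  rw [pow_mul, h, one_pow]

theorem mem_zp_pow (h : x ^ p = 1) {a : ℕ} (ha : (a : ZMod p) ≠ 0) : x ∈ zpowers (x ^ a) :=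
  mem_zpowers_pow_iff.2 (((Nat.Prime.coprime_iff_not_dvd hp.out).2
    (mt (ZMod.natCast_eq_zero_iff _ _).2 ha)).symm.coprime_dvd_right (orderOf_dvd_of_pow_eq_one h))

theorem pg_zp (h : x ^ p = 1) : IsPGroup p (zpowers x) := by
  rintro ⟨_, k, rfl⟩
  refine ⟨1, Subtype.ext ?_⟩
  show (x ^ k) ^ p ^ 1 = (1 : G)
  rw [pow_one, ← zpow_natCast, ← zpow_mul, mul_comm k, zpow_mul, zpow_natCast, h, one_zpow]

theorem class_card {U : Subgroup G} (hU : Syl p U ⊤) (h : ∀ u ∈ U, Commute u x) :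
    ¬ p ∣ Nat.card {ω // IsConj x ω} := by
  rw [H10.card_isConj_eq_index, ← relIndex_top_right]
  exact (hU.mono_left (fun u hu => mem_centralizer_singleton_iff.2 (h u hu)) le_top).2

theorem mem_syl {P : Subgroup G} (h1 : IsPGroup p T) (h2 : Syl p T ⊤) (hP : IsPGroup p P) (h : T ≤ nz P) :
    P ≤ T := le_sup_right.trans (h2.eq_of_le (h1.to_sup_of_normal_right' hP h) le_sup_left le_top).le

theorem conj_conj (h : IsConj x ω) (n : ℕ) (e : (ρ x - 1) ^ n = 0) : (ρ ω - 1) ^ n = 0 := by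
  obtain ⟨g, rfl⟩ := isConj_iff.1 h
  rw [conj_pw, e, mul_zero, zero_mul]

theorem nu_eq (N : End (ZMod p) V) (m : ℕ) (c : ZMod p) (q : (ZMod p)[X]) :
    N ^ m * Un N c q = aeval N (X ^ m * (C c + X * q)) := by rw [map_mul, aeval_X_pow]

theorem eq_ae {N y : End (ZMod p) V} (h : y - 1 = N ^ m * Un N c q) :
    y = aeval N (1 + X ^ m * (C c + X * q)) := by rw [map_add, map_one, ← nu_eq, ← h]; abel

theorem form_pow {N y : End (ZMod p) V} (h : y - 1 = N ^ (m + 1) * Un N c q) (b : ℕ) :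
    ∃ q', y ^ b - 1 = N ^ (m + 1) * Un N (b * c) q' := by
  obtain ⟨k, hk⟩ := sq_dvd_add_pow_sub_sub (X ^ (m + 1) * (C c + X * q)) 1 b
  refine ⟨(b : (ZMod p)[X]) * q + X ^ m * (C c + X * q) ^ 2 * k, ?_⟩
  rw [eq_ae h, ← map_pow, nu_eq, sub_eq_iff_eq_add, ← map_one (aeval (R := ZMod p) N), ← map_add]
  congr 1
  simp only [map_mul, map_natCast, one_pow] at hk ⊢
  linear_combination hk

/-- the parametrization of the Sylow subgroup -/
def ph (p : ℕ) (s t : G) (a : Fin 2 → ZMod p) : G := s ^ (a 0).val * t ^ (a 1).val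

/-- the standing hypotheses -/
structure T2 (ρ : G →* End (ZMod p) V) (T : Subgroup G) (s t : G) (d m : ℕ) (v₀ : V) (c₀ : ZMod p)
    (q₀ : (ZMod p)[X]) : Prop where
  five : 5 ≤ p
  inj : Function.Injective ρ
  pg : IsPGroup p T
  syl : Syl p T ⊤
  sT : s ∈ T
  tT : t ∈ T
  cy : Cy (ρ s - 1) d v₀
  dp : d < p
  gen : ∀ x ∈ T, ∃ a b : ℕ, x = s ^ a * t ^ b
  st : Commute s t
  ht : ρ t - 1 = (ρ s - 1) ^ m * Un (ρ s - 1) c₀ q₀
  c0 : c₀ ≠ 0
  m2 : 2 ≤ m
  md : m ≤ d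

namespace T2
variable (h : T2 ρ T s t d m v₀ c₀ q₀)
include h

theorem pw (e : (ρ x - 1) ^ (d + 1) = 0) : x ^ p = 1 := h.inj (by
  simpa using pow_eq_one_of_nil (k := 1) e (by simpa using h.dp))

theorem sp : s ^ p = 1 := h.pw h.cy.nil

theorem tnil : (ρ t - 1) ^ d = 0 := by
  rw [h.ht, Commute.mul_pow (cm_ae _ _).symm, ← pow_mul, pow_eq_zero_of_le _ h.cy.nil, zero_mul]
  have := h.m2; have := h.md; nlinarith

theorem tp : t ^ p = 1 := h.pw (by rw [pow_succ, h.tnil, zero_mul])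

theorem cm (hx : x ∈ T) (hz : z ∈ T) : Commute x z := by
  obtain ⟨a, b, rfl⟩ := h.gen x hx
  obtain ⟨a', b', rfl⟩ := h.gen z hz
  exact (((Commute.refl s).pow_pow _ _).mul_right (h.st.pow_pow _ _)).mul_left
    ((h.st.symm.pow_pow _ _).mul_right ((Commute.refl t).pow_pow _ _))

theorem formt (b : ℕ) : ∃ q, ρ (t ^ b) - 1 = (ρ s - 1) ^ m * Un (ρ s - 1) ((b : ZMod p) * c₀) q := by
  obtain ⟨k, rfl⟩ := Nat.exists_eq_add_of_le' (one_le_two.trans h.m2)
  rw [map_pow]; exact form_pow h.ht b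

theorem form (a b : ℕ) : ∃ q, ρ (s ^ a * t ^ b) - 1 = (ρ s - 1) * Un (ρ s - 1) a q := by
  obtain ⟨k, hk⟩ := Nat.exists_eq_add_of_le' h.m2
  obtain ⟨q1, e1⟩ := form_pow (y := ρ s) (N := ρ s - 1) (m := 0) (c := 1) (q := 0) (by simp [Un]) a
  obtain ⟨q2, e2⟩ := h.formt b
  refine ⟨q1 + (1 + X * (C (a : ZMod p) + X * q1)) * X ^ k * (C (b * c₀) + X * q2), ?_⟩
  have := nu_eq (ρ s - 1) 1
  simp only [pow_one] at this
  rw [map_mul, map_pow, eq_ae e1, eq_ae e2, hk, mul_one, this, ← map_mul, sub_eq_iff_eq_add]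
  generalize ρ s - 1 = N
  rw [← map_one (aeval (R := ZMod p) N), ← map_add]
  congr 1; ring

theorem F1 (hc : c ≠ 0) (e : ρ x - 1 = (ρ s - 1) * Un (ρ s - 1) c q) (hz : z ^ p = 1) (hc' : Commute x z) :
    z ∈ T := by
  obtain ⟨f, hf⟩ := h.cy.comm' (A := ρ z) hc (e ▸ (hc'.symm.map ρ).sub_right (Commute.one_right _))
  have k : ∀ y g, ρ y = aeval (ρ s - 1) g → Commute y z := fun y g e => h.inj (by
    rw [map_mul, map_mul, e, hf, ← map_mul, ← map_mul, mul_comm])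
  have k1 := k s (X + 1) (by simp)
  have k2 := k t _ (eq_ae h.ht)
  refine mem_syl h.pg h.syl (pg_zp hz) (fun y hy => cz_le_nz _ (mem_cz'.2 ?_)) (mem_zpowers z)
  obtain ⟨a, b, rfl⟩ := h.gen y hy
  rintro _ ⟨n, rfl⟩
  exact (((k1.pow_left a).mul_left (k2.pow_left b)).zpow_right n).symm.eq

theorem reg (hω : IsConj s ω) (e : ρ ω - 1 = (ρ s - 1) * Un (ρ s - 1) c q) : c ≠ 0 := fun hc => by
  have := conj_conj hω.symm d (by
    rw [e, hc, Un, C_0, zero_add, map_mul, aeval_X, ← mul_assoc, ← sq, Commute.mul_pow (cm_ae _ _).symm,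
      ← pow_mul, pow_eq_zero_of_le _ h.cy.nil, zero_mul]
    have := h.m2; have := h.md; omega)
  exact h.cy.ne (by rw [this]; rfl)

theorem nreg (hω : IsConj t ω) (hT : ω ∈ T) : ∃ b : ℕ, ω = t ^ b := by
  obtain ⟨a, b, rfl⟩ := h.gen ω hT
  obtain ⟨q, e⟩ := h.form a b
  suffices ha : (a : ZMod p) = 0 from ⟨b, by rw [pow_eq_one_of_cast h.sp ha, one_mul]⟩
  by_contra ha
  have := conj_conj hω d h.tnil
  obtain ⟨q', e'⟩ := un_pow (a : ZMod p) q d
  rw [e, Commute.mul_pow (by simpa only [pow_one, Commute, SemiconjBy] using (cm_ae _ 1).symm), ← map_pow, e'] at this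
  exact pow_ne_zero d ha (h.cy.uniq (q' := 0) le_rfl (this.trans (by simp [Un])))

theorem rel {a a' b : ℕ} (e1 : g * s * g⁻¹ = s ^ a * t ^ a') (e2 : g * t * g⁻¹ = t ^ b) :
    (b : ZMod p) = a ^ m := by
  obtain ⟨q1, f1⟩ := h.form a a'
  obtain ⟨q2, f2⟩ := h.formt b
  have i1 : ρ g⁻¹ * ρ g = 1 := by rw [← map_mul, inv_mul_cancel, map_one]
  have i2 : ρ g * ρ g⁻¹ = 1 := by rw [← map_mul, mul_inv_cancel, map_one]
  have f3 := conj_pw ρ g s 1
  have f4 := conj_pw ρ g t 1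
  rw [pow_one, pow_one] at f3 f4
  obtain ⟨q3, f5⟩ := un_pow (a : ZMod p) q1 m
  have f6 := nu_eq (ρ s - 1) 1 a q1
  simp only [pow_one] at f6
  rw [e2, f2, h.ht, nu_eq _ m c₀, ← ae_conj i1 i2, ← f3, e1, f1, f6, ← aeval_comp] at f4
  have := h.cy.uniq (c' := (a : ZMod p) ^ m * c₀) (q' := q3 * C c₀ + (C ((a : ZMod p) ^ m) + X * q3) *
    (C (a : ZMod p) + X * q1) * q₀.comp (X * (C (a : ZMod p) + X * q1))) h.md (f4.trans (by
      rw [nu_eq]; congr 1
      simp only [add_comp, C_comp, mul_comp, X_comp, C_mul, pow_comp, mul_pow, f5]; ring))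
  exact mul_right_cancel₀ h.c0 this

theorem syK : Syl p T (centralizer {t}) ∧ T ≤ centralizer {t} :=
  have : T ≤ centralizer {t} := fun _ hx => mem_centralizer_singleton_iff.2 (h.cm hx h.tT)
  ⟨h.syl.mono_right this le_top, this⟩

theorem phT (a : Fin 2 → ZMod p) : ph p s t a ∈ T := mul_mem (pow_mem h.sT _) (pow_mem h.tT _)

theorem pha (a b : Fin 2 → ZMod p) : ph p s t (a + b) = ph p s t a * ph p s t b := by
  simp only [ph, Pi.add_apply, zp_add h.sp, zp_add h.tp, mul_assoc]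
  rw [← mul_assoc (s ^ (b 0).val), (h.st.pow_pow _ _).eq, mul_assoc]

theorem phE : (fun a => ρ (ph p s t a)) ∈ Eg ![1, m] (ρ s - 1) := by
  have := Eg_mul (Eg_pow (w := ![1, m]) (N := ρ s - 1) 0 (x := ρ s) 1 (by simp)) (Eg_pow 1 _ h.ht)
  convert this using 1
  ext1 a; simp [ph]

theorem H1 (hω : ω ^ p = 1) (H : Commute t ω → ω ∈ T) :
    (∀ a, Commute (ph p s t a) ω) ∨ ∀ a, Commute (ph p s t a) ω → a = 0 := by
  refine or_iff_not_imp_right.2 fun hn a => h.cm (h.phT a) ?_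
  push Not at hn
  obtain ⟨a, h1, h2⟩ := hn
  by_cases h0 : a 0 = 0
  · refine H ?_
    have h3 : a 1 ≠ 0 := fun e => h2 (by ext i; fin_cases i <;> simp [h0, e])
    obtain ⟨n, e⟩ := mem_zp_pow h.tp (a := (a 1).val) (by simpa using h3)
    rw [← e]
    simpa [ph, h0] using h1.zpow_left n
  · obtain ⟨q, e⟩ := h.form (a 0).val (a 1).val
    exact h.F1 (by simpa using h0) e hω h1

theorem fixT (H : ∀ a, Commute (ph p s t a) ω) (hω : ω ^ p = 1) : ω ∈ T :=
  h.F1 (x := s) (c := 1) (q := 0) one_ne_zero (by simp [Un]) hω (by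
    simpa [ph, ZMod.val_one] using H ![1, 0])

omit h in
theorem cj_pow (hω : IsConj x ω) (hx : x ^ p = 1) : ω ^ p = 1 := by
  obtain ⟨g, rfl⟩ := isConj_iff.1 hω
  rw [conj_pow, hx]; simp

theorem ti {a u : ℕ} (gp : Gap (ρ s - 1) ρ a u) (ha : a ≤ d) (hu : m ≤ u)
    (H : ∀ z, z ^ p = 1 → Commute t z → z ∈ T) : False := by
  have := h.cy.gap_le gp ha
  have := h.m2; have := h.dp; have := h.five
  have k1 := Nat.div_mul_le_self (p - 2) u
  have k2 := Nat.lt_div_mul_add (a := p - 2) (b := u) (by omega)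
  have k3 : (p - 1) * 3 ≤ (p - 1) * (1 + m) := Nat.mul_le_mul_left _ (by omega)
  refine h.cy.trace gp ha (ph p s t) (by simp [ph]) h.pha h.phE (class_card h.syl fun _ hu => h.cm hu h.sT)
    (fun ω hω => h.H1 (cj_pow hω h.sp) (H ω (cj_pow hω h.sp))) (m := 1) (k := (p - 2) / u)
    (r₀ := p - 1 - (p - 2) / u * u) (fun _ => u) one_ne_zero (fun ω hω H' => ?_) (by omega) (by omega)
    (by omega) (by rw [Fin.sum_univ_two, add_mul, mul_assoc]; simp only [Matrix.cons_val]; omega)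
    (by simp [add_mul]; omega)
  obtain ⟨a, b, rfl⟩ := h.gen ω (h.fixT H' (cj_pow hω h.sp))
  obtain ⟨q, e⟩ := h.form a b
  refine ⟨a, q, by rwa [pow_one], ?_⟩
  simp only [Finset.sum_const, Finset.card_univ, Fintype.card_fin, smul_eq_mul]
  rw [show p - 1 - (p - 2) / u * u + (p - 2) / u * u = p - 1 by omega]
  exact ZMod.pow_card_sub_one_eq_one (h.reg hω e)

theorem gcd {a u : ℕ} (gp : Gap (ρ s - 1) (ρ.comp (centralizer {t}).subtype) a u) (ha : a ≤ d)
    (hu : 1 ≤ u) (hm : u < m) : p - 1 ∣ m * 2 := by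
  have := h.md; have := h.dp; have := h.five
  obtain ⟨e, he⟩ := Nat.gcd_dvd_right m (p - 1)
  obtain ⟨e', he'⟩ := Nat.gcd_dvd_left m (p - 1)
  have g0 : 0 < m.gcd (p - 1) := Nat.gcd_pos_of_pos_left _ (by omega)
  have gg : ∀ a : ZMod p, a ≠ 0 → a ^ m = 1 → a ^ m.gcd (p - 1) = 1 := fun a h1 h2 =>
    pow_gcd_eq_one.2 ⟨h2, ZMod.pow_card_sub_one_eq_one h1⟩
  have gp' : m = p - 1 → m.gcd (p - 1) = p - 1 := fun e => by rw [e, Nat.gcd_self]
  generalize m.gcd (p - 1) = n at *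
  by_cases h3 : e ≤ 2
  · rw [he, he', mul_assoc]
    refine Nat.mul_dvd_mul_left _ (Dvd.dvd.mul_left ?_ _)
    interval_cases e <;> simp at he ⊢
    omega
  have k0 : n * 3 ≤ p - 1 := he ▸ Nat.mul_le_mul_left _ (by omega)
  have k4 : m + n ≤ p - 1 := by
    have : e' < e := by
      refine lt_of_mul_lt_mul_left (a := n) ?_ (Nat.zero_le _)
      rw [← he, ← he']; omega
    rw [he, he']; nlinarith
  have k1 := Nat.div_mul_le_self (n - 1) u
  have k2 := Nat.lt_div_mul_add (a := n - 1) (b := u) (by omega)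
  have k3 : (n - 1) / u * u = 0 ∨ u ≤ (n - 1) / u * u := by
    rcases Nat.eq_zero_or_pos ((n - 1) / u) with h | h
    exacts [.inl (by rw [h, zero_mul]), .inr (Nat.le_mul_of_pos_left _ h)]
  let s' : centralizer {t} := ⟨s, h.syK.2 h.sT⟩
  have sp : s' ^ p = 1 := Subtype.ext h.sp
  have F : ∀ ω : centralizer {t}, IsConj s' ω → ∀ b : ℕ, (b : ZMod p) ≠ 0 → Commute (s' ^ b) ω → ω.1 ∈ T :=
    fun ω hω b hb e => by
      obtain ⟨q, e'⟩ := h.form b 0
      exact h.F1 hb e' (congrArg Subtype.val (cj_pow hω sp)) (by simpa [Commute, SemiconjBy] using congrArg Subtype.val e.eq)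
  refine (Cy.trace (ρ := ρ.comp (centralizer {t}).subtype) (s := s') h.cy gp ha (ι := Fin 1) (w := ![1])
    (fun a => s' ^ (a 0).val) (by simp) (fun a b => zp_add sp _ _) ?_
    (class_card (x := s') (U := T.subgroupOf _) ⟨le_top, by rw [relIndex_top_right]; exact h.syK.1.2⟩
      fun _ hu => Subtype.ext (h.cm hu h.sT).eq)
    (fun ω hω => or_iff_not_imp_right.2 fun hn a => ?_) (m := 1) (k := (n - 1) / u)
    (r₀ := n - (n - 1) / u * u) (fun _ => u) one_ne_zero (fun ω hω H' => ?_) (by omega) (by omega)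
    (by omega) (by rw [add_mul, mul_assoc]; simp; omega) (by simp [add_mul]; omega)).elim
  · simpa using Eg_pow (w := ![1]) (N := ρ s - 1) 0 (x := ρ s) 1 (by simp)
  · push Not at hn
    obtain ⟨b, h1, h2⟩ := hn
    exact Subtype.ext (h.cm (pow_mem h.sT _) (F ω hω (b 0).val
      (by simpa using fun e => h2 (by ext i; fin_cases i; simpa using e)) h1)).eq
  · have hT := F ω hω 1 (by simp) (by simpa [ZMod.val_one] using H' ![1])
    obtain ⟨a, b, e⟩ := h.gen ω hT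
    obtain ⟨q, e'⟩ := h.form a b
    rw [← e] at e'
    refine ⟨a, q, by rwa [pow_one], ?_⟩
    simp only [Finset.sum_const, Finset.card_univ, Fintype.card_fin, smul_eq_mul]
    rw [show n - (n - 1) / u * u + (n - 1) / u * u = n by omega]
    obtain ⟨g, hg⟩ := isConj_iff.1 hω
    refine gg _ (h.reg (isConj_iff.2 ⟨g, congrArg Subtype.val hg⟩) e') ?_
    simpa using (h.rel (g := g.1) (b := 1) ((congrArg Subtype.val hg).trans e) (by
      rw [mem_centralizer_singleton_iff.1 g.2]; simp)).symm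

theorem nti {a u : ℕ} (gp : Gap (ρ s - 1) ρ a u) (ha : a ≤ d) (hu : m ≤ u) (hd : p - 1 ∣ m * 2)
    (h2 : m = 2 → d + 1 < p) : False := by
  have := h.cy.gap_le gp ha
  have := h.m2; have := h.dp; have := h.five
  have F : ∀ ω, IsConj t ω → Commute t ω → ω ∈ T := fun ω hω e => by
    obtain ⟨k, hk, l⟩ := h.syK.1.exists_cj_le (pg_zp (cj_pow hω h.tp))
      (zpowers_le.2 (mem_centralizer_singleton_iff.2 e.symm))
    obtain ⟨b, hb⟩ := h.nreg (hω.trans (isConj_iff.2 ⟨k, rfl⟩)) (l (conj_mem_cj k (mem_zpowers ω)))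
    have := ((show Commute k t from mem_centralizer_singleton_iff.1 hk).pow_right b).eq
    rw [mul_inv_eq_iff_eq_mul, ← this, mul_right_inj] at hb
    exact hb ▸ pow_mem h.tT b
  have k3 : 3 ≤ m → (p - 1) * 4 + 4 * (m - 3) ≤ (p - 1) * (1 + m) := fun h => by
    obtain ⟨k, rfl⟩ := Nat.exists_eq_add_of_le h
    obtain ⟨l, hl⟩ := Nat.exists_eq_add_of_le (show 4 ≤ p - 1 by omega)
    rw [hl]; simp; nlinarith
  have k4 : m = 2 → (p - 1) * (1 + m) = (p - 1) * 3 := fun h => by rw [h]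
  refine h.cy.trace gp ha (ph p s t) (by simp [ph]) h.pha h.phE (class_card h.syl fun _ hu => h.cm hu h.tT)
    (fun ω hω => h.H1 (cj_pow hω h.tp) (F ω hω)) (m := m) (k := 1)
    (r₀ := 1) (fun _ => 1) (pow_ne_zero 2 h.c0) (fun ω hω H' => ?_) (by omega) (by omega)
    (by omega) (by simp; omega) (by simp; omega)
  have hT := h.fixT H' (cj_pow hω h.tp)
  obtain ⟨b, rfl⟩ := h.nreg hω hT
  obtain ⟨q, e⟩ := h.formt b
  refine ⟨_, q, e, ?_⟩
  obtain ⟨g, hg⟩ := isConj_iff.1 hω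
  have l : T ≤ centralizer {t ^ b} := fun _ hx => mem_centralizer_singleton_iff.2 (h.cm hx hT)
  obtain ⟨k, hk, l'⟩ := (h.syl.mono_right l le_top).exists_cj_le (isPGroup_cj g h.pg) (by
    rintro _ ⟨x, hx, rfl⟩
    rw [mem_centralizer_singleton_iff, ← hg]
    exact (Commute.conj_iff g).2 (h.cm hx h.tT))
  obtain ⟨a, a', e1⟩ := h.gen _ (l' (conj_mem_cj k (conj_mem_cj g h.sT)))
  obtain ⟨q', e'⟩ := h.form a a'
  have e2 := h.rel (g := k * g) (a := a) (a' := a') (b := b) (by rw [← e1]; group) (by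
    rw [← mul_inv_eq_iff_eq_mul.2 (mem_centralizer_singleton_iff.1 hk), ← hg]; group)
  have e3 := h.reg (isConj_iff.2 ⟨k * g, by rw [← e1]; group⟩) e'
  obtain ⟨j, hj⟩ := hd
  simp only [Finset.univ_unique, Finset.sum_singleton]
  rw [mul_pow, e2, ← pow_mul, hj, pow_mul, ZMod.pow_card_sub_one_eq_one e3, one_pow, one_mul]

theorem Jup {j : ℕ} (H : JJ (ρ s - 1) (ρ.comp (centralizer {t}).subtype) j) :
    JJ (ρ s - 1) (ρ.comp (centralizer {t}).subtype) (j + m) := fun g v hv => by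
  have e := ((show Commute g.1 t from mem_centralizer_singleton_iff.1 g.2).map ρ).sub_right (Commute.one_right _)
  rw [← h.cy.nu_VV (q := q₀) h.c0, ← h.ht] at hv ⊢
  have := H g _ hv
  rwa [MonoidHom.comp_apply, coe_subtype, ← End.mul_apply, e.eq] at this

theorem Jdown {j : ℕ} (hj : j + m ≤ d + 1) (H : JJ (ρ s - 1) (ρ.comp (centralizer {t}).subtype) (j + m)) :
    JJ (ρ s - 1) (ρ.comp (centralizer {t}).subtype) j := fun g v hv => by
  have e := ((show Commute g.1 t from mem_centralizer_singleton_iff.1 g.2).map ρ).sub_right (Commute.one_right _)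
  obtain ⟨u, rfl⟩ := h.cy.mem_VV (by omega) hv
  obtain ⟨f, -, hf⟩ := h.cy.inv (q := q₀) h.c0
  have : ((ρ s - 1) ^ (d + 1 - j)) u = (ρ t - 1) (aeval (ρ s - 1) f (((ρ s - 1) ^ (d + 1 - j - m)) u)) := by
    rw [h.ht, ← End.mul_apply, mul_assoc, hf, mul_one, ← End.mul_apply, ← pow_add]; congr 2; omega
  rw [this, MonoidHom.comp_apply, coe_subtype, ← End.mul_apply, e.eq, End.mul_apply, h.ht,
    h.cy.nu_VV h.c0]
  exact H g _ (ae_VV (h.cy.pow_VV (by omega)))

theorem main : ∃ Q : Subgroup G, Q.Normal ∧ IsPGroup p Q ∧ t ∈ Q := by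
  by_contra! hO
  obtain ⟨a, u, gp, ha, hu⟩ : ∃ a u, Gap (ρ s - 1) ρ a u ∧ a ≤ d ∧ m ≤ u := by
    by_contra! H
    exact hO _ (QQ_normal _ ρ) (fun x => ⟨1, Subtype.ext (h.inj (by simpa using h.cy.QQ_pow h.dp x.2))⟩)
      (mem_QQ (fun a u g => or_iff_not_imp_left.2 fun h => H a u g (not_lt.1 h)) h.cy h.ht)
  by_cases H : ∃ a u, Gap (ρ s - 1) (ρ.comp (centralizer {t}).subtype) a u ∧ a ≤ d ∧ 1 ≤ u
  · obtain ⟨a', u', gp', ha', hu'⟩ := H
    have := h.m2; have := h.dp; have := h.md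
    have hm : u' < m := not_le.1 fun e => gp'.2.2 (a' + m) (by omega) (by omega) (h.Jup gp'.1)
    refine h.nti gp ha hu (h.gcd gp' ha' hu' hm) fun e => lt_of_le_of_ne h.dp fun e' =>
      gp'.2.2 (a' + 1) (by omega) (by omega) ?_
    subst e
    have := h.cy.gap_le gp' ha'
    obtain ⟨k, hk⟩ := hp.out.odd_of_ne_two (by have := h.five; omega)
    rcases Nat.even_or_odd' (a' + 1) with ⟨i, hi | hi⟩
    · rw [hi]; clear hi
      induction i with
      | zero => exact fun g v hv => by simp_all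
      | succ i ih => exact h.Jup ih
    · have : ∀ i j, j + 2 * i = d + 1 → JJ (ρ s - 1) (ρ.comp (centralizer {t}).subtype) j := fun i => by
        induction i with
        | zero => exact fun j e => h.cy.JJ_top (by omega)
        | succ i ih => exact fun j e => h.Jdown (by omega) (ih _ (by omega))
      exact this (k - i) _ (by omega)
  push Not at H
  refine h.ti gp ha hu fun z hz e => ?_
  let z' : centralizer {t} := ⟨z, mem_centralizer_singleton_iff.2 e.symm⟩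
  let Q := QQ (ρ s - 1) (ρ.comp (centralizer {t}).subtype)
  have pQ : IsPGroup p Q := fun x => ⟨1, Subtype.ext (Subtype.ext (h.inj (by
    simpa using h.cy.QQ_pow h.dp x.2)))⟩
  refine mem_syl h.pg h.syl (pQ.map (centralizer {t}).subtype) (fun x hx => mem_nz_of_conj_mem ?_)
    ⟨z', fun a u gp v hv => ?_, rfl⟩
  · rintro _ ⟨y, hy, rfl⟩
    exact ⟨_, (QQ_normal _ _).conj_mem y hy ⟨x, h.syK.2 hx⟩, rfl⟩
  rcases lt_or_ge d a with h1 | h1
  · exact h.cy.top h1
  obtain rfl : u = 0 := by have := H a u gp h1; omega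
  exact h.cy.unip (A := ρ z - 1) h1 (n := p ^ 1) (by rw [frob, ← map_pow, pow_one, hz, map_one, sub_self])
    (fun v hv => sub_mem (gp.1 z' v hv) hv) (fun v hv => sub_mem (gp.2.1 z' v hv) hv) hv

end T2
end H24.NE
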