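import Cfsg.Agent.H24.NE3
import Mathlib.RingTheory.Artinian.Module

/-! The algebra generated by two elements of square zero. -/

set_option autoImplicit false
set_option linter.unusedSectionVars false

namespace H24.NE

section alg
variable {R : Type*} [Ring R] {τ B x x' r : R}

/-- the central element -/
def gm (τ B : R) : R := τ * B + B * τ

/-- commutes with both generators -/
def Cn (τ B r : R) : Prop := Commute τ r ∧ Commute B r

theorem Cn.add {r' : R} (h : Cn τ B r) (h' : Cn τ B r') : Cn τ B (r + r') :=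
  ⟨h.1.add_right h'.1, h.2.add_right h'.2⟩
theorem Cn.sub {r' : R} (h : Cn τ B r) (h' : Cn τ B r') : Cn τ B (r - r') :=
  ⟨h.1.sub_right h'.1, h.2.sub_right h'.2⟩
theorem Cn.mul {r' : R} (h : Cn τ B r) (h' : Cn τ B r') : Cn τ B (r * r') :=
  ⟨h.1.mul_right h'.1, h.2.mul_right h'.2⟩
theorem Cn.one : Cn τ B 1 := ⟨Commute.one_right _, Commute.one_right _⟩
theorem Cn.zero : Cn τ B 0 := ⟨Commute.zero_right _, Commute.zero_right _⟩
theorem Cn.gm (h : Cn τ B r) : Commute (gm τ B) r := (h.1.mul_left h.2).add_left (h.2.mul_left h.1)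

/-- normal form of an element and its adjoint -/
def RF (τ B x x' : R) : Prop := ∃ r0 r1 r2 r3, Cn τ B r0 ∧ Cn τ B r1 ∧ Cn τ B r2 ∧ Cn τ B r3 ∧
  x = 1 + r0 * gm τ B + r1 * τ + r2 * B + r3 * (τ * B) ∧
  x' = 1 + r0 * gm τ B - r1 * τ - r2 * B + r3 * (B * τ)

theorem RF.one : RF τ B 1 1 := ⟨0, 0, 0, 0, .zero, .zero, .zero, .zero, by simp, by simp⟩

variable (h1 : τ * τ = 0) (h2 : B * B = 0)
include h1 h2

omit h2 in
theorem z1 (z : R) : τ * (τ * z) = 0 := by rw [← mul_assoc, h1, zero_mul]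

theorem cn_gm : Cn τ B (gm τ B) := by
  constructor <;> simp [Commute, SemiconjBy, gm, mul_add, add_mul, mul_assoc, h1, h2, z1 h1, z1 h2]

theorem RF.mul1 (h : RF τ B x x') : RF τ B (x * (1 + τ)) ((1 - τ) * x') := by
  obtain ⟨r0, r1, r2, r3, c0, c1, c2, c3, rfl, rfl⟩ := h
  have g := cn_gm h1 h2
  refine ⟨r0 + r2, r1 + (1 + r0 * gm τ B + r3 * gm τ B), r2, r3 - r2, c0.add c2,
    c1.add ((Cn.one.add (c0.mul g)).add (c3.mul g)), c2, c3.sub c2, ?_, ?_⟩ <;>
  simp only [gm, mul_add, add_mul, mul_sub, sub_mul, mul_assoc, mul_one, one_mul, h1, z1 h1, mul_zero,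
    c0.1.left_comm, c1.1.left_comm, c2.1.left_comm, c3.1.left_comm] <;> abel

theorem RF.mul2 (h : RF τ B x x') : RF τ B (x * (1 + B)) ((1 - B) * x') := by
  obtain ⟨r0, r1, r2, r3, c0, c1, c2, c3, rfl, rfl⟩ := h
  have g := cn_gm h1 h2
  refine ⟨r0, r1, r2 + (1 + r0 * gm τ B), r3 + r1, c0, c1, c2.add (Cn.one.add (c0.mul g)), c3.add c1,
    ?_, ?_⟩ <;>
  simp only [gm, mul_add, add_mul, mul_sub, sub_mul, mul_assoc, mul_one, one_mul, h2, z1 h2, mul_zero,
    c0.2.left_comm, c1.2.left_comm, c2.2.left_comm, c3.2.left_comm] <;> abel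

theorem RF.cm (h : RF τ B x x') : Commute (gm τ B) x := by
  obtain ⟨r0, r1, r2, r3, c0, c1, c2, c3, rfl, -⟩ := h
  have g := cn_gm h1 h2
  exact ((((Commute.one_right _).add_right (c0.gm.mul_right (Commute.refl _))).add_right
    (c1.gm.mul_right g.1.symm)).add_right (c2.gm.mul_right g.2.symm)).add_right
      (c3.gm.mul_right (g.1.symm.mul_right g.2.symm))

theorem RF.tr (h : RF τ B x x') : Commute τ (x + x') := by
  obtain ⟨r0, r1, r2, r3, c0, c1, c2, c3, rfl, rfl⟩ := h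
  have g := cn_gm h1 h2
  convert (((Cn.one.add (c0.mul g)).add (Cn.one.add (c0.mul g))).add (c3.mul g)).1 using 1
  simp only [gm, mul_add]; abel

theorem RF.nil (h : RF τ B x x') : ∃ c, Commute (gm τ B) c ∧ (x - 1) ^ 4 = c * gm τ B := by
  obtain ⟨r0, r1, r2, r3, c0, c1, c2, c3, rfl, -⟩ := h
  have g := cn_gm h1 h2
  set Y := r1 * τ + r2 * B + r3 * (τ * B) with hY
  have cY : Commute (gm τ B) Y := ((c1.gm.mul_right g.1.symm).add_right (c2.gm.mul_right g.2.symm)).add_right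
    (c3.gm.mul_right (g.1.symm.mul_right g.2.symm))
  let c := r2 * r1 + r3 * r1 * τ + r2 * r3 * B + r3 * r3 * (τ * B) + r0 * (r0 * gm τ B + Y) + Y * r0
  have cc : Commute (gm τ B) c := ((((((c2.mul c1).gm).add_right ((c3.mul c1).gm.mul_right g.1.symm)).add_right
    ((c2.mul c3).gm.mul_right g.2.symm)).add_right ((c3.mul c3).gm.mul_right (g.1.symm.mul_right g.2.symm))).add_right
      (c0.gm.mul_right ((c0.gm.mul_right (Commute.refl _)).add_right cY))).add_right (cY.mul_right c0.gm)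
  let r := r1 * r2 - r2 * r1
  have cr : Cn τ B r := (c1.mul c2).sub (c2.mul c1)
  have e1 : Y * Y = r * (τ * B) + (r2 * r1 + r3 * r1 * τ + r2 * r3 * B + r3 * r3 * (τ * B)) * gm τ B := by
    simp only [hY, r, gm, mul_add, add_mul, mul_sub, sub_mul, mul_assoc, h1, h2, z1 h1, z1 h2, mul_zero,
      c1.1.left_comm, c2.1.left_comm, c3.1.left_comm, c1.2.left_comm, c2.2.left_comm, c3.2.left_comm]
    abel
  have e2 : (1 + r0 * gm τ B + r1 * τ + r2 * B + r3 * (τ * B) - 1) ^ 2 = r * (τ * B) + c * gm τ B := by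
    rw [show 1 + r0 * gm τ B + r1 * τ + r2 * B + r3 * (τ * B) - 1 = r0 * gm τ B + Y by rw [hY]; abel, sq,
      add_mul, mul_add Y, e1, mul_assoc r0, ((c0.gm.mul_right (Commute.refl _)).add_right cY).eq]
    simp only [c, add_mul, mul_assoc]; abel
  have ct : Commute (gm τ B) (r * (τ * B)) := cr.gm.mul_right (g.1.symm.mul_right g.2.symm)
  refine ⟨r * r * (τ * B) + r * (τ * B) * c + c * (r * (τ * B) + c * gm τ B),
    (((cr.mul cr).gm.mul_right (g.1.symm.mul_right g.2.symm)).add_right (ct.mul_right cc)).add_right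
      (cc.mul_right (ct.add_right (cc.mul_right (Commute.refl _)))), ?_⟩
  have e3 : r * (τ * B) * (r * (τ * B)) = r * r * (τ * B) * gm τ B := by
    simp only [gm, mul_add, mul_assoc, z1 h2, mul_zero, cr.1.left_comm, cr.2.left_comm, add_zero]
  rw [show 4 = 2 * 2 by rfl, pow_mul, e2, sq, add_mul, mul_add (r * (τ * B)), e3, mul_assoc c,
    (ct.add_right (cc.mul_right (Commute.refl _))).eq]
  simp only [add_mul, mul_assoc]

theorem RF.fix (h : RF τ B x x') (hc : Commute τ x) (hx : x + x' = 2) :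
    ∃ r, Cn τ B r ∧ 2 * ((x - 1 - r * τ) * gm τ B ^ 4) = 0 := by
  obtain ⟨r0, r1, r2, r3, c0, c1, c2, c3, rfl, rfl⟩ := h
  have g := cn_gm h1 h2
  have k : ∀ r, Cn τ B r → r * τ = 0 → r * gm τ B = 0 := fun r c e => by
    rw [gm, mul_add, ← mul_assoc, e, ← c.2.left_comm, e]; simp
  have e0 : gm τ B * τ = τ * (B * τ) := by simp [gm, add_mul, mul_assoc, h1]
  have e1 : r2 * (B * τ) - r2 * (τ * B) + r3 * gm τ B * τ = 0 := by
    have := hc.eq
    simp only [gm, mul_add, add_mul, mul_assoc, mul_one, one_mul, h1, z1 h1, mul_zero,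
      c0.1.left_comm, c1.1.left_comm, c2.1.left_comm, c3.1.left_comm, add_zero, zero_add] at this ⊢
    rw [← sub_eq_zero.2 this.symm]; abel
  have e2 : r2 * gm τ B * gm τ B = 0 := k _ (c2.mul g) (by
    have := congrArg (τ * ·) e1
    simpa only [e0, mul_add, mul_sub, mul_assoc, c2.1.left_comm, c3.1.left_comm, z1 h1, mul_zero, sub_zero,
      add_zero] using this)
  have e2' : ∀ z, Commute (gm τ B) z → r2 * z * gm τ B * gm τ B = 0 := fun z hz => by
    rw [mul_assoc r2, ← hz.eq, mul_assoc, mul_assoc, ← hz.eq, ← mul_assoc, ← mul_assoc, e2, zero_mul]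
  have e3 : r3 * gm τ B * gm τ B * gm τ B * gm τ B = 0 := k _ (((c3.mul g).mul g).mul g) (by
    have := congrArg (· * gm τ B * gm τ B) e1
    simp only [add_mul, sub_mul, e2' _ (g.2.symm.mul_right g.1.symm), e2' _ (g.1.symm.mul_right g.2.symm),
      zero_mul, sub_zero, zero_add] at this
    rw [← this]; simp only [mul_assoc, g.1.eq, g.1.left_comm])
  have e4 : 2 * (r0 * gm τ B) = -(r3 * gm τ B) := by
    rw [eq_neg_iff_add_eq_zero, ← sub_eq_zero.2 hx, two_mul, gm, mul_add r3, ← one_add_one_eq_two]; abel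
  refine ⟨r1, c1, ?_⟩
  rw [show 1 + r0 * gm τ B + r1 * τ + r2 * B + r3 * (τ * B) - 1 - r1 * τ =
    r0 * gm τ B + r2 * B + r3 * (τ * B) by abel, add_mul, add_mul, mul_add, mul_add, ← mul_assoc, e4,
    mul_assoc r3, ← ((g.1.symm.mul_right g.2.symm).pow_left 4).eq]
  simp only [pow_succ, pow_zero, one_mul, ← mul_assoc, neg_mul, e3, e2' _ g.2.symm, zero_mul, mul_zero,
    neg_zero, add_zero]

end alg
end H24.NE
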