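import Cfsg.Agent.H24.NE4
import Cfsg.Agent.H4.Basic
import Mathlib.Algebra.Polynomial.Identities

/-! Linear groups of small degree whose Sylow subgroup has maximal class and a regular element. -/

set_option autoImplicit false
set_option linter.unusedSectionVars false

namespace H24.NE
open Polynomial Module Subgroup H25

variable {p : ℕ} [hp : Fact p.Prime] {V : Type*} [AddCommGroup V] [Module (ZMod p) V]
variable {G : Type*} [Group G] [Finite G] {ρ : G →* End (ZMod p) V} {T M P : Subgroup G}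
variable {s t x y z g a ω : G} {d m : ℕ} {v₀ v : V} {c c₀ : ZMod p} {q q₀ : (ZMod p)[X]}
variable {U W Z : Submodule (ZMod p) V}

/-- the elements acting trivially on `U` modulo `W` -/
def Lay (ρ : G →* End (ZMod p) V) (U W : Submodule (ZMod p) V) (h : W ≤ U) : Subgroup G where
  carrier := {x | ∀ v ∈ U, ρ x v - v ∈ W}
  one_mem' := by simp
  mul_mem' := fun {x y} hx hy v hv => by
    have := add_mem (hx _ (add_mem (h (hy v hv)) hv)) (hy v hv)
    simpa using this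
  inv_mem' := fun {x} hx => by
    have k : ∀ n : ℕ, ∀ v ∈ U, ρ (x ^ n) v - v ∈ W := fun n => by
      induction n with
      | zero => simp
      | succ n ih =>
        intro v hv
        have := add_mem (hx _ (add_mem (h (ih v hv)) hv)) (ih v hv)
        simpa [pow_succ'] using this
    obtain ⟨n, e⟩ := mem_powers_iff_mem_zpowers.2 (inv_mem (mem_zpowers x))
    exact e ▸ k n

/-- the stabilizer -/
abbrev St (ρ : G →* End (ZMod p) V) (U : Submodule (ZMod p) V) : Subgroup G := Lay ρ U U le_rfl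

theorem mem_St : x ∈ St ρ U ↔ ∀ v ∈ U, ρ x v ∈ U :=
  ⟨fun h v hv => by simpa using add_mem (h v hv) hv, fun h v hv => sub_mem (h v hv) hv⟩

theorem nz_Lay (h : W ≤ U) (h1 : g ∈ St ρ U) (h2 : g ∈ St ρ W) : g ∈ nz (Lay ρ U W h) :=
  mem_nz_of_conj_mem fun x hx v hv => by
    have := mem_St.1 h2 _ (hx _ (mem_St.1 (inv_mem h1) v hv))
    simpa [rho_inv'] using this

theorem St_top : g ∈ St ρ ⊤ := fun _ _ => trivial
theorem St_bot : g ∈ St ρ ⊥ := mem_St.2 (by simp)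

theorem pg3 (inj : Function.Injective ρ) (h3 : 3 ≤ p) (h : W ≤ U) :
    IsPGroup p (Lay ρ ⊤ U le_top ⊓ Lay ρ U W h ⊓ Lay ρ W ⊥ bot_le : Subgroup G) := fun x =>
  ⟨1, Subtype.ext (inj (by
    simpa using pow_eq_one_of_nil (x := ρ x) (d := 3) (k := 1) (LinearMap.ext fun v =>
      x.2.2 _ (x.2.1.2 _ (x.2.1.1 v trivial))) (by simpa)))⟩

theorem comm_Lay (h : W ≤ U) (h1 : ∀ v ∈ U, ρ g v - c • v ∈ W) (h2 : g ∈ St ρ W) (h3 : s ∈ St ρ U)
    (h4 : s ∈ St ρ W) : g * s * g⁻¹ * s⁻¹ ∈ Lay ρ U W h := fun v hv => by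
  have h5 : g ∈ St ρ U := mem_St.2 fun v hv => by simpa using add_mem (h (h1 v hv)) (U.smul_mem c hv)
  have a := mem_St.1 (inv_mem h5) _ (mem_St.1 (inv_mem h3) v hv)
  have := sub_mem (h1 _ (mem_St.1 h3 _ a)) (mem_St.1 h4 _ (h1 _ a))
  simpa [rho_inv'] using this

theorem rho_pow_sq {τ : End (ZMod p) V} (h : ρ x = 1 + τ) (h2 : τ * τ = 0) (k : ℕ) :
    ρ (x ^ k) = 1 + (k : ZMod p) • τ := by
  induction k with
  | zero => simp
  | succ k ih => rw [pow_succ, map_mul, ih, h]; simp [mul_add, add_mul, h2, add_smul]; abel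

theorem rho_inv_sq (h2 : (ρ x - 1) * (ρ x - 1) = 0) : ρ x⁻¹ = 1 - (ρ x - 1) := by
  have : ρ x⁻¹ * ρ x = 1 := by rw [← map_mul, inv_mul_cancel, map_one]
  have e : ρ x * (1 - (ρ x - 1)) = 1 := by rw [← sub_eq_zero, ← neg_eq_zero, ← h2]; noncomm_ring
  rw [← mul_one (ρ x⁻¹), ← e, ← mul_assoc, this, one_mul, e]

/-- the standing hypotheses -/
structure T3 (ρ : G →* End (ZMod p) V) (T M : Subgroup G) (s t y : G) (d : ℕ) (v₀ : V) : Prop where
  five : 5 ≤ p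
  inj : Function.Injective ρ
  pg : IsPGroup p T
  syl : Syl p T ⊤
  sT : s ∈ T
  tT : t ∈ T
  yT : y ∈ T
  cy : Cy (ρ s - 1) d v₀
  dp : d < p
  tc : ∀ x ∈ T, Commute x t
  t1 : t ≠ 1
  hy : y * s * y⁻¹ = s * t
  cen : ∀ x ∈ T, Commute x s → ∃ a b : ℕ, x = s ^ a * t ^ b
  sup : ∀ x ∈ T, ∃ c : ZMod p, ∀ j, 1 ≤ j → j < d → ∀ v ∈ VV (ρ s - 1) (j + 2),
    ρ x v - v - c • (ρ s - 1) v ∈ VV (ρ s - 1) j
  big : p ^ 2 < Nat.card T
  se : ∀ a, ∀ x ∈ T, x ≠ 1 → a * x * a⁻¹ ∈ T → a ∈ M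
  nM : ∃ g, g ∉ M

namespace T3
variable (h : T3 ρ T M s t y d v₀)
include h

theorem cM (e : Commute a t) : a ∈ M := h.se a t h.tT h.t1 (by rw [e.mul_inv_cancel]; exact h.tT)

theorem pM (hP : IsPGroup p P) (h1 : x ∈ P) (h2 : x ∈ T) (h3 : x ≠ 1) : P ≤ M := fun z hz => by
  obtain ⟨k, -, l⟩ := h.syl.exists_cj_le hP le_top
  have hk := h.se k x h2 h3 (l (conj_mem_cj k h1))
  simpa [mul_assoc] using mul_mem (mul_mem (inv_mem hk) (h.cM (h.tc _ (l (conj_mem_cj k hz))))) hk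

theorem bM (e : g * t * g⁻¹ ∈ M) : g ∈ M := by
  obtain ⟨k, hk, l⟩ := (h.syl.mono_right (fun x hx => h.cM (h.tc x hx)) le_top).exists_cj_le
    (isPGroup_cj g (h.pg.to_le (zpowers_le.2 h.tT))) (by rw [cj_zpowers]; exact zpowers_le.2 e)
  have := h.se (k * g) t h.tT h.t1 (by
    simpa [mul_assoc] using l (conj_mem_cj k (conj_mem_cj g (mem_zpowers t))))
  simpa using mul_mem (inv_mem hk) this

theorem ex : ∃ m c₀ q₀, m ≤ d ∧ d + 2 ≤ 2 * m ∧ c₀ ≠ 0 ∧ ρ t - 1 = (ρ s - 1) ^ m * Un (ρ s - 1) c₀ q₀ := by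
  obtain ⟨f, hf⟩ := h.cy.comm (A := ρ t - 1)
    ((((h.tc s h.sT).symm.map ρ).sub_right (Commute.one_right _)).sub_left (Commute.one_left _))
  obtain ⟨m, hm, c, q, hc, e⟩ := h.cy.dec f (hf ▸ fun e => h.t1 (h.inj (by rw [sub_eq_zero.1 e, map_one])))
  rw [← hf] at e
  refine ⟨m, c, q, hm, ?_, hc, e⟩
  rcases m with _ | m
  · obtain ⟨k, hk⟩ := h.pg ⟨t, h.tT⟩
    have e1 : (ρ t - 1) ^ p ^ k = 0 := by
      rw [frob, ← map_pow, show t ^ p ^ k = 1 from congrArg Subtype.val hk, map_one, sub_self]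
    obtain ⟨q', e2⟩ := un_pow c q (p ^ k)
    rw [e, pow_zero, one_mul, ← map_pow, e2] at e1
    exact absurd (h.cy.uniq (m := 0) (c' := 0) (q := q') (q' := 0) hm (by rw [Un, e1]; simp [Un]))
      (pow_ne_zero _ hc)
  have i1 : ρ y⁻¹ * ρ y = 1 := by rw [← map_mul, inv_mul_cancel, map_one]
  have i2 : ρ y * ρ y⁻¹ = 1 := by rw [← map_mul, mul_inv_cancel, map_one]
  have f3 := conj_pw ρ y s 1
  have f4 := conj_pw ρ y t 1
  set f := X ^ (m + 1) * (C c + X * q) with hf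
  have f5 : ρ (s * t) - 1 = aeval (ρ s - 1) (X + (1 + X) * f) := by
    rw [map_add, map_mul _ (1 + X), ← nu_eq, ← e]; simp [mul_sub]
  rw [pow_one, pow_one] at f3 f4
  rw [(h.tc y h.yT).mul_inv_cancel, e, nu_eq, ← ae_conj i1 i2, ← f3, h.hy, f5, ← aeval_comp] at f4
  obtain ⟨k, hk⟩ := binomExpansion (f.map C) X ((1 + X) * f)
  have cd : ∀ a b : (ZMod p)[X], eval₂ C b a = a.comp b := fun _ _ => rfl
  simp only [derivative_map, eval_map, cd, comp_X] at hk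
  rw [← hf, hk, add_assoc, map_add, left_eq_add] at f4
  by_contra hn
  have := h.cy.uniq (m := 2 * m + 1) (c := ((m + 1 : ℕ) : ZMod p) * c ^ 2) (c' := 0) (q' := 0)
    (q := ((m + 1 : ℕ) : (ZMod p)[X]) * (C c ^ 2 + (1 + X) * q * (2 * C c + X * q)) +
      (1 + X) * (C c + X * q) * derivative (C c + X * q) + k * (1 + X) ^ 2 * (C c + X * q) ^ 2) (by omega) (by
      rw [nu_eq, nu_eq, C_0, mul_zero, add_zero, mul_zero, map_zero, ← f4]
      congr 1
      rw [hf, derivative_mul, derivative_X_pow, C_mul, C_pow, map_natCast C, Nat.add_sub_cancel]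
      generalize derivative (C c + X * q) = D
      ring)
  refine mul_ne_zero ?_ (pow_ne_zero 2 hc) this
  rw [Ne, ZMod.natCast_eq_zero_iff]
  exact Nat.not_dvd_of_pos_of_lt (by omega) (hm.trans_lt h.dp)

variable (h1 : m ≤ d) (h2 : d + 2 ≤ 2 * m) (h3 : c₀ ≠ 0)
  (ht : ρ t - 1 = (ρ s - 1) ^ m * Un (ρ s - 1) c₀ q₀)
include h1 h2 h3 ht

theorem ker : v ∈ VV (ρ s - 1) m ↔ (ρ t - 1) v = 0 := by
  have := h.cy.nu_VV (m := m) (q := q₀) (v := v) (j := 0) h3
  rw [zero_add] at this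
  rw [← this, ht]; simp

theorem rg (w : V) : (ρ t - 1) w ∈ VV (ρ s - 1) (d + 1 - m) := by
  rw [ht]; exact h.cy.pow_VV (by omega)

theorem rg' (hv : v ∈ VV (ρ s - 1) (d + 1 - m)) : ∃ w, v = (ρ t - 1) w := by
  obtain ⟨u, rfl⟩ := h.cy.mem_VV (by omega) hv
  obtain ⟨f, -, hf⟩ := h.cy.inv (q := q₀) h3
  exact ⟨aeval (ρ s - 1) f u, by
    rw [ht, ← End.mul_apply, mul_assoc, hf, mul_one, show d + 1 - (d + 1 - m) = m by omega]⟩

theorem sq : (ρ t - 1) * (ρ t - 1) = 0 := LinearMap.ext fun v =>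
  (h.ker h1 h2 h3 ht).1 (VV_mono (by omega) (h.rg h1 h2 h3 ht v))

theorem st (e : ρ g * (ρ t - 1) = c • ((ρ t - 1) * ρ g)) (hc : c ≠ 0) :
    g ∈ St ρ (VV (ρ s - 1) m) ∧ g ∈ St ρ (VV (ρ s - 1) (d + 1 - m)) := by
  refine ⟨mem_St.2 fun v hv => ?_, mem_St.2 fun v hv => ?_⟩
  · have := congrArg (· v) e
    simp only [End.mul_apply, (h.ker h1 h2 h3 ht).1 hv, map_zero, LinearMap.smul_apply] at this
    exact (h.ker h1 h2 h3 ht).2 ((smul_eq_zero_iff_right hc).1 this.symm)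
  · obtain ⟨w, rfl⟩ := h.rg' h1 h2 h3 ht hv
    rw [← End.mul_apply, e]
    exact Submodule.smul_mem _ _ (h.rg h1 h2 h3 ht _)

theorem stT (hx : x ∈ T) : x ∈ St ρ (VV (ρ s - 1) m) ∧ x ∈ St ρ (VV (ρ s - 1) (d + 1 - m)) :=
  h.st h1 h2 h3 ht (c := 1) (by
    rw [one_smul]; exact (((h.tc x hx).map ρ).sub_right (Commute.one_right _)).eq) one_ne_zero

theorem AA (a1 : z ∈ Lay ρ ⊤ (VV (ρ s - 1) (d + 1 - m)) le_top) (a2 : z ∈ Lay ρ (VV (ρ s - 1) m) ⊥ bot_le) :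
    z ∈ zpowers t := by
  let A := Lay ρ ⊤ (VV (ρ s - 1) (d + 1 - m)) le_top ⊓ Lay ρ (VV (ρ s - 1) m) ⊥ bot_le
  have l : VV (ρ s - 1) (d + 1 - m) ≤ VV (ρ s - 1) m := VV_mono (by omega)
  have nA : T ≤ nz A := fun x hx => mem_nz_inf (nz_Lay _ St_top (h.stT h1 h2 h3 ht hx).2)
    (nz_Lay _ (h.stT h1 h2 h3 ht hx).1 St_bot)
  have AT : A ≤ T := mem_syl h.pg h.syl ((pg3 h.inj (by have := h.five; omega) l).to_le fun x hx =>
    ⟨⟨fun v hv => l (hx.1 v hv), fun v _ => hx.1 v trivial⟩, fun v hv => hx.2 v (l hv)⟩) nA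
  by_contra hz
  haveI := h.pg.isNilpotent
  haveI := normal_subgroupOf_of_le_normalizer nA
  obtain ⟨⟨x, hT⟩, hx, hx', e⟩ := H4.exists_central_mod_of_nilpotent (N := A.subgroupOf T)
    (M := (zpowers t).subgroupOf T) fun e => hz (e (x := ⟨z, AT ⟨a1, a2⟩⟩) ⟨a1, a2⟩)
  obtain ⟨k, hk⟩ := mem_powers_iff_mem_zpowers.2 (mem_subgroupOf.1 (e ⟨s, h.sT⟩))
  have hk : x * s = t ^ k * s * x := by
    rw [show t ^ k = x * s * x⁻¹ * s⁻¹ from hk]; group
  have sp : ∀ x, (ρ x - 1) ^ (d + 1) = 0 → x ^ p = 1 := fun x e => h.inj (by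
    simpa using pow_eq_one_of_nil (k := 1) e (by simpa using h.dp))
  set N := ρ s - 1 with hN
  set τ := ρ t - 1 with hτ
  set Y := ρ x - 1 with hY
  have c1 : Commute N τ := by rw [ht]; exact ((Commute.refl N).pow_right m).mul_right (by
    simpa only [pow_one, Commute, SemiconjBy] using (cm_ae _ 1).symm)
  have e1 : τ * Y = 0 := LinearMap.ext fun v => (h.ker h1 h2 h3 ht).1 (l (hx.1 v trivial))
  have e2 : Y * N - N * Y = (k : ZMod p) • (τ * (1 + N)) := by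
    have := congrArg ρ hk
    rw [map_mul, map_mul, map_mul, rho_pow_sq (τ := τ) (by rw [hτ]; abel) (h.sq h1 h2 h3 ht),
      eq_add_of_sub_eq hN.symm, eq_add_of_sub_eq hY.symm] at this
    simp only [mul_add, add_mul, mul_one, one_mul, smul_mul_assoc, mul_assoc, ← c1.left_comm, e1, mul_zero,
      smul_zero, smul_add] at this ⊢
    rw [← sub_eq_zero, ← sub_eq_zero.2 this]; abel
  have e3 : ∀ j : ℕ, Y * N ^ (j + 1) - N ^ (j + 1) * Y =
      (((j + 1 : ℕ) : ZMod p) * k) • (N ^ j * (τ * (1 + N))) := fun j => by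
    induction j with
    | zero => simpa using e2
    | succ j ih =>
      have : Y * N ^ (j + 1 + 1) - N ^ (j + 1 + 1) * Y =
          (Y * N ^ (j + 1) - N ^ (j + 1) * Y) * N + N ^ (j + 1) * (Y * N - N * Y) := by
        rw [pow_succ N (j + 1)]; noncomm_ring
      rw [this, ih, e2, smul_mul_assoc, mul_smul_comm, mul_assoc,
        ← (c1.mul_right ((Commute.one_right N).add_right (Commute.refl N))).eq, ← mul_assoc, ← pow_succ,
        ← add_smul]
      congr 1; push_cast; ring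
  have e4 := congrArg (· v₀) (e3 (d - m))
  have e5 : (N ^ (d - m) * (τ * (1 + N))) v₀ = c₀ • (N ^ d) v₀ := by
    rw [ht, ← mul_assoc, ← mul_assoc, ← pow_add, show d - m + m = d by omega, ← cm_ae, mul_assoc, mul_add,
      mul_one, ← pow_succ, h.cy.nil, add_zero, End.mul_apply, Un_apply, ← End.mul_apply (aeval N q₀), cm_ae,
      End.mul_apply, ← End.mul_apply N, ← pow_succ', h.cy.nil]
    simp
  simp only [LinearMap.sub_apply, LinearMap.smul_apply, e5, smul_smul] at e4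
  rw [End.mul_apply, End.mul_apply, show Y ((N ^ (d - m + 1)) v₀) = 0 from hx.2 _ (h.cy.pow_VV (by omega)),
    show (N ^ (d - m + 1)) (Y v₀) = 0 from VV_mono (by omega) (hx.1 v₀ trivial), sub_zero, eq_comm,
    smul_eq_zero_iff_left h.cy.ne, mul_eq_zero_iff_right h3, mul_eq_zero_iff_left (by
      rw [Ne, ZMod.natCast_eq_zero_iff]
      exact Nat.not_dvd_of_pos_of_lt (by omega) (by have := h.dp; omega))] at e4
  have tp := sp t (by rw [← hτ, pow_eq_zero_of_le (show 2 ≤ d + 1 by omega) (by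
    rw [_root_.sq]; exact h.sq h1 h2 h3 ht)])
  rw [pow_eq_one_of_cast tp e4, one_mul] at hk
  obtain ⟨a, b, rfl⟩ := h.cen x hT hk
  have tA : t ∈ A := ⟨fun v _ => h.rg h1 h2 h3 ht v, fun v hv => (h.ker h1 h2 h3 ht).1 hv⟩
  by_cases ha : (a : ZMod p) = 0
  · exact hx' (by rw [mem_subgroupOf]; simp [pow_eq_one_of_cast (sp s h.cy.nil) ha])
  have : s ∈ A := zpowers_le.2 ((mul_mem_cancel_right (pow_mem tA b)).1 hx) (mem_zp_pow (sp s h.cy.nil) ha)
  have := h.cy.v0 (pow_mem_VV.1 ((N_mem_VV (j := 0)).1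
    (show N _ = 0 from this.2 _ (h.cy.pow_VV (v := v₀) (i := d - 1) (by omega)))))
  omega

theorem torus [Finite V] (hg : g ∉ M) : ∃ (k : G) (c : ZMod p), c ≠ 0 ∧ c ≠ 1 ∧ ρ k * (ρ t - 1) = c • ((ρ t - 1) * ρ k) ∧
    (ρ t - 1) * ρ (k * k) = c⁻¹ • (ρ t - 1) ∧
    ∀ v ∈ VV (ρ s - 1) m, ρ k v - v ∈ VV (ρ s - 1) (d + 1 - m) := by
  classical
  cases nonempty_fintype G
  have s1 := h.sq h1 h2 h3 ht
  have sc : ∀ ω, IsConj t ω → (ρ ω - 1) * (ρ ω - 1) = 0 := fun ω e => by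
    rw [← _root_.sq]; exact conj_conj e 2 (by rwa [_root_.sq])
  have s2 := sc _ (isConj_iff.2 ⟨g, rfl⟩)
  set τ := ρ t - 1 with hτ
  set B := ρ (g * t * g⁻¹) - 1 with hB
  have tp : t ^ p = 1 := h.inj (by
    simpa using pow_eq_one_of_nil (k := 1) (d := 2) (by rwa [_root_.sq]) (by simpa using hp.out.two_le))
  let X := closure {t, g * t * g⁻¹}
  have tX : t ∈ X := subset_closure (by simp)
  have rf : ∀ x ∈ X, RF τ B (ρ x) (ρ x⁻¹) := fun x hx => by
    rw [← mem_toSubmonoid, closure_toSubmonoid_of_finite] at hx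
    induction hx using Submonoid.closure_induction_right with
    | one => simpa using RF.one
    | mul_right x _ y hy ih =>
      rw [mul_inv_rev, map_mul, map_mul]
      rcases hy with rfl | rfl
      · rw [rho_inv_sq s1]; simpa [hτ] using ih.mul1 s1 s2
      · rw [rho_inv_sq s2]; simpa [hB] using ih.mul2 s1 s2
  obtain ⟨n, hn, n4⟩ := ((LinearMap.eventually_isCompl_ker_pow_range_pow (gm τ B)).and
    (Filter.eventually_ge_atTop 4)).exists
  have pn : ∀ A : End (ZMod p) V, Commute (gm τ B) A → ∀ v ∈ LinearMap.ker (gm τ B ^ n),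
      A v ∈ LinearMap.ker (gm τ B ^ n) := fun A e v hv => by
    rw [LinearMap.mem_ker, ← End.mul_apply, (e.pow_left n).eq, End.mul_apply, LinearMap.mem_ker.1 hv, map_zero]
  have g1 := (cn_gm s1 s2).1
  have dec : ∀ v, τ v = 0 → ∃ u ∈ LinearMap.ker (gm τ B ^ n), ∃ w, v = u + (gm τ B ^ n) w ∧
      τ ((gm τ B ^ n) w) = 0 ∧ ∃ w', (gm τ B ^ n) w = τ w' := fun v hv => by
    obtain ⟨u, hu, _, ⟨w, rfl⟩, rfl⟩ := Submodule.mem_sup.1 (hn.sup_eq_top.ge (Submodule.mem_top (x := v)))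
    obtain ⟨u', hu', _, ⟨w', rfl⟩, rfl⟩ := Submodule.mem_sup.1 (hn.sup_eq_top.ge (Submodule.mem_top (x := w)))
    have z : ∀ x, x ∈ LinearMap.ker (gm τ B ^ n) → x ∈ LinearMap.range (gm τ B ^ n) → x = 0 :=
      fun x a b => (Submodule.mem_bot _).1 (hn.inf_eq_bot.le ⟨a, b⟩)
    have e : ∀ x, τ ((gm τ B ^ n) x) = (gm τ B ^ n) (τ x) := fun x => by
      rw [← End.mul_apply, (g1.pow_right n).eq, End.mul_apply]
    have k := z (τ ((gm τ B ^ n) (u' + (gm τ B ^ n) w'))) (by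
      rw [map_add, add_eq_zero_iff_neg_eq] at hv
      exact hv ▸ neg_mem (pn _ g1.symm _ hu)) ⟨_, (e _).symm⟩
    refine ⟨u, hu, _, rfl, k, ?_⟩
    rw [map_add, LinearMap.mem_ker.1 hu', zero_add] at k ⊢
    have k' := z (τ ((gm τ B ^ n) w')) (by rwa [LinearMap.mem_ker, ← e]) ⟨_, (e _).symm⟩
    obtain ⟨l, rfl⟩ := Nat.exists_eq_add_of_le' (show 1 ≤ n by omega)
    refine ⟨(gm τ B ^ l) (B ((gm τ B ^ (l + 1)) w')), ?_⟩
    generalize (gm τ B ^ (l + 1)) w' = x at k'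
    rw [← End.mul_apply τ, (g1.pow_right l).eq, pow_succ, End.mul_apply, End.mul_apply]
    simp [gm, k']
  let K := X ⊓ Lay ρ (LinearMap.ker (gm τ B ^ n)) ⊥ bot_le
  have nK : X ≤ nz K := fun x hx => mem_nz_inf (le_normalizer hx)
    (nz_Lay _ (mem_St.2 (pn _ ((rf x hx).cm s1 s2))) St_bot)
  have KM : ¬ K ≤ M := fun e => by
    obtain ⟨P, l, pP, sP⟩ := exists_syl_ge (pg_zp tp) (zpowers_le.2 tX)
    have := (sP.mono_left (V := X ⊓ M) (le_inf sP.le (h.pM pP (l (mem_zpowers t)) h.tT h.t1))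
      inf_le_left).eq_of_pel (C := K) (le_inf inf_le_left e) nK fun x hx => by
        obtain ⟨c, hc, e⟩ := (rf x hx).nil s1 s2
        refine ⟨4 * n, pow_mem hx _, fun v hv => ?_⟩
        obtain ⟨j, hj⟩ := Nat.exists_eq_add_of_le' (Nat.lt_pow_self (n := 4 * n) hp.out.one_lt).le
        show (ρ _ - 1) v ∈ _
        rw [map_pow, ← frob, hj, pow_add, pow_mul, e, hc.symm.mul_pow, End.mul_apply, End.mul_apply,
          LinearMap.mem_ker.1 hv]
        simp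
    exact hg (h.bM (this.ge (subset_closure (by simp))).2)
  let Ω := (Finset.univ.filter (· ∈ K)).image fun k => k * t * k⁻¹
  have hΩ : ∀ ω, ω ∈ Ω ↔ ∃ k ∈ K, k * t * k⁻¹ = ω := fun ω => by simp [Ω]
  obtain ⟨ω, hω, c1, c2⟩ : ∃ ω ∈ Ω, Commute t ω ∧ ω ≠ t := by
    by_contra! H
    have e : ∑ ω ∈ Ω, (ρ ω - 1) = τ := by
      rw [← Finset.sum_filter_add_sum_filter_not Ω (Commute t), sum_free
        (fun (a : ZMod p) ω => t ^ a.val * ω * (t ^ a.val)⁻¹) (by simp)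
        (fun a b x => by rw [zp_add tp]; group) (fun ω => ρ ω - 1) (Ω.filter fun ω => ¬ Commute t ω)
        (fun ω hω a => ?_) (fun ω hω a e => ?_) fun ω _ => ?_, add_zero,
        Finset.sum_eq_single t (fun ω hω e => (e (H ω (Finset.mem_filter.1 hω).1
          (Finset.mem_filter.1 hω).2)).elim) fun e => (e (Finset.mem_filter.2
            ⟨(hΩ t).2 ⟨1, one_mem _, by simp⟩, Commute.refl t⟩)).elim]
      · obtain ⟨a1, a2⟩ := Finset.mem_filter.1 hω
        obtain ⟨k, hk, rfl⟩ := (hΩ ω).1 a1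
        refine Finset.mem_filter.2 ⟨(hΩ _).2 ⟨_, conj_mem_of_mem_nz (nK (pow_mem tX a.val)) hk, by group⟩,
          fun e => a2 ?_⟩
        nth_rewrite 1 [← ((Commute.refl t).pow_left a.val).mul_inv_cancel] at e
        exact (Commute.conj_iff _).1 e
      · by_contra ha
        obtain ⟨j, e'⟩ := mem_zp_pow tp (a := a.val) (by simpa using ha)
        exact (Finset.mem_filter.1 hω).2 (e' ▸ Commute.zpow_left (mul_inv_eq_iff_eq_mul.1 e) j)
      · have : ∀ a : ZMod p, ρ (t ^ a.val * ω * (t ^ a.val)⁻¹) - 1 = a ^ 0 • (ρ ω - 1) +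
            a ^ 1 • (τ * (ρ ω - 1) - (ρ ω - 1) * τ) - a ^ 2 • (τ * (ρ ω - 1) * τ) := fun a => by
          have e1 := conj_pw ρ (t ^ a.val) ω 1
          have e2 := rho_pow_sq (ρ := ρ) (x := t) (τ := τ) (by rw [hτ]; abel) s1 a.val
          rw [pow_one, pow_one, rho_inv_sq (by rw [e2]; simp [s1]), e2, ZMod.natCast_zmod_val] at e1
          rw [e1]
          generalize ρ ω - 1 = Y
          simp only [add_sub_cancel_left, mul_sub, add_mul, one_mul, mul_one, smul_mul_assoc,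
            mul_smul_comm]
          module
        have z : ∀ i < 3, ∑ a : ZMod p, a ^ i = 0 := fun i hi =>
          FiniteField.sum_pow_lt_card_sub_one _ _ (by rw [ZMod.card]; have := h.five; omega)
        simp only [this, Finset.sum_sub_distrib, Finset.sum_add_distrib, ← Finset.sum_smul, z 0 (by omega),
          z 1 (by omega), z 2 (by omega), zero_smul, add_zero, sub_zero]
    refine KM fun k hk => h.cM (mul_inv_eq_iff_eq_mul.1 (h.inj ?_))
    have e1 := conj_pw ρ k t 1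
    rw [pow_one, pow_one, ← hτ, ← e, Finset.mul_sum, Finset.sum_mul, Finset.sum_bijective
      (t := Ω) (g := fun ω => ρ ω - 1) (fun ω => k * ω * k⁻¹) (MulAut.conj k).bijective (fun ω => ?_)
      fun ω _ => by simpa using (conj_pw ρ k ω 1).symm, e] at e1
    · exact sub_left_injective e1
    · simp only [hΩ]
      exact ⟨fun ⟨j, a, b⟩ => ⟨k * j, mul_mem hk a, by rw [← b]; group⟩,
        fun ⟨j, a, b⟩ => ⟨k⁻¹ * j, mul_mem (inv_mem hk) a, by
          rw [mul_inv_rev, inv_inv, mul_assoc, mul_assoc, ← mul_assoc t, ← mul_assoc j, ← mul_assoc j, b]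
          group⟩⟩
  obtain ⟨k, hk, rfl⟩ := (hΩ ω).1 hω
  have s3 := sc _ (isConj_iff.2 ⟨k, rfl⟩)
  obtain ⟨r, cr, e⟩ := (rf _ (mul_mem (mul_mem hk.1 tX) (inv_mem hk.1))).fix s1 s2
    ((c1.map ρ).sub_left (Commute.one_left _)) (by rw [rho_inv_sq s3, ← one_add_one_eq_two]; abel)
  have e1 : ∀ w, ρ (k * t * k⁻¹) ((gm τ B ^ n) w) = (gm τ B ^ n) w + r (τ ((gm τ B ^ n) w)) := fun w => by
    obtain ⟨j, rfl⟩ := Nat.exists_eq_add_of_le n4
    have := congrArg (· ((gm τ B ^ j) w)) e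
    rw [two_mul, ← two_smul (ZMod p)] at this
    simp only [LinearMap.smul_apply, LinearMap.zero_apply, End.mul_apply, LinearMap.sub_apply,
      End.one_apply] at this
    rw [smul_eq_zero_iff_right (by
      have := (ZMod.natCast_eq_zero_iff 2 p).not.2 (Nat.not_dvd_of_pos_of_lt two_pos (by have := h.five; omega))
      exact_mod_cast this), sub_sub, sub_eq_zero] at this
    rwa [pow_add, End.mul_apply]
  have e2 : ∀ u ∈ LinearMap.ker (gm τ B ^ n), ρ (k * t * k⁻¹) u = u + τ u := fun u hu => by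
    have a1 : ρ k⁻¹ u = u := sub_eq_zero.1 ((inv_mem hk : k⁻¹ ∈ K).2 u hu)
    have a2 := sub_eq_zero.1 (hk.2 _ (pn _ ((rf t tX).cm s1 s2) u hu))
    rw [map_mul, map_mul, End.mul_apply, End.mul_apply, a1, a2]; simp [hτ]
  have ti : ∀ v, ρ t⁻¹ v = v - τ v := fun v => by rw [rho_inv_sq s1]; rfl
  have tt : ∀ v, τ (τ v) = 0 := fun v => by rw [← End.mul_apply, s1]; rfl
  have : k * t * k⁻¹ * t⁻¹ ∈ zpowers t := by
    refine h.AA h1 h2 h3 ht (fun v _ => ?_) fun v hv => ?_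
    · obtain ⟨u, hu, _, ⟨w, rfl⟩, e⟩ :=
        Submodule.mem_sup.1 (hn.sup_eq_top.ge (Submodule.mem_top (x := ρ t⁻¹ v)))
      have := add_mem (add_mem (h.rg h1 h2 h3 ht u) (h.rg h1 h2 h3 ht (r ((gm τ B ^ n) w))))
        (neg_mem (h.rg h1 h2 h3 ht v))
      rw [map_mul, End.mul_apply, ← e, map_add, e1, e2 u hu, ← End.mul_apply r, ← cr.1.eq]
      convert this using 1
      rw [ti] at e
      rw [← sub_eq_zero, ← sub_eq_zero.2 e]; simp only [End.mul_apply, hτ]; abel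
    · have hv := (h.ker h1 h2 h3 ht).1 hv
      obtain ⟨u, hu, w, rfl, a, -⟩ := dec v hv
      rw [map_mul, End.mul_apply, ti, hv, sub_zero, map_add, e1, e2 u hu, a]
      rw [map_add, a] at hv
      simp at hv ⊢
      exact hv
  obtain ⟨b, hb⟩ := mem_powers_iff_mem_zpowers.2 ((mul_mem_cancel_right (inv_mem (mem_zpowers t))).1 this)
  have hb : t ^ b = k * t * k⁻¹ := hb
  have e3 := conj_pw ρ k t 1
  rw [pow_one, pow_one, ← hb, rho_pow_sq (τ := τ) (by rw [hτ]; abel) s1, add_sub_cancel_left, ← hτ] at e3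
  have i1 : ρ k⁻¹ * ρ k = 1 := by rw [← map_mul, inv_mul_cancel, map_one]
  have e4 : ρ k * τ = (b : ZMod p) • (τ * ρ k) := by
    rw [← smul_mul_assoc, e3, mul_assoc, i1, mul_one]
  have b0 : (b : ZMod p) ≠ 0 := fun e => h.t1 (by
    rw [pow_eq_one_of_cast tp e, eq_comm, conj_eq_one_iff] at hb; exact hb)
  have b1 : (b : ZMod p) ≠ 1 := fun e => c2 (h.inj (by
    rw [← hb, rho_pow_sq (τ := τ) (by rw [hτ]; abel) s1, e, one_smul, hτ]; abel))
  refine ⟨k, b, b0, b1, e4, ?_, fun v hv => ?_⟩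
  · have e5 : ρ k⁻¹ * τ = (b : ZMod p)⁻¹ • (τ * ρ k⁻¹) := by
      rw [eq_inv_smul_iff₀ b0, ← mul_smul_comm, e3, ← mul_assoc, ← mul_assoc, i1, one_mul]
    have e6 := congrArg (· * ρ k) ((rf k hk.1).tr s1 s2).eq
    simp only [mul_add, add_mul, e4, e5, smul_mul_assoc, mul_assoc, i1, mul_one] at e6
    refine smul_right_injective _ (sub_ne_zero.2 b1) ?_
    simp only [map_mul, smul_smul]
    rw [show ((b : ZMod p) - 1) * (b : ZMod p)⁻¹ = 1 - (b : ZMod p)⁻¹ by field_simp, ← sub_eq_zero,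
      ← sub_eq_zero.2 e6.symm]
    module
  · obtain ⟨u, hu, w, rfl, -, w', a⟩ := dec v ((h.ker h1 h2 h3 ht).1 hv)
    have := (h.st h1 h2 h3 ht e4 b0).2 _ (h.rg h1 h2 h3 ht w')
    rw [a, map_add, sub_eq_zero.1 (hk.2 u hu), add_sub_add_left_eq_sub]
    exact this

omit h1 h2 h3 ht in
theorem stS (j : ℕ) : s ∈ St ρ (VV (ρ s - 1) j) := fun _ hv => N_VV hv

theorem two [Finite V] : d = 2 := by
  obtain ⟨g, hg⟩ := h.nM
  obtain ⟨k, c, c0, c1, e1, e2, e3⟩ := h.torus h1 h2 h3 ht hg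
  have l : VV (ρ s - 1) (d + 1 - m) ≤ VV (ρ s - 1) m := VV_mono (by omega)
  obtain ⟨k1, k2⟩ := h.st h1 h2 h3 ht e1 c0
  have a1 : ∀ v ∈ (⊤ : Submodule (ZMod p) V), ρ (k * k) v - c⁻¹ • v ∈ VV (ρ s - 1) m := fun v _ => by
    rw [h.ker h1 h2 h3 ht, map_sub, ← End.mul_apply, e2]; simp
  have a2 : ∀ v ∈ VV (ρ s - 1) m, ρ (k * k) v - (1 : ZMod p) • v ∈ VV (ρ s - 1) (d + 1 - m) := by
    simp only [one_smul]; exact mul_mem (S := Subgroup G) (s := Lay ρ _ _ l) e3 e3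
  have a3 : ∀ v ∈ VV (ρ s - 1) (d + 1 - m), ρ (k * k) v - c • v ∈ (⊥ : Submodule (ZMod p) V) := fun v hv => by
    obtain ⟨w, rfl⟩ := h.rg' h1 h2 h3 ht hv
    rw [← End.mul_apply, map_mul, mul_assoc, e1, mul_smul_comm, ← mul_assoc, e1, smul_mul_assoc,
      mul_assoc, ← map_mul, e2, smul_inv_smul₀ c0]
    simp
  have z1 := comm_Lay le_top a1 (mul_mem k1 k1) St_top (h.stS _)
  have z2 := comm_Lay l a2 (mul_mem k2 k2) (h.stS _) (h.stS _)
  have z3 := comm_Lay bot_le a3 St_bot (h.stS _) St_bot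
  obtain ⟨α, hα⟩ := h.sup _ (mem_syl h.pg h.syl (pg3 h.inj (by have := h.five; omega) l)
    (fun x hx => mem_nz_inf (mem_nz_inf (nz_Lay _ St_top (h.stT h1 h2 h3 ht hx).1)
      (nz_Lay _ (h.stT h1 h2 h3 ht hx).1 (h.stT h1 h2 h3 ht hx).2))
        (nz_Lay _ (h.stT h1 h2 h3 ht hx).2 St_bot)) ⟨⟨z1, z2⟩, z3⟩)
  have ne : ∀ j (β : ZMod p), j < d → β • (ρ s - 1) (((ρ s - 1) ^ (d - (j + 1))) v₀) ∈ VV (ρ s - 1) j → β = 0 :=
    fun j β hj e => h.cy.e_not hj.le (by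
      rwa [← End.mul_apply, ← pow_succ', show d - (j + 1) + 1 = d - j by omega] at e)
  have α0 : α ≠ 0 := fun e => by
    obtain ⟨j, rfl⟩ := Nat.exists_eq_add_of_le' (show 1 ≤ m by omega)
    have hv : ((ρ s - 1) ^ (d - (j + 1))) v₀ ∈ VV (ρ s - 1) (j + 2) := h.cy.pow_VV (by omega)
    refine c1 (sub_eq_zero.1 (ne j _ (by omega) ?_))
    generalize ((ρ s - 1) ^ (d - (j + 1))) v₀ = v at hv ⊢
    have b1 := hα j (by omega) (by omega) _ (mem_St.1 (h.stS _) v hv)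
    have b2 := a1 (ρ (k * k)⁻¹ v) trivial
    rw [rho_inv'] at b2
    have b3 := N_mem_VV.2 (Submodule.smul_mem _ c b2)
    have b4 : (ρ s - 1) (ρ (k * k)⁻¹ v) ∈ VV (ρ s - 1) (j + 1) := by
      have := sub_mem (Submodule.smul_mem _ c (N_mem_VV.2 hv)) (VV_mono j.le_succ b3)
      simpa only [smul_sub, smul_inv_smul₀ c0, map_sub (ρ s - 1), map_smul, sub_sub_cancel] using this
    have b5 := VV_mono (show d + 1 - (j + 1) ≤ j by omega) (a2 _ b4)
    rw [e, zero_smul, sub_zero, map_mul, map_mul, map_mul, End.mul_apply, End.mul_apply, End.mul_apply,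
      rho_inv] at b1
    convert add_mem (sub_mem b1 b5) b3 using 1
    simp only [smul_sub, smul_inv_smul₀ c0, map_sub, map_smul, LinearMap.sub_apply, End.one_apply, rho_inv',
      one_smul, sub_smul]
    abel
  by_contra hd
  rcases (show m < d ∨ m = d by omega) with h4 | rfl
  · obtain ⟨j, rfl⟩ := Nat.exists_eq_add_of_le' (show 1 ≤ d by omega)
    exact α0 (ne j α (by omega) (by
      simpa only [sub_sub_cancel] using sub_mem (VV_mono (show m ≤ j by omega) (z1 (((ρ s - 1) ^ (j + 1 - (j + 1))) v₀) trivial))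
        (hα j (by omega) (by omega) (((ρ s - 1) ^ (j + 1 - (j + 1))) v₀) (h.cy.top (by omega)))))
  · obtain ⟨j, rfl⟩ := Nat.exists_eq_add_of_le' (show 2 ≤ m by omega)
    have hv : ((ρ s - 1) ^ (j + 2 - (j + 1))) v₀ ∈ VV (ρ s - 1) (j + 2) := h.cy.pow_VV (by omega)
    exact α0 (ne j α (by omega) (by
      simpa only [sub_sub_cancel] using
        sub_mem (VV_mono (show j + 2 + 1 - (j + 2) ≤ j by omega) (z2 _ hv)) (hα j (by omega) (by omega) _ hv)))

omit h1 h2 h3 ht in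
theorem false [Finite V] : False := by
  obtain ⟨m, c₀, q₀, h1, h2, h3, ht⟩ := h.ex
  obtain rfl := h.two h1 h2 h3 ht
  obtain rfl : m = 2 := by omega
  obtain ⟨g, hg⟩ := h.nM
  let e : ℕ → V := fun j => ((ρ s - 1 : End (ZMod p) V) ^ j) v₀
  let w := ρ g (e 2)
  have c : Nat.card (VV (ρ s - 1) 2) ≤ p ^ 2 := by
    have := Nat.card_le_card_of_surjective (fun a : ZMod p × ZMod p => (⟨a.1 • e 1 +
      a.2 • e 2, add_mem (Submodule.smul_mem _ _ (h.cy.pow_VV (by omega)))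
        (Submodule.smul_mem _ _ (h.cy.pow_VV (by omega)))⟩ : VV (ρ s - 1) 2)) fun ⟨v, hv⟩ => by
      obtain ⟨a, ha⟩ := h.cy.line (j := 1) (by omega) hv
      obtain ⟨b, hb⟩ := h.cy.line (j := 0) (by omega) ha
      exact ⟨(a, b), Subtype.ext (by
        rw [LinearMap.mem_ker, pow_zero, End.one_apply, sub_sub, sub_eq_zero] at hb; exact hb.symm)⟩
    rwa [Nat.card_prod, Nat.card_zmod, ← _root_.sq] at this
  have fl : ∀ x : T, ρ x w - w ∈ VV (ρ s - 1) 2 := fun x => by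
    obtain ⟨a, ha⟩ := h.sup x x.2
    simpa using add_mem (VV_mono one_le_two (ha 1 le_rfl one_lt_two w (h.cy.top (by omega))))
      (Submodule.smul_mem _ a (N_mem_VV.2 (h.cy.top (v := w) (by omega))))
  obtain ⟨x, x', ne, e⟩ : ∃ x x' : T, x ≠ x' ∧ ρ x w = ρ x' w := by
    by_contra! H
    exact (c.trans_lt h.big).not_ge (Nat.card_le_card_of_injective
      (fun x : T => (⟨_, fl x⟩ : VV (ρ s - 1) 2)) fun x x' e => by_contra fun n =>
        H x x' n (sub_left_injective (congrArg Subtype.val e)))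
  have xT : x'.1⁻¹ * x ∈ T := mul_mem (inv_mem x'.2) x.2
  have xw : ρ (x'.1⁻¹ * x) w = w := by rw [map_mul, End.mul_apply, e, rho_inv]
  let L := Submodule.span (ZMod p) {w}
  have xL : x'.1⁻¹ * x ∈ St ρ L := mem_St.2 fun v hv => by
    obtain ⟨a, rfl⟩ := Submodule.mem_span_singleton.1 hv
    rwa [map_smul, xw]
  have pQ := pg3 (ρ := ρ) h.inj (by have := h.five; omega) (le_refl L)
  have tw : ∀ v, ρ (g * t * g⁻¹) v - v = ρ g ((ρ t - 1) (ρ g⁻¹ v)) := fun v => by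
    simp [rho_inv']
  refine hg (h.bM (h.pM ((h.pg.to_le (zpowers_le.2 xT)).to_sup_of_normal_right' pQ (zpowers_le.2
    (mem_nz_inf (mem_nz_inf (nz_Lay _ St_top xL) (nz_Lay _ xL xL)) (nz_Lay _ xL St_bot))))
    (mem_sup_left (mem_zpowers _)) xT (fun e => ne (Subtype.ext (inv_mul_eq_one.1 e).symm))
    (mem_sup_right ?_)))
  have a1 : g * t * g⁻¹ ∈ Lay ρ ⊤ L le_top := fun v _ => by
    obtain ⟨a, ha⟩ := h.cy.line (j := 0) (by omega) (h.rg h1 h2 h3 ht (ρ g⁻¹ v))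
    rw [LinearMap.mem_ker, pow_zero, End.one_apply, sub_eq_zero] at ha
    rw [tw, ha, map_smul]
    exact Submodule.smul_mem _ _ (Submodule.mem_span_singleton_self w)
  refine ⟨⟨a1, fun v _ => a1 v trivial⟩, fun v hv => ?_⟩
  obtain ⟨a, rfl⟩ := Submodule.mem_span_singleton.1 hv
  rw [tw, map_smul, rho_inv, map_smul, (h.ker h1 h2 h3 ht).1 (h.cy.pow_VV (by omega))]
  simp

end T3
end H24.NE
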