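import Cfsg.Agent.H24.XE5
import Cfsg.Agent.H4.Mx4

/-! The pearl case, and the list of the possible groups. -/

set_option autoImplicit false
set_option linter.unusedSectionVars false

namespace H24
namespace XE
open Subgroup H25 H25.FS H4 H4.P5 H4.G3 H4.Mx
open scoped commutatorElement

variable {Γ : Type*} [Group Γ] [Finite Γ] {p n : ℕ} [hp : Fact p.Prime] {F : FS Γ}
variable {S P Q E : Subgroup Γ} {a b e g k q s t u v w x y z : Γ}

theorem nz_D (i : ℕ) : nz S ≤ nz (DD S i) := by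
  rw [DD, ← top_subtype_lowerCentralSeries]; exact nz_char (LL S i)

theorem not_maxC' (hF : F.Sat p) (hP : F.Ess P) (M : MaxC p n P) (h4 : 4 ≤ n) : False := by
  obtain ⟨x, hx, -, hx'⟩ := exists_mem_nz_of_lt (hF.pg' inf_le_left : IsPGroup p (F.N P))
    (lt_inf_nz_of_lt hF.pg hP.lt)
  let c : ℕ → Subgroup Γ := fun i => if i + 2 ≤ n then DD P (n - 1 - i) else if i + 1 = n then T1 P else P
  have h1 : ∀ i, c i ≤ P ∧ nz P ≤ nz (c i) := fun i => by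
    simp only [c]
    split_ifs
    exacts [⟨D_le, nz_D _⟩, ⟨T1_le, nz_char (TT P 1)⟩, ⟨le_rfl, le_rfl⟩]
  have h2 : ∀ i < n, c i ≤ c (i + 1) ∧ Nat.card (c (i + 1)) ≤ Nat.card (c i) * p := fun i hi => by
    have cT := card_T1 M h4
    simp only [c]
    split_ifs <;> try omega
    · exact ⟨D_anti (by omega), by
        rw [show n - 1 - i = n - 1 - (i + 1) + 1 by omega]; exact card_D_le M (by omega)⟩
    · refine ⟨D_le_T1 (by omega), Nat.le_of_mul_le_mul_right ?_ hp.out.pos⟩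
      rw [← cT, M.card, card_D M (by omega), ← pow_succ, ← pow_succ]
      exact le_of_eq (by congr 1; omega)
    · exact ⟨T1_le, cT.le⟩
  refine hx' ((hF.ess_rad hP).mem_of_chain hF.pg hP.centric (n := n) c ?_ ?_ (fun i _ a ha =>
    mem_nz_inf ha.1 ((h1 i).2 ha.1)) hx fun i hi y hy => comm_of_stab (mem_stab_of_card hF.pg
      ((h1 _).1.trans hP.le) (h2 i hi).1 (h2 i hi).2 hx.1 ((h1 _).2 hx.2) ((h1 _).2 hx.2)) hy.2)
  · simp only [c, if_pos (show 0 + 2 ≤ n by omega)]; exact D_bot M (by omega)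
  · simp [c]

/-- a pearl -/
structure E4 (F : FS Γ) (p : ℕ) (Q E : Subgroup Γ) (z t : Γ) : Prop extends E2 F p Q E z where
  tN : t ∈ F.N E
  tE : t ∉ E
  hN : F.N E ≤ E ⊔ zpowers t
  e0 : E ⊓ Q ≤ zpowers z

theorem E2.pearl (o : E2 F p Q E z) (ha : a ∈ F.A E) (h : a ∉ nz (zpowers z)) (ht : t ∈ Q)
    (h1 : ⁅a * z * a⁻¹, t⁆ ∈ zpowers z) (tE : t ∉ E) : E4 F p Q E z t := by
  have r := o.xq
  have vE := o.vE ha
  have vQ := o.out a ha h
  have es := o.sup vE vQ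
  have K1 := fun x => o.K1 (x := x) ha h (mem_zpowers _) o.v1
  generalize a * z * a⁻¹ = v at *
  have eS := r.sup (o.le vE) vQ
  have vN := o.lc.lt.le vE
  have c1 : ∀ y ∈ E, ⁅t, y⁆ ∈ zpowers z := fun y hy => cm_gen (es.le.trans (o.le.trans r.nZ))
    (fun u hu => r.qc ht hu.2) (comm_symm h1) y (es.ge hy)
  have inN : ∀ u ∈ Q, ⁅v, u⁆ ∈ E → u ∈ F.N E := fun u hu e => ⟨r.QS hu, nz_of_comm fun y hy =>
    cm_gen (es.le.trans (le_nz_self E)) (fun x hx => o.ZE (r.qc hu hx.2)) (comm_symm e) y (es.ge hy)⟩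
  have tN := inN t ht (o.ZE h1)
  have ZX : zpowers z ≤ E ⊓ cz (zpowers t) :=
    le_inf o.ZE (r.Zc.trans (cz_anti (zpowers_le.2 (r.QS ht))))
  have tv : G3.TV p E (F.N E) (F.A E) (nz (zpowers z)) (E ⊓ cz (zpowers t)) z t :=
    ⟨o.lc, o.cm, fun _ => o.pw, inf_le_left, card_le_cz c1 o.zc r.cZ.le, tN, tE,
      zpowers_le.1 (le_cz_comm.1 inf_le_right), ZX (mem_zpowers z), c1⟩
  have dec : ∀ g ∈ F.S, ∃ u ∈ Q, ∃ k : ℕ, g = u * v ^ k := fun g hg =>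
    (mem_sup_zpowers' (r.nQ (o.le vE))).1 (eS.ge hg)
  have hN : F.N E ≤ E ⊔ zpowers t := fun g hg => by
    obtain ⟨u, hu, k, rfl⟩ := dec g hg.1
    have uN := (mul_mem_cancel_right (pow_mem vN k)).1 hg
    refine mul_mem (tv.mem_of_stab uN ((stab_iff inf_le_left).2 fun y hy => cm_gen
      (fun x hx => o.nE inf_le_left (es.le hx)) (fun x hx => ZX (r.qc hu hx.2)) (comm_symm ?_) y (es.ge hy)))
      (mem_sup_left (pow_mem vE k))
    exact ⟨comm_mem_l vE uN.2, cz_anti (zpowers_le.2 (r.mem_CC.2 ⟨ht, h1⟩)) (r.d_cz (o.le vE) hu).2⟩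
  have CN : ∀ x ∈ F.N E, ⁅v, x⁆ ∈ zpowers z := fun x hx => cm_gen
    ((sup_le o.le (zpowers_le.2 tN.1)).trans r.nZ) (fun u hu => o.cm.comm vE hu ▸ one_mem _) h1 x (hN hx)
  refine ⟨o, tN, tE, hN, fun e he => ?_⟩
  obtain ⟨g, hg, g1, g2⟩ := exists_mem_nz_of_lt r.pg (lt_of_le_not_ge inf_le_left fun f : F.S ≤ F.N E => by
    have := (card_le_of_le (f.trans hN)).trans
      (card_zp_le (X := ⊥) .of_bot tN.2 (o.ZE (r.ge.pw t ht)))
    rw [r.card, o.cE] at this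
    exact (r.ab_lt o.Z0 inf_le_right (o.cm.mono inf_le_left)).not_ge
      (Nat.le_of_mul_le_mul_right this hp.out.pos))
  obtain ⟨u, hu, k, rfl⟩ := dec g hg
  have wN := comm_mem_l vN ((mul_mem_cancel_right (pow_mem (le_nz_self _ vN) k)).1 g1)
  have wd := r.d_cz (o.le vE) hu
  obtain ⟨q, hq, f⟩ := r.dual2 (o.le vE) ⟨he.2, cz_of_sup (r.pQ.to_le r.CC_le) (o.le_CC vE)
    (r.card_CC.trans (Nat.mul_le_mul_right _ (card_le_of_le fun x hx =>
      ⟨K1 x (r.QS hx.1) (comm_one hx.2 (mem_zpowers v)), hx.1⟩))) ⟨wd.1, CN _ wN⟩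
    (fun f => g2 (mul_mem (inN u hu f.1) (pow_mem vN k))) (cz_anti inf_le_left (cm_iff.1 o.cm he.1))
    (cz_of_one (c_symm (comm_one wd.2 (o.le_CC vE he))))⟩
  exact (mul_mem_cancel_left (inv_mem (CN q (inN q hq (inv_mem_iff.1
    ((E.mul_mem_cancel_right he.1).1 (o.ZE f))))))).1 f

namespace E4
variable (o : E4 F p Q E z t)
include o

theorem cE' : Nat.card E = Nat.card (zpowers z) * p := by rw [o.cE, le_antisymm o.e0 o.Z0]

theorem cen (he : e ∈ E) (h : e ∉ Q) (hx : x ∈ F.S) (hc : ⁅x, e⁆ = 1) : x ∈ E :=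
  o.ess.centric.C_le ⟨hx, cz_of_sup o.pE o.ZE o.cE'.le he (fun f => h (o.xq.ZQ f)) (o.xq.cZ' hx) (cz_of_one hc)⟩

theorem nzQ (hk : k ∈ nz F.S) (h : k ∈ nz (zpowers z)) : k ∈ nz Q := by
  obtain ⟨e, he, he'⟩ := o.exE
  have r := o.xq
  have c := r.card_CC.trans (Nat.mul_le_mul_right _ ((card_le_of_le fun x (hx : x ∈ Q ⊓ cz (zpowers e)) =>
    o.e0 ⟨o.cen he he' (r.QS hx.1) (comm_one hx.2 (mem_zpowers e)), hx.1⟩).trans r.cZ.le))
  refine r.nzQ (o.le he) (lt_of_lt_of_le ((Nat.mul_le_mul_right _ c).trans_lt ?_) r.big) hk h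
  rw [← pow_two, ← pow_succ]; exact Nat.pow_lt_pow_right hp.out.one_lt (by norm_num)

theorem hno (H : F.T (F.N E) g) (hP : F.Ess P) : ¬ cj g (F.N E) ≤ P := fun hle => by
  have r := o.xq
  have c2 : Nat.card E = p ^ 2 := by rw [o.cE', r.cZ, pow_two]
  have cN := card_cube_of o.lc.pg o.lc.lt inf_le_right c2 (fun _ => o.pw)
    ((inf_le_inf_right _ inf_le_left).trans o.ess.centric.C_le)
  rcases hle.eq_or_lt with rfl | h
  · exact no_eq o.sat o.ess.fn o.ess.centric o.lc.lt o.ZE (r.Zc.trans (cz_anti inf_le_left))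
      (by rw [cN, r.cZ]; exact le_of_eq (by ring)) (cN ▸ Nat.pow_le_pow_right hp.out.pos (by norm_num)) H hP
  obtain ⟨m, hm⟩ := IsPGroup.iff_card.1 (o.sat.pg' hP.le)
  have h1 := card_mul_le_lt o.sat.pg hP.le h
  rw [card_cj, cN, ← pow_succ, hm, Nat.pow_le_pow_iff_right hp.out.one_lt] at h1
  exact not_maxC' o.sat hP (maxC_of_sc hm (by omega) ((cj_mono g o.lc.lt.le).trans hle)
    ((inf_le_inf_right _ hP.le).trans (o.ess.centric.cj (H.mono o.lc.lt.le)).C_le) (by rw [card_cj, c2])) h1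

theorem torus {l m : ℤ} (hl : (l : ZMod p) * m = 1) :
    ∃ e ∈ E, e ∉ Q ∧ ∃ k ∈ nz F.S, k * z * k⁻¹ = z ^ l ∧ k * e * k⁻¹ = e ^ m := by
  have r := o.xq
  have tv : P5.TV F p E (zpowers z) z t := ⟨o.sat, o.ess, o.cm, fun _ => o.pw, o.ZE, o.cE'.le, o.tN, o.tE,
    r.cZ' o.tN.1, mem_zpowers z, (mem_stab'.1 (mem_stab_of_card r.pg o.le o.ZE o.cE'.le o.tN.1
      (r.nZ o.tN.1) o.tN.2)).2⟩
  obtain ⟨e, he, he', k, hk, k1, k2, -⟩ := tv.torus o.hN hl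
  obtain ⟨k', hk', ag⟩ := ext_S o.sat (fun g H P hP => o.hno H hP) (T_of_mem_A inf_le_left hk)
  exact ⟨e, he, fun f => he' (o.e0 ⟨he, f⟩), k', hk'.1, (ag z (o.lc.lt.le (o.ZE (mem_zpowers z)))).symm.trans k1,
    (ag e (o.lc.lt.le he)).symm.trans k2⟩

theorem final : TG p F.S ∨ (11 ≤ p ∧ Nat.card F.S = p ^ (p - 1) ∧ (∀ x ∈ F.S, x ^ p = 1) ∧
    Group.nilpotencyClass F.S = p - 2) := by
  have r := o.xq
  have p1 := hp.out.one_lt
  obtain ⟨n, hn⟩ := IsPGroup.iff_card.1 r.pg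
  have h6 : 6 ≤ n := by
    have := Nat.mul_le_mul_right p r.big
    rwa [← r.card, hn, ← pow_succ, Nat.pow_le_pow_iff_right p1] at this
  have M := maxC_of_sc hn (by omega) o.le o.ess.centric.C_le (by rw [o.cE', r.cZ, pow_two])
  have eZ : zpowers z = DD F.S (n - 2) := eq_of_le_of_card_le
    ((le_inf (r.ZQ.trans r.QS) r.Zc).trans (cen_eq M).le) (by
      rw [r.cZ, card_D M (by omega), show n - 1 - (n - 2) = 1 by omega, pow_one])
  have DQ : ∀ i, 1 ≤ i → DD F.S i ≤ Q := fun i hi =>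
    (D_anti hi).trans (commutator_le.2 fun x hx y hy => r.cm hx hy)
  have eT : Q = T1 F.S := eq_of_le_of_card_le (fun g hg => (mem_T1 (r.QS hg)).2 fun x hx =>
    (mem_D (D_le (D_act ((mem_D x.2).2 hx) (r.QS hg)))).1 (D_anti (j := n - 2) (by omega)
      (eZ ▸ r.qc (DQ 1 le_rfl ((mem_D x.2).2 hx)) hg)))
    (Nat.le_of_mul_le_mul_right (by rw [← card_T1 M (by omega), r.card]) hp.out.pos)
  have cQ : Nat.card Q = p ^ (n - 1) := Nat.eq_of_mul_eq_mul_right hp.out.pos (by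
    rw [← r.card, hn, ← pow_succ]; congr 1; omega)
  have cD : Nat.card Q ≤ Nat.card (DD F.S 1) * p := by
    rw [cQ, card_D M le_rfl, ← pow_succ]; exact le_of_eq (by congr 1; omega)
  obtain ⟨y0, hy0, hy0'⟩ := exi_of_card (H := DD F.S 1) (K := Q) (by
    rw [cQ, card_D M le_rfl]; exact Nat.pow_lt_pow_right p1 (by omega))
  have nd : ∀ y ∈ DD F.S (n - 3), y ∉ zpowers z → ⁅y0, y⁆ ≠ 1 := fun y hy h e => h (r.zQ
    ⟨DQ _ (by omega) hy, cz_of_sup r.pQ (DQ 1 le_rfl) cD hy0 hy0' (mem_cz'.2 fun x hx =>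
      commutatorElement_eq_one_iff_mul_comm.1 (D_one M (by omega) (D_comm hx hy))) (cz_of_one (c_symm e))⟩)
  obtain ⟨v, vE, vQ⟩ := o.exE
  have pD : ∀ x ∈ DD F.S 1, x ^ p = 1 := by
    obtain ⟨O, hO⟩ := r.exO
    have i : ∀ s ∈ F.S, ∀ x ∈ Q, ⁅s, x⁆ ∈ O := fun s hs x hx => (hO _).2 ⟨r.cm hs (r.QS hx), r.pw_comm hs hx⟩
    have es := r.sup (o.le vE) vQ
    exact fun x hx => ((hO x).1 (commutator_le.2 (fun x hx y hy => comm_gen (es.le.trans fun s hs =>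
      nz_of_comm fun y hy => i s hs y ((hO y).1 hy).1) (fun u hu => i u (r.QS hu))
      (fun u hu => comm_symm (i v (o.le vE) u hu)) x (es.ge hx) y (es.ge hy)) hx)).2
  have wt : ∀ l m : ℤ, (l : ZMod p) * m = 1 → (m : ZMod p) ^ n = 1 ∧ ((l : ZMod p) ≠ m → ∀ x ∈ Q, x ^ p = 1) := by
    intro l m hl
    obtain ⟨e, he, he', k, hk, k1, k2⟩ := o.torus hl
    have eS := o.le he
    obtain ⟨i, hi⟩ := exists_wa r.pg hk D_nz (DQ 1 le_rfl) r.QS cD hy0 hy0'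
      (conj_mem_of_mem_nz (o.nzQ hk (nz_zp k1)) hy0)
    have ch : ∀ j, j + 2 ≤ n → ∃ y ∈ Q, y ∈ DD F.S j ∧ y ∉ DD F.S (j + 1) ∧
        Wa k (DD F.S (j + 1)) y (i * m ^ j) := fun j => by
      induction j with
      | zero => exact fun _ => ⟨y0, hy0, r.QS hy0, hy0', by simpa using hi⟩
      | succ j ih =>
        intro hj
        obtain ⟨y, h1, h2, h3, h4⟩ := ih (by omega)
        refine ⟨⁅y, e⁆, r.cm (r.QS h1) eS, D_act h2 eS, fun f => h3 ?_, ?_⟩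
        · rcases hj.eq_or_lt with rfl | hj
          · exact eZ.le (o.e0 ⟨o.cen he he' (r.QS h1) (D_one M (by omega) f), h1⟩)
          · exact down' M eS (eT ▸ he') (eT ▸ h1) (by omega) f
        · rw [pow_succ, ← mul_assoc]
          exact h4.comm hk D_le D_nz (r.QS h1) eS (wa_of_eq k2) (fun g hg => D_act (D_act h2 eS) hg)
            (fun u hu => D_act hu (conj_mem_of_mem_nz hk eS)) fun u hu => by simp [mem_bot.1 hu]
    obtain ⟨y, h1, h2, h3, h4⟩ := ch (n - 2) (by omega)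
    rw [D_bot M (by omega)] at h3 h4
    have e1 := h4.eq hk bot_le (le_nz_bot _) (r.QS h1) (wa_zp k1 (eZ.ge h2)) h3 (r.zp (eZ.ge h2))
    obtain ⟨y, h1, h2, h3, h4⟩ := ch (n - 3) (by omega)
    rw [show n - 3 + 1 = n - 2 by omega, ← eZ] at h3 h4
    have zq := r.qc hy0 h1
    have e2 := (hi.comm hk bot_le (le_nz_bot _) (r.QS hy0) (r.QS h1) h4 (fun g hg => r.z_l zq hg)
      (fun u hu => D_one M (by omega) (D_comm hu (conj_mem_of_mem_nz (nz_D _ hk) h2)))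
      fun u hu => r.z_r hu (r.QS hy0)).eq hk bot_le (le_nz_bot _) (r.QS (r.ZQ zq)) (wa_zp k1 zq) (nd y h2 h3)
      (r.zp zq)
    obtain ⟨n', rfl⟩ : ∃ n', n = n' + 3 := ⟨n - 3, by omega⟩
    rw [show n' + 3 - 2 = n' + 1 by omega] at e1
    rw [Nat.add_sub_cancel] at e2
    push_cast at e1 e2
    have e3 : (i : ZMod p) = m := by
      linear_combination (m - i : ZMod p) * hl + (m * (m - i) : ZMod p) * e1 + (m : ZMod p) ^ 2 * (e2 - e1)
    refine ⟨by rw [e3] at e1; linear_combination (m : ZMod p) * e1 + hl, fun h => ?_⟩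
    rw [← eq_sup_of_card r.pQ (DQ 1 le_rfl) cD hy0 hy0']
    exact r.pw_sup (DQ 1 le_rfl) pD hy0 (r.exp_of_wt k1 hy0 (DQ 1 le_rfl) pD hi (e3 ▸ h))
  have hle : n ≤ p + 1 := by
    by_contra! h
    refine D_nle M le_rfl (by omega) fun x hx => (mem_D (D_le hx)).2
      (M.star le_rfl (by omega) ((mem_D _).1 hx) ?_)
    rw [show (⟨x, D_le hx⟩ : F.S) ^ p = 1 from Subtype.ext (pD x hx)]; exact one_mem _
  have hd : p - 1 ∣ n := by
    obtain ⟨g, hg⟩ := IsCyclic.exists_ofOrder_eq_natCard (α := (ZMod p)ˣ)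
    rw [Nat.card_eq_fintype_card, ZMod.card_units] at hg
    obtain ⟨m, hm⟩ := ZMod.intCast_surjective (g : ZMod p)
    obtain ⟨l, hl⟩ := ZMod.intCast_surjective ((g⁻¹ : (ZMod p)ˣ) : ZMod p)
    exact hg ▸ orderOf_dvd_of_pow_eq_one (Units.ext ((Units.val_pow_eq_pow_val g n).trans
      (hm ▸ (wt l m (by rw [hm, hl, Units.inv_mul])).1)))
  obtain rfl : n = p - 1 := by
    obtain ⟨c, hc⟩ := hd
    obtain ⟨p', rfl⟩ : ∃ p', p = p' + 1 := ⟨p - 1, by omega⟩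
    rw [Nat.add_sub_cancel] at hc ⊢
    rcases c with _ | _ | c
    · omega
    · omega
    · nlinarith
  obtain ⟨l, m, hl, l2, -⟩ := exists_prim (p := p) (by omega)
  have pQ := (wt l m hl).2 fun e => l2 (by rw [pow_two, ← hl, e])
  have pS : ∀ x ∈ F.S, x ^ p = 1 := fun x hx => by
    obtain ⟨y, hy, rfl⟩ := (sup_le (fun u hu => ⟨⟨u, r.QS hu⟩, ⟨trivial, Subtype.ext (pQ u hu)⟩, rfl⟩)
      (zpowers_le.2 ⟨⟨v, o.le vE⟩, ⟨trivial, Subtype.ext (o.pw vE)⟩, rfl⟩) : Q ⊔ zpowers v ≤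
        (omegaMod M.pg ⊤ ⊥ (M.bot (by omega)).le).map F.S.subtype) ((r.sup (o.le vE) vQ).ge hx)
    exact congrArg Subtype.val (mem_bot.1 hy.2)
  by_cases h7 : p = 7
  swap
  · refine .inr ⟨?_, hn, pS, M.cls⟩
    by_contra! h
    have := hp.out
    interval_cases p <;> first | omega | norm_num at this
  subst h7
  obtain ⟨y, hy, hy'⟩ := SetLike.not_le_iff_exists.1 (D_nle M (i := 3) (by norm_num) (by norm_num))
  obtain ⟨j, hj⟩ := adj r.ge.pow (r.qc hy0 (DQ 3 (by norm_num) hy)) (eZ.ge (comm_symm (D_act hy (o.le vE))))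
    (r.cen (mem_zpowers z) (r.QS hy0)) (r.cen (mem_zpowers z) (o.le vE))
    (mt commutatorElement_eq_one_iff_mul_comm.2 (nd y hy (eZ ▸ hy')))
  have sS := mul_mem (o.le vE) (zpow_mem (r.QS hy0) j)
  have sT : v * y0 ^ j ∉ T1 F.S := fun f => vQ ((mul_mem_cancel_right (zpow_mem hy0 j)).1 (eT.ge f))
  generalize v * y0 ^ j = s at hj sS sT
  have q2 := comm_symm (D_act (i := 0) (r.QS hy0) sS)
  have q3 := comm_symm (D_act q2 sS)
  have q4 := comm_symm (D_act q3 sS)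
  refine .inl (r.typeG cQ pQ sS (pS s sS) hy0 (comm_one (cz_of_sup (r.pg.to_le D_le) (D_anti (by norm_num))
    (card_D_le M (by norm_num)) hy hy' (eZ ▸ r.cZ' sS) (cz_of_commute hj)) q4) (nd _ q4 fun f => hy0' ?_))
  exact down' M sS sT (eT.le hy0) (by norm_num) (comm_symm (down' M sS sT (D_le_T1 le_rfl q2) (by norm_num)
    (comm_symm (down' M sS sT (D_le_T1 (by norm_num) q3) (by norm_num) (comm_symm (eZ.le f))))))

end E4

theorem main (hF : F.Sat p) (r : XQ p F.S Q z) (h0 : F.core = ⊥) :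
    TA p F.S ∨ TG p F.S ∨ (11 ≤ p ∧ Nat.card F.S = p ^ (p - 1) ∧ (∀ x ∈ F.S, x ^ p = 1) ∧
      Group.nilpotencyClass F.S = p - 2) := by
  obtain ⟨E, o⟩ := exists_ES hF r h0
  by_cases h1 : ∃ a ∈ F.A E, a ∉ nz (zpowers z) ∧ a * z * a⁻¹ ∈ Q
  · obtain ⟨a, ha, h, hv⟩ := h1
    exact (o.caseI ha h hv).imp_right .inl
  push Not at h1
  by_cases h2 : ∃ a ∈ F.A E, a ∉ nz (zpowers z) ∧ ∃ t ∈ Q, ⁅a * z * a⁻¹, t⁆ ∈ zpowers z ∧ t ∉ E
  · obtain ⟨a, ha, h, t, ht, h2, h3⟩ := h2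
    exact .inr (E2.pearl ⟨o, h1⟩ ha h ht h2 h3).final
  push Not at h2
  exact .inl (E3.typeA ⟨⟨o, h1⟩, h2⟩)

end XE
end H24
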