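import Cfsg.Agent.H24.NE5
import Cfsg.Agent.H24.XE6
import Cfsg.Agent.H0.Sec

/-! A term of the lower central series of a group of maximal class is not essential. -/

set_option autoImplicit false
set_option linter.unusedSectionVars false

namespace H24.NE
open Subgroup H25 H25.FS H4 H4.P5 H4.G3 H4.Mx Module Polynomial
open scoped commutatorElement

universe u
variable {Γ : Type u} [Group Γ] [Finite Γ] {p n i j : ℕ} [hp : Fact p.Prime] {F : FS Γ}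
variable {S A B E : Subgroup Γ} {a g s x y : Γ} {τ : ℕ → Γ}

/-- the action of the outer automizer on the Frattini quotient -/
structure Br (p : ℕ) (E S A : Subgroup Γ) {G V : Type*} [Group G] [AddCommGroup V] [Module (ZMod p) V]
    (θ : A →* G) (ρ : G →* End (ZMod p) V) (π : Γ → V) (M : Subgroup G) : Prop where
  inj : Function.Injective ρ
  add : ∀ x ∈ E, ∀ y ∈ E, π (x * y) = π x + π y
  surj : ∀ v, ∃ x ∈ E, π x = v
  conj : ∀ a ∈ A, ∀ x ∈ E, π (a * x * a⁻¹) = ρ (ex θ a) (π x)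
  ker : ∀ x ∈ S, ex θ x = 1 ↔ x ∈ E
  syl : Syl p (im θ S) ⊤
  se : ∀ a, ∀ x ∈ im θ S, x ≠ 1 → a * x * a⁻¹ ∈ im θ S → a ∈ M
  nM : ∃ g, g ∉ M

theorem ex_br (r : Lc p E S A B) : ∃ (G V : Type u) (_ : Group G) (_ : Finite G) (_ : AddCommGroup V)
    (_ : Module (ZMod p) V) (θ : A →* G) (ρ : G →* End (ZMod p) V) (π : Γ → V) (M : Subgroup G),
    Br p E S A θ ρ π M := by
  have nF : A ≤ nz (fr E) := r.An.trans (nz_le_nz_fr E)
  obtain ⟨V, _, _, π, ρ, h⟩ := H0.exists_sec (p := p) (fr_le E) r.An nF (commutator_le_fr r.pE)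
    fun _ => pow_mem_fr r.pE
  let θ := ρ.toHomUnits.rangeRestrict
  have sj : Function.Surjective θ := ρ.toHomUnits.rangeRestrict_surjective
  have k1 : ∀ a ∈ A, ex θ a = 1 ↔ a ∈ stab E (fr E) := fun a ha => by
    rw [ex_of_mem θ ha, mem_stab', and_iff_right (r.An ha), Subtype.ext_iff, Units.ext_iff]
    refine ⟨fun e x hx => (h.eq_iff (conj_mem_of_mem_nz (r.An ha) hx) hx).1 ?_, fun e => LinearMap.ext fun v => ?_⟩
    · rw [h.conj ⟨a, ha⟩ x hx, show ρ ⟨a, ha⟩ = 1 from e]; rfl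
    · obtain ⟨x, hx, rfl⟩ := h.surj v
      exact (h.conj ⟨a, ha⟩ x hx).symm.trans ((h.eq_iff (conj_mem_of_mem_nz (r.An ha) hx) hx).2 (e x hx))
  have nK : A ≤ nz (stab E (fr E)) := fun _ hg => nz_stab (r.An hg) (nF hg)
  have k2 : A ⊓ stab E (fr E) ≤ ai S E := r.syl.le_of_normal_pel (cz_le_ai _ _) r.nzc
    (fun k hk => pel_of_fr r.pE hk.2) inf_le_left fun _ hg => mem_nz_inf (le_nz_self A hg) (nK hg)
  have k3 : ∀ a ∈ A, ∀ b ∈ A, ex θ a = ex θ b → a * b⁻¹ ∈ ai S E := fun a ha b hb e =>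
    k2 ⟨A.mul_mem ha (inv_mem hb), (k1 _ (mul_mem ha (inv_mem hb))).1 (by
      rw [ex_mul θ ha (inv_mem hb), ex_inv θ hb, e, mul_inv_cancel])⟩
  have k4 : ∀ x ∈ S, ex θ x = 1 ↔ x ∈ E := fun x hx => (k1 x (r.NA hx)).trans
    ⟨r.mem_of nK (fun k _ hk => pel_of_fr r.pE hk) hx, fun h => mem_stab_of (fr_le E) fun y hy =>
      commutator_le_fr r.pE (commutator_mem_commutator h hy)⟩
  refine ⟨_, V, inferInstance, .of_surjective θ sj, inferInstance, inferInstance, θ,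
    (Units.coeHom _).comp (Subgroup.subtype _), π, im θ B, fun a b e => Subtype.ext (Units.ext e), h.add,
    h.surj, fun a ha x hx => by rw [ex_of_mem θ ha]; exact h.conj ⟨a, ha⟩ x hx, k4, ?_, fun a x hx h1 h2 => ?_,
    not_forall.1 fun H => r.nB fun a ha => ?_⟩
  · have := r.syl.im θ le_rfl
    rw [im_self, MonoidHom.range_eq_top.2 sj] at this
    refine this.mono_left ((im_le_iff r.syl.le).2 fun a ha => ?_) le_top
    obtain ⟨k, hk, ag⟩ := mem_ai'.1 ha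
    have : ex θ (k⁻¹ * a) = 1 := (k1 _ (mul_mem (inv_mem (r.NA hk.1)) (r.syl.le ha))).2
      (cz_le_stab _ _ (agree_iff.1 ag))
    rw [ex_mul θ (inv_mem (r.NA hk.1)) (r.syl.le ha), ex_inv θ (r.NA hk.1), inv_mul_eq_one] at this
    exact this ▸ ex_mem_im θ r.NA hk.1
  · obtain ⟨⟨a, ha⟩, rfl⟩ := sj a
    replace hx := (mem_im' r.NA).1 hx
    obtain ⟨x, hx, rfl⟩ := hx
    obtain ⟨y, hy, e⟩ := (mem_im' r.NA).1 h2
    rw [← ex_of_mem θ ha, ← ex_conj θ ha (r.NA hx)] at e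
    rw [← ex_of_mem θ ha]
    refine ex_mem_im' θ ha (r.hB a ha x hx (fun h => h1 ((k4 x hx).2 h)) ?_)
    simpa using mul_mem (k3 _ (mul_mem (mul_mem ha (r.NA hx)) (inv_mem ha)) y (r.NA hy) e.symm) (r.N_ai hy)
  · obtain ⟨b, hb, hb', e⟩ := mem_im.1 (H (ex θ a))
    simpa using mul_mem (r.ai_le (k3 a ha b hb' e.symm)) hb

/-- a chain adapted to a uniform element -/
structure Cz (p n : ℕ) (S : Subgroup Γ) (s : Γ) (τ : ℕ → Γ) : Prop where
  mc : MaxC p n S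
  four : 4 ≤ n
  sS : s ∈ S
  sT : s ∉ T1 S
  T0 : τ 0 ∈ T1 S
  mem : ∀ i, τ i ∈ DD S i
  nm : ∀ i, i + 2 ≤ n → τ i ∉ DD S (i + 1)
  succ : ∀ i, τ (i + 1) = ⁅τ i, s⁆
  pw : s ^ p ∈ DD S (n - 2)

theorem ex_cz (M : MaxC p n S) (h4 : 4 ≤ n) : ∃ s τ, Cz p n S s τ := by
  obtain ⟨s, t, c⟩ := exists_ch M h4
  exact ⟨s, fun i => t i, M, h4, s.2, fun h => c.un 1 h4 ((mem_T1 s.2).1 h), (mem_T1 (t 0).2).2 c.T0,
    fun i => (mem_D (t i).2).2 (c.mem i), fun i hi h => c.notMem hi ((mem_D (t i).2).1 h),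
    fun i => congrArg Subtype.val (c.succ i), (mem_D (pow_mem s.2 p)).2 (M.center_eq ▸
      M.mem_center_of_unif c.un (M.pow_mem_one s) (commutatorElement_eq_one_iff_commute.2
        ((Commute.refl s).pow_left p)))⟩

namespace Cz
variable (c : Cz p n S s τ)
include c

theorem tT (i : ℕ) : τ i ∈ T1 S := by
  rcases i with _ | i
  exacts [c.T0, D_le_T1 (by omega) (c.mem _)]

theorem decS (hx : x ∈ S) : ∃ a : ℕ, ∃ g ∈ T1 S, x = s ^ a * g := by
  obtain ⟨a, ha⟩ := XE.adj_pow c.mc.pg T1_le (card_T1 c.mc c.four).le c.sS c.sT (inv_mem hx)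
  exact ⟨a, _, inv_mem ha, by group⟩

theorem decD (hi : i + 2 ≤ n) (h1 : x ∈ T1 S) (h2 : x ∈ DD S i) : ∃ b : ℕ, ∃ g ∈ DD S (i + 1), x = τ i ^ b * g := by
  suffices h : ∃ b : ℕ, x⁻¹ * τ i ^ b ∈ DD S (i + 1) from h.imp fun b hb => ⟨_, inv_mem hb, by group⟩
  rcases i with _ | i
  · refine XE.adj_pow (c.mc.pg.to_le T1_le) (D_le_T1 le_rfl) (Nat.le_of_mul_le_mul_right ?_ hp.out.pos) c.T0
      (c.nm 0 hi) (inv_mem h1)
    rw [← card_T1 c.mc c.four, c.mc.card, card_D c.mc le_rfl, ← pow_succ, ← pow_succ]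
    exact le_of_eq (by congr 1; omega)
  · exact XE.adj_pow (c.mc.pg.to_le D_le) (D_anti (by omega)) (card_D_le c.mc (by omega)) (c.mem _)
      (c.nm _ hi) (inv_mem h2)

variable {G V : Type*} [Group G] [Finite G] [AddCommGroup V] [Module (ZMod p) V] {θ : A →* G}
  {ρ : G →* End (ZMod p) V} {π : Γ → V} {M : Subgroup G} (b : Br p (DD S (i + 1)) S A θ ρ π M) (hA : S ≤ A)
include b hA

omit c hA in
theorem pone : π 1 = 0 := by simpa using b.add 1 (one_mem _) 1 (one_mem _)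

omit c hA in
theorem pinv (hx : x ∈ DD S (i + 1)) : π x⁻¹ = -π x := by
  rw [eq_neg_iff_add_eq_zero, ← b.add _ (inv_mem hx) _ hx, inv_mul_cancel, pone b]

omit c hA in
theorem ppow (hx : x ∈ DD S (i + 1)) (k : ℕ) : π (x ^ k) = (k : ZMod p) • π x := by
  induction k with
  | zero => simp [pone b]
  | succ k ih => rw [pow_succ, b.add _ (pow_mem hx k) _ hx, ih]; simp [add_smul]

omit c in
theorem pcomm (hg : g ∈ S) (hx : x ∈ DD S (i + 1)) : π ⁅x, g⁆ = -(ρ (ex θ g) - 1) (π x) := by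
  rw [commutatorElement_def, show x * g * x⁻¹ * g⁻¹ = x * (g * x⁻¹ * g⁻¹) by group,
    b.add _ hx _ (conj_mem_of_mem_nz (D_nz hg) (inv_mem hx)), b.conj g (hA hg) _ (inv_mem hx), pinv b hx]
  simp [sub_eq_add_neg]

theorem ptau (j : ℕ) : π (τ (i + 1 + j)) = (-1 : ZMod p) ^ j • ((ρ (ex θ s) - 1) ^ j) (π (τ (i + 1))) := by
  induction j with
  | zero => simp
  | succ j ih =>
    rw [← add_assoc, c.succ, pcomm b hA c.sS (D_anti (by omega) (c.mem _)), ih, map_smul, pow_succ,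
      pow_succ']; simp

theorem down (j : ℕ) (hx : x ∈ DD S (i + 1 + j)) :
    ∃ f : (ZMod p)[X], π x = ((ρ (ex θ s) - 1) ^ j) (aeval (ρ (ex θ s) - 1) f (π (τ (i + 1)))) := by
  induction h : n - j generalizing j x with
  | zero => exact ⟨0, by rw [D_one c.mc (by omega) hx, pone b]; simp⟩
  | succ k ih =>
  by_cases hn : i + 1 + j + 2 ≤ n
  · obtain ⟨a, g, hg, rfl⟩ := c.decD hn (D_le_T1 (by omega) hx) hx
    obtain ⟨f, e⟩ := ih (j + 1) hg (by omega)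
    have m := D_anti (show i + 1 ≤ i + 1 + j by omega) (c.mem _)
    refine ⟨Polynomial.C ((a : ZMod p) * (-1) ^ j) + X * f, ?_⟩
    rw [b.add _ (pow_mem m a) _ (D_anti (by omega) hg), ppow b m, c.ptau b hA, e, Un_apply, map_add, map_smul,
      smul_smul, pow_succ, End.mul_apply]
  · exact ⟨0, by rw [D_one c.mc (by omega) hx, pone b]; simp⟩

theorem up (j : ℕ) (v : V) : ∃ x ∈ DD S (i + 1 + j), π x = ((ρ (ex θ s) - 1) ^ j) v := by
  induction j with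
  | zero => simpa using b.surj v
  | succ j ih =>
    obtain ⟨x, hx, e⟩ := ih
    have m := D_act hx c.sS
    exact ⟨_, inv_mem m, by rw [pinv b (D_anti (by omega) m), pcomm b hA c.sS (D_anti (by omega) hx), e,
      neg_neg, pow_succ', End.mul_apply]⟩

theorem cy (hi : i + 3 ≤ n) : ∃ d, d < p ∧ i + d + 3 ≤ n ∧ Cy (ρ (ex θ s) - 1) d (π (τ (i + 1))) := by
  classical
  have cyc : ∀ v, ∃ f : (ZMod p)[X], v = aeval (ρ (ex θ s) - 1) f (π (τ (i + 1))) := fun v => by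
    obtain ⟨x, hx, rfl⟩ := b.surj v
    simpa using c.down b hA 0 hx
  have e : ((ρ (ex θ s) - 1) ^ p) (π (τ (i + 1))) = 0 := by
    have := frob (ρ (ex θ s)) 1
    rw [pow_one] at this
    rw [this, ← map_pow, ← ex_pow θ (hA c.sS), (b.ker _ (pow_mem c.sS p)).2 (D_anti (by omega) c.pw)]
    simp
  have ex : ∃ j : ℕ, ((ρ (ex θ s) - 1 : End (ZMod p) V) ^ j) (π (τ (i + 1))) = 0 := ⟨p, e⟩
  have nil : (ρ (H25.ex θ s) - 1) ^ Nat.find ex = 0 := LinearMap.ext fun v => by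
    obtain ⟨f, rfl⟩ := cyc v
    rw [← End.mul_apply, ← cm_ae, End.mul_apply, Nat.find_spec ex]; simp
  have l := Nat.find_min' ex e
  rcases h : Nat.find ex with _ | d
  · rw [h, pow_zero] at nil
    refine (c.sT (D_le_T1 (by omega) ((b.ker s c.sS).1 (b.inj ?_)))).elim
    rw [map_one, ← one_mul (ρ _), nil, zero_mul]
  have ne := Nat.find_min ex (m := d) (by omega)
  refine ⟨d, by omega, not_lt.1 fun h' => ne ?_, h ▸ nil, ne, cyc⟩
  have := c.ptau b hA d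
  rw [D_one c.mc (by omega) (c.mem _), pone b, eq_comm, smul_eq_zero_iff_right (by simp)] at this
  exact this

theorem false (h5 : 5 ≤ p) (hi : i + 3 ≤ n) : False := by
  obtain ⟨d, h1, h2, y⟩ := c.cy b hA hi
  have mT : ∀ x ∈ S, ex θ x ∈ im θ S := fun x hx => ex_mem_im θ hA hx
  have tS : ∀ j, τ j ∈ S := fun j => D_le (c.mem j)
  have eq : ∀ x ∈ S, ∀ g ∈ DD S (i + 1), ex θ (x * g) = ex θ x := fun x hx g hg => by
    rw [ex_mul θ (hA hx) (hA (D_le hg)), (b.ker g (D_le hg)).2 hg, mul_one]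
  have cm : ∀ x ∈ S, ∀ y ∈ S, Commute (ex θ x) (ex θ y) ↔ ⁅x, y⁆ ∈ DD S (i + 1) := fun x hx y hy => by
    rw [commutatorElement_def, ← b.ker _ (mul_mem (mul_mem (mul_mem hx hy) (inv_mem hx)) (inv_mem hy)),
      ex_mul θ (hA (mul_mem (mul_mem hx hy) (inv_mem hx))) (hA (inv_mem hy)), ex_conj θ (hA hx) (hA hy),
      ex_inv θ (hA hy), ← commutatorElement_eq_one_iff_commute, commutatorElement_def]
  have tc : ∀ x ∈ im θ S, Commute x (ex θ (τ i)) := fun x hx₀ => by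
    obtain ⟨x, hx, rfl⟩ := (mem_im' hA).1 hx₀
    exact ((cm _ (tS i) x hx).2 (D_act (c.mem i) hx)).symm
  have t1 : ex θ (τ i) ≠ 1 := fun e => c.nm i (by omega) ((b.ker _ (tS i)).1 e)
  have cen : ∀ x ∈ im θ S, Commute x (ex θ s) → ∃ a b : ℕ, x = ex θ s ^ a * ex θ (τ i) ^ b := fun x hx₀ e => by
    obtain ⟨x, hx, rfl⟩ := (mem_im' hA).1 hx₀
    obtain ⟨a, g, hg, rfl⟩ := c.decS hx
    rw [ex_mul θ (hA (pow_mem c.sS a)) (hA (T1_le hg)), ex_pow θ (hA c.sS)] at e ⊢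
    have e' : Commute (ex θ g) (ex θ s) := by
      simpa using ((Commute.refl _).pow_left a).inv_left.mul_left e
    obtain ⟨k, g', hg', rfl⟩ := c.decD (by omega) hg
      (down' c.mc c.sS c.sT hg hi ((cm g (T1_le hg) s c.sS).1 e'))
    exact ⟨a, k, by rw [eq _ (pow_mem (tS i) k) _ hg', ex_pow θ (hA (tS i))]⟩
  have pg := isPGroup_im θ c.mc.pg
  rcases i with _ | i
  · obtain ⟨f, hf⟩ := y.comm (A := ρ (ex θ (τ 0)) - 1) ((((tc _ (mT s c.sS)).symm.map ρ).sub_right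
      (Commute.one_right _)).sub_left (Commute.one_left _))
    obtain ⟨m, hm, k, q, hk, e⟩ := y.dec f (hf ▸ fun e => t1 (b.inj (by rw [sub_eq_zero.1 e, map_one])))
    rw [← hf] at e
    obtain ⟨g, hg⟩ := c.down b hA 2 (x := ⁅τ 1, τ 0⁆) ((mem_D (D_le (D_act (c.mem 1) (tS 0)))).2
      ((mem_T1 (tS 0)).1 c.T0 ⟨_, tS 1⟩ ((mem_D _).1 (c.mem 1))))
    rw [pcomm b hA (tS 0) (c.mem 1), neg_eq_iff_eq_neg, e] at hg
    have := y.v0 ((y.nu_VV hk).1 (hg ▸ neg_mem (y.pow_VV (i := 2) (j := d - 1) (by omega))))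
    obtain ⟨Q, nQ, pQ, tQ⟩ := T2.main ⟨h5, b.inj, pg, b.syl, mT s c.sS, mT _ (tS 0), y, h1, fun x hx₀ =>
      cen x hx₀ (by
        obtain ⟨x, hx, rfl⟩ := (mem_im' hA).1 hx₀
        exact (cm x hx s c.sS).2 (D_act (i := 0) hx c.sS)), tc _ (mT s c.sS), e, hk, by omega, hm⟩
    obtain ⟨g, hg⟩ := b.nM
    exact hg (b.se g _ (mT _ (tS 0)) t1 (mem_syl pg b.syl pQ (fun x _ => mem_nz_of_conj_mem fun y hy =>
      nQ.conj_mem y hy x) (nQ.conj_mem _ tQ g)))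
  haveI : Finite V := .of_surjective (fun x : DD S (i + 1 + 1) => π x) fun v =>
    (b.surj v).elim fun x h => ⟨⟨x, h.1⟩, h.2⟩
  refine T3.false (y := ex θ (τ i)) ⟨h5, b.inj, pg, b.syl, mT s c.sS, mT _ (tS _), mT _ (tS _), y, h1, tc, t1,
    ?_, cen, fun x hx₀ => ?_, ?_, b.se, b.nM⟩
  · rw [(tc _ (mT s c.sS)).eq, ← ex_conj θ (hA (tS i)) (hA c.sS), ← ex_mul θ (hA (tS _)) (hA c.sS), c.succ,
      commutatorElement_def, inv_mul_cancel_right]
  · obtain ⟨x, hx, rfl⟩ := (mem_im' hA).1 hx₀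
    obtain ⟨a, g, hg, rfl⟩ := c.decS hx
    refine ⟨a, fun j j1 j2 v hv => ?_⟩
    obtain ⟨u, e⟩ := y.mem_VV (by omega) hv
    obtain ⟨z, hz, e'⟩ := c.up b hA (d + 1 - (j + 2)) u
    obtain ⟨f, hf⟩ := c.down b hA (d + 1 - (j + 2) + 2) (x := ⁅z, g⁆) (by
      simpa [add_assoc] using bl' c.mc (j := 0) (by omega) (D_le_T1 (by omega) hz) hz hg (T1_le hg))
    rw [pcomm b hA (T1_le hg) (D_anti (by omega) hz), e', ← e, neg_eq_iff_eq_neg] at hf
    have w : (ρ (ex θ g) - 1) v ∈ VV (ρ (ex θ s) - 1) j := hf ▸ neg_mem (y.pow_VV (by omega))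
    obtain ⟨q, e1⟩ := form_pow (y := ρ (ex θ s)) (N := ρ (ex θ s) - 1) (m := 0) (c := 1) (q := 0)
      (by simp [Un]) a
    rw [ex_mul θ (hA (pow_mem c.sS a)) (hA (T1_le hg)), ex_pow θ (hA c.sS), map_mul, map_pow,
      eq_add_of_sub_eq e1]
    convert add_mem (add_mem w (N_VV (ae_VV (q := Polynomial.C ((a : ZMod p) * 1) + X * q) w)))
      (N_mem_VV.2 (N_mem_VV.2 (ae_VV (q := q) hv))) using 1
    generalize ρ (ex θ s) - 1 = N
    simp only [zero_add, pow_one, LinearMap.add_apply, End.mul_apply, End.one_apply, LinearMap.sub_apply,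
      map_sub, map_add, map_smul, mul_one, aeval_C, map_mul, aeval_X, Module.algebraMap_end_apply]
    abel
  · have := card_inf_pre (θ := θ) (K := S) le_rfl
    rw [inf_eq_left.2 (le_pre_im θ hA), show S ⊓ pre θ ⊥ = DD S (i + 1 + 1) from le_antisymm
      (fun x hx => (b.ker x hx.1).1 (mem_pre.1 hx.2).2) fun x hx => ⟨D_le hx, mem_pre.2 ⟨hA (D_le hx),
        (b.ker x (D_le hx)).2 hx⟩⟩, c.mc.card, card_D c.mc (by omega)] at this
    refine lt_of_mul_lt_mul_left (a := p ^ (n - 1 - (i + 1 + 1))) ?_ (Nat.zero_le _)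
    rw [← this, ← pow_add]
    exact Nat.pow_lt_pow_right hp.out.one_lt (by omega)

end Cz

theorem not_D (hF : F.Sat p) (M : MaxC p n F.S) (h4 : 4 ≤ n) (h5 : 5 ≤ p) (h1 : 1 ≤ i)
    (hE : F.Ess (DD F.S i)) : False := by
  obtain ⟨i, rfl⟩ := Nat.exists_eq_add_of_le' h1
  have r := lc_of_ess hF hE
  rw [show F.N (DD F.S (i + 1)) = F.S from inf_eq_left.2 D_nz] at r
  obtain ⟨G, V, _, _, _, _, θ, ρ, π, K, b⟩ := ex_br r
  obtain ⟨s, τ, c⟩ := ex_cz M h4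
  exact c.false b r.NA h5 (not_lt.1 fun h => r.ne_bot (D_bot M (by omega)))

end H24.NE
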