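import Cfsg.Agent.H24.NE6

/-! Normal essential subgroups of a group of maximal class. -/

set_option autoImplicit false
set_option linter.unusedSectionVars false

namespace H24.NE
open Subgroup H25 H25.FS H4 H4.P5 H4.G3 H4.Mx
open scoped commutatorElement

theorem mem_T1' {Γ : Type*} [Group Γ] {S : Subgroup Γ} {x : Γ} :
    x ∈ T1 S ↔ x ∈ S ∧ ∀ y ∈ DD S 1, ⁅y, x⁆ ∈ DD S 3 :=
  ⟨fun h => ⟨T1_le h, fun y hy => (mem_D (D_le (D_act hy (T1_le h)))).2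
    ((mem_T1 (T1_le h)).1 h ⟨y, D_le hy⟩ ((mem_D _).1 hy))⟩,
    fun ⟨h1, h2⟩ => (mem_T1 h1).2 fun y hy => (mem_D (⁅y, (⟨x, h1⟩ : S)⁆ : S).2).1
      (h2 y ((mem_D y.2).2 hy))⟩

theorem ex_comm {Ω Γ : Type*} [Group Ω] [Group Γ] {S : Subgroup Ω} (θ : S →* Γ) {x y : Ω}
    (hx : x ∈ S) (hy : y ∈ S) : ex θ ⁅x, y⁆ = ⁅ex θ x, ex θ y⁆ := by
  rw [ex_of_mem θ hx, ex_of_mem θ hy, ← map_commutatorElement]
  exact ex_coe θ ⁅(⟨x, hx⟩ : S), ⟨y, hy⟩⁆

theorem im_T1 {Ω Γ : Type*} [Group Ω] [Group Γ] {S : Subgroup Ω} {θ : S →* Γ}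
    (hθ : Function.Injective θ) : im θ (T1 S) = T1 (im θ S) := by
  have key : ∀ x ∈ S, (ex θ x ∈ T1 (im θ S) ↔ x ∈ T1 S) := fun x hx => by
    rw [mem_T1', mem_T1', ← Mx.im_D, ← Mx.im_D]
    refine ⟨fun h => ⟨hx, fun y hy => ?_⟩, fun h => ⟨ex_mem_im θ le_rfl hx, fun y hy => ?_⟩⟩
    · have := h.2 _ (ex_mem_im θ D_le hy)
      rwa [← ex_comm θ (D_le hy) hx, ex_mem_im_iff hθ (D_le (D_act hy hx))] at this
    · obtain ⟨w, hw, rfl⟩ := (mem_im' D_le).1 hy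
      rw [← ex_comm θ (D_le hw) hx]
      exact ex_mem_im θ D_le (h.2 w hw)
  ext g
  refine ⟨fun h => ?_, fun h => ?_⟩
  · obtain ⟨x, hx, rfl⟩ := (mem_im' T1_le).1 h
    exact (key x (T1_le hx)).2 hx
  · obtain ⟨x, hx, rfl⟩ := (mem_im' le_rfl).1 (T1_le h)
    exact ex_mem_im θ T1_le ((key x hx).1 h)

universe u
variable {Γ : Type u} [Group Γ] [Finite Γ] {p n i j : ℕ} [hp : Fact p.Prime] {F : FS Γ}
variable {S A B E : Subgroup Γ} {a g s x y : Γ}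

/-- an essential non-abelian subgroup of order `p ^ 3` has exponent `p` -/
theorem exp_of_ess (hF : F.Sat p) (h2 : p ≠ 2) (hE : F.Ess E) (c : Nat.card E = p ^ 3)
    (hc : ¬ Cm E) (hy : y ∈ E) : y ^ p = 1 := by
  obtain ⟨z, g, hz, hZ, -⟩ := ge_range (H9.isExtraspecial_of_card_cube c fun h0 =>
    hc (isMulCommutative_iff.1 h0)) (f := E.subtype) E.subtype_injective
  rw [range_subtype] at g hZ
  have e : E ⊓ cz E = zpowers z := le_antisymm hZ (zpowers_le.2 ⟨g.mem, g.cen⟩)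
  have zp : ∀ w ∈ zpowers z, w ^ p = 1 := by
    rintro _ ⟨k, rfl⟩
    rw [← zpow_natCast, ← zpow_mul, mul_comm, zpow_mul, zpow_natCast, g.pow, one_zpow]
  have zc : zpowers z ≤ cz E := zpowers_le.2 g.cen
  obtain ⟨O, hO⟩ := exists_om h2 zc zp g.comm
  have OE : O ≤ E := fun w hw => ((hO w).1 hw).1
  by_contra hn
  obtain ⟨x, hx, -, hx'⟩ := exists_mem_nz_of_lt (hF.pg' inf_le_left : IsPGroup p (F.N E))
    (lt_inf_nz_of_lt hF.pg hE.lt)
  have nO : nz E ≤ nz O := fun a ha => mem_nz_of_conj_mem fun w hw =>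
    (hO _).2 ⟨conj_mem_of_mem_nz ha (OE hw), by rw [conj_pow, ((hO w).1 hw).2]; simp⟩
  have nZ : nz E ≤ nz (zpowers z) := fun a ha => e ▸ mem_nz_inf ha (mem_nz_cz ha)
  have cz1 : Nat.card (zpowers z) = p := by
    rw [Nat.card_zpowers]; exact orderOf_eq_prime g.pow hz
  have xz : x ∈ cz (zpowers z) := mem_cz_of_card hF.pg ((zpowers_le.2 g.mem).trans hE.le) cz1.le hx.1
    (nZ hx.2)
  refine hx' (mem_of_chain4 hF hE (W := zpowers z) (Y := O) (V := O)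
    (fun w hw => (hO w).2 ⟨zpowers_le.2 g.mem hw, zp w hw⟩) le_rfl OE
    ((F.A_le_nz E).trans nZ) ((F.A_le_nz E).trans nO) ((F.A_le_nz E).trans nO) cz1.le ?_ hx
    ⟨nO hx.2, fun w hw => mul_mem (inv_mem hw) (conj_mem_of_mem_nz (nO hx.2) hw)⟩ ⟨hx.2, fun w hw => (hO _).2
      ⟨mul_mem (inv_mem hw) (conj_mem_of_mem_nz hx.2 hw), ?_⟩⟩)
  · have := card_mul_le_lt (hF.pg' hE.le) le_rfl
      (lt_of_le_of_ne OE fun e' => hn ((hO y).1 (e'.ge hy)).2)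
    rw [c, pow_succ] at this
    rw [cz1, ← sq]
    exact Nat.le_of_mul_le_mul_right this hp.out.pos
  · have h1 := g.comm _ (conj_mem_of_mem_nz hx.2 hw) _ (inv_mem hw)
    rw [mul_pow_of_odd (hp.out.odd_of_ne_two h2) (mem_cz'.1 (zc h1) _ (inv_mem hw))
      (mem_cz'.1 (zc h1) _ (conj_mem_of_mem_nz hx.2 hw)) (zp _ h1), conj_pow,
      mem_cz.1 xz _ (g.pw w hw), inv_pow, inv_mul_cancel]

theorem main (hF : F.Sat p) (M : MaxC p n F.S) (h4 : 4 ≤ n) (h5 : 5 ≤ p) (hE : F.Ess E)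
    (hn : F.S ≤ nz E) : Nat.card F.S = Nat.card E * p ∧ (E = T1 F.S ∨
      E = F.S ⊓ cz (DD F.S (n - 3)) ∨ (n = 4 ∧ Nat.card E = p ^ 3 ∧ ¬ Cm E ∧ ∀ x ∈ E, x ^ p = 1)) := by
  obtain ⟨k, hk⟩ := IsPGroup.iff_card.1 (hF.pg' hE.le)
  have k1 : k < n := by
    have := H25.card_lt_of_lt hE.lt
    rwa [hk, M.card, Nat.pow_lt_pow_iff_right hp.out.one_lt] at this
  have k2 : n = k + 1 := by
    by_contra h
    exact not_D hF M h4 h5 (i := n - 1 - k) (by omega) (eq_D M hE.le hn (by omega) hk ▸ hE)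
  have c : Nat.card F.S = Nat.card E * p := by rw [hk, M.card, k2, pow_succ]
  refine ⟨c, ?_⟩
  by_cases e1 : E = T1 F.S
  · exact .inl e1
  by_cases e2 : E = F.S ⊓ cz (DD F.S (n - 3))
  · exact .inr (.inl e2)
  refine .inr (.inr ?_)
  have key : ∀ K : Subgroup Γ, K < F.S → E ≠ K → ∃ a ∈ E, a ∉ K := fun K h1 h2 =>
    SetLike.not_le_iff_exists.1 fun h => h2 (eq_of_le_of_card_le h (Nat.le_of_mul_le_mul_right
      (c ▸ card_mul_le_lt hF.pg le_rfl h1) hp.out.pos))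
  obtain ⟨a, ha, ha'⟩ := key _ (lt_of_le_of_ne T1_le fun e => by
    have := card_T1 M h4
    rw [e] at this
    have h1 := hp.out.one_lt
    have h2 : 0 < Nat.card F.S := Nat.card_pos
    nlinarith) e1
  obtain ⟨b, hb, hb'⟩ := key _ (lt_of_le_of_ne inf_le_left fun e => D_nle M (i := n - 3) (by omega)
    (by omega) (by
      rw [show n - 3 + 1 = n - 2 by omega, ← cen_eq M]
      exact le_inf D_le (le_cz_comm.1 (inf_eq_left.1 e)))) e2
  obtain ⟨s, hs, s1, s2⟩ : ∃ s ∈ E, s ∉ T1 F.S ∧ s ∉ F.S ⊓ cz (DD F.S (n - 3)) := by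
    by_cases h1 : a ∈ F.S ⊓ cz (DD F.S (n - 3))
    · by_cases h2 : b ∈ T1 F.S
      · exact ⟨a * b, mul_mem ha hb, fun h => ha' ((mul_mem_cancel_right h2).1 h),
          fun h => hb' ((mul_mem_cancel_left h1).1 h)⟩
      · exact ⟨b, hb, h2, hb'⟩
    · exact ⟨a, ha, ha', h1⟩
  have sS := hE.le hs
  have u : Unif n (⟨s, sS⟩ : F.S) := fun i hi h => by
    rcases (by omega : i = 0 ∨ (1 ≤ i ∧ i + 4 ≤ n) ∨ i = n - 3) with rfl | h' | rfl
    · exact s1 ((mem_T1 sS).2 (LL_le_TT 1 (M.T_zero.le h)))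
    · exact s1 ((mem_T1 sS).2 ((T_eq M h'.1 h'.2).ge h))
    · refine s2 ⟨sS, mem_cz'.2 fun y hy => commutatorElement_eq_one_iff_mul_comm.1 ?_⟩
      exact D_one M (i := n - 3 + 2) (by omega) ((mem_D (D_le (D_act hy sS))).2
        (h ⟨y, D_le hy⟩ ((mem_D _).1 hy)))
  have ME : MaxC p k E := maxC_of_sc hk (by omega) (E := E ⊓ cz (zpowers s)) inf_le_left
    (inf_le_inf le_rfl (cz_anti (zpowers_le.2 ⟨hs, mem_cz'.2 fun y hy => by
      obtain ⟨j, rfl⟩ := hy; exact (Commute.refl s).zpow_left j⟩))) (by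
      refine le_trans ?_ (M.card_cent u)
      rw [← card_map_of_injective F.S.subtype_injective]
      exact card_le_of_le fun y hy => ⟨⟨y, hE.le hy.1⟩, mem_centralizer_singleton_iff.2
        (Subtype.ext (mem_cz'.1 hy.2 s (mem_zpowers s)).symm), rfl⟩)
  have k3 : k = 3 := by
    by_contra h
    exact XE.not_maxC' hF hE ME (by omega)
  have nc : ¬ Cm E := fun h => ME.ne (by
    rw [k3, eq_bot_iff]
    exact commutator_le.2 fun a _ b _ => commutatorElement_eq_one_iff_mul_comm.2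
      (Subtype.ext (h a a.2 b b.2)))
  exact ⟨by omega, k3 ▸ hk, nc, fun x hx => exp_of_ess hF (by omega) hE (k3 ▸ hk) nc hx⟩

end H24.NE
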