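/-
Groups with class sizes `1, n, m, nm` (`n`, `m` coprime): `n` and `m` are prime powers.
-/
import Cfsg.Agent.H25.Ito4
import Cfsg.Agent.H24.CsAux

set_option autoImplicit false
set_option linter.unusedSectionVars false

open Cfsg Subgroup
namespace H24.NM
open H19

universe u
variable {G : Type u} [Group G] [Finite G] {p q r s t n m : ℕ} {π : Set ℕ} {u v w x y g b : G}
  {A K : Subgroup G}

/-- class sizes `1, n, m, nm` -/
structure K4 (G : Type u) [Group G] (n m : ℕ) : Prop where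
  hn : 1 < n
  hm : 1 < m
  cop : n.Coprime m
  S : ∀ g : G, g ∉ center G → cs g = n ∨ cs g = m ∨ cs g = n * m
  exn : ∃ x : G, cs x = n
  exm : ∃ x : G, cs x = m
  exd : ∃ x : G, cs x = n * m

theorem conj_comm (hs : s.Prime) (h : ¬ s ∣ cs x) (hv : PiE {s} v) :
    ∃ g : G, g * x * g⁻¹ ∈ C[v] := by
  obtain ⟨P, hP, le⟩ := H25.syl_le_of_index (M := C[x]) hs h
  obtain ⟨g, -, hg⟩ := hP.sle_cj le_top (piG_zpowers.2 hv)
  refine ⟨g, mem_cent1_symm.1 ?_⟩
  rw [← cj_cent1]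
  exact cj_mono g le (hg (mem_zpowers v))

theorem ex_nc (hs : s.Prime) (h : s ∣ (center G).relIndex K) :
    ∃ v ∈ K, PiE {s} v ∧ v ∉ center G := by
  by_contra hne
  push Not at hne
  exact H25.Ito.piN_relIndex (π := {s}ᶜ) (K := center G) (A := K)
    (fun r z hz _ hr hz' => hne z hz (by rwa [not_not.1 hr] at hz')) s hs h rfl

theorem dvd_rel (hv : v ∈ K) (hZ : center G ≤ K) (vs : PiE {s} v) (h : v ∉ center G) :
    s ∣ (center G).relIndex K := by
  have hs : s.Prime := by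
    by_contra e
    exact h ((zpowers_eq_bot.1 ((piG_zpowers.2 vs).eq_bot_of_not_prime e)).symm ▸ one_mem _)
  by_contra e
  exact h (le_of_pi_of_relIndex (normalIn_top.norms le_top) hZ (zpowers_le.2 hv)
    (piG_zpowers.2 vs) (.of_not_dvd e) (mem_zpowers v))

theorem rel_mul (g : G) : (center G).relIndex C[g] * cs g = (center G).index :=
  relIndex_mul_index (H25.Ito.center_le_cent1 g)

theorem cent_eq_of_cs (h : C[x] ≤ C[y]) (e : cs x = cs y) : C[x] = C[y] :=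
  eq_of_le_of_index_le h e.le

namespace K4
variable (h : K4 G n m)
include h

theorem symm : K4 G m n :=
  ⟨h.hm, h.hn, h.cop.symm, fun g hg => by rw [mul_comm]; exact or_left_comm.1 (h.S g hg),
    h.exm, h.exn, mul_comm n m ▸ h.exd⟩

theorem ndvd : ¬ n ∣ m := fun e => h.hn.ne' (h.cop.eq_one_of_dvd e)

theorem ne : n ≠ m := fun e => h.ndvd (e ▸ dvd_rfl)

theorem nc (e : cs x = n) : x ∉ center G := fun e' => h.hn.ne' (e ▸ cs_eq_one_iff.2 e')

theorem ncd (e : cs x = n * m) : x ∉ center G := fun e' =>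
  h.hn.ne' (Nat.eq_one_of_mul_eq_one_right (e ▸ cs_eq_one_iff.2 e'))

theorem minn (hx : x ∉ center G) (e : cs x ∣ n) : cs x = n := by
  rcases h.S x hx with h1 | h1 | h1
  · exact h1
  · exact absurd (h1 ▸ e) h.symm.ndvd
  · exact absurd ((Dvd.intro_left n h1.symm).trans e) h.symm.ndvd

theorem cent_eq (hx : cs x = n) (hw : w ∉ center G) (hle : C[x] ≤ C[w]) :
    cs w = n ∧ C[x] = C[w] := by
  have h1 := h.minn hw (hx ▸ index_dvd_of_le hle)
  exact ⟨h1, cent_eq_of_cs hle (hx.trans h1.symm)⟩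

theorem npd (hp : p.Prime) (e : p ∣ n) : ¬ p ∣ m := fun e' =>
  hp.one_lt.ne' (Nat.eq_one_of_dvd_coprimes h.cop e e')

theorem rel (hx : cs x = n) (xp : PiE π x) (gp : PiE πᶜ g) (hg : g ∈ C[x]) (hn : g ∉ C(C[x])) :
    cs (x * g) = n * m ∧ C[g].relIndex C[x] = m := by
  have e := cent1_mul xp gp (mem_cent1.1 hg).symm
  have e1 : C[g].relIndex C[x] * n = cs (x * g) := by
    rw [← hx, cs, cs, e, ← relIndex_mul_index (inf_le_left : C[x] ⊓ C[g] ≤ C[x]), inf_relIndex_left]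
  have e2 : cs (x * g) = n * m := by
    rcases h.S _ (H25.Ito.mul_not_center (h.nc hx) xp gp hg) with h1 | h1 | h1
    · refine absurd (le_cent1_iff.1 ?_) hn
      rw [← cent_eq_of_cs (x := x * g) (e ▸ inf_le_left) (h1.trans hx.symm), e]
      exact inf_le_right
    · exact absurd (Dvd.intro_left _ (e1.trans h1)) h.ndvd
    · exact h1
  refine ⟨e2, Nat.eq_of_mul_eq_mul_right (zero_lt_one.trans h.hn) ?_⟩
  rw [e1, e2, mul_comm]

theorem exp : ∃ (x : G) (p : ℕ), p.Prime ∧ PiE {p} x ∧ cs x = n := by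
  obtain ⟨x, hx⟩ := h.exn
  obtain ⟨y, hy, s, hs, ys, hz⟩ := H25.Ito.exists_primary (h.nc hx)
  exact ⟨y, s, hs, ys, h.minn hz (hx ▸ cs_dvd_of_mem_zpowers hy)⟩

theorem dvdZ (hs : s.Prime) (e : s ∣ n) : ∃ v : G, PiE {s} v ∧ v ∉ center G := by
  obtain ⟨x, hx⟩ := h.exn
  obtain ⟨v, -, h1⟩ := ex_nc (K := (⊤ : Subgroup G)) hs (by
    rw [relIndex_top_right, ← rel_mul x, hx]; exact e.mul_left _)
  exact ⟨v, h1⟩

/-- the centralizer of an element with class size `n` is not a `π(n)'`-group modulo the centre -/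
theorem exA (hx : cs x = n) : ∃ t, t.Prime ∧ t ∣ n ∧ ∃ b ∈ C[x], PiE {t} b ∧ b ∉ center G := by
  by_contra hne
  have c1 : ∀ t, t.Prime → t ∣ n → ¬ t ∣ (center G).relIndex C[x] := fun t ht e e' =>
    hne ⟨t, ht, e, ex_nc ht e'⟩
  have e0 := rel_mul x
  rw [hx] at e0
  have st : ∀ {t} {a g : G}, t.Prime → t ∣ n → PiE {t} a → a ∉ center G → a ∈ C[g] →
      g ∉ center G → cs g = m := fun {t a g} ht e pa ha hag hg => by
    have d := dvd_rel hag (H25.Ito.center_le_cent1 g) pa ha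
    have e1 := (rel_mul g).trans e0.symm
    have n0 : 0 < n := zero_lt_one.trans h.hn
    rcases h.S g hg with h1 | h1 | h1
    · rw [h1] at e1
      exact absurd (Nat.eq_of_mul_eq_mul_right n0 e1 ▸ d) (c1 t ht e)
    · exact h1
    · rw [h1, mul_comm n, ← mul_assoc] at e1
      exact absurd (Nat.eq_of_mul_eq_mul_right n0 e1 ▸ d.mul_right m) (c1 t ht e)
  obtain ⟨w, hw⟩ := h.exd
  have e1 := (rel_mul w).trans e0.symm
  rw [hw, mul_comm n, ← mul_assoc] at e1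
  have e2 := Nat.eq_of_mul_eq_mul_right (zero_lt_one.trans h.hn) e1
  obtain ⟨s, hs, sd⟩ := Nat.exists_prime_and_dvd (n := (center G).relIndex C[w]) fun e =>
    h.ncd hw (relIndex_eq_one.1 e (mem_cent1_self w))
  have sn : ¬ s ∣ n := fun e => c1 s hs e (e2 ▸ sd.mul_right m)
  obtain ⟨t, ht, td⟩ := Nat.exists_prime_and_dvd h.hn.ne'
  obtain ⟨a, pa, ha⟩ := h.dvdZ ht td
  have ca := st ht td pa ha (mem_cent1_self a) ha
  have e3 := (rel_mul a).trans e0.symm
  rw [ca, ← e2, mul_assoc, mul_comm m, ← mul_assoc] at e3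
  obtain ⟨v, hv, pv, hz⟩ := ex_nc (K := C[a]) hs (by
    rw [Nat.eq_of_mul_eq_mul_right (zero_lt_one.trans h.hm) e3]; exact sd.mul_right n)
  have pv' : PiE {t}ᶜ v := pv.sing_ne fun e => sn (e ▸ td)
  have e4 := cent1_mul pa pv' (mem_cent1.1 hv).symm
  have cv := st ht td pa ha (mem_cent1_symm.1 hv) hz
  have ha' : a ∈ C[a * v] := e4 ▸ ⟨mem_cent1_self a, mem_cent1_symm.1 hv⟩
  have cav := st ht td pa ha ha' (H25.Ito.mul_not_center ha pa pv' hv)
  have e5 : C[a * v] = C[v] := cent_eq_of_cs (e4 ▸ inf_le_right) (cav.trans cv.symm)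
  obtain ⟨g, hg⟩ := conj_comm (x := x) hs (hx ▸ sn) pv
  rw [← e5, e4] at hg
  have := st ht td pa ha (mem_cent1_symm.1 hg.1) (mt H25.Ito.conj_mem_center.1 (h.nc hx))
  rw [cs_conj, hx] at this
  exact h.ne this

theorem pp_of (hp : p.Prime) (e : PiN {p} m) : IsPrimePow m := by
  obtain ⟨k, hk⟩ := e.exists_pow (zero_lt_one.trans h.hm).ne'
  refine ⟨p, k, hp.prime, Nat.pos_of_ne_zero fun e => h.hm.ne' ?_, hk.symm⟩
  rw [hk, e, pow_zero]

theorem not_ab (hx : cs x = n) : ¬ C[x] ≤ C(C[x]) := fun le => by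
  obtain ⟨t, ht, td, b, hb, pb, hz⟩ := h.exA hx
  obtain ⟨y, hy⟩ := h.exm
  obtain ⟨g, hg⟩ := conj_comm (x := y) ht (hy ▸ h.npd ht td) pb
  rw [← (h.cent_eq hx hz (le_cent1_iff.2 (le hb))).2] at hg
  have := (h.cent_eq hx (mt H25.Ito.conj_mem_center.1 (h.symm.nc hy)) (le_cent1_iff.2 (le hg))).1
  rw [cs_conj, hy] at this
  exact h.ne this.symm

theorem L1 (hp : p.Prime) (hx : cs x = n)
    (hc : ∀ s, ∀ g ∈ C[x], s.Prime → s ≠ p → PiE {s} g → g ∈ C(C[x])) : IsPrimePow m := by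
  by_contra hne
  obtain ⟨s, hs, sd, sp⟩ : ∃ s, s.Prime ∧ s ∣ m ∧ s ≠ p := by
    by_contra e
    push Not at e
    exact hne (h.pp_of hp e)
  obtain ⟨v, pv, hv⟩ := h.symm.dvdZ hs sd
  obtain ⟨g, hg⟩ := conj_comm (x := x) hs (hx ▸ h.symm.npd hs sd) pv
  have hz : g⁻¹ * v * g⁻¹⁻¹ ∈ C[x] := by
    rw [mem_cent1_symm, ← cj_cent1, mem_cj, inv_inv]; exact hg
  have pz := pv.e_conj g⁻¹
  obtain ⟨e1, e2⟩ := h.cent_eq hx (mt H25.Ito.conj_mem_center.1 hv)
    (le_cent1_iff.2 (hc s _ hz hs sp pz))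
  refine h.not_ab hx fun a ha => H25.Ito.mem_of_primary fun c hc' r hr pc => ?_
  have hcx : c ∈ C[x] := zpowers_le.2 ha hc'
  by_cases rp : r = p
  · subst rp
    by_contra e
    have e3 := (h.rel e1 pz (pc.sing_ne sp.symm) (e2 ▸ hcx) (e2 ▸ e)).2
    rw [← e2] at e3
    exact hne (h.pp_of hp (e3 ▸ H25.Ito.piN_relIndex fun s' z hz hs' e' pz' =>
      cent_le_cent1 hcx (hc s' z hz hs' e' pz')))
  · exact hc r c hcx hr rp pc

theorem L2 (hp : p.Prime) (xp : PiE {p} x) (hx : cs x = n) (hne : ¬ IsPrimePow m) : p ∣ m := by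
  have k : ∀ y ∈ C[x], PiE {p}ᶜ y → y ∉ C(C[x]) → #(C[y] ⊓ C[x]) * m = #C[x] :=
    fun y hy py e => by rw [← (h.rel hx xp py hy e).2, card_inf_mul_relIndex]
  rcases H25.Ito.two_reg' (A := C[x]) hp (fun y hy z hz py pz e1 e2 =>
    Nat.eq_of_mul_eq_mul_right (zero_lt_one.trans h.hm) ((k y hy py e1).trans (k z hz pz e2).symm))
    with ⟨B, hB, hH⟩ | ⟨q, hq, qp, hc⟩
  · refine absurd (h.L1 hp hx fun s g hg hs sp pg => by_contra fun e => hne (h.pp_of hp ?_)) hne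
    rw [← (h.rel hx xp (pg.sing_ne sp) hg e).2]
    exact H25.Ito.piN_of_ab_hall hB hH hg pg sp
  · by_contra pm
    refine hne (h.L1 hp hx fun s g hg hs sp pg => by_contra fun e => hne (h.pp_of hq ?_))
    have e1 := (h.rel hx xp (pg.sing_ne sp) hg e).2
    have : PiN {p, q} m := e1 ▸ H25.Ito.piN_relIndex fun s' z hz hs' e' pz =>
      cent_le_cent1 hg (hc s' z hz hs' (fun a => e' (.inl a)) (fun a => e' (.inr a)) pz)
    exact fun r hr rd => (this r hr rd).resolve_left fun a => pm (a ▸ rd)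

theorem ppm : IsPrimePow m := by
  by_contra hne
  obtain ⟨x, p, hp, xp, hx⟩ := h.exp
  have pm := h.L2 hp xp hx hne
  have k : ∀ y ∈ C[x], PiE {p}ᶜ y → y ∉ C(C[x]) → #(C[y] ⊓ C[x]) * m = #C[x] :=
    fun y hy py e => by rw [← (h.rel hx xp py hy e).2, card_inf_mul_relIndex]
  obtain ⟨t, ht, td, b, hb, pb, hz⟩ := h.exA hx
  have tp : t ≠ p := fun e => h.npd ht td (e ▸ pm)
  have fin : b ∈ C(C[x]) → False := fun e =>
    h.npd ht td (h.L2 ht pb (h.cent_eq hx hz (le_cent1_iff.2 e)).1 hne)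
  rcases H25.Ito.two_reg' (A := C[x]) hp (fun y hy z hz py pz e1 e2 =>
    Nat.eq_of_mul_eq_mul_right (zero_lt_one.trans h.hm) ((k y hy py e1).trans (k z hz pz e2).symm))
    with ⟨B, hB, hH⟩ | ⟨q, hq, qp, hc⟩
  · refine fin (by_contra fun e => hne (h.pp_of hp ?_))
    rw [← (h.rel hx xp (pb.sing_ne tp) hb e).2]
    exact H25.Ito.piN_of_ab_hall hB hH hb pb tp
  · refine fin (by_contra fun e => hne (h.pp_of hp ?_))
    have tq : t = q := by_contra fun e' => e (hc t b hb ht tp e' pb)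
    subst tq
    have e1 := (h.rel hx xp (pb.sing_ne tp) hb e).2
    have : PiN {p, t} m := e1 ▸ H25.Ito.piN_relIndex fun s' z hz hs' e' pz =>
      cent_le_cent1 hb (hc s' z hz hs' (fun a => e' (.inl a)) (fun a => e' (.inr a)) pz)
    exact fun r hr rd => (this r hr rd).resolve_right fun a => h.npd ht td (a ▸ rd)

end K4

end H24.NM
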