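/-
Groups with class sizes `1, p^a, q^b, p^a q^b`: tools and the easy case.
-/
import Cfsg.Agent.H24.NM1
import Cfsg.Agent.S4034
import Cfsg.Agent.S4035
import Cfsg.Agent.S0018
import Cfsg.Agent.H1.Frattini

set_option autoImplicit false
set_option linter.unusedSectionVars false

open Cfsg Subgroup
namespace H24.NM
open H19

universe u
variable {G : Type u} [Group G] [Finite G] {p q r s t n m : ℕ} {π : Set ℕ} {u v w x y g b : G}
  {A K L P S : Subgroup G}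

theorem ncard_cs (x : G) : (ConjClasses.mk x).carrier.ncard = cs x := by
  rw [← card_carrier_mk, Nat.card_coe_set_eq]

theorem wl (hp : p.Prime) (hg : g ∈ A) (pg : PiE {p} g) (h : PiN {p} (C[g].relIndex A)) :
    g ∈ Oc {p} A := by
  haveI := Fact.mk hp
  obtain ⟨k, hk⟩ := pg.exists_pow (orderOf_pos g).ne'
  obtain ⟨a, ha⟩ := h.exists_pow (relIndex_pos _ _).ne'
  rw [← pCore_map_eq hp]
  exact ⟨⟨g, hg⟩, mem_pCore_of_cs (k := k) (a := a) (by rw [← hk, ← orderOf_coe])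
    (by rw [cs_subgroup, ha]), rfl⟩

theorem s35' (hq : q.Prime) (h : ∀ g : G, PiE {q}ᶜ g → ¬ q ∣ cs g) (pu : PiE {q} u)
    (pv : PiE {q}ᶜ v) : u ∈ C[v] := by
  haveI := Fact.mk hq
  obtain ⟨Q⟩ : Nonempty (Sylow q G) := inferInstance
  obtain ⟨n1, H, n2, h1, h2, h3⟩ := Cfsg.Agent.S4035.result (p := q) (fun x hx => by
    rw [ncard_cs]; exact h x (.of_coprime hx)) Q
  have hQ := syl_sylow_top Q
  have sd : Sdprod (Q : Subgroup G) H ⊤ := ⟨normalIn_top.norms le_top, h3, h2⟩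
  have hH := sd.hall_right hQ
  exact cent_le_cent1 (hH.mem_of_normal normalIn_top.norm trivial pv)
    (NormalIn.cents_of_disjoint normalIn_top normalIn_top h2
      (hQ.mem_of_normal normalIn_top.norm trivial pu))

theorem s35 (hq : q.Prime) (h : ∀ g ∈ A, PiE {q}ᶜ g → ¬ q ∣ C[g].relIndex A) (hu : u ∈ A)
    (hv : v ∈ A) (pu : PiE {q} u) (pv : PiE {q}ᶜ v) : u ∈ C[v] := by
  have := s35' (G := A) (u := ⟨u, hu⟩) (v := ⟨v, hv⟩) hq (fun g hg => by
    rw [cs_subgroup]; exact h g g.2 (by rwa [PiE, orderOf_coe])) (by rwa [PiE, ← orderOf_coe])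
    (by rwa [PiE, ← orderOf_coe])
  exact mem_cent1.2 (congrArg Subtype.val (mem_cent1.1 this))

theorem s34 (hq : q.Prime) (h : ∀ g ∈ A, PiE {q}ᶜ g → PiN {q} (C[g].relIndex A)) (pq : p ≠ q)
    (hS : PG p S) (le : S ≤ A) : Ab S := by
  obtain ⟨H, h1, h2, k, h3⟩ := (Cfsg.Agent.S4034.result (G := A) hq).1 fun x hx => by
    rw [ncard_cs, cs_subgroup]
    exact (h x x.2 (.of_coprime (by rwa [orderOf_coe]))).exists_pow (relIndex_pos _ _).ne'
  have hH : Hall {q}ᶜ H ⊤ := ⟨le_top, .of_not_dvd h2, by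
    rw [compl_compl, relIndex_top_right, h3]; exact .prime_pow hq k⟩
  obtain ⟨P, hP, le'⟩ := hH.map_subtype.exists_syl (p := p) pq
  obtain ⟨g, -, hg⟩ := hP.sle_cj le hS
  exact comm_mono (comm_cj.2 (comm_mono (inferInstance : Ab (H.map A.subtype)) le')) hg

theorem syl_Oc (h : ∀ s, ∀ g ∈ A, s.Prime → s ≠ q → PiE {s} g → g ∈ C(A)) :
    Syl q (Oc {q} A) A := by
  obtain ⟨S, hS⟩ := exists_syl q A
  refine hS.Oc_hall (le_of_exists_syl fun s hs _ => ?_)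
  by_cases e : s = q
  · exact ⟨S, e ▸ hS, le_normalizer⟩
  · obtain ⟨T, hT⟩ := exists_syl s A
    exact ⟨T, hT, fun g hg => cent_le_norm S (cent_mono hS.le (h s g (hT.le hg) hs e (hT.pi.elt hg)))⟩

theorem comm_conj (h : (cs x).Coprime (cs y)) (hc : y ∈ C[x]) (g : G) : g * y * g⁻¹ ∈ C[x] := by
  obtain ⟨u, hu, k, hk, rfl⟩ := H2.facIn_of_coprime_index h g (mem_top g)
  have : u * k * y * (u * k)⁻¹ = u * y * u⁻¹ := by rw [mul_assoc u, mem_cent1.1 hk]; group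
  exact this ▸ mul_mem (mul_mem hu hc) (inv_mem hu)

theorem ncl_le (h : ∀ g : G, g * x * g⁻¹ ∈ K) : normalClosure {x} ≤ K :=
  (closure_le _).2 fun z hz => by
    obtain ⟨w, hw, hz'⟩ := Group.mem_conjugatesOfSet_iff.1 hz
    obtain ⟨g, rfl⟩ := isConj_iff.1 hz'
    rw [Set.mem_singleton_iff.1 hw]
    exact h g

/-- regular orbits of abelian groups acting coprimely on abelian groups -/
theorem reg_ab (hL : Ab L) (hP : Ab P) (hn : P ≤ N(L)) (hc : (#L).Coprime #P) :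
    ∃ v ∈ L, P ⊓ C[v] ≤ C(L) := by
  obtain ⟨v, hv, hm⟩ := (wellFounded_lt (α := ℕ)).has_min ((fun v => #(P ⊓ C[v])) '' L)
    ⟨_, 1, one_mem L, rfl⟩
  obtain ⟨v, hv, rfl⟩ := hv
  refine ⟨v, hv, fun a ha => by_contra fun e => ?_⟩
  have ha' : zpowers a ≤ P := zpowers_le.2 ha.1
  have n1 := ha'.trans hn
  have c1 : (#L).Coprime #(zpowers a) := hc.coprime_dvd_right (card_dvd ha')
  have d := ab_commg_inf_cent hL n1 c1
  obtain ⟨u, hu, u1⟩ := exists_ne_one (H := ⁅L, zpowers a⁆) fun e' =>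
    e (cents_symm (commg_eq_bot.1 e') (mem_zpowers a))
  have n2 : P ≤ N(zpowers a) := norms_of_comm hP le_rfl ha'
  have uL := commg_le_left n1 hu
  have vC : v ∈ C(zpowers a) := by rw [cent_zpowers]; exact mem_cent1_symm.1 ha.2
  have key : ∀ c ∈ P ⊓ C[v * u], c ∈ C[v] ∧ c ∈ C[u] := fun c hc' => by
    have h1 : c * (v * u) * c⁻¹ = v * u := by rw [mem_cent1.1 hc'.2]; group
    have h2 : v⁻¹ * (c * v * c⁻¹) = u * (c * u * c⁻¹)⁻¹ := by
      rw [eq_mul_inv_iff_mul_eq, mul_assoc, inv_mul_eq_iff_eq_mul, ← h1]; group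
    have h3 : u * (c * u * c⁻¹)⁻¹ ∈ ⁅L, zpowers a⁆ ⊓ C(zpowers a) :=
      mem_inf.2 ⟨mul_mem hu (inv_mem (conj_mem_of_norm (norms_comm hn n2 hc'.1) hu)),
        h2 ▸ mul_mem (inv_mem vC) (conj_mem_of_norm (norms_cent n2 hc'.1) vC)⟩
    rw [d, mem_bot] at h3
    rw [h3, inv_mul_eq_one] at h2
    rw [mul_inv_eq_one] at h3
    exact ⟨mem_cent_iff_conj.2 h2.symm, mem_cent_iff_conj.2 h3.symm⟩
  refine hm _ ⟨v * u, mul_mem hv uL, rfl⟩ (card_lt (lt_of_le_of_ne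
    (fun c hc' => ⟨hc'.1, (key c hc').1⟩) fun e' => u1 ?_))
  have : u ∈ ⁅L, zpowers a⁆ ⊓ C(zpowers a) :=
    ⟨hu, by rw [cent_zpowers]; exact mem_cent1_symm.1 (key a (e' ▸ ha)).2⟩
  rwa [d, mem_bot] at this

theorem reg_nil (hL : L ⊴ ⊤) (nL : Nil L) (hP : Ab P) (hc : (#L).Coprime #P) :
    ∃ g ∈ L, ∀ l ∈ L, P ⊓ C[l * g * l⁻¹] ≤ C(L) := by
  haveI := hL.der.normal
  let f := QuotientGroup.mk' ⁅L, L⁆
  have a1 : Ab (L.map f) := comm_iff_der.2 (by
    rw [← map_commutator, Subgroup.map_eq_bot_iff, QuotientGroup.ker_mk'])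
  haveI := hL.normal
  haveI : (L.map f).Normal := Subgroup.Normal.map inferInstance f (QuotientGroup.mk'_surjective _)
  haveI := hP
  obtain ⟨_, ⟨g, hg, rfl⟩, h⟩ := reg_ab (L := L.map f) (P := P.map f) a1 inferInstance
    (normalIn_top.norms le_top) ((hc.coprime_dvd_left (card_map_dvd _ _)).coprime_dvd_right
      (card_map_dvd _ _))
  refine ⟨g, hg, fun l hl c hc' => ?_⟩
  have h1 : f c ∈ C(L.map f) := h ⟨mem_map_of_mem f hc'.1, by
    have := map_cent_le f _ (mem_map_of_mem f hc'.2)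
    rwa [map_mul, map_mul, map_inv, mul_comm_of_comm a1 (mem_map_of_mem f hl) (mem_map_of_mem f hg),
      mul_inv_cancel_right] at this⟩
  have h2 : ⁅L, zpowers c⁆ ≤ ⁅L, L⁆ := by
    rw [← QuotientGroup.ker_mk' ⁅L, L⁆, ← Subgroup.map_eq_bot_iff, map_commutator,
      MonoidHom.map_zpowers, commg_eq_bot, cent_zpowers]
    exact le_cent1_iff.2 h1
  have c1 : (#L).Coprime #(zpowers c) := hc.coprime_dvd_right (card_dvd (zpowers_le.2 hc'.1))
  have h3 := commg_sup_cent (hL.norms le_top) c1 (.inl (sol_zpowers c))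
  have h4 := H1.eq_of_sup_of_le_frattiniOf (H := L ⊓ C(zpowers c)) (U := L) inf_le_left
    (h2.trans (H1.commutator_le_frattiniOf_of_isNilpotent nL)) (by rw [sup_comm, h3])
  exact cents_symm (h4.ge.trans inf_le_right) (mem_zpowers c)

/-- class sizes `1, p^a, q^b, p^a q^b` -/
structure K5 (G : Type u) [Group G] (n m p q : ℕ) : Prop where
  k : K4 G n m
  hp : p.Prime
  hq : q.Prime
  pn : PiN {p} n
  qm : PiN {q} m

namespace K5
variable (h : K5 G n m p q)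
include h

theorem symm : K5 G m n q p := ⟨h.k.symm, h.hq, h.hp, h.qm, h.pn⟩

theorem pd : p ∣ n := (h.pn.dvd_of_ne_one h.k.hn.ne').2

theorem npm : ¬ p ∣ m := h.k.npd h.hp h.pd

theorem ne : p ≠ q := fun e => h.npm (e ▸ h.symm.pd)

theorem cen (hs : s.Prime) (sp : s ≠ p) (sq : s ≠ q) (pv : PiE {s} v) : v ∈ center G := by
  refine cent_eq_top_iff.1 (eq_top_of_forall_conj_mem fun g => ?_)
  refine (conj_comm (x := g) hs (fun e => ?_) pv).elim fun c hc => ⟨c⁻¹, by rwa [inv_inv]⟩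
  have e1 : ¬ s ∣ n := fun e => sp (h.pn.eq_of_dvd hs e)
  have e2 : ¬ s ∣ m := fun e => sq (h.qm.eq_of_dvd hs e)
  by_cases hg : g ∈ center G
  · rw [cs_eq_one_iff.2 hg] at e; exact hs.not_dvd_one e
  rcases h.k.S g hg with a | a | a <;> rw [a] at e
  exacts [e1 e, e2 e, (hs.dvd_mul.1 e).elim e1 e2]

theorem sol : Group.IsSolvable G := H25.Ito.solv_of_two fun _ _ hr a b c => h.cen hr a b c

theorem relp (yq : PiE {q} y) (hy : cs y = m) (hg : g ∈ C[y]) (pg : PiE {q}ᶜ g) :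
    PiN {p} (C[g].relIndex C[y]) := by
  by_cases e : g ∈ C(C[y])
  · rw [relIndex_eq_one.2 (le_cent1_iff.2 e)]; exact .one
  · rw [(h.k.symm.rel hy yq pg hg e).2]; exact h.pn

theorem comm (yq : PiE {q} y) (hy : cs y = m) (hu : u ∈ C[y]) (hv : v ∈ C[y]) (pu : PiE {q} u)
    (pv : PiE {q}ᶜ v) : u ∈ C[v] :=
  s35 h.hq (fun _ hg pg e => h.ne ((h.relp yq hy hg pg).eq_of_dvd h.hq e).symm) hu hv pu pv

theorem memL (yq : PiE {q} y) (hy : cs y = m) : y ∈ Oc {q} (⊤ : Subgroup G) :=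
  wl h.hq trivial yq (by rw [relIndex_top_right, show C[y].index = m from hy]; exact h.qm)

theorem lemB (yq : PiE {q} y) (hy : cs y = m) : Syl p (Oc {p} (⊤ : Subgroup G)) ⊤ := by
  obtain ⟨P, hP, le⟩ := H25.syl_le_of_index (M := C[y]) h.hp (by
    rw [show C[y].index = m from hy]; exact h.npm)
  have pq : PiG {q}ᶜ P := hP.pi.sing_ne h.ne
  have e1 : P ≤ Oc {p} C[y] := fun g hg => wl h.hp (le hg) (hP.pi.elt hg)
    (h.relp yq hy (le hg) (pq.elt hg))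
  have e2 : Oc {p} C[y] = P := hP.max e1 le_top (Oc_pi _ _)
  have yL := h.memL yq hy
  have c1 : P ≤ C(Oc {q} (⊤ : Subgroup G)) := PxQ (Oc_pi _ _) (piG_zpowers.2 yq) pq
    (by rw [zpowers_le]; exact le_cent1_iff.1 le) (le_top.trans (Oc_norm _ _))
    (le_top.trans (Oc_norm _ _)) fun u hu => H19.mem_cent.2 fun v hv => by
      rw [cent_zpowers] at hu
      exact (mem_cent1.1 (h.comm yq hy hu.2 (le hv) ((Oc_pi _ _).elt hu.1) (pq.elt hv))).symm
  have n1 : C(Oc {q} (⊤ : Subgroup G)) ⊴ ⊤ := ⟨le_top, norms_cent (Oc_norm _ _)⟩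
  have n2 : P ⊴ C(Oc {q} (⊤ : Subgroup G)) :=
    (e2 ▸ Oc_normal {p} C[y]).of_le c1 (cent_le_cent1 yL)
  have e3 := hP.max ((le_Oc n2 hP.pi).trans (Oc_le_Oc n1)) le_top (Oc_pi _ _)
  exact e3 ▸ hP

end K5

end H24.NM
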