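/-
Groups with class sizes `1, p^a, q^b, p^a q^b` are nilpotent.
-/
import Cfsg.Agent.H24.NM2

set_option autoImplicit false
set_option linter.unusedSectionVars false

open Cfsg Subgroup
namespace H24.NM
open H19

universe u
variable {G : Type u} [Group G] [Finite G] {p q r s t n m : ℕ} {π : Set ℕ} {u v w x y g b : G}
  {A K L P Q S : Subgroup G}

theorem ndvd_cs (hp : p.Prime) (hP : Syl p P ⊤) (h : P ≤ C[x]) : ¬ p ∣ cs x := by
  have := hP.not_dvd_relIndex hp h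
  rwa [relIndex_top_right] at this

theorem K4.dle (h : K4 G n m) (hw : cs w = n * m) (pw : PiE π w) (hv : v ∈ C[w])
    (pv : PiE πᶜ v) : C[w] ≤ C[v] := by
  have e := cent1_mul pw pv (mem_cent1.1 hv).symm
  have d : cs w ∣ cs (w * v) := index_dvd_of_le (e ▸ inf_le_left)
  have e2 : cs (w * v) = cs w := by
    rcases h.S _ (H25.Ito.mul_not_center (h.ncd hw) pw pv hv) with h1 | h1 | h1
    · exact absurd ((Dvd.intro_left n hw.symm).trans (h1 ▸ d)) h.symm.ndvd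
    · exact absurd ((Dvd.intro m hw.symm).trans (h1 ▸ d)) h.ndvd
    · exact h1.trans hw.symm
  rw [← cent_eq_of_cs (x := w * v) (e ▸ inf_le_left) e2, e]
  exact inf_le_right

theorem K4.exD (h : K4 G n m) (hw : cs w = n * m) :
    ∃ t, t.Prime ∧ t ∣ n ∧ ∃ b ∈ C[w], PiE {t} b ∧ b ∉ center G := by
  obtain ⟨x, hx⟩ := h.exn
  obtain ⟨t, ht, td, b, hb, pb, hz⟩ := h.exA hx
  have d := dvd_rel hb (H25.Ito.center_le_cent1 x) pb hz
  have e := (rel_mul w).trans (rel_mul x).symm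
  rw [hw, hx, mul_comm n, ← mul_assoc] at e
  rw [← Nat.eq_of_mul_eq_mul_right (zero_lt_one.trans h.hn) e] at d
  exact ⟨t, ht, td, ex_nc ht ((ht.dvd_mul.1 d).resolve_right (h.npd ht td))⟩

namespace K5
variable (h : K5 G n m p q)
include h

theorem nil (h1 : Syl p (Oc {p} (⊤ : Subgroup G)) ⊤) (h2 : Syl q (Oc {q} (⊤ : Subgroup G)) ⊤) :
    Group.IsNilpotent G := by
  have : Nil (⊤ : Subgroup G) := nil_of_exists_syl_normal fun s hs _ => by
    by_cases sp : s = p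
    · exact ⟨_, sp ▸ h1, Oc_norm _ _⟩
    by_cases sq : s = q
    · exact ⟨_, sq ▸ h2, Oc_norm _ _⟩
    obtain ⟨S, hS⟩ := exists_syl s (⊤ : Subgroup G)
    exact ⟨S, hS, norms_of_cents (cents_symm fun g hg =>
      H25.Ito.center_le_cent _ (h.cen hs sp sq (hS.pi.elt hg)))⟩
  exact nilpotent_of_surjective (⊤ : Subgroup G).subtype fun g => ⟨⟨g, trivial⟩, rfl⟩

theorem exq : ∃ x : G, (PiE {p} x ∨ PiE {q} x) ∧ cs x = n := by
  obtain ⟨x, s, hs, xs, hx⟩ := h.k.exp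
  refine ⟨x, by_contra fun e => h.k.nc hx (h.cen hs (fun a => e (.inl (a ▸ xs)))
    (fun a => e (.inr (a ▸ xs))) xs), hx⟩

theorem good (yq : PiE {q} y) (hy : cs y = m) : Group.IsNilpotent G := by
  obtain ⟨x, xp | xq, hx⟩ := h.exq
  · exact h.nil (h.lemB yq hy) (h.symm.lemB xp hx)
  obtain ⟨g, hg⟩ := conj_comm (x := x) h.hq (hx ▸ h.symm.npm) yq
  obtain ⟨P, hP, le⟩ := H25.syl_le_of_index (M := C[y]) h.hp (by
    rw [show C[y].index = m from hy]; exact h.npm)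
  refine absurd ?_ (ndvd_cs (x := g * x * g⁻¹) h.hp hP fun v hv => mem_cent1_symm.1
    (h.comm yq hy hg (le hv) (xq.e_conj g) ((hP.pi.elt hv).sing_ne h.ne)))
  rw [cs_conj, hx]; exact h.pd

theorem abS (xq : PiE {q} x) (hx : cs x = n) (hS : PG p S) (le : S ≤ C[x]) : Ab S :=
  s34 h.hq (fun g hg pg => by
    by_cases e : g ∈ C(C[x])
    · rw [relIndex_eq_one.2 (le_cent1_iff.2 e)]; exact .one
    · rw [(h.k.rel hx xq pg hg e).2]; exact h.qm) h.ne hS le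

theorem core_le : Oc {p}ᶜ (⊤ : Subgroup G) ≤ Oc {q} ⊤ ⊔ center G := fun g hg =>
  H25.Ito.mem_of_primary fun y hy s hs ys => by
    have k : ∀ s, ∀ y ∈ Oc {p}ᶜ (⊤ : Subgroup G), s.Prime → s ≠ q → PiE {s} y → y ∈ center G :=
      fun s y hy hs sq ys => by_contra fun e =>
        e (h.cen hs (H25.Ito.ne_of_pe ys ((Oc_pi _ _).elt hy) e) sq ys)
    have hy' := zpowers_le.2 hg hy
    by_cases sq : s = q
    · subst sq
      exact mem_sup_left (Oc_le_Oc (Oc_normal _ _) ((syl_Oc fun s y hy hs sq ys =>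
        H25.Ito.center_le_cent _ (k s y hy hs sq ys)).mem_Oc hy' ys))
    · exact mem_sup_right (k s y hy' hs sq ys)

theorem nrm (hP : Syl p P ⊤) (aP : Ab P) : Oc {q} ⊤ ⊔ center G ⊔ P ⊴ ⊤ := by
  haveI := Fact.mk h.hp
  haveI := h.sol
  obtain ⟨S, rfl⟩ := hP.exists_sylow_top
  haveI := Cfsg.Agent.S0018.result p S aP
  have e0 : pPrimeCore p G = Oc {p}ᶜ ⊤ := by
    rw [Oc_top, H1.pPrimeCore_eq_piCore]
  have e : Oc {q} ⊤ ⊔ center G ⊔ (S : Subgroup G) = ((S : Subgroup G) ⊔ pPrimeCore p G) ⊔ center G := by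
    rw [e0]
    refine le_antisymm (sup_le (sup_le ?_ le_sup_right) (le_sup_left.trans le_sup_left))
      (sup_le (sup_le le_sup_right (h.core_le.trans le_sup_left)) (le_sup_right.trans le_sup_left))
    have : Oc {q} (⊤ : Subgroup G) ≤ Oc {p}ᶜ ⊤ := 
      le_Oc (Oc_normal _ _) ((Oc_pi _ _).sing_ne h.ne.symm)
    exact this.trans (le_sup_of_le_left le_sup_right)
  rw [e]
  exact normalIn_top

theorem PC (hP : Syl p P ⊤) (aP : Ab P) (hu : u ∈ P) (hc : u ∈ C(Oc {q} (⊤ : Subgroup G))) :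
    u ∈ Oc {p} (⊤ : Subgroup G) := by
  have n1 := h.nrm hP aP
  have n2 : Z(Oc {q} ⊤ ⊔ center G ⊔ P) ⊴ ⊤ := ⟨le_top, norms_inf n1.norm (norms_cent n1.norm)⟩
  refine Oc_le_Oc n2 (H25.Ito.mem_Oc_of_ab (comm_center _) ⟨mem_sup_right hu, ?_⟩ (hP.pi.elt hu))
  rw [cent_sup, cent_sup]
  exact ⟨⟨hc, le_cent1_iff.1 (H25.Ito.center_le_cent1 u)⟩, comm_iff_le_cent.1 aP hu⟩

theorem KL : Oc {p} (⊤ : Subgroup G) ≤ C(Oc {q} (⊤ : Subgroup G)) :=
  Oc_cents (Oc_normal _ _) ((Oc_pi _ _).sing_ne h.ne.symm)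

theorem dec (hg : g ∈ Oc {q} ⊤ ⊔ center G ⊔ P) :
    ∃ l ∈ Oc {q} (⊤ : Subgroup G), ∃ z ∈ center G, ∃ a ∈ P, g = l * z * a := by
  obtain ⟨c, hc, a, ha, rfl⟩ := (mem_sup_of_norm
    (((Oc_normal _ _).sup normalIn_top).norms le_top)).1 hg
  obtain ⟨l, hl, z, hz, rfl⟩ := (mem_sup_of_norm ((Oc_normal _ _).norms le_top)).1 hc
  exact ⟨l, hl, z, hz, a, ha, rfl⟩

theorem memK (hQ : PG q Q) (hu : u ∈ Oc {p} ⊤ ⊔ center G ⊔ Q) (pu : PiE {p} u) :
    u ∈ Oc {p} (⊤ : Subgroup G) := by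
  have n1 : Oc {p} ⊤ ⊔ center G ⊴ ⊤ := (Oc_normal _ _).sup normalIn_top
  have h1 : u ∈ Oc {p} ⊤ ⊔ center G := le_of_pi_of_relIndex (n1.norms le_top) le_sup_left
    (zpowers_le.2 hu) (piG_zpowers.2 pu) (by
      rw [relIndex_sup_of_norm (n1.norms le_top)]
      exact (hQ.sing_ne h.ne.symm).relIndex _) (mem_zpowers u)
  exact Oc_le_Oc n1 ((nil_Oc_hall (nil_sup_cent (Oc_pi _ _).nil (nil_of_ab inferInstance)
    (cents_symm (H25.Ito.center_le_cent _))) _).mem_Oc h1 pu)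

end K5

/-- the bad configuration -/
structure Bad (G : Type u) [Group G] (n m p q : ℕ) : Prop where
  k : K5 G n m p q
  bp : ∀ g : G, PiE {p} g → cs g ≠ n
  bq : ∀ g : G, PiE {q} g → cs g ≠ m

namespace Bad
variable (h : Bad G n m p q)
include h

theorem symm : Bad G m n q p := ⟨h.k.symm, h.bq, h.bp⟩

theorem exx : ∃ x : G, PiE {q} x ∧ cs x = n := by
  obtain ⟨x, xp | xq, hx⟩ := h.k.exq
  exacts [absurd hx (h.bp x xp), ⟨x, xq, hx⟩]

theorem csp (pg : PiE {p} g) (hg : g ∉ center G) : cs g = m ∨ cs g = n * m :=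
  (h.k.k.S g hg).resolve_left (h.bp g pg)

theorem pair (xq : PiE {q} x) (hx : cs x = n) : ∃ y ∈ C[x], PiE {p} y ∧ cs y = m := by
  obtain ⟨t, ht, td, u, hu, pu, hz⟩ := h.k.k.exA hx
  obtain rfl := h.k.pn.eq_of_dvd ht td
  rcases h.csp pu hz with e | e
  · exact ⟨u, hu, pu, e⟩
  obtain ⟨y, yp, hy⟩ := h.symm.exx
  obtain ⟨g, hg⟩ := conj_comm (x := y) ht (hy ▸ h.k.npm) pu
  exact ⟨_, h.k.k.dle e pu (mem_cent1_symm.1 hu) (xq.sing_ne h.k.ne.symm) hg, yp.e_conj g,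
    (cs_conj g y).trans hy⟩

theorem inL (hL : ¬ Oc {q} ⊤ ≤ center G) : ∃ x ∈ Oc {q} (⊤ : Subgroup G), cs x = n := by
  obtain ⟨v, hv, hz⟩ := SetLike.not_le_iff_exists.1 hL
  have pv := (Oc_pi _ _).elt hv
  rcases h.symm.csp pv hz with e | e
  · exact ⟨v, hv, e⟩
  obtain ⟨x, xq, hx⟩ := h.exx
  have h1 : normalClosure {x} ≤ C[v] := ncl_le fun g => by
    obtain ⟨Q, hQ, le⟩ := H25.syl_le_of_index (M := C[g * x * g⁻¹]) h.k.hq (by
      rw [show C[g * x * g⁻¹].index = n from (cs_conj g x).trans hx]; exact h.k.symm.npm)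
    exact mem_cent1_symm.1 (le (Oc_le_hall hQ hv))
  refine ⟨x, Oc_le_Oc normalIn_top ((syl_Oc (A := normalClosure {x}) fun s g hg _ sq pg => ?_).mem_Oc
    (subset_normalClosure (s := {x}) rfl) xq), hx⟩
  exact le_cent1_iff.1 (h1.trans (h.k.k.symm.dle e pv (h1 hg) (pg.sing_ne sq)))

theorem allp (hx : x ∈ Oc {q} (⊤ : Subgroup G)) (cx : cs x = n) (pg : PiE {p} g) :
    cs g ≠ n * m := by
  have xq := (Oc_pi _ _).elt hx
  obtain ⟨y, hy, yp, cy⟩ := h.pair xq cx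
  obtain ⟨P, hP, le⟩ := H25.syl_le_of_index (M := C[y]) h.k.hp (by
    rw [show C[y].index = m from cy]; exact h.k.npm)
  have xX : x ∈ normalClosure {x} := subset_normalClosure (s := {x}) rfl
  have XL : normalClosure {x} ≤ Oc {q} ⊤ := ncl_le fun g => (Oc_normal _ _).conj_mem trivial hx
  have Xy : normalClosure {x} ≤ C[y] := ncl_le fun g =>
    comm_conj (by rw [cx, cy]; exact h.k.k.cop.symm) (mem_cent1_symm.1 hy) g
  have nD : C(normalClosure {x}) ⊴ (⊤ : Subgroup G) := ⟨le_top, norms_cent normalIn_top.norm⟩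
  have Dx := cent_le_cent1 xX
  generalize normalClosure {x} = X, (inferInstance : (normalClosure {x}).Normal) = nX at *
  have h1 : ∀ w ∈ P, cs w = n * m → w ∈ C(X) := fun w hw cw => by
    obtain ⟨S, hS⟩ := exists_syl q C[w]
    have e1 : ¬ q ∣ (C[w] ⊓ C[y]).relIndex C[w] := hS.not_dvd_relIndex h.k.hq fun v hv =>
      ⟨hS.le hv, mem_cent1_symm.1 (h.k.k.dle cw (hP.pi.elt hw) (hS.le hv)
        ((hS.pi.elt hv).sing_ne h.k.ne.symm) (mem_cent1_symm.1 (le hw)))⟩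
    have e2 := (relIndex_mul_index (inf_le_right : C[w] ⊓ C[y] ≤ C[y])).trans
      (relIndex_mul_index (inf_le_left : C[w] ⊓ C[y] ≤ C[w])).symm
    rw [show C[y].index = m from cy, show C[w].index = n * m from cw, ← mul_assoc] at e2
    have e3 := Nat.eq_of_mul_eq_mul_right (zero_lt_one.trans h.k.k.hm) e2
    obtain ⟨T, hT⟩ := exists_syl q (C[w] ⊓ C[y])
    have hT' := hT.of_idx inf_le_right (.of_not_dvd (by
      rw [e3]; exact fun e => (h.k.hq.dvd_mul.1 e).elim e1 h.k.symm.npm))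
    exact le_cent1_iff.1 ((hT'.le_of_norm' Xy ((Oc_pi _ _).of_le XL)
      (normalIn_top.norms le_top)).trans (hT.le.trans inf_le_left))
  have h2 : ∀ w ∈ P, w ∉ C(X) → w ∈ C(P ⊓ C(X)) := fun w hw e => by
    have cw := (h.csp (hP.pi.elt hw) fun a => e (H25.Ito.center_le_cent _ a)).resolve_right
      fun a => e (h1 w hw a)
    obtain ⟨R, hR, le'⟩ := H25.syl_le_of_index (M := C[w]) h.k.hp (by
      rw [show C[w].index = m from cw]; exact h.k.npm)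
    have c1 : R ≤ C(zpowers w) := cent_zpowers w ▸ le'
    have wR : zpowers w ≤ R := hR.le_of_norm le_top (piG_zpowers.2 (hP.pi.elt hw))
      (norms_of_cents (cents_symm c1))
    have a2 : Ab (R ⊓ C(X) ⊔ zpowers w) := comm_sup
      (h.k.abS xq cx (hR.pi.infl _) (inf_le_right.trans Dx)) (comm_zpowers w) (inf_le_left.trans c1)
    have s2 : Syl p (R ⊓ C(X) ⊔ zpowers w) (C(X) ⊔ (R ⊓ C(X) ⊔ zpowers w)) :=
      syl_mk le_sup_right (hR.pi.of_le (sup_le inf_le_left wR)) (by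
        rw [relIndex_sup_right_of_norm (nD.norms le_top)]
        exact (hR.inf_normal nD).not_dvd_relIndex h.k.hp le_sup_left)
    obtain ⟨c, -, hc⟩ := s2.sle_cj (K := P ⊓ C(X) ⊔ zpowers w)
      (sup_le (inf_le_right.trans le_sup_left) (le_sup_right.trans le_sup_right))
      (hP.pi.of_le (sup_le inf_le_left (zpowers_le.2 hw)))
    exact cents_of_comm (comm_mono (comm_cj.2 a2) hc) le_sup_right le_sup_left (mem_zpowers w)
  have h3 : P ≤ C(P ⊓ C(X)) := le_of_diff_subset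
    (fun e => ndvd_cs h.k.hp hP (e.trans Dx) (cx ▸ h.k.pd)) h2
  obtain ⟨c, -, hc⟩ := hP.scj_le le_top (piG_zpowers.2 pg)
  have hg : c * g * c⁻¹ ∈ P := hc (conj_mem_cj.2 (mem_zpowers g))
  intro e
  rw [← cs_conj c] at e
  exact ndvd_cs h.k.hp hP (le_cent1_iff.2 (cents_symm h3 ⟨hg, h1 _ hg e⟩))
    (e ▸ h.k.pd.mul_right m)

theorem csm (hL : ¬ Oc {q} ⊤ ≤ center G) (pg : PiE {p} g) (hg : g ∉ center G) : cs g = m := by
  obtain ⟨x, hx, cx⟩ := h.inL hL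
  exact (h.csp pg hg).resolve_right (h.allp hx cx pg)

theorem abP (hL : ¬ Oc {q} ⊤ ≤ center G) (hP : PG p P) : Ab P := by
  refine s34 (A := ⊤) h.k.hq (fun g _ pg => ?_) h.k.ne hP le_top
  obtain ⟨a, b, -, hb, rfl, -, pa, pb⟩ := exists_piPart {p} g
  have hz : b ∈ center G := H25.Ito.mem_of_primary fun y hy s hs ys => by_contra fun e =>
    e (h.k.cen hs (H25.Ito.ne_of_pe ys (PiN.e_of_mem_zpowers (π := {p}ᶜ) pb hy) e)
      (H25.Ito.ne_of_pe ys ((pg.e_of_mem_zpowers hb).e_of_mem_zpowers hy) e) ys)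
  rw [relIndex_top_right, cent_mul_center a hz]
  by_cases e : a ∈ center G
  · rw [show C[a].index = 1 from cs_eq_one_iff.2 e]; exact .one
  · rw [show C[a].index = m from h.csm hL pa e]; exact h.k.qm

theorem Kne (hL : ¬ Oc {q} ⊤ ≤ center G) : ¬ Oc {p} ⊤ ≤ center G := fun hK => by
  obtain ⟨x, hx, cx⟩ := h.inL hL
  obtain ⟨P, hP⟩ := exists_syl p (⊤ : Subgroup G)
  have aP := h.abP hL hP.pi
  obtain ⟨g, hg, k⟩ := reg_nil (Oc_normal {q} ⊤) (Oc_pi _ _).nil aP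
    ((Oc_pi _ _).coprime (hP.pi.sing_ne h.k.ne))
  have gz : g ∉ center G := fun e => ndvd_cs h.k.hp hP (fun a ha => cent_le_cent1 hx
    (k 1 (one_mem _) ⟨ha, by
      rw [cent_eq_top_iff.2 (H25.Ito.conj_mem_center.2 e)]; trivial⟩)) (cx ▸ h.k.pd)
  obtain ⟨t, ht, td, u, hu, pu, hz⟩ : ∃ t, t.Prime ∧ t ∣ n ∧ ∃ b ∈ C[g], PiE {t} b ∧ b ∉ center G := by
    rcases h.symm.csp ((Oc_pi _ _).elt hg) gz with e | e
    exacts [h.k.k.exA e, h.k.k.exD (mul_comm m n ▸ e)]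
  obtain rfl := h.k.pn.eq_of_dvd ht td
  have n1 := h.k.nrm hP aP
  obtain ⟨c, -, hc⟩ := hP.sle_cj le_top (piG_zpowers.2 pu)
  obtain ⟨d, hd, hd'⟩ := (hP.of_le le_sup_right le_top).sle_cj
    (hc.trans (cj_le_of_mem_norm (n1.norm trivial) le_sup_right)) (piG_zpowers.2 pu)
  obtain ⟨l, hl, z, hz', a, ha, rfl⟩ := h.k.dec hd
  rw [cj_mul, cj_mul, cj_of_mem ha, cj_of_mem_cent (H25.Ito.center_le_cent _ hz'),
    zpowers_le, ← inv_inv l, mem_cj_inv] at hd'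
  refine hz (H25.Ito.conj_mem_center.1 (hK (h.k.PC hP aP hd' (k l⁻¹ (inv_mem hl) ⟨hd', ?_⟩))))
  rw [← cj_cent1]
  exact conj_mem_cj.2 hu

theorem no (hL : ¬ Oc {q} ⊤ ≤ center G) : False := by
  have hK := h.Kne hL
  obtain ⟨x, hx, cx⟩ := h.inL hL
  obtain ⟨y, hy, cy⟩ := h.symm.inL hK
  obtain ⟨P, hP⟩ := exists_syl p (⊤ : Subgroup G)
  obtain ⟨Q, hQ⟩ := exists_syl q (⊤ : Subgroup G)
  have aP := h.abP hL hP.pi
  have n1 := h.k.nrm hP aP
  have n2 := h.k.symm.nrm hQ (h.symm.abP hK hQ.pi)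
  have KP := Oc_le_hall hP
  obtain ⟨R, hR⟩ := exists_syl q N(P)
  obtain ⟨c, -, hc⟩ := hQ.sle_cj le_top hR.pi
  have R2 := hc.trans (cj_le_of_mem_norm (n2.norm trivial) le_sup_right)
  obtain ⟨w, hw, wK⟩ := SetLike.not_le_iff_exists.1 fun e : P ≤ Oc {p} ⊤ =>
    ndvd_cs h.k.hp hP (e.trans (h.k.KL.trans (cent_le_cent1 hx))) (cx ▸ h.k.pd)
  obtain ⟨k, hk, kw⟩ := exists_mul_mem_cent (A := R) (H := Oc {p} ⊤) (k := w)
    ((Oc_normal _ _).norms le_top) ((Oc_pi _ _).coprime (hR.pi.sing_ne h.k.ne.symm))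
    (.inl hR.pi.sol) fun a ha => h.k.memK hQ.pi (by
      rw [show a * w * a⁻¹ * w⁻¹ = a * (w * a⁻¹ * w⁻¹) by group]
      exact mul_mem (R2 ha) (n2.conj_mem trivial (inv_mem (R2 ha))))
      (hP.pi.elt (mul_mem (conj_mem_of_norm (hR.le ha) hw) (inv_mem hw)))
  have vP : k * w ∈ P := mul_mem (KP hk) hw
  have vK : k * w ∉ Oc {p} ⊤ := fun e => wK ((mul_mem_cancel_left hk).1 e)
  generalize k * w = v at kw vP vK
  have nv : N(P) ≤ C[v] := le_of_exists_syl fun s hs _ => by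
    by_cases sp : s = p
    · exact ⟨P, sp ▸ hP.of_le le_normalizer le_top, le_cent1_iff.2 (comm_iff_le_cent.1 aP vP)⟩
    by_cases sq : s = q
    · exact ⟨R, sq ▸ hR, le_cent1_iff.2 kw⟩
    obtain ⟨S, hS⟩ := exists_syl s N(P)
    exact ⟨S, hS, fun g hg => H25.Ito.center_le_cent1 v (h.k.cen hs sp sq (hS.pi.elt hg))⟩
  have zK : ∀ {a}, a ∈ P → a ∉ Oc {p} ⊤ → cs a = m := fun {a} ha e => h.csm hL (hP.pi.elt ha)
    fun e' => e (h.k.PC hP aP ha (H25.Ito.center_le_cent _ e'))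
  have fr := (hP.of_le le_sup_right le_top).frattini n1
  have key : ∀ c ∈ C[v * y], c ∈ C[y] ∧ c ∈ C[v] := fun c hc => by
    have : c ∈ (Oc {q} ⊤ ⊔ center G ⊔ P) ⊔ (⊤ ⊓ N(P)) := fr.symm ▸ trivial
    obtain ⟨e, he, d, hd, rfl⟩ := (mem_sup_of_norm (n1.norms le_top)).1 this
    obtain ⟨l, hl, z, hz, a, ha, rfl⟩ := h.k.dec he
    have h1 : z * a * d ∈ C[v] := mul_mem (mul_mem (H25.Ito.center_le_cent1 v hz)
      (nv (le_normalizer ha))) (nv hd.2)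
    have h2 : l * z * a * d * v * (l * z * a * d)⁻¹ = l * v * l⁻¹ := by
      conv_rhs => rw [← mem_cent_iff_conj.1 h1]
      group
    generalize l * z * a * d = c at hc h2
    have h3 : c * (v * y) * c⁻¹ = v * y := mem_cent_iff_conj.1 hc
    have h5 : v⁻¹ * (l * v * l⁻¹) = y * (c * y * c⁻¹)⁻¹ := by
      rw [eq_mul_inv_iff_mul_eq, mul_assoc, inv_mul_eq_iff_eq_mul, ← h3, ← h2]; group
    have h6 : y * (c * y * c⁻¹)⁻¹ ∈ Oc {p} (⊤ : Subgroup G) ⊓ Oc {q} ⊤ := mem_inf.2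
      ⟨mul_mem hy (inv_mem ((Oc_normal _ _).conj_mem trivial hy)), by
        rw [← h5, show v⁻¹ * (l * v * l⁻¹) = v⁻¹ * l * v⁻¹⁻¹ * l⁻¹ by group]
        exact mul_mem ((Oc_normal _ _).conj_mem trivial hl) (inv_mem hl)⟩
    rw [(Oc_pi _ _).inf_eq_bot ((Oc_pi _ _).sing_ne h.k.ne.symm), mem_bot] at h6
    rw [h6, inv_mul_eq_one, ← h2] at h5
    rw [mul_inv_eq_one] at h6
    exact ⟨mem_cent_iff_conj.2 h6.symm, mem_cent_iff_conj.2 h5.symm⟩
  have cvy := zK (mul_mem vP (KP hy)) fun e => vK ((mul_mem_cancel_right hy).1 e)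
  have e1 := cent_eq_of_cs (fun c hc => (key c hc).1) (cvy.trans cy.symm)
  have e2 := cent_eq_of_cs (fun c hc => (key c hc).2) (cvy.trans (zK vP vK).symm)
  exact vK (h.k.PC hP aP vP (le_cent1_iff.1 (e2 ▸ e1 ▸ le_cent1_iff.2 (h.k.KL hy))))

theorem fls : False := by
  have hL : Oc {q} ⊤ ≤ center G := by_contra h.no
  have hK : Oc {p} ⊤ ≤ center G := by_contra h.symm.no
  have hF : Fit ⊤ ≤ center G := Fit_le_of_Oc fun s hs => by
    by_cases sp : s = p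
    · exact sp ▸ hK
    by_cases sq : s = q
    · exact sq ▸ hL
    exact fun g hg => h.k.cen hs sp sq ((Oc_pi _ _).elt hg)
  haveI := h.k.sol
  obtain ⟨x, hx⟩ := h.k.k.exn
  exact h.k.k.nc hx (hF (cent_Fit_le (M := ⊤) inferInstance
    ⟨trivial, cents_symm (hF.trans (H25.Ito.center_le_cent ⊤)) trivial⟩))

end Bad

theorem K5.main (h : K5 G n m p q) : Group.IsNilpotent G := by
  by_contra hne
  exact Bad.fls ⟨h, fun g pg e => hne (h.symm.good pg e), fun g pg e => hne (h.good pg e)⟩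

theorem K4.main (h : K4 G n m) : Group.IsNilpotent G ∧ IsPrimePow n ∧ IsPrimePow m := by
  refine ⟨?_, h.symm.ppm, h.ppm⟩
  obtain ⟨p, a, hp, -, e1⟩ := h.symm.ppm
  obtain ⟨q, b, hq, -, e2⟩ := h.ppm
  exact K5.main ⟨h, hp.nat_prime, hq.nat_prime, e1 ▸ .prime_pow hp.nat_prime a,
    e2 ▸ .prime_pow hq.nat_prime b⟩

end H24.NM
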