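/-
S3432: elements of order three acting on 2-groups (chunks CY, CY2, ZE, R2 of `H13.O8`).
-/
import Cfsg.Agent.H13.O81
import Cfsg.Agent.H24.OA1

set_option autoImplicit false
set_option linter.unusedSectionVars false

open Cfsg
namespace H24.OB

open H19 Subgroup H13.O8
open scoped commutatorElement

universe u

variable {G : Type u} [Group G] [Finite G]

theorem o8 (h : O G) : OA.O8 G := h.le

theorem cy' (h : O G) {R : Subgroup G} {y t : G} (hR : PG 2 R) (o : orderOf y = 3) (hy : y ∈ N(R))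
    (ht : t ∈ N(R)) (h2 : PiE {2} t) (c : t * y * t⁻¹ * y⁻¹ ∈ R) :
    ∃ r ∈ R, t * r ∈ C[y] ⊓ C(R ⊓ C[y]) := by
  obtain ⟨r, hr, e⟩ := OA.lift_cent hy (by simpa [Nat.card_zpowers] using OA.cop23 hR o) c ht
  have e' : t * (t⁻¹ * r * t) = r * t := by group
  refine ⟨_, conj_mem_of_norm' ht hr, e'.symm ▸ ⟨e, H19.mem_cent.2 fun a ha => ?_⟩⟩
  exact OA.comm3 (o8 h) o (OA.pg_sup_zp hR h2 ht) (mem_sup_left ha.1)
    (mul_mem (mem_sup_left hr) (mem_sup_right (mem_zpowers t))) ha.2 e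

theorem cy : CY.{u} := fun _ _ _ _ _ _ h hR o hy ht h2 c => cy' h hR o hy ht h2 c

theorem cy2' (h : O G) {R : Subgroup G} {a b t : G} (hR : PG 2 R) (o : orderOf a = 3) (b3 : b ^ 3 = 1)
    (c : a * b = b * a) (ha : a ∈ N(R)) (hb : b ∈ N(R)) (ht : t ∈ N(R)) (h2 : PiE {2} t)
    (c1 : t * a * t⁻¹ * a⁻¹ ∈ R) (c2 : t * b * t⁻¹ * b ∈ R) : b ∈ C(R ⊓ C[a]) := by
  obtain ⟨r, hr, e1, e2⟩ := cy' h hR o ha ht h2 c1
  have ba : b ∈ C[a] := mem_cent1.2 c.symm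
  have nb : b ∈ N(C(R ⊓ C[a])) := norm_le_norm_cent _ (norms_inf (zpowers_le.2 hb)
    (norms_of_le (zpowers_le.2 ba)) (mem_zpowers b))
  have s1 : t * r * b * (t * r)⁻¹ * b ∈ R := by
    have := mul_mem (conj_mem_of_norm ht (mul_mem hr (conj_mem_of_norm hb (inv_mem hr)))) c2
    rwa [show t * (r * (b * r⁻¹ * b⁻¹)) * t⁻¹ * (t * b * t⁻¹ * b) = t * r * b * (t * r)⁻¹ * b by group] at this
  have s2 : t * r * b * (t * r)⁻¹ * b ∈ C[a] := mul_mem (mul_mem (mul_mem e1 ba) (inv_mem e1)) ba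
  have s3 := comm_iff_le_cent.1 (h.ab3 o (hR.infl C[a]) inf_le_right).1 ⟨s1, s2⟩
  have s4 := mul_mem (inv_mem s3) (mul_mem e2 (conj_mem_of_norm nb (inv_mem e2)))
  rwa [show (t * r * b * (t * r)⁻¹ * b)⁻¹ * (t * r * (b * (t * r)⁻¹ * b⁻¹)) = (b ^ 3)⁻¹ * b by group, b3,
    inv_one, one_mul] at s4

theorem cy2 : CY2.{u} := fun _ _ _ _ _ _ _ h hR o b3 c ha hb ht h2 c1 c2 => cy2' h hR o b3 c ha hb ht h2 c1 c2

omit [Finite G] in
/-- in exponent three an element commutes with its conjugates -/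
theorem eng {x y : G} (y3 : y ^ 3 = 1) (h1 : (x * y) ^ 3 = 1) (h2 : (x * y⁻¹) ^ 3 = 1) :
    x * (y * x * y⁻¹) = y * x * y⁻¹ * x := by
  calc x * (y * x * y⁻¹) = y⁻¹ * x⁻¹ * (x * y) ^ 3 * (y ^ 3)⁻¹ * y := by
        simp only [pow_succ, pow_zero, one_mul]; group
    _ = y⁻¹ * x⁻¹ * y := by rw [h1, y3]; group
    _ = y⁻¹ * (y ^ 3)⁻¹ * y * y * y * x⁻¹ * y * (y⁻¹ * y) := by
        simp only [pow_succ, pow_zero, one_mul]; group
    _ = y * y * (y ^ 3)⁻¹ * x⁻¹ * y := by simp only [pow_succ, pow_zero, one_mul]; group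
    _ = y * (y * x⁻¹ * (x * y⁻¹) ^ 3 * y) := by rw [h2, y3]; group
    _ = _ := by simp only [pow_succ, pow_zero, one_mul]; group

theorem eng' (h : O G) {Y : Subgroup G} (hY : PG 3 Y) {a b : G} (ha : a ∈ Y) (hb : b ∈ Y) :
    a * ⁅a, b⁆ = ⁅a, b⁆ * a ∧ b * ⁅a, b⁆ = ⁅a, b⁆ * b := by
  have t : ∀ x ∈ Y, x ^ 3 = 1 := fun x hx => h.three (hY.elt hx)
  have h1 := eng (t b hb) (t _ (mul_mem ha hb)) (t _ (mul_mem ha (inv_mem hb)))
  have h2 := eng (t a ha) (t _ (mul_mem hb ha)) (t _ (mul_mem hb (inv_mem ha)))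
  rw [commutatorElement_def]
  constructor
  · calc a * (a * b * a⁻¹ * b⁻¹) = a * (b * a * b⁻¹)⁻¹ * (b * a * b⁻¹ * a) * (b * a * b⁻¹)⁻¹ := by group
      _ = _ := by rw [← h1]; group
  · calc b * (a * b * a⁻¹ * b⁻¹) = b * (a * b * a⁻¹) * b⁻¹ := by group
      _ = _ := by rw [h2]; group

theorem ze' (h : O G) {R Y : Subgroup G} {a b t : G} (hR : PG 2 R) (hY : PG 3 Y) (n : Y ≤ N(R))
    (f : Y ⊓ C(R) = ⊥) (ha : a ∈ Y) (hb : b ∈ Y) (ht : t ∈ N(R)) (h2 : PiE {2} t)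
    (c1 : t * a * t⁻¹ * a⁻¹ ∈ R) (c2 : t * b * t⁻¹ * b ∈ R) : a * b = b * a := by
  by_contra ne
  obtain ⟨e1, e2⟩ := eng' h hY ha hb
  have hz : ⁅a, b⁆ ∈ Y := by
    rw [commutatorElement_def]; exact mul_mem (mul_mem (mul_mem ha hb) (inv_mem ha)) (inv_mem hb)
  have z1 : ⁅a, b⁆ ≠ 1 := fun e => ne (commutatorElement_eq_one_iff_mul_comm.1 e)
  have a1 : a ≠ 1 := by rintro rfl; simp at ne
  have oa := h.odd (hY.elt ha) (by decide) a1
  have oz := h.odd (hY.elt hz) (by decide) z1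
  have c3 : t * ⁅a, b⁆ * t⁻¹ * ⁅a, b⁆ ∈ R := by
    have na := n ha
    have nb := n hb
    lift a to N(R) using na
    lift b to N(R) using nb
    lift t to N(R) using ht
    have k1 : qmk R (t * a * t⁻¹ * a⁻¹) = 1 := qmk_eq_one.2 c1
    have k2 : qmk R (t * b * t⁻¹ * b) = 1 := qmk_eq_one.2 c2
    have k3 : b * ⁅a, b⁆ = ⁅a, b⁆ * b := Subtype.ext e2
    refine qmk_eq_one (x := t * ⁅a, b⁆ * t⁻¹ * ⁅a, b⁆) |>.1 ?_
    have k4 := congrArg (qmk R) k3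
    simp only [map_mul, map_inv, commutatorElement_def] at k1 k2 k4 ⊢
    generalize qmk R a = A at *
    generalize qmk R b = B at *
    generalize qmk R t = T at *
    calc _ = (T * A * T⁻¹ * A⁻¹) * A * (T * B * T⁻¹ * B) * B⁻¹ * A⁻¹ * (T * A * T⁻¹ * A⁻¹)⁻¹ * B *
          (T * B * T⁻¹ * B)⁻¹ * (A * B * A⁻¹ * B⁻¹) := by group
      _ = B⁻¹ * (A * B * A⁻¹ * B⁻¹)⁻¹ * (B * (A * B * A⁻¹ * B⁻¹)) := by rw [k1, k2]; group
      _ = 1 := by rw [k4]; group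
  have k := cy2' h hR oa (OA.cube_of_ord oz) e1 (n ha) (n hz) ht h2 c1 c3
  have k0 : R ⊓ C[a] ≤ C[⁅a, b⁆] := le_cent1_iff.2 k
  have kb : ∀ g ∈ Y, g * ⁅a, b⁆ = ⁅a, b⁆ * g → R ⊓ C[g * a * g⁻¹] ≤ C[⁅a, b⁆] := fun g hg c => by
    have := cj_mono g k0
    rwa [cj_inf, cj_of_mem_norm (n hg), cj_cent1, cj_cent1, c, mul_inv_cancel_right] at this
  have E : OA.E9p a ⁅a, b⁆ := ⟨oa, oz, e1, fun hm => by
    refine OA.not_mem_of_ord3 hR oa (OA.mem_of_sq oa ?_)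
    rcases OA.mem_zp3 oa hm with e | e | e
    · exact absurd e z1
    · rw [e] at c3
      simpa [mul_assoc] using mul_mem (inv_mem c1) c3
    · rw [e] at c3
      have k7 := mul_mem (conj_mem_of_norm' (n ha) c1) c3
      exact inv_mem_iff.1 (by
        rwa [show a⁻¹ * (t * a * t⁻¹ * a⁻¹) * a * (t * a⁻¹ * t⁻¹ * a⁻¹) = (a * a)⁻¹ by group] at k7)⟩
  have q1 : b * a * b⁻¹ = a * ⁅a, b⁆⁻¹ := by
    rw [← (show Commute a ⁅a, b⁆ from e1).inv_right.eq.symm, commutatorElement_def]; group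
  have q2 : b⁻¹ * a * b⁻¹⁻¹ = a * ⁅a, b⁆ := by
    calc b⁻¹ * a * b⁻¹⁻¹ = b⁻¹ * (⁅a, b⁆ * b) * a := by rw [commutatorElement_def]; group
      _ = _ := by rw [← e2, e1]; group
  have := OA.gen9 hR E (n ha) (n hz) k0 inf_le_right
    (q2 ▸ kb _ (inv_mem hb) (show Commute b ⁅a, b⁆ from e2).inv_left.eq) (q1 ▸ kb b hb e2)
  exact z1 (mem_bot.1 (f ▸ ⟨hz, le_cent1_iff.1 this⟩))

theorem ze : ZE.{u} := fun _ _ _ _ _ _ _ _ h hR hY n f ha hb ht h2 c1 c2 => ze' h hR hY n f ha hb ht h2 c1 c2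

theorem gen3 {E K L : Subgroup G} (hE : El 3 2 E ⊤) (n : E ≤ N(K)) (hK : PG 2 K)
    (h : ∀ b ∈ E, orderOf b = 3 → K ⊓ C[b] ≤ L) : K ≤ L :=
  le_of_cent1_le hE.comm hE.not_cyc n ((hK.sing_ne (by decide : 2 ≠ 3)).coprime' hE.pg) fun b hb b1 =>
    h b hb (orderOf_of_pow Nat.prime_three (hE.ab.2 b hb) b1)

/-- the centralizer of a group of order nine is central -/
theorem c9 (h : O G) {R E : Subgroup G} (hR : PG 2 R) (hE : El 3 2 E ⊤) (n : E ≤ N(R)) : R ⊓ C(E) ≤ C(R) :=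
  cents_symm (gen3 hE n hR fun _ hb o => cents_of_comm (h.ab3 o (hR.infl _) inf_le_right).1 le_rfl
    (inf_le_inf_left R (cent_le_cent1 hb)))

theorem r2' (h : O G) {R E : Subgroup G} (hR : PG 2 R) (hE : El 3 2 E ⊤) (n : E ≤ N(R))
    (c : E ≤ C(OZ R)) : E ≤ C(R) := by
  have nW : R ≤ N(OZ R) := norms_of_cents (cent_OZ R)
  let X : Subgroup G := R ⊓ qpre (OZ R) C(quo (OZ R) R)
  have nX : E ≤ N(X) := norms_inf n (norms_qpre (norms_of_cents c) (norms_cent (quo_norms n)))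
  have mX : ∀ x ∈ X, ∀ r ∈ R, ⁅x, r⁆ ∈ OZ R := fun x hx r hr => by
    have := (quo_cents_iff (A := X) (inf_le_left.trans nW) nW).1
      ((quo_le_iff (inf_le_left.trans nW)).2 inf_le_right)
    exact this (commutator_mem_commutator hx hr)
  have key : ∀ b ∈ E, orderOf b = 3 → X ⊓ C[b] ≤ OZ R := fun b hb o => by
    have ab := h.ab3 o (hR.infl C[b]) inf_le_right
    refine le_OZ (abelem_mono ab (inf_le_inf_right _ inf_le_left)) (inf_le_left.trans inf_le_left)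
      (cents_symm (gen3 hE n hR fun d hd od r hr => H19.mem_cent.2 fun x hx => ?_))
    by_cases m : d ∈ zpowers b
    · refine mul_comm_of_comm ab.1 ⟨hx.1.1, hx.2⟩ ⟨hr.1, ?_⟩
      rcases OA.mem_zp3 o m with e | e | e
      · exact absurd e (OA.ne_one_of_ord3 od)
      · exact e ▸ hr.2
      · exact OA.cent1_inv b ▸ e ▸ hr.2
    have nd : d ∈ N(R ⊓ C[b]) := norms_inf n (norms_of_le (le_cent1_iff.2 (hE.le_cent hb))) hd
    have m0 : x ∈ R ⊓ C[b] := ⟨hx.1.1, hx.2⟩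
    have m1 := conj_mem_of_norm nd m0
    have m2 := conj_mem_of_norm nd m1
    have d3 := OA.cube' od
    have eE : zpowers b ⊔ zpowers d = E := hE.self.sup_eq (el1_zpowers Nat.prime_three hb o)
      (el1_zpowers Nat.prime_three hd od) fun e => m (e ▸ mem_zpowers d)
    have mn : x * (d * x * d⁻¹) * (d * (d * x * d⁻¹) * d⁻¹) ∈ R ⊓ C(E) := by
      refine ⟨(mul_mem (mul_mem m0 m1) m2).1, ?_⟩
      rw [← eE, cent_sup, cent_zpowers, cent_zpowers]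
      refine ⟨(mul_mem (mul_mem m0 m1) m2).2, mem_cent1.2 ?_⟩
      calc _ = x * ((d * x * d⁻¹) * (d * (d * x * d⁻¹) * d⁻¹)) * d := by group
        _ = (d * x * d⁻¹) * (d * (d * x * d⁻¹) * d⁻¹) * x * d := by
          rw [mul_comm_of_comm ab.1 m0 (mul_mem m1 m2)]
        _ = (d * x * d⁻¹) * (d * (d * x * d⁻¹) * d⁻¹) * (d * d * d) * x * (d * d * d)⁻¹ * d := by rw [d3]; group
        _ = _ := by group
    have hw := mX x hx.1 r hr.1
    have cw : ∀ s ∈ R, s * ⁅x, r⁆ = ⁅x, r⁆ * s := fun s hs => H19.mem_cent.1 (OZ_cent R hw) s hs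
    have dw : d * ⁅x, r⁆ = ⁅x, r⁆ * d := (H19.mem_cent.1 (c hd) _ hw).symm
    have dr : r * d = d * r := mem_cent1.1 hr.2
    have st : ∀ u : G, u * r = ⁅x, r⁆ * r * u → d * u * d⁻¹ * r = ⁅x, r⁆ * r * (d * u * d⁻¹) := fun u e => by
      calc d * u * d⁻¹ * r = d * u * (d⁻¹ * (r * d)) * d⁻¹ := by group
        _ = d * (u * r) * d⁻¹ := by rw [dr]; group
        _ = d * ⁅x, r⁆ * r * u * d⁻¹ := by rw [e]; group
        _ = ⁅x, r⁆ * (d * r) * u * d⁻¹ := by rw [dw]; group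
        _ = _ := by rw [← dr]; group
    have s0 : x * r = ⁅x, r⁆ * r * x := by rw [commutatorElement_def]; group
    have s1 := st _ s0
    have s2 := st _ s1
    have s3 := H19.mem_cent.1 (c9 h hR hE n mn) r hr.1
    have w2 := sq1 (OZ_ab R) hw
    generalize d * (d * x * d⁻¹) * d⁻¹ = x2 at *
    generalize d * x * d⁻¹ = x1 at *
    generalize ⁅x, r⁆ = w at *
    have : r * (x * x1 * x2) = w * (r * (x * x1 * x2)) := by
      calc r * (x * x1 * x2) = x * x1 * (x2 * r) := by rw [s3]; group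
        _ = x * (x1 * w) * r * x2 := by rw [s2]; group
        _ = x * w * (x1 * r) * x2 := by rw [cw _ m1.1]; group
        _ = x * (w * w) * r * x1 * x2 := by rw [s1]; group
        _ = (x * r) * x1 * x2 := by rw [w2]; group
        _ = _ := by rw [s0]; group
    have w1 : w = 1 := (mul_right_cancel ((one_mul _).trans this)).symm
    rw [s0, w1, one_mul]
  have hX : X ≤ OZ R := gen3 hE nX (hR.infl _) key
  by_contra nc
  have : quo (OZ R) R ≠ ⊥ := fun e => nc (c.trans (cent_mono ((quo_eq_bot_iff nW).1 e)))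
  refine (hR.quo _).center_ne_bot this (eq_bot_iff.2 ?_)
  rw [← quo_inf_qpre]
  exact (quo_eq_bot hX).le

theorem r2 : R2.{u} := fun _ _ _ _ _ h hR hE n c => r2' h hR hE n c

end H24.OB
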