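/-
S3432: `{2,3}`-groups of characteristic 2 (chunks C3, CZ of `H13.O8`).
-/
import Cfsg.Agent.H24.OB1

set_option autoImplicit false
set_option linter.unusedSectionVars false

open Cfsg
namespace H24.OB

open H19 Subgroup H13.O8
open scoped commutatorElement

universe u

variable {G : Type u} [Group G] [Finite G]

theorem fit_eq {D : Subgroup G} {p q : ℕ} (hD : PiG {p, q} D) (h : Oc {p} D = ⊥) : Fit D = Oc {q} D :=
  (Fit_le_of_Oc fun r hr => by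
    by_cases e : r = q
    · rw [e]
    by_cases e' : r = p
    · rw [e', h]; exact bot_le
    · rw [(Oc_pi {r} D).eq_bot_of_not_dvd fun d => by
        rcases hD r hr (d.trans (card_dvd (Oc_le _ _))) with k | k
        exacts [e' k, e k]]
      exact bot_le).antisymm (Oc_le_Fit q D)

theorem cent_le {D : Subgroup G} {p q : ℕ} (hD : PiG {p, q} D) (s : H19.Sol D) (h : Oc {p} D = ⊥) :
    D ⊓ C(Oc {q} D) ≤ Oc {q} D := fit_eq hD h ▸ cent_Fit_le s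

omit [Finite G] in
theorem mem_zp2 {t g : G} (h : t * t = 1) (hg : g ∈ zpowers t) : g = 1 ∨ g = t := by
  obtain ⟨k, rfl⟩ := mem_zpowers_iff.1 hg
  have h2 : t ^ (2 : ℤ) = 1 := by rw [zpow_two, h]
  rcases Int.even_or_odd' k with ⟨j, rfl | rfl⟩
  · left; rw [zpow_mul, h2, one_zpow]
  · right; rw [zpow_add_one, zpow_mul, h2, one_zpow, one_mul]

/-- generation by the centralizers of the involutions of a four-group -/
theorem gen4 {K L : Subgroup G} {s t : G} (s2 : s * s = 1) (t2 : t * t = 1) (s1 : s ≠ 1) (t1 : t ≠ 1)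
    (st : s ≠ t) (c : s * t = t * s) (o : Odd #K) (ns : s ∈ N(K)) (nt : t ∈ N(K)) (h1 : K ⊓ C[s] ≤ L)
    (h2 : K ⊓ C[t] ≤ L) (h3 : K ⊓ C[s * t] ≤ L) : K ≤ L := by
  have cz : zpowers s ≤ C(zpowers t) := by rw [cent_zpowers]; exact zpowers_le.2 (mem_cent1.2 c)
  have E : El 2 2 (zpowers s ⊔ zpowers t) ⊤ := El.sup2
    (el1_zpowers' Nat.prime_two (mem_top s) ((pow_two s).trans s2) s1)
    (el1_zpowers' Nat.prime_two (mem_top t) ((pow_two t).trans t2) t1) cz fun e =>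
      (mem_zp2 t2 (e ▸ mem_zpowers s)).elim s1 st
  refine le_of_cent1_le E.comm E.not_cyc (sup_le (zpowers_le.2 ns) (zpowers_le.2 nt))
    ((PiN.of_not_dvd (p := 2) o.not_two_dvd_nat).coprime' E.pg) fun x hx x1 => ?_
  obtain ⟨a, ha, b, hb, rfl⟩ := (mem_sup_of_norm (norms_of_cents (cents_symm cz))).1 hx
  rcases mem_zp2 s2 ha with rfl | rfl <;> rcases mem_zp2 t2 hb with rfl | rfl
  · simp at x1
  · simpa using h2
  · simpa using h1
  · exact h3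

theorem odd3 {Y : Subgroup G} (h : PG 3 Y) : Odd #Y := by
  obtain ⟨k, e⟩ := h.exists_card
  rw [e]; exact Odd.pow (by decide)

omit [Finite G] in
theorem eq_one_of_inv {b : G} (b3 : b ^ 3 = 1) (h : b * b = 1) : b = 1 := by
  rw [pow_succ, pow_two, h, one_mul] at b3; exact b3

/-- the case `O₂(D) = 1` -/
theorem c3x (h : O G) {D : Subgroup G} (hD : PiG {2, 3} D) (h2 : Oc {2} D = ⊥)
    (ze : ∀ P : Subgroup G, PG 3 P → P ≤ D → ∀ a ∈ P, ∀ b ∈ P, ∀ t ∈ D, t * t = 1 → t * a = a * t →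
      t * b * t⁻¹ * b = 1 → a * b = b * a) : Syl 3 (Oc {3} D) D := by
  have s := sol23 hD
  have cY := cent_le hD s h2
  have nY := Oc_normal {3} D
  have pY := Oc_pi {3} D
  generalize hY : Oc {3} D = Y at cY nY pY
  by_contra ns
  have cB : quo Y D ⊓ C(Oc {2} (quo Y D)) ≤ Oc {2} (quo Y D) :=
    cent_le (p := 3) (Set.pair_comm 2 3 ▸ hD.quo Y) (sol_quo s Y) (hY ▸ Oc_quo_Oc {3} D)
  have nL := qpre_normal nY (Oc_normal {2} (quo Y D))
  obtain ⟨B, hB⟩ := exists_syl 2 (qpre Y (Oc {2} (quo Y D)))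
  have eB : quo Y B = Oc {2} (quo Y D) := by
    have := hB.quo (qpre_le_norm _)
    rw [quo_qpre] at this
    exact this.eq_self (Oc_pi _ _)
  have eL : qpre Y (Oc {2} (quo Y D)) = Y ⊔ B := by rw [← eB, qpre_quo (hB.le.trans (qpre_le_norm _))]
  have fr := hB.frattini nL
  rw [eL, sup_assoc, sup_eq_right.2 (le_inf (hB.le.trans nL.le) le_normalizer)] at fr
  have BD : B ≤ D := hB.le.trans nL.le
  obtain ⟨P, hP⟩ := exists_syl 3 (D ⊓ N(B))
  obtain ⟨u, hu, uY⟩ : ∃ u ∈ P, u ∉ Y := by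
    by_contra! l
    refine ns (syl_mk nY.le pY fun d => hP.not_dvd_relIndex Nat.prime_three (K := Y) l ?_)
    rwa [← relIndex_sup_of_norm (inf_le_left.trans nY.norm), fr]
  have uD := (hP.le hu).1
  have o := h.odd (hP.pi.elt hu) (by decide) (by rintro rfl; exact uY (one_mem _))
  have u3 := OA.cube' o
  have nu : zpowers u ≤ N(B) := zpowers_le.2 (hP.le hu).2
  have cp := OA.cop23 hB.pi o
  have B1 : ⁅B, zpowers u⁆ ≠ ⊥ := fun e => by
    have k := quo_cents (K := Y) (cents_symm (commg_eq_bot.1 e))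
    rw [eB] at k
    have := (le_inf (quo_mono Y (zpowers_le.2 uD)) k).trans cB
    exact uY (zpowers_le.1 (quo_eq_bot_of_pi ((zpowers_le.2 uD).trans nY.norm) (π := {3})
      (piG_zpowers.2 (OA.pe3_of_ord o)) (((Oc_pi _ _).of_le this).sing_ne (by decide))))
  have lB : ⁅B, zpowers u⁆ ≤ B := commg_le_left nu
  have e1 := commg_commg nu cp
  have n1 := commg_normr B (zpowers u)
  generalize ⁅B, zpowers u⁆ = B₁ at B1 lB e1 n1
  have p1 := hB.pi.of_le lB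
  have nZ : u ∈ N(OZ B₁) := norm_OZ _ (n1 (mem_zpowers u))
  have pP : PG 3 (Y ⊔ zpowers u : Subgroup G) := pY.sup (piG_zpowers.2 (OA.pe3_of_ord o))
    ((zpowers_le.2 uD).trans nY.norm)
  have lP : Y ⊔ zpowers u ≤ D := sup_le nY.le (zpowers_le.2 uD)
  have t3 : ∀ b ∈ Y, b ^ 3 = 1 := fun b hb => h.three (pY.elt hb)
  have fa : ∀ t ∈ OZ B₁, t ∈ C(Y) → t = 1 := fun t ht c =>
    mem_bot.1 (((OZ_pg B₁).inf_eq_bot (pY.sing_ne (by decide))) ▸ ⟨ht, cY ⟨BD (lB (OZ_le _ ht)), c⟩⟩)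
  have inv : ∀ t : G, t * t = 1 → ∀ b : G, t * (b * t * b⁻¹ * t⁻¹) * t⁻¹ * (b * t * b⁻¹ * t⁻¹) = 1 :=
    fun t t2 b => by
      calc _ = t * b * t * b⁻¹ * (t * t)⁻¹ * b * t⁻¹ * (t * t) * b⁻¹ * t⁻¹ := by group
        _ = 1 := by rw [t2]; group
  have mY : ∀ t ∈ OZ B₁, ∀ b ∈ Y, b * t * b⁻¹ * t⁻¹ ∈ Y := fun t ht b hb => by
    have := mul_mem hb (nY.conj_mem (BD (lB (OZ_le _ ht))) (inv_mem hb))
    rwa [show b * (t * b⁻¹ * t⁻¹) = b * t * b⁻¹ * t⁻¹ by group] at this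
  by_cases f : OZ B₁ ⊓ C[u] = ⊥
  · obtain ⟨t, ht, t1⟩ := exists_ne_one (OZ_ne p1 B1)
    have m2 := conj_mem_of_norm nZ ht
    have m3 := conj_mem_of_norm nZ m2
    have cm : ∀ a ∈ OZ B₁, ∀ b ∈ OZ B₁, a * b = b * a := fun a ha b hb => mul_comm_of_comm (OZ_ab _).1 ha hb
    have e3 : u * (u * (u * t * u⁻¹) * u⁻¹) * u⁻¹ = t := by
      calc _ = (u * u * u) * t * (u * u * u)⁻¹ := by group
        _ = t := by rw [u3]; group
    have pr : t * (u * t * u⁻¹) * (u * (u * t * u⁻¹) * u⁻¹) = 1 := by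
      refine mem_bot.1 (f ▸ ⟨mul_mem (mul_mem ht m2) m3, mem_cent1.2 ?_⟩)
      calc _ = t * ((u * t * u⁻¹) * (u * (u * t * u⁻¹) * u⁻¹)) * u := by group
        _ = (u * t * u⁻¹) * (u * (u * t * u⁻¹) * u⁻¹) * (u * (u * (u * t * u⁻¹) * u⁻¹) * u⁻¹) * u := by
          rw [cm _ ht _ (mul_mem m2 m3), e3]
        _ = _ := by group
    have q1 := sq1 (OZ_ab _) ht
    have q2 := sq1 (OZ_ab _) m2
    have q3 := sq1 (OZ_ab _) m3
    have pr' : t * (u * t * u⁻¹) = u * (u * t * u⁻¹) * u⁻¹ := mul_right_cancel (pr.trans q3.symm)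
    have nu' : u ∈ N(Y) := nY.norm uD
    by_cases k : Y ⊓ C[t] ≤ C[u * t * u⁻¹]
    · have cj1 : ∀ a b : G, Y ⊓ C[a] ≤ C[b] → Y ⊓ C[u * a * u⁻¹] ≤ C[u * b * u⁻¹] := fun a b l => by
        have := cj_mono u l
        rwa [cj_inf, cj_of_mem_norm nu', cj_cent1, cj_cent1] at this
      have k2 := cj1 _ _ k
      have k3 := cj1 _ _ k2
      rw [e3] at k3
      refine t1 (fa t ht (le_cent1_iff.1 (gen4 q1 q2 t1 (by simpa using t1) (fun e => ?_) (cm _ ht _ m2)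
        (odd3 pY) (nY.norm (BD (lB (OZ_le _ ht)))) (nY.norm (BD (lB (OZ_le _ m2)))) inf_le_right
        (fun y hy => ?_) (pr' ▸ k3))))
      · exact t1 (mem_bot.1 (f ▸ ⟨ht, mem_cent1.2 (mul_inv_eq_iff_eq_mul.1 e.symm).symm⟩))
      · have a1 := mem_cent1_symm.1 hy.2
        have a2 := mem_cent1_symm.1 (k2 hy)
        rw [← pr'] at a2
        exact mem_cent1_symm.1 ((mul_mem_cancel_right a1).1 a2)
    · obtain ⟨b, hb, nb⟩ := SetLike.not_le_iff_exists.1 k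
      have hc := mY _ m2 b hb.1
      have i2 := inv _ q2 b
      have c1 : b * (u * t * u⁻¹) * b⁻¹ * (u * t * u⁻¹)⁻¹ ≠ 1 := fun e =>
        nb (mem_cent1.2 (by rwa [mul_inv_eq_one, mul_inv_eq_iff_eq_mul] at e))
      have ct : b * (u * t * u⁻¹) * b⁻¹ * (u * t * u⁻¹)⁻¹ ∈ C[t] :=
        have a := mem_cent1.2 (cm _ m2 _ ht)
        mul_mem (mul_mem (mul_mem hb.2 a) (inv_mem hb.2)) (inv_mem a)
      generalize b * (u * t * u⁻¹) * b⁻¹ * (u * t * u⁻¹)⁻¹ = c at hc i2 c1 ct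
      have ct' := mem_cent1.1 ct
      have w := h.three (pP.elt (mul_mem (mem_sup_left hc) (mem_sup_right (mem_zpowers u))))
      have w1 : c * (u * c * u⁻¹) * (u * (u * c * u⁻¹) * u⁻¹) = 1 := by
        calc _ = (c * u) ^ 3 * (u * u * u)⁻¹ := by simp only [pow_succ, pow_zero, one_mul]; group
          _ = 1 := by rw [w, u3]; group
      -- `t` inverts the two other conjugates of `c`
      have j3 : (u * (u * t * u⁻¹) * u⁻¹) * c * (u * (u * t * u⁻¹) * u⁻¹)⁻¹ = c⁻¹ := by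
        rw [← pr']
        calc _ = t * ((u * t * u⁻¹) * c * (u * t * u⁻¹)⁻¹ * c) * c⁻¹ * t⁻¹ := by group
          _ = c⁻¹ * (c * t) * c⁻¹ * t⁻¹ := by rw [i2]; group
          _ = c⁻¹ := by rw [ct']; group
      have j2 : t * (u * c * u⁻¹) * t⁻¹ = (u * c * u⁻¹)⁻¹ := by
        calc _ = u * ((u * (u * t * u⁻¹) * u⁻¹) * c * (u * (u * t * u⁻¹) * u⁻¹)⁻¹) * u⁻¹ := by
              conv_lhs => rw [← e3]
              group
          _ = _ := by rw [j3]; group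
      have j4 : t * (u * (u * c * u⁻¹) * u⁻¹) * t⁻¹ = (u * (u * c * u⁻¹) * u⁻¹)⁻¹ := by
        calc _ = u * u * ((u * t * u⁻¹) * c * (u * t * u⁻¹)⁻¹ * c) * c⁻¹ * u⁻¹ * u⁻¹ := by
              conv_lhs => rw [← e3]
              group
          _ = _ := by rw [i2]; simp [mul_assoc]
      have y2 := t3 _ (conj_mem_of_norm nu' hc)
      have y3 := t3 _ (conj_mem_of_norm nu' (conj_mem_of_norm nu' hc))
      generalize u * (u * c * u⁻¹) * u⁻¹ = c₃ at *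
      generalize u * c * u⁻¹ = c₂ at *
      have w2 : c * c₂⁻¹ * c₃⁻¹ = 1 := by
        calc _ = (c * t) * t⁻¹ * (t * c₂ * t⁻¹) * (t * c₃ * t⁻¹) := by rw [j2, j4]; group
          _ = t * (c * c₂ * c₃) * t⁻¹ := by rw [ct']; group
          _ = 1 := by rw [w1]; group
      have w4 : c₂ * c₃ = c₂⁻¹ * c₃⁻¹ := mul_left_cancel (a := c) (by rw [← mul_assoc, ← mul_assoc, w1, w2])
      have w3 : c₂ * c₃ = 1 := by
        have w5 : c₂ * (c₂ * c₃) * c₃ = 1 := by rw [w4]; group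
        calc c₂ * c₃ = c₂ ^ 3 * (c₂ * c₂)⁻¹ * c₃ ^ 3 * (c₃ * c₃)⁻¹ := by
              simp only [pow_succ, pow_zero, one_mul]; group
          _ = c₃ * c₃ * (c₂ * (c₂ * c₃) * c₃)⁻¹ * (c₃ * c₃)⁻¹ := by rw [y2, y3]; group
          _ = 1 := by rw [w5]; group
      exact c1 (by rw [mul_assoc, w3, mul_one] at w1; exact w1)
  · obtain ⟨t, ht, t1⟩ := exists_ne_one f
    have q1 := sq1 (OZ_ab _) ht.1
    let I := closure {b | b ∈ Y ∧ t * b * t⁻¹ * b = 1}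
    have nI : B₁ ≤ N(I) := fun n hn => mem_norm_of_cj_le (by
      rw [cj_closure, closure_le]
      rintro _ ⟨b, hb, rfl⟩
      refine subset_closure ⟨nY.conj_mem (BD (lB hn)) hb.1, ?_⟩
      have c := H19.mem_cent.1 (OZ_cent _ ht.1) n hn
      calc _ = t * n * b * (t * n)⁻¹ * n * b * n⁻¹ := by group
        _ = n * (t * b * t⁻¹ * b) * n⁻¹ := by rw [← c]; group
        _ = 1 := by rw [hb.2]; group)
    have uI : zpowers u ≤ C(I) := zpowers_le.2 (by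
      rw [centralizer_closure]
      exact fun b hb => (ze _ pP lP u (mem_sup_right (mem_zpowers u)) b (mem_sup_left hb.1) t
        (BD (lB (OZ_le _ ht.1))) q1 (mem_cent1.1 ht.2) hb.2).symm)
    have tI : t ∈ C(I) := (e1.ge.trans ((commutator_mono le_rfl uI).trans (commg_le_right (norms_cent nI))))
      (OZ_le _ ht.1)
    refine t1 (fa t ht.1 (H19.mem_cent.2 fun b hb => ?_))
    have i := inv t q1 b
    have m := mY t ht.1 b hb
    have c := H19.mem_cent.1 tI _ (subset_closure ⟨m, i⟩)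
    have := eq_one_of_inv (t3 _ m) (by rwa [← c, mul_inv_cancel_right] at i)
    rwa [mul_inv_eq_one, mul_inv_eq_iff_eq_mul] at this

/-- `ZE` read in the quotient by `O₂(D)` -/
theorem c3q (h : O G) {D : Subgroup G} (hD : PiG {2, 3} D) (ch : Ch D) :
    Syl 3 (Oc {3} (quo (Oc {2} D) D)) (quo (Oc {2} D) D) := by
  have nR := Oc_normal {2} D
  have pR := Oc_pi {2} D
  refine c3x (h.qq _) (hD.quo _) (Oc_quo_Oc _ _) fun P pP lP a ha b hb t ht t2 c1 c2 => ?_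
  obtain ⟨P', hP', l⟩ := pP.exists_syl lP
  obtain ⟨Y, hY, rfl⟩ := hP'.exists_slift nR
  obtain ⟨a, ha', rfl⟩ := mem_im.1 (l ha)
  obtain ⟨b, hb', rfl⟩ := mem_im.1 (l hb)
  obtain ⟨t, ht', rfl⟩ := mem_im.1 ht
  rw [← map_mul, ← map_mul]
  refine congrArg _ (Subtype.ext (ze' h pR hY.pi (hY.le.trans nR.norm) (eq_bot_iff.2 fun y hy => ?_) ha' hb' t.2
    (OA.pe2_of_sq_mem pR (qmk_eq_one.1 ((map_mul _ t t).trans t2))) (qmk_eq_one (x := t * a * t⁻¹ * a⁻¹) |>.1 ?_)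
    (qmk_eq_one (x := t * b * t⁻¹ * b) |>.1 ?_)))
  · exact (pR.inf_eq_bot (hY.pi.sing_ne (by decide))) ▸ ⟨ch ⟨hY.le hy.1, hy.2⟩, hy.1⟩
  · simp only [map_mul, map_inv, c1]; group
  · simpa only [map_mul, map_inv] using c2

theorem c3e (h : O G) {D Y : Subgroup G} (hD : PiG {2, 3} D) (ch : Ch D) (hY : Syl 3 Y D) :
    quo (Oc {2} D) Y = Oc {3} (quo (Oc {2} D) D) :=
  (c3q h hD ch).eq_of_normal (Oc_norm _ _) (hY.quo (Oc_norm _ _))

theorem c3' (h : O G) {D Y : Subgroup G} (hD : PiG {2, 3} D) (ch : Ch D) (hY : Syl 3 Y D) :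
    Oc {2} D ⊔ Y ⊴ D :=
  ⟨sup_le (Oc_le _ _) hY.le, norms_of_quo (Oc_norm _ _) (hY.le.trans (Oc_norm _ _))
    (c3e h hD ch hY ▸ Oc_norm _ _)⟩

theorem c3 : C3.{u} := fun _ _ _ _ _ h hD ch hY => (c3' h hD ch hY).norm

/-- `O₂(D) Y / O₂(D)` is self-centralizing -/
theorem c3c (h : O G) {D Y : Subgroup G} (hD : PiG {2, 3} D) (ch : Ch D) (hY : Syl 3 Y D) {t : G} (ht : t ∈ D)
    (c : ∀ y ∈ Y, t * y * t⁻¹ * y⁻¹ ∈ Oc {2} D) : t ∈ Oc {2} D ⊔ Y := by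
  have n := Oc_norm {2} D
  have := cent_le (hD.quo (Oc {2} D)) (sol_quo (sol23 hD) _) (Oc_quo_Oc _ _)
  rw [← c3e h hD ch hY] at this
  refine (qmk_mem_quo (hY.le.trans n) (x := ⟨t, n ht⟩)).1 (this ⟨mem_im_of ht, H19.mem_cent.2 fun y hy => ?_⟩)
  obtain ⟨y, hy', rfl⟩ := mem_im.1 hy
  have k := qmk_eq_one (x := ⟨t, n ht⟩ * y * (⟨t, n ht⟩ : N(Oc {2} D))⁻¹ * y⁻¹) |>.2 (c y hy')
  simp only [map_mul, map_inv] at k
  rw [mul_inv_eq_one, mul_inv_eq_iff_eq_mul] at k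
  exact k.symm

/-- 2-elements of `O₂(D) Y` -/
theorem two_mem {R Y : Subgroup G} (hR : PG 2 R) (hY : PG 3 Y) (n : Y ≤ N(R)) {t : G} (ht : t ∈ R ⊔ Y)
    (h2 : PiE {2} t) : t ∈ R :=
  (show Syl 2 R (R ⊔ Y) from ⟨le_sup_left, hR, by
    rw [relIndex_sup_of_norm n]; exact (hY.relIndex R).sing_ne (by decide)⟩).mem_of_normal
      (sup_le le_normalizer n) ht h2

/-- every element of order three of `D` lies in `O₂(D) Y` -/
theorem three_mem (h : O G) {D Y : Subgroup G} (hD : PiG {2, 3} D) (ch : Ch D) (hY : Syl 3 Y D) {x : G}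
    (hx : x ∈ D) (o : PiE {3} x) : x ∈ Oc {2} D ⊔ Y := by
  obtain ⟨g, hg, l⟩ := hY.sle_cj (zpowers_le.2 hx) (piG_zpowers.2 o)
  exact (cj_le_of_mem_norm ((c3' h hD ch hY).norm hg) le_sup_right) (l (mem_zpowers x))

theorem sup23 {H S Y : Subgroup G} (hH : PiG {2, 3} H) (hS : Syl 2 S H) (hY : Syl 3 Y H) : H = S ⊔ Y :=
  (le_of_exists_syl fun p hp d => by
    rcases hH p hp d with rfl | rfl
    exacts [⟨S, hS, le_sup_left⟩, ⟨Y, hY, le_sup_right⟩]).antisymm (sup_le hS.le hY.le)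

/-- a 3-group without subgroups of order nine -/
theorem cyc3 (h : O G) {Y : Subgroup G} (hY : PG 3 Y) (n : ∀ E, ¬ El 3 2 E Y) :
    Y = ⊥ ∨ ∃ c, orderOf c = 3 ∧ Y = zpowers c := by
  by_cases cy : Cyc Y
  · obtain ⟨c, rfl⟩ := cyc_iff.1 cy
    by_cases c1 : c = 1
    · exact .inl (by rw [c1, zpowers_one_eq_bot])
    · exact .inr ⟨c, h.odd (hY.elt (mem_zpowers c)) (by decide) c1, rfl⟩
  · obtain ⟨E, hE⟩ := hY.exists_el2 (odd3 hY) cy
    exact absurd hE (n E)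

/-- the action on `R⟨c⟩ / R` -/
theorem act3 {R : Subgroup G} {c s : G} (hR : PG 2 R) (o : orderOf c = 3) (nc : c ∈ N(R))
    (ns : s ∈ N(R ⊔ zpowers c)) : s * c * s⁻¹ * c⁻¹ ∈ R ∨ s * c * s⁻¹ * c ∈ R := by
  obtain ⟨r, hr, b, hb, e⟩ := (mem_sup_of_norm (zpowers_le.2 nc)).1
    (conj_mem_of_norm ns (mem_sup_right (mem_zpowers c)))
  rcases OA.mem_zp3 o hb with rfl | rfl | rfl
  · exact absurd (by rw [e, mul_one]; exact hr) (OA.not_mem_of_ord3 hR ((H19.orderOf_conj' s c).trans o))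
  · exact .inl (by rw [e]; simpa using hr)
  · exact .inr (by rw [e]; simpa using hr)

omit [Finite G] in
theorem inv_inv3 {R : Subgroup G} {c s t : G} (ns : s ∈ N(R)) (nc : c ∈ N(R)) (h1 : s * c * s⁻¹ * c ∈ R)
    (h2 : t * c * t⁻¹ * c ∈ R) : s * t * c * (s * t)⁻¹ * c⁻¹ ∈ R := by
  have k := mul_mem (conj_mem_of_norm ns h2) (inv_mem (conj_mem_of_norm nc (conj_mem_of_norm' nc
    (conj_mem_of_norm nc h1))))
  rwa [show s * (t * c * t⁻¹ * c) * s⁻¹ * (c * (c⁻¹ * (c * (s * c * s⁻¹ * c) * c⁻¹) * c) * c⁻¹)⁻¹ =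
    s * t * c * (s * t)⁻¹ * c⁻¹ by group] at k

/-- the structure of `H` when the Sylow 3-subgroup has order three -/
theorem s3 (h : O G) {H S : Subgroup G} {c : G} (hH : PiG {2, 3} H) (ch : Ch H) (hS : Syl 2 S H)
    (o : orderOf c = 3) (hY : Syl 3 (zpowers c) H) : Oc {2} H = S ∨ P3 S (Oc {2} H) c := by
  have nK := c3' h hH ch hY
  have n := Oc_norm {2} H
  have pR := Oc_pi {2} H
  have l := Oc_le_hall hS
  have cH := hY.le (mem_zpowers c)
  have cen : ∀ s ∈ S, s * c * s⁻¹ * c⁻¹ ∈ Oc {2} H → s ∈ Oc {2} H := fun s hs k =>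
    two_mem pR hY.pi (hY.le.trans n) (c3c h hH ch hY (hS.le hs) fun y hy => by
      rcases OA.mem_zp3 o hy with rfl | rfl | rfl
      · simp
      · exact k
      · have := conj_mem_of_norm' (n cH) (inv_mem k)
        rwa [show c⁻¹ * (s * c * s⁻¹ * c⁻¹)⁻¹ * c = s * c⁻¹ * s⁻¹ * c⁻¹⁻¹ by group] at this) (hS.pi.elt hs)
  have inv : ∀ s ∈ S, s ∉ Oc {2} H → s * c * s⁻¹ * c ∈ Oc {2} H := fun s hs ns =>
    (act3 pR o (n cH) (nK.norm (hS.le hs))).resolve_left fun k => ns (cen s hs k)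
  by_cases e : S ≤ Oc {2} H
  · exact .inl (l.antisymm e)
  obtain ⟨s, hs, ns⟩ := SetLike.not_le_iff_exists.1 e
  refine .inr ⟨hS.pi, l, relIndex_eq_two_iff.2 ⟨s, hs, fun b hb => ?_⟩, o, n cH, inv⟩
  by_cases k : b ∈ Oc {2} H
  · exact .inr ⟨k, fun k' => ns ((mul_mem_cancel_left k).1 k')⟩
  · exact .inl ⟨cen _ (mul_mem hb hs) (inv_inv3 (n (hS.le hb)) (n cH) (inv b hb k) (inv s hs ns)), k⟩

theorem cz' (h : O G) {H S : Subgroup G} (hH : PiG {2, 3} H) (ch : Ch H) (hS : Syl 2 S H) (c : H ≤ C(OZ S)) :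
    H = S ∨ ∃ c, orderOf c = 3 ∧ H = S ⊔ zpowers c ∧ (c ∈ N(S) ∨ P3 S (Oc {2} H) c) := by
  obtain ⟨Y, hY⟩ := exists_syl 3 H
  have nK := c3' h hH ch hY
  have n := Oc_norm {2} H
  have pR := Oc_pi {2} H
  have nW : H ≤ N(OZ (Oc {2} H)) := n.trans (norm_OZ _)
  have cW : Y ≤ C(OZ (Oc {2} H)) := by
    have lU : ⁅OZ (Oc {2} H), Oc {2} H ⊔ Y⁆ ≤ ⁅OZ (Oc {2} H), Y⁆ := commg_sup_right_le
      ((commg_eq_bot.2 (OZ_cent _)).trans_le bot_le) le_rfl
      (norms_of_cents ((cent_OZ _).trans (cent_mono (commg_le_left (hY.le.trans nW))))) (commg_normr _ _)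
    have lW : ⁅OZ (Oc {2} H), Oc {2} H ⊔ Y⁆ ≤ OZ (Oc {2} H) := commg_le_left (nK.le.trans nW)
    refine cents_symm (commg_eq_bot.1 (H19.eq_bot_mono (commutator_mono le_rfl (le_sup_right (a := Oc {2} H))) (by_contra fun U1 => ?_)))
    refine ((OZ_pg _).of_le lW).meet_cent hS.pi (hS.le.trans (norms_comm nW nK.norm)) U1 (H19.eq_bot_mono ?_
      (ab_commg_inf_cent (OZ_ab _).1 (hY.le.trans nW) ((OZ_pg _).coprime (hY.pi.sing_ne (by decide)))))
    refine le_inf (inf_le_left.trans lU) (cents_symm (hY.le.trans (c.trans (cent_mono ?_))))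
    exact le_OZ (abelem_mono (OZ_ab _) (inf_le_left.trans lW))
      (inf_le_left.trans (lW.trans ((OZ_le _).trans (Oc_le_hall hS)))) inf_le_right
  rcases cyc3 h hY.pi (fun E hE => hE.ne_bot ((hE.pg.of_le le_rfl).eq_bot ((pR.of_le
    ((le_inf (hE.le.trans hY.le) (r2' h pR hE.top (hE.le.trans (hY.le.trans n)) (hE.le.trans cW))).trans
      ch)).sing_ne (by decide)))) with rfl | ⟨c, o, rfl⟩
  · exact .inl (by simpa using sup23 hH hS hY)
  · refine .inr ⟨c, o, sup23 hH hS hY, (s3 h hH ch hS o hY).imp_left fun e => by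
      rw [← e]; exact n (hY.le (mem_zpowers c))⟩

theorem cz : CZ.{u} := fun _ _ _ _ _ h hH ch hS c => cz' h hH ch hS c

end H24.OB
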