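/-
S3432: centralizers of 2-central involutions (chunks TPZ, CZ1, D1 of `H13.O8`).
-/
import Cfsg.Agent.H24.OB2

set_option autoImplicit false
set_option linter.unusedSectionVars false

open Cfsg
namespace H24.OB

open H19 Subgroup H13.O8
open scoped commutatorElement

universe u

variable {G : Type u} [Group G] [Finite G]

omit [Finite G] in
theorem mod1 {R : Subgroup G} {t r c : G} (nt : t ∈ N(R)) (hr : r ∈ R)
    (h : t * (r * c) * t⁻¹ * (r * c)⁻¹ ∈ R) : t * c * t⁻¹ * c⁻¹ ∈ R := by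
  have := mul_mem (mul_mem (conj_mem_of_norm nt (inv_mem hr)) h) hr
  rwa [show t * r⁻¹ * t⁻¹ * (t * (r * c) * t⁻¹ * (r * c)⁻¹) * r = t * c * t⁻¹ * c⁻¹ by group] at this

omit [Finite G] in
theorem mod2 {R : Subgroup G} {t r c : G} (nt : t ∈ N(R)) (nc : c ∈ N(R)) (hr : r ∈ R)
    (h : t * (r * c) * t⁻¹ * (r * c) ∈ R) : t * c * t⁻¹ * c ∈ R := by
  have := mul_mem (mul_mem (conj_mem_of_norm nt (inv_mem hr)) h) (conj_mem_of_norm' nc (inv_mem hr))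
  rwa [show t * r⁻¹ * t⁻¹ * (t * (r * c) * t⁻¹ * (r * c)) * (c⁻¹ * r⁻¹ * c) = t * c * t⁻¹ * c by group] at this

theorem ycr {D Y : Subgroup G} (ch : Ch D) (hY : PG 3 Y) (l : Y ≤ D) : Y ⊓ C(Oc {2} D) = ⊥ :=
  eq_bot_iff.2 fun _ hy => ((Oc_pi {2} D).inf_eq_bot (hY.sing_ne (by decide))) ▸ ⟨ch ⟨l hy.1, hy.2⟩, hy.1⟩

/-- commutators with 3-elements that are 2-elements lie in `O₂(D)` -/
theorem cm1 (h : O G) {D : Subgroup G} (hD : PiG {2, 3} D) (ch : Ch D) {t c : G} (ht : t ∈ D) (hc : c ∈ D)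
    (o : orderOf c = 3) (h2 : PiE {2} (t * c * t⁻¹ * c⁻¹)) : t * c * t⁻¹ * c⁻¹ ∈ Oc {2} D := by
  obtain ⟨Y, hY⟩ := exists_syl 3 D
  have m := three_mem h hD ch hY hc (OA.pe3_of_ord o)
  exact two_mem (Oc_pi _ _) hY.pi (hY.le.trans (Oc_norm _ _))
    (mul_mem ((c3' h hD ch hY).conj_mem ht m) (inv_mem m)) h2

theorem cm2 (h : O G) {D : Subgroup G} (hD : PiG {2, 3} D) (ch : Ch D) {t c : G} (ht : t ∈ D) (hc : c ∈ D)
    (o : orderOf c = 3) (h2 : PiE {2} (t * c * t⁻¹ * c)) : t * c * t⁻¹ * c ∈ Oc {2} D := by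
  obtain ⟨Y, hY⟩ := exists_syl 3 D
  have m := three_mem h hD ch hY hc (OA.pe3_of_ord o)
  exact two_mem (Oc_pi _ _) hY.pi (hY.le.trans (Oc_norm _ _))
    (mul_mem ((c3' h hD ch hY).conj_mem ht m) m) h2

theorem tpz' (h : O G) (lc : LC G) {S R : Subgroup G} {c y t z : G} (hS : Syl 2 S ⊤) (o : orderOf c = 3)
    (cZ : c ∈ C(OZ S)) (ht : t ∈ S) (tc : t * c * t⁻¹ * c⁻¹ ∈ S) (k : P3 S R y) (nt : t ∉ R) (hz : z ∈ OZ S)
    (z1 : z ≠ 1) (yz : y ∈ C[z]) : y ∈ C(OZ S) := by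
  have z2 := (OZ_pg S).elt hz
  have hD := h.c23' z2 z1
  have ch := lc.c1 z2 z1
  have SD : S ≤ C[z] := (cent_OZ S).trans (cent_le_cent1 hz)
  have cD : c ∈ C[z] := cent_le_cent1 hz cZ
  have hS' : Syl 2 S C[z] := hS.of_le SD le_top
  have n := Oc_norm {2} C[z]
  have pR := Oc_pi {2} C[z]
  have k1 := cm1 h hD ch (SD ht) cD o (hS.pi.elt tc)
  have k2 := cm2 h hD ch (SD ht) yz k.o (hS.pi.elt (k.le (k.inv t ht nt)))
  obtain ⟨Y, hY⟩ := exists_syl 3 C[z]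
  obtain ⟨r, hr, c', hc', rfl⟩ := (mem_sup_of_norm (hY.le.trans n)).1
    (three_mem h hD ch hY cD (OA.pe3_of_ord o))
  obtain ⟨r', hr', y', hy', rfl⟩ := (mem_sup_of_norm (hY.le.trans n)).1
    (three_mem h hD ch hY yz (OA.pe3_of_ord k.o))
  have j1 := mod1 (n (SD ht)) hr k1
  have j2 := mod2 (n (SD ht)) (n (hY.le hy')) hr' k2
  have cm := ze' h pR hY.pi (hY.le.trans n) (ycr ch hY.pi hY.le) hc' hy' (n (SD ht)) (hS.pi.elt ht) j1 j2
  have o' := h.odd (hY.pi.elt hc') (by decide) (by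
    rintro rfl; exact OA.not_mem_of_ord3 pR o (by simpa using hr))
  have j := cy2' h pR o' (h.three (hY.pi.elt hy')) cm (n (hY.le hc')) (n (hY.le hy')) (n (SD ht))
    (hS.pi.elt ht) j1 j2
  have l := (Oc_le_hall hS').trans (cent_OZ S)
  exact mul_mem (l hr') (cent_mono (le_inf ((ch.OZ_le hS').trans (OZ_le _))
    (le_cent1_iff.2 ((mul_mem_cancel_left (l hr)).1 cZ))) j)

theorem tpz : TPZ.{u} := fun _ _ _ _ _ _ _ _ _ h lc hS o cZ ht tc k nt hz z1 yz =>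
  tpz' h lc hS o cZ ht tc k nt hz z1 yz

/-- an element of order three normalizing a group of order at most four and fixing an involution -/
theorem cent4 {Z : Subgroup G} {g z : G} (hZ : PG 2 Z) (l : #Z ≤ 4) (o : orderOf g = 3) (n : g ∈ N(Z))
    (hz : z ∈ Z) (z1 : z ≠ 1) (c : g ∈ C[z]) : g ∈ C(Z) := by
  have m := mod_cent Nat.prime_three o n
  have h1 := ne_bot_iff_one_lt_card.1 (ne_bot_of_mem (H := Z ⊓ C[g]) ⟨hz, mem_cent1_symm.1 c⟩ z1)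
  have h2 := card_le (inf_le_left : Z ⊓ C[g] ≤ Z)
  have h3 : #Z ≠ 3 := fun e => absurd (hZ 3 Nat.prime_three (by rw [e])) (by decide)
  have h4 : #(Z ⊓ C[g]) ≠ 3 := fun e => absurd (hZ.infl C[g] 3 Nat.prime_three (by rw [e])) (by decide)
  exact le_cent1_iff.1 (inf_eq_left.1 (eq_of_le_of_card_eq inf_le_left (by omega)))

theorem cz1' (h : O G) (lc : LC G) {S R : Subgroup G} {y z : G} (hS : Syl 2 S ⊤) (k : P3 S R y)
    (e : C(OZ S) = S ⊔ zpowers y) (l : OZ R ≤ OZ S) (l4 : #(OZ S) ≤ 4) (hz : z ∈ OZ S) (z1 : z ≠ 1) :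
    C[z] ≤ S ⊔ zpowers y := by
  have z2 := (OZ_pg S).elt hz
  have hD := h.c23' z2 z1
  have ch := lc.c1 z2 z1
  have SD : S ≤ C[z] := (cent_OZ S).trans (cent_le_cent1 hz)
  have yZ : y ∈ C(OZ S) := e ▸ mem_sup_right (mem_zpowers y)
  have yD : y ∈ C[z] := cent_le_cent1 hz yZ
  have hS' : Syl 2 S C[z] := hS.of_le SD le_top
  have n := Oc_norm {2} C[z]
  have pR := Oc_pi {2} C[z]
  obtain ⟨Y, hY, yY⟩ := (piG_zpowers.2 (OA.pe3_of_ord k.o)).exists_syl (zpowers_le.2 yD)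
  have lR := k.le_of (Oc_le_hall hS') (n yD)
  have eZ : OZ S = OZ (Oc {2} C[z]) ⊓ C[y] := (le_inf (ch.OZ_le hS') (le_cent1_iff.2 yZ)).antisymm
    ((le_OZ (abelem_mono (OZ_ab _) inf_le_left) (inf_le_left.trans ((OZ_le _).trans lR))
      (cents_symm fun t ht => by
        obtain ⟨r, hr, -, c⟩ := cy' h pR k.o (n yD) (n (SD (k.le ht))) (k.pR.elt ht)
          (cm1 h hD ch (SD (k.le ht)) yD k.o (k.pR.elt (k.cm ht)))
        exact (mul_mem_cancel_right (cent_mono inf_le_left (cent_OZ _ hr))).1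
          (cent_mono (inf_le_inf_right _ (OZ_le _)) c))).trans l)
  have cY : Y ⊓ C[y] ≤ zpowers y := by
    have l1 : Y ⊓ C[y] ≤ S ⊔ zpowers y := fun g hg => by
      by_cases g1 : g = 1
      · exact g1 ▸ one_mem _
      rw [← e]
      refine cent4 (OZ_pg S) l4 (h.odd (hY.pi.elt hg.1) (by decide) g1) ?_ hz z1 (hY.le hg.1)
      rw [eZ]
      exact norms_inf (zpowers_le.2 (norm_OZ _ (n (hY.le hg.1)))) (norms_of_le (zpowers_le.2 hg.2)) (mem_zpowers g)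
    have sy : Syl 3 (zpowers y) (S ⊔ zpowers y) := syl_mk le_sup_right (piG_zpowers.2 (OA.pe3_of_ord k.o)) (by
      have := card_mul_relIndex (le_sup_right : zpowers y ≤ S ⊔ zpowers y)
      rw [k.card, Nat.card_zpowers, k.o, mul_comm] at this
      rw [Nat.eq_of_mul_eq_mul_right three_pos this]
      exact (k.pg.sing_ne (by decide : 2 ≠ 3)).not_dvd Nat.prime_three rfl)
    exact (sy.max (le_inf yY (zpowers_le.2 (mem_cent1_self y))) l1 (hY.pi.infl _)).le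
  have eY : Y = zpowers y := by
    obtain ⟨w, hw, w1⟩ := exists_ne_one (hY.pi.center_ne_bot (ne_bot_mono yY (zpowers_ne_bot.2 k.ne1)))
    have lw : Y ≤ C[w] := le_cent1_iff.2 hw.2
    refine ((le_inf le_rfl ?_).trans cY).antisymm yY
    rcases OA.mem_zp3 k.o (cY ⟨hw.1, mem_cent1_symm.1 (lw (yY (mem_zpowers y)))⟩) with rfl | rfl | rfl
    · exact absurd rfl w1
    · exact lw
    · exact OA.cent1_inv y ▸ lw
  exact (eY ▸ sup23 hD hS' hY).le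

theorem cz1 : CZ1.{u} := fun _ _ _ _ _ _ _ h lc hS k e l l4 hz z1 => cz1' h lc hS k e l l4 hz z1

theorem d1' (h : O G) (lc : LC G) {M Q T R₁ R₂ : Subgroup G} {y₁ y₂ : G} (hT : Syl 2 T ⊤)
    (k : D8 M Q T R₁ R₂ y₁ y₂) : C(OZ T) ≤ M := by
  have Z1 : OZ T ≠ ⊥ := OZ_ne hT.pi (ne_bot_mono k.le k.lc.ne)
  have hS : Syl 2 T C(OZ T) := hT.of_le (cent_OZ T) le_top
  rcases cz' h (h.c23 (OZ_pg T) Z1) (lc _ (OZ_pg T) Z1).2 hS le_rfl with e | ⟨c, o, e, hc⟩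
  · exact e.le.trans k.syl.le
  have cd := card_cz hT.pi o hc
  have key : ∀ {R₁ R₂ : Subgroup G} {y₁ y₂ : G}, D8 M Q T R₁ R₂ y₁ y₂ → y₁ ∈ C(OZ T) → C(OZ T) ≤ M :=
    fun k m => (eq_of_le_of_card_eq (sup_le (cent_OZ T) (zpowers_le.2 m))
      (k.s1.p.card.trans (by rw [e, cd]))).ge.trans (sup_le k.syl.le (zpowers_le.2 k.s1.yM))
  by_contra nM
  have ex : ∀ {R₁ R₂ : Subgroup G} {y₁ y₂ : G}, D8 M Q T R₁ R₂ y₁ y₂ → ∃ z ∈ OZ T, z ≠ 1 ∧ y₁ ∈ C[z] :=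
    fun {R₁ R₂ y₁ y₂} k => by
      by_contra! n
      refine nM (key k.swap (H19.mem_cent.2 fun v hv => ?_))
      obtain ⟨a, ha, b, hb, rfl, h1, h2⟩ := k.st ⊥ (OZ Q) bot_le (OZ_le Q) (norm_bot (G := G) ▸ le_top) k.lc.nV
        (commg_eq_bot.2 (OZ_cent Q)).le (fun w hw => sq1 (OZ_ab Q) hw ▸ one_mem _) v (k.lc.OZ_le k.le hv)
        fun t ht => by rw [← H19.mem_cent.1 (cent_OZ T ht) v hv]; simp
      have c1 : ∀ t ∈ T ⊔ zpowers y₁, t * a = a * t := fun t ht => by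
        have := h1 t ht
        rwa [mem_bot, mul_inv_eq_one, mul_inv_eq_iff_eq_mul] at this
      have a1 : a = 1 := by_contra fun a1 => n a (mem_OZ.2 ⟨k.le (OZ_le Q ha), H19.mem_cent.2 fun t ht =>
        c1 t (mem_sup_left ht), sq1 (OZ_ab Q) ha⟩) a1 (mem_cent1.2 (c1 _ (mem_sup_right (mem_zpowers _))))
      have := h2 _ (mem_sup_right (mem_zpowers y₂))
      rw [mem_bot, mul_inv_eq_one, mul_inv_eq_iff_eq_mul] at this
      rw [a1, one_mul, this]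
  have cZ : c ∈ C(OZ T) := e ▸ mem_sup_right (mem_zpowers c)
  have le : ∀ {R₁ R₂ : Subgroup G} {y₁ y₂ : G}, D8 M Q T R₁ R₂ y₁ y₂ → ∀ t ∈ T, t * c * t⁻¹ * c⁻¹ ∈ T → t ∈ R₁ :=
    fun k t ht tc => by_contra fun nt =>
      let ⟨_, hz, z1, yz⟩ := ex k
      nM (key k (tpz' h lc hT o cZ ht tc k.s1.p nt hz z1 yz))
  have c1 := k.card_inf
  have c2 := k.s1.card
  have c3 := k.s1.p.card_S
  have c4 := card_pos Q
  rcases hc with n | p
  · have := card_le (show T ≤ R₁ ⊓ R₂ from fun t ht =>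
      have m : t * c * t⁻¹ * c⁻¹ ∈ T := by simpa only [mul_assoc] using mul_mem ht (conj_mem_of_norm n (inv_mem ht))
      ⟨le k t ht m, le k.swap t ht m⟩)
    omega
  · have := card_le (show Oc {2} C(OZ T) ≤ R₁ ⊓ R₂ from fun t ht =>
      ⟨le k t (p.le ht) (p.le (p.cm ht)), le k.swap t (p.le ht) (p.le (p.cm ht))⟩)
    have := p.card_S
    omega

theorem d1 : D1.{u} := fun _ _ _ _ _ _ _ _ _ _ h lc hT k => d1' h lc hT k

end H24.OB
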