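/-
S3432: the normalizer of a Sylow 2-subgroup in type `D₈` (chunks KX, D3 of `H13.O8`).
-/
import Cfsg.Agent.H24.OB3

set_option autoImplicit false
set_option linter.unusedSectionVars false

open Cfsg
namespace H24.OB

open H19 Subgroup H13.O8
open scoped commutatorElement

universe u

variable {G : Type u} [Group G] [Finite G]

/-- lift an element centralizing `g` modulo `R` into the centralizer -/
theorem lift3 {R : Subgroup G} {g t : G} (hR : PG 2 R) (o : orderOf g = 3) (hg : g ∈ N(R))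
    (h : t * g * t⁻¹ * g⁻¹ ∈ R) : ∃ r ∈ R, r * t ∈ C[g] := by
  have h1 : g * t * g⁻¹ * t⁻¹ ∈ R := by
    have := inv_mem h
    rwa [show (t * g * t⁻¹ * g⁻¹)⁻¹ = g * t * g⁻¹ * t⁻¹ by group] at this
  obtain ⟨n, hn, e⟩ := exists_mul_mem_cent (A := zpowers g) (H := R) (k := t) (zpowers_le.2 hg)
    (OA.cop23 hR o) (Or.inl (sol_zpowers g)) (fun a ha => by
      rcases OA.mem_zp3 o ha with rfl | rfl | rfl
      · simp
      · exact h1
      · have := conj_mem_of_norm' hg h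
        rwa [show g⁻¹ * (t * g * t⁻¹ * g⁻¹) * g = g⁻¹ * t * g⁻¹⁻¹ * t⁻¹ by group] at this)
  exact ⟨n, hn, by rwa [cent_zpowers] at e⟩

/-- a nontrivial invariant 2-subgroup contains a 2-central involution -/
theorem meetZ {U T : Subgroup G} (hT : PG 2 T) (l : U ≤ T) (n : T ≤ N(U)) (U1 : U ≠ ⊥) :
    ∃ z ∈ U, z ≠ 1 ∧ z ∈ OZ T := by
  have := (hT.of_le l).meet_cent hT n U1
  obtain ⟨z, hz, o⟩ := exists_orderOf_eq_prime Nat.prime_two (((hT.of_le l).infl C(T)).dvd_of_ne_bot this)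
  refine ⟨z, hz.1, by rintro rfl; simp at o, mem_OZ.2 ⟨l hz.1, hz.2, ?_⟩⟩
  rw [← pow_two, ← o, pow_orderOf_eq_one]

/-- the centre of `Q` is elementary abelian -/
theorem zq (h : O G) {Q T : Subgroup G} {y : G} (hT : PG 2 T) (l : Q ≤ T) (n : T ≤ N(Q)) (o : orderOf y = 3)
    (ny : y ∈ N(Q)) (c : y ∈ C(OZ T)) : Z(Q) ≤ OZ Q := by
  have ab : Ab Z(Q) := comm_center Q
  have cm : ∀ a ∈ Z(Q), ∀ b ∈ Z(Q), a * b = b * a := fun a ha b hb => mul_comm_of_comm ab ha hb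
  have pZ : PG 2 Z(Q) := (hT.of_le l).infl _
  let U : Subgroup G :=
    { carrier := {z | ∃ a ∈ Z(Q), z = a * a}
      mul_mem' := by
        rintro _ _ ⟨a, ha, rfl⟩ ⟨b, hb, rfl⟩
        exact ⟨a * b, mul_mem ha hb, by
          calc a * a * (b * b) = a * (a * b) * b := by simp only [mul_assoc]
            _ = a * (b * a) * b := by rw [cm a ha b hb]
            _ = _ := by simp only [mul_assoc]⟩
      one_mem' := ⟨1, one_mem _, by simp⟩
      inv_mem' := by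
        rintro _ ⟨a, ha, rfl⟩
        exact ⟨a⁻¹, inv_mem ha, by simp⟩ }
  have U1 : U = ⊥ := by
    by_contra U1
    obtain ⟨_, ⟨a, ha, rfl⟩, z1, hz⟩ := meetZ hT (show U ≤ T by
      rintro _ ⟨a, ha, rfl⟩; exact l (mul_mem ha.1 ha.1)) (fun t ht => mem_norm_of_cj_le (by
        rintro _ ⟨_, ⟨a, ha, rfl⟩, rfl⟩
        exact ⟨t * a * t⁻¹, conj_mem_of_norm (norm_le_norm_center Q (n ht)) ha, by simp [mul_assoc]⟩)) U1
    have nZ : zpowers y ≤ N(Z(Q)) := zpowers_le.2 (norm_le_norm_center Q ny)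
    have dp := ab_cent_dprod ab nZ (OA.cop23 pZ o)
    obtain ⟨b, hb, d, hd, rfl⟩ := dp.cp.mem ha
    rw [cent_zpowers] at hb
    have hd' : d ∈ Z(Q) := commg_le_left nZ hd
    have e : b * d * (b * d) = d * d := by
      calc _ = b * (d * b) * d := by group
        _ = b * b * (d * d) := by rw [cm d hd' b hb.1]; simp only [mul_assoc]
        _ = _ := by rw [h.e3 o (mem_cent1.1 hb.2) (pZ.elt hb.1), one_mul]
    rw [e] at z1 hz
    exact z1 (mem_bot.1 (ab_commg_inf_cent ab nZ (OA.cop23 pZ o) ▸ ⟨mul_mem hd hd, by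
      rw [cent_zpowers]; exact le_cent1_iff.2 c hz⟩))
  exact le_OZ (abelem_sq fun a ha => mem_bot.1 (U1 ▸ ⟨a, ha, rfl⟩)) inf_le_left inf_le_right

omit [Finite G] in
theorem cm_left {Q : Subgroup G} {v a q : G} (hv : v ∈ C(Q)) (hq : q ∈ Q) (ha : a ∈ Q) :
    ⁅v * a, q⁆ = ⁅a, q⁆ := by
  have h1 := H19.mem_cent.1 hv _ (mul_mem (mul_mem ha hq) (inv_mem ha))
  simp only [commutatorElement_def]
  calc _ = v * (a * q * a⁻¹) * v⁻¹ * q⁻¹ := by group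
    _ = _ := by rw [← h1]; group

omit [Finite G] in
theorem cm_conj (t a q : G) : t * ⁅a, q⁆ * t⁻¹ = ⁅t * a * t⁻¹ * a⁻¹ * a, t * q * t⁻¹⁆ := by
  simp only [commutatorElement_def]; group

/-- Lemma K -/
theorem lemK (h : O G) {Q T : Subgroup G} {y a : G} (hT : PG 2 T) (l : Q ≤ T) (n : T ≤ N(Q)) (o : orderOf y = 3)
    (ny : y ∈ N(Q)) (c : y ∈ C(OZ T)) (ha : a ∈ Q) (h1 : ∀ q ∈ Q, ⁅a, q⁆ ∈ OZ Q)
    (h2 : ∀ t ∈ T ⊔ zpowers y, t * a * t⁻¹ * a⁻¹ ∈ OZ Q) : a ∈ OZ Q := by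
  have pQ := hT.of_le l
  obtain ⟨v, hv, cy⟩ := lift3 (t := a) (OZ_pg Q) o (norm_OZ Q ny) (by
    have := inv_mem (h2 y (mem_sup_right (mem_zpowers y)))
    rwa [show (y * a * y⁻¹ * a⁻¹)⁻¹ = a * y * a⁻¹ * y⁻¹ by group] at this)
  let U : Subgroup G :=
    { carrier := {z | ∃ q ∈ Q, z = ⁅a, q⁆}
      mul_mem' := by
        rintro _ _ ⟨p, hp, rfl⟩ ⟨q, hq, rfl⟩
        refine ⟨p * q, mul_mem hp hq, ?_⟩
        have := H19.mem_cent.1 (OZ_cent Q (h1 q hq)) p hp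
        calc _ = ⁅a, p⁆ * (⁅a, q⁆ * p) * p⁻¹ := by group
          _ = _ := by rw [← this]; simp only [commutatorElement_def]; group
      one_mem' := ⟨1, one_mem _, by simp⟩
      inv_mem' := by
        rintro _ ⟨q, hq, rfl⟩
        exact ⟨q, hq, inv_eq_of_mul_eq_one_left (sq1 (OZ_ab Q) (h1 q hq))⟩ }
  have U1 : U = ⊥ := by
    by_contra U1
    obtain ⟨_, ⟨q, hq, rfl⟩, z1, hz⟩ := meetZ hT (show U ≤ T by
      rintro _ ⟨q, hq, rfl⟩; exact l (OZ_le Q (h1 q hq))) (fun t ht => mem_norm_of_cj_le (by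
        rintro _ ⟨_, ⟨q, hq, rfl⟩, rfl⟩
        have m := conj_mem_of_norm (n ht) hq
        exact ⟨_, m, (cm_conj t a q).trans (cm_left (OZ_cent Q (h2 t (mem_sup_left ht))) m ha)⟩)) U1
    rw [← cm_left (OZ_cent Q hv) hq ha] at z1 hz
    have aQ := mul_mem (OZ_le Q hv) ha
    generalize v * a = b at *
    have cy' := mem_cent1.1 cy
    have cz := H19.mem_cent.1 c _ hz
    have e1 : b * q * b⁻¹ = ⁅b, q⁆ * q := by simp only [commutatorElement_def]; group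
    have e2 : b * (y * q * y⁻¹) * b⁻¹ = ⁅b, q⁆ * (y * q * y⁻¹) := by
      calc _ = (b * y) * q * (b * y)⁻¹ := by group
        _ = y * (b * q * b⁻¹) * y⁻¹ := by rw [cy']; group
        _ = (y * ⁅b, q⁆) * q * y⁻¹ := by rw [e1]; group
        _ = _ := by rw [← cz]; group
    obtain ⟨k, hk, e⟩ := lift3 (t := q⁻¹) (pQ.infl C[b]) o
      (norms_inf (zpowers_le.2 ny) (norms_of_le (zpowers_le.2 (mem_cent1_symm.1 cy))) (mem_zpowers y))
      (mem_inf.2 ⟨by simpa only [mul_assoc, inv_inv] using mul_mem (inv_mem hq) (conj_mem_of_norm ny hq),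
        mem_cent1.2 (by
        calc _ = (⁅b, q⁆ * q)⁻¹ * (⁅b, q⁆ * (y * q * y⁻¹)) * b := by group
          _ = _ := by rw [← e1, ← e2]; group)⟩)
    replace hk := mem_inf.1 hk
    have := OA.comm3 (o8 h) o pQ (mul_mem hk.1 (inv_mem hq)) aQ e cy
    have k2 : q ∈ C[b] := inv_mem_iff.1 ((mul_mem_cancel_left hk.2).1 (mem_cent1.2 this))
    exact z1 (commutatorElement_eq_one_iff_mul_comm.2 (mem_cent1.1 k2).symm)
  exact zq h hT l n o ny c ⟨ha, H19.mem_cent.2 fun q hq =>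
    (commutatorElement_eq_one_iff_mul_comm.1 (mem_bot.1 (U1 ▸ ⟨q, hq, rfl⟩))).symm⟩

theorem kx' (h : O G) {M Q T R₁ R₂ X : Subgroup G} {y₁ y₂ : G} (k : D8 M Q T R₁ R₂ y₁ y₂)
    (f : FS M Q T R₁ y₁ y₂) (l : X ≤ Q) (n : T ≤ N(X)) (c : ⁅X, Q⁆ ≤ OZ T) : X ≤ OZ Q := by
  have nV := k.lc.nV
  have pT := k.syl.pi
  have nQ : Q ≤ N(OZ Q) := k.lc.le.trans nV
  have zv := k.lc.OZ_le k.le
  by_contra nX
  obtain ⟨u, hu, u1, hz⟩ := meetZ (pT.quo (OZ Q)) (quo_mono _ (l.trans k.le)) (quo_norms n)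
    (fun e => nX ((quo_eq_bot_iff (l.trans nQ)).1 e))
  obtain ⟨u, hu', rfl⟩ := mem_im.1 hu
  have lW : qpre (OZ Q) (OZ (quo (OZ Q) Q)) ≤ Q := qpre_le (OZ_le Q) (OZ_le _)
  have cW : ⁅qpre (OZ Q) (OZ (quo (OZ Q) Q)), Q⁆ ≤ OZ Q :=
    (quo_cents_iff (lW.trans nQ) nQ).1 (by rw [quo_qpre]; exact OZ_cent _)
  obtain ⟨a, ha, b, hb, e, h1, h2⟩ := k.st (OZ Q) _ (le_qpre _) lW nV
    (norms_qpre nV ((quo_norms k.lc.nQ).trans (norm_OZ _))) cW (fun w hw => by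
      obtain ⟨m, hm⟩ := mem_pre.1 hw
      exact qmk_eq_one (x := ⟨w, m⟩ * ⟨w, m⟩) |>.1 ((map_mul _ _ _).trans (sq1 (OZ_ab _) hm))) u
    (coe_mem_pre.2 (mem_OZ.2 ⟨mem_im_of (l hu'), cent_mono (quo_mono _ k.le) (OZ_cent _ hz), sq1 (OZ_ab _) hz⟩))
    fun t ht => by
      have m := k.syl.le.trans nV ht
      refine qmk_eq_one (x := ⟨t, m⟩ * u * (⟨t, m⟩ : N(OZ Q))⁻¹ * u⁻¹) |>.1 ?_
      simp only [map_mul, map_inv]
      rw [H19.mem_cent.1 (OZ_cent _ hz) _ (mem_im_of (x := ⟨t, m⟩) ht)]; group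
  have aV := lemK h pT k.le (k.syl.le.trans k.lc.nQ) k.s1.p.o (k.lc.nQ k.s1.yM) f.c1 (lW ha)
    (fun q hq => cW (commutator_mem_commutator ha hq)) h1
  have bZ : ∀ q ∈ Q, ⁅b, q⁆ ∈ OZ T := fun q hq => by
    rw [← cm_left (OZ_cent Q aV) hq (lW hb), ← e]; exact c (commutator_mem_commutator hu' hq)
  have bV : b ∈ OZ Q := zq h pT k.le (k.syl.le.trans k.lc.nQ) k.s1.p.o (k.lc.nQ k.s1.yM) f.c1
    ⟨lW hb, H19.mem_cent.2 fun q hq => by
      have m := conj_mem_of_norm (inv_mem (k.lc.nQ k.s2.yM)) hq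
      have e2 := (cm_conj y₂⁻¹ b q).trans (cm_left (OZ_cent Q (h2 _ (mem_sup_right (inv_mem (mem_zpowers y₂))))) m
        (lW hb))
      have := k.s2.p.cent (X := C[⁅b, q⁆]) ((cent_OZ T).trans (cent_le_cent1 (bZ q hq))) (by
        rw [cj_le_iff, cj_cent1, e2]; exact (cent_OZ T).trans (cent_le_cent1 (bZ _ m)))
      exact (commutatorElement_eq_one_iff_mul_comm.1 (mem_bot.1 (f.z2 ▸ ⟨bZ q hq, mem_cent1_symm.1 this⟩))).symm⟩
  exact u1 (qmk_eq_one.2 (e ▸ mul_mem aV bV))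

theorem kx : KX.{u} := fun _ _ _ _ _ _ _ _ _ _ _ h k f l n c => kx' h k f l n c

/-- `T ⊓ O₂(C(Z)) = R` -/
theorem inf_core (h : O G) (lc : LC G) {Q T R : Subgroup G} {y : G} (cq : C(Q) ≤ Q) (l : Q ≤ T) (Q1 : Q ≠ ⊥)
    (p : P3 T R y) (c : y ∈ C(OZ T)) : T ⊓ Oc {2} C(OZ T) = R := by
  have Z1 : OZ T ≠ ⊥ := OZ_ne p.pg (ne_bot_mono l Q1)
  have hD := h.c23 (OZ_pg T) Z1
  have ch := (lc _ (OZ_pg T) Z1).2
  have pR := Oc_pi {2} C(OZ T)
  have n := Oc_norm {2} C(OZ T)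
  obtain ⟨S, hS, lS⟩ := p.pg.exists_syl (cent_OZ T)
  have lZ : OZ S ≤ OZ T := OZ_le_OZ lS ((OZ_cent S).trans ((cent_mono (l.trans lS)).trans (cq.trans l)))
  refine le_antisymm (fun t ht => by_contra fun nt => OA.not_mem_of_ord3 pR p.o (OA.mem_of_sq p.o ?_))
    (le_inf p.le fun r hr => ?_)
  · replace ht := mem_inf.1 ht
    have h1 := cm2 h hD ch (cent_OZ T ht.1) c p.o (p.pR.elt (p.inv t ht.1 nt))
    have h2 := mul_mem ht.2 (conj_mem_of_norm (n c) (inv_mem ht.2))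
    simpa only [mul_inv_rev, inv_inv, mul_assoc, inv_mul_cancel_left, mul_inv_cancel_left] using
      mul_mem (inv_mem h2) h1
  rcases cz' h hD ch hS (cent_mono lZ) with e | ⟨c', o, e, hc⟩
  · exact absurd (e ▸ c) (p.not_mem hS.pi)
  have sy : Syl 3 (zpowers y) C(OZ T) := syl_mk (zpowers_le.2 c) (piG_zpowers.2 (OA.pe3_of_ord p.o)) (by
    have := card_mul_relIndex (zpowers_le.2 c)
    rw [Nat.card_zpowers, p.o, mul_comm, congrArg (fun X : Subgroup G => #X) e, card_cz hS.pi o hc] at this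
    rw [Nat.eq_of_mul_eq_mul_right three_pos this]
    exact (hS.pi.sing_ne (by decide : 2 ≠ 3)).not_dvd Nat.prime_three rfl)
  have k := cm1 h hD ch (cent_OZ T (p.le hr)) c p.o (p.pR.elt (p.cm hr))
  refine two_mem pR sy.pi (sy.le.trans n) (c3c h hD ch sy (cent_OZ T (p.le hr)) fun x hx => ?_) (p.pR.elt hr)
  rcases OA.mem_zp3 p.o hx with rfl | rfl | rfl
  · simp
  · exact k
  · have := conj_mem_of_norm' (n c) (inv_mem k)
    rwa [show y⁻¹ * (r * y * r⁻¹ * y⁻¹)⁻¹ * y = r * y⁻¹ * r⁻¹ * y⁻¹⁻¹ by group] at this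

theorem d3' (h : O G) (lc : LC G) {M Q T R₁ R₂ : Subgroup G} {y₁ y₂ g : G} (k : D8 M Q T R₁ R₂ y₁ y₂)
    (f : FS M Q T R₁ y₁ y₂) (hg : g ∈ N(T)) (gM : g ∉ M) : Abelem 2 Q ∧ #Q = 8 := by
  have p := k.s1.p
  have gR : g ∈ N(R₁) := by
    rw [← inf_core h lc k.lc.cq k.le k.lc.ne p f.c1]
    exact norms_inf (zpowers_le.2 hg) (norms_Oc _ (norms_cent (zpowers_le.2 (norm_OZ T hg)))) (mem_zpowers g)
  have zv := k.lc.OZ_le k.le
  have nZ : R₁ ≤ N(OZ T) := p.le.trans (norms_of_cents (cent_OZ T))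
  let X : Subgroup G := R₁ ⊓ qpre (OZ T) C(quo (OZ T) R₁)
  have nX : ∀ A : Subgroup G, A ≤ N(R₁) → A ≤ N(OZ T) → A ≤ N(X) := fun A a b =>
    norms_inf a (norms_qpre b (norms_cent (quo_norms a)))
  have cX : ⁅X, R₁⁆ ≤ OZ T := (quo_cents_iff (inf_le_left.trans nZ) nZ).1
    ((quo_le_iff (inf_le_left.trans nZ)).2 inf_le_right)
  have gQ : g ∉ N(Q) := k.lc.nm ▸ gM
  by_cases l : X ≤ Q
  · have lV := kx' h k f l (nX T p.nS (norms_of_cents (cent_OZ T)))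
      ((commutator_mono le_rfl k.s1.le).trans cX)
    have ny := nX _ (zpowers_le.2 p.nR) (zpowers_le.2 (cent_le_norm _ f.c1))
    rcases k.s1.ir k.lc.nQ (X := R₁ ⊓ C(X)) (le_inf k.s1.le ((cent_OZ Q).trans (cent_mono lV))) inf_le_left
      (norms_inf (zpowers_le.2 p.nR) (norms_cent ny) (mem_zpowers _)) with e | e
    · exact absurd (e ▸ norms_inf (zpowers_le.2 gR) (norms_cent (nX _ (zpowers_le.2 gR)
        (zpowers_le.2 (norm_OZ T hg)))) (mem_zpowers g)) gQ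
    have lZ : X ≤ OZ T := (le_inf lV (cents_symm (e.ge.trans inf_le_right))).trans f.cz
    refine absurd (eq_bot_iff.2 ?_) ((p.pR.quo (OZ T)).center_ne_bot fun e' =>
      k.s1.ne (((quo_eq_bot_iff nZ).1 e').trans (zv.trans (OZ_le Q))))
    rw [← quo_inf_qpre]
    exact (quo_eq_bot lZ).le
  have lQ := k.lc.fpf h k.lc.nV (A := X) (inf_le_left.trans (p.le.trans k.syl.le))
    (by rw [commutator_comm]; exact (commutator_mono le_rfl k.s1.le).trans (cX.trans zv)) l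
  have ab := abelem_mono (OZ_ab Q) lQ
  refine ⟨ab, ?_⟩
  have eV := OZ_eq ab
  have fz := f.cz
  rcases f.big with e | ⟨b1, b2⟩
  · rwa [eV] at e
  rw [eV] at b1 b2 fz
  exfalso
  have lA : cj g Q ≤ R₁ := cj_le_of_mem_norm gR k.s1.le
  have nA : ¬ cj g Q ≤ Q := fun l => gQ (mem_norm_of_cj_le l)
  have cA := comm_iff_le_cent.1 (abelem_J ab g).1
  have c1 := card_inf_mul_relIndex Q (cj g Q)
  rw [card_cj] at c1
  have nQ : cj g Q ≤ N(Q) := lA.trans (p.le.trans (k.syl.le.trans k.lc.nQ))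
  have c0 := card_pos Q
  by_cases e : R₁ ≤ Q ⊔ cj g Q
  · have c2 := card_le (show Q ⊓ cj g Q ≤ OZ T from (le_inf inf_le_left ((cents_sup
      (inf_le_left.trans (comm_iff_le_cent.1 ab.1)) (inf_le_right.trans cA)).trans (cent_mono e))).trans fz)
    have c3 : Q.relIndex (cj g Q) ≤ 4 := k.s1.idx ▸ relIndex_le_of_le_right lA (relIndex_ne_zero' _ _)
    nlinarith
  · obtain ⟨t, ht, nt⟩ := SetLike.not_le_iff_exists.1 nA
    have c2 := card_le (show Q ⊓ cj g Q ≤ Q ⊓ C[t] from inf_le_inf_left Q (cA.trans (cent_le_cent1 ht)))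
    have c3 := b2 t (p.le (lA ht)) nt
    have c4 := p.pR.card_mul_le (lt_of_le_not_ge (sup_le k.s1.le lA) e)
    have c5 := card_mul_relIndex (le_sup_left : Q ≤ Q ⊔ cj g Q)
    rw [relIndex_sup_of_norm nQ] at c5
    rw [k.s1.card, ← c5] at c4
    have c6 : Q.relIndex (cj g Q) ≤ 2 := by nlinarith
    nlinarith

theorem d3 : D3.{u} := fun _ _ _ _ _ _ _ _ _ _ _ h lc k f hg gM => d3' h lc k f hg gM

end H24.OB
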