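/-
S3432: free involutions and the case `A₅` (chunks FR, B1, A5a, A5b of `H13.O8`).
-/
import Cfsg.Agent.H24.OB4
import Cfsg.Agent.H24.OA2

set_option autoImplicit false
set_option linter.unusedSectionVars false

open Cfsg
namespace H24.OB

open H19 Subgroup H13.O8
open scoped commutatorElement

universe u

variable {G : Type u} [Group G] [Finite G]

omit [Finite G] in
theorem inv_pow' {K : Subgroup G} {a d : G} (nd : a * d * a⁻¹ ∈ N(K)) (h : a * d * a⁻¹ * d ∈ K) (n : ℕ) :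
    a * d ^ n * a⁻¹ * d ^ n ∈ K := by
  induction n with
  | zero => simp
  | succ n ih =>
    have := mul_mem (conj_mem_of_norm nd ih) h
    rwa [show a * d * a⁻¹ * (a * d ^ n * a⁻¹ * d ^ n) * (a * d * a⁻¹)⁻¹ * (a * d * a⁻¹ * d) =
      a * d ^ (n + 1) * a⁻¹ * d ^ (n + 1) by nth_rewrite 1 [pow_succ']; rw [pow_succ]; group] at this

/-- the `p`-part of an element of order `p` modulo a 2-group -/
theorem ord_p {Q : Subgroup G} {d : G} {p : ℕ} (hp : p.Prime) (p2 : p ≠ 2) (hQ : PG 2 Q) (h : d ^ p ∈ Q)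
    (n : d ∉ Q) : orderOf (d ^ #Q) = p := by
  refine orderOf_of_pow hp ?_ fun e => n ?_
  · rw [← pow_mul, mul_comm, pow_mul]
    exact congrArg Subtype.val (pow_card_eq_one' (x := (⟨_, h⟩ : Q)))
  · exact H28.mem_of_pow_mem_of_pow_mem (((hQ.sing_ne p2.symm).coprime_prime hp).symm) h (e ▸ one_mem Q)

theorem fr' {M Q S : Subgroup G} {p : ℕ} (hp : p = 3 ∨ p = 5) (hQ : PG 2 Q) (n : M ≤ N(Q)) (l : S ≤ M)
    (iv : Inv p M Q S) (fp : Fp p M Q) : Free M Q S := by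
  intro a ha na a2 W hW lW nW c
  have pp : p.Prime := by rcases hp with rfl | rfl <;> norm_num
  obtain ⟨x, hx, nx, xp, e⟩ := iv a ha na a2
  have aM := l ha
  have dM : a * x * a⁻¹ * x⁻¹ ∈ M := mul_mem (mul_mem (mul_mem aM hx) (inv_mem aM)) (inv_mem hx)
  have q1 : qmk Q ⟨a, n aM⟩ * qmk Q ⟨x, n hx⟩ * (qmk Q ⟨a, n aM⟩)⁻¹ = (qmk Q ⟨x, n hx⟩)⁻¹ := by
    have := (qmk_eq_one (x := ⟨a, n aM⟩ * ⟨x, n hx⟩ * ⟨a, n aM⟩⁻¹ * ⟨x, n hx⟩)).2 e
    simp only [map_mul, map_inv] at this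
    exact eq_inv_of_mul_eq_one_left this
  have q2 : qmk Q ⟨_, n dM⟩ = (qmk Q ⟨x, n hx⟩ ^ 2)⁻¹ := by
    have : (⟨_, n dM⟩ : N(Q)) = ⟨a, n aM⟩ * ⟨x, n hx⟩ * ⟨a, n aM⟩⁻¹ * ⟨x, n hx⟩⁻¹ := rfl
    rw [this]; simp only [map_mul, map_inv]; rw [q1, pow_two, mul_inv_rev]
  have q3 : qmk Q ⟨x, n hx⟩ ^ p = 1 := by rw [← map_pow]; exact qmk_eq_one.2 xp
  have o := ord_p (d := a * x * a⁻¹ * x⁻¹) pp (by omega) hQ (by
    refine (qmk_eq_one (x := ⟨_, n dM⟩ ^ p)).1 ?_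
    rw [map_pow, q2, inv_pow, ← pow_mul, mul_comm, pow_mul, q3, one_pow, inv_one]) fun k => nx (by
      have := (qmk_eq_one (x := ⟨_, n dM⟩)).2 k
      rw [q2, inv_eq_one, ← map_pow] at this
      exact H28.mem_of_pow_mem_of_pow_mem (m := 2) (n := p) (by rcases hp with rfl | rfl <;> norm_num)
        (qmk_eq_one.1 this) xp)
  have aa : a * a ∈ C(W) := c.elim (fun c => c ▸ one_mem _) fun c => c a2
  have nC := norms_cent nW
  rw [← pow_two]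
  refine OA.sq hW (nW aM) (nW (pow_mem dM _)) aa (inv_pow' (nC (mul_mem (mul_mem aM dM) (inv_mem aM))) ?_ _)
    (by rw [o]; rcases hp with rfl | rfl <;> decide)
    (H19.eq_bot_mono (inf_le_inf_right _ lW) (fp _ (pow_mem dM _) o))
  have := mul_mem aa (conj_mem_of_norm (nC hx) (inv_mem aa))
  rwa [show a * a * (x * (a * a)⁻¹ * x⁻¹) = a * (a * x * a⁻¹ * x⁻¹) * a⁻¹ * (a * x * a⁻¹ * x⁻¹) by group] at this

theorem fr : FR.{u} := fun _ _ _ _ _ _ _ hp hQ n l iv fp => fr' hp hQ n l iv fp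

/-- the stabilizer of a chain -/
theorem stab {P R U A : Subgroup G} (hR : PG 2 R) (n1 : P ≤ N(U)) (n2 : R ⊴ P) (l : U ≤ R)
    (c : P ⊓ C(R) ≤ R) (lA : A ≤ P) (c1 : A ≤ C(U)) (c2 : ⁅R, A⁆ ≤ U) : A ≤ Oc {2} P := by
  let K : Subgroup G := P ⊓ C(U) ⊓ qpre U C(quo U R)
  have e : ∀ {B}, B ≤ P → (B ≤ qpre U C(quo U R) ↔ ⁅R, B⁆ ≤ U) := fun {B} l => by
    rw [← quo_le_iff (l.trans n1), quo_cents_iff (l.trans n1) (n2.le.trans n1), commutator_comm]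
  refine (le_inf (le_inf lA c1) ((e lA).2 c2) : A ≤ K).trans (le_Oc ⟨inf_le_left.trans inf_le_left,
    norms_inf (norms_inf le_normalizer (norms_cent n1)) (norms_qpre n1 (norms_cent (quo_norms n2.norm)))⟩ ?_)
  intro p hp d
  by_contra p2
  obtain ⟨x, hx, o⟩ := exists_orderOf_eq_prime hp d
  have lx : zpowers x ≤ P := zpowers_le.2 hx.1.1
  have := cents_of_stable (H := U) (A := zpowers x) (K := R) (by
    rw [Nat.card_zpowers, o]; exact ((hR.of_le l).sing_ne (Ne.symm p2)).coprime_prime hp)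
    (zpowers_le.2 hx.1.2) ((e lx).1 (zpowers_le.2 hx.2))
  exact p2 ((hR.elt (c ⟨hx.1.1, this (mem_zpowers x)⟩)).eq_of_dvd hp o.symm.dvd)

theorem b1' (h : O G) {M Q S R : Subgroup G} {c : G} (k : H13.O8.Lc M Q) (l : S ≤ M) (lQ : Q ≤ S) (rk : Rk Q S)
    (fr : Free M Q S) (x5 : ∃ x ∈ M, orderOf x = 5) (p : P3 S R c) (ch : (S ⊔ zpowers c) ⊓ C(R) ≤ R)
    (nV : ¬ OZ Q ≤ R) : Abelem 2 Q ∧ #Q = 16 := by
  obtain ⟨v, hv, nv⟩ := SetLike.not_le_iff_exists.1 nV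
  have lV : OZ Q ≤ S := (OZ_le Q).trans lQ
  have nS : S ≤ N(OZ Q) := l.trans k.nV
  have nU : S ≤ N(OZ Q ⊓ R) := norms_inf nS p.nS
  have cR : cj c R = R := cj_of_mem_norm p.nR
  have lA : cj c (OZ Q ⊓ R) ≤ R := (cj_mono c inf_le_right).trans cR.le
  have nA : R ≤ N(cj c (OZ Q ⊓ R)) := by
    rw [← cj_norm]; exact cR.ge.trans (cj_mono c (p.le.trans nU))
  have abA : Abelem 2 (cj c (OZ Q)) := abelem_J (OZ_ab Q) c
  have lA' : cj c (OZ Q ⊓ R) ≤ cj c (OZ Q) := cj_mono c inf_le_left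
  have hW : cj c (OZ Q ⊓ R) ⊓ Q ≤ OZ Q ⊓ R := by
    have := p.cent' (X := N(cj c (OZ Q ⊓ R) ⊓ Q)) (norms_inf nA ((p.le.trans l).trans k.nQ)) (lV hv) nv
      (cent_le_norm _ (cent_mono inf_le_right (OZ_cent Q hv)))
      (cent_le_norm _ (cents_of_comm abA.1 le_rfl (inf_le_left.trans lA') (conj_mem_cj.2 hv)))
    rw [← cj_le_cj (g := c), cj_of_mem_norm this]
    exact inf_le_left
  have nQ : ¬ cj c (OZ Q ⊓ R) ≤ Q := fun lq => by
    have e : cj c (OZ Q ⊓ R) = OZ Q ⊓ R := eq_of_le_of_card_eq ((le_inf le_rfl lq).trans hW) (card_cj _ _)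
    have := stab (P := S ⊔ zpowers c) (A := OZ Q) p.pR (sup_le nU (zpowers_le.2 (mem_norm_iff_cj.2 e)))
      ⟨p.le.trans le_sup_left, p.norm⟩ inf_le_right ch (lV.trans le_sup_left)
      (cents_of_comm (OZ_ab Q).1 le_rfl inf_le_left)
      (le_inf (commg_le_right (p.le.trans nS)) (commg_le_left (lV.trans p.nS)))
    exact nV (p.Oc_eq ▸ this)
  have eQ : OZ Q ⊔ (Q ⊓ R) = Q := by
    have : R ⊔ OZ Q = S := ((eq_of_prime_index le_sup_left (sup_le p.le lV) (p.idx ▸ Nat.prime_two)).resolve_left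
      fun e => nV (le_sup_right.trans e.le))
    rw [inf_comm, ← sup_inf_modl (p.le.trans nS) (OZ_le Q), sup_comm, this, inf_eq_right.2 lQ]
  have lq : Q ≤ OZ Q := k.fpf h k.nV ((lA.trans p.le).trans l) (by
    refine (commutator_mono eQ.ge le_rfl).trans ?_
    exact commg_sup_left_le (commg_le_left ((lA.trans p.le).trans nS))
      ((le_inf (commg_le_right (inf_le_right.trans nA)) ((commg_le_left (norms_inf
        (((lA.trans p.le).trans l).trans k.nQ) (lA.trans le_normalizer))).trans inf_le_left)).trans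
        (hW.trans inf_le_left)) le_normalizer ((inf_le_left.trans lQ).trans nS)) nQ
  have ab : Abelem 2 Q := abelem_mono (OZ_ab Q) lq
  have eq := OZ_eq ab
  rw [eq] at lA' abA nQ hv lA
  refine ⟨ab, ?_⟩
  obtain ⟨a, ha, na⟩ := SetLike.not_le_iff_exists.1 nQ
  obtain ⟨x, hx, o⟩ := x5
  have a2 := sq1 abA (lA' ha)
  have h1 := fr a (p.le (lA ha)) na (a2 ▸ one_mem Q) Q ab le_rfl k.nQ (.inl a2)
  have h2 := rk.2 _ (lA.trans p.le) fun b hb => sq1 abA (lA' hb) ▸ one_mem Q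
  have h3 := card_inf_mul_relIndex Q (cj c (Q ⊓ R))
  have h4 : #(Q ⊓ cj c (Q ⊓ R)) ≤ #(Q ⊓ C[a]) := card_le (inf_le_inf_left Q
    ((cents_of_comm abA.1 lA' lA').trans (cent_le_cent1 ha)))
  have h5 := card_inf_mul_relIndex R Q
  have h6 : R.relIndex Q ≤ 2 := p.idx ▸ relIndex_le_of_le_right lQ (relIndex_ne_zero' _ _)
  rw [card_cj] at h3
  rw [inf_comm, ← h3] at h5
  have h7 := card_pos (Q ⊓ C[a])
  have : #(Q ⊓ C[a]) ≤ 8 := Nat.le_of_mul_le_mul_left (by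
    rw [← h1, ← h5, mul_assoc]; exact Nat.mul_le_mul h4 (Nat.mul_le_mul h2 h6)) h7
  exact two_pow_mod k.pg k.ne (by nlinarith) (h.mod (.inl rfl) (k.pg.sing_ne (by decide)) o (k.nQ hx))

theorem b1 : B1.{u} := fun _ _ _ _ _ _ _ _ h k l lQ rk fr x5 p ch nV => b1' h k l lQ rk fr x5 p ch nV

/-- a commuting lift of order three -/
theorem lift_comm (h : O G) {R : Subgroup G} {y c : G} (hR : PG 2 R) (o : orderOf y = 3) (ny : y ∈ N(R))
    (nc : c ∈ N(R)) (c3 : c ^ 3 ∈ R) (n : c ∉ R) (e : c * y * c⁻¹ * y⁻¹ ∈ R) :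
    ∃ c', orderOf c' = 3 ∧ c' * c⁻¹ ∈ R ∧ c' * y = y * c' := by
  obtain ⟨r, hr, k⟩ := lift3 hR o ny e
  have q : qmk R ⟨r * c, mul_mem (le_normalizer hr) nc⟩ = qmk R ⟨c, nc⟩ := by
    have : (⟨r * c, mul_mem (le_normalizer hr) nc⟩ : N(R)) = ⟨r, le_normalizer hr⟩ * ⟨c, nc⟩ := rfl
    rw [this, map_mul, qmk_eq_one.2 hr, one_mul]
  have r3 : (r * c) ^ 3 ∈ R := by
    refine (qmk_eq_one (x := ⟨r * c, mul_mem (le_normalizer hr) nc⟩ ^ 3)).1 ?_
    rw [map_pow, q, ← map_pow]; exact qmk_eq_one.2 c3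
  refine ⟨(r * c) ^ 4, OA.l3 (o8 h) hR r3 fun k => n ((mul_mem_cancel_left hr).1 k), ?_,
    mem_cent1.1 (pow_mem k 4)⟩
  rw [OA.l3_eq, mul_assoc, mul_inv_cancel_right]
  exact mul_mem r3 hr

theorem mod53 {X : Subgroup G} (hX : PG 2 X) (e : #X % 5 = 1) : #X % 3 = 1 := by
  obtain ⟨k, c⟩ := hX.exists_card
  rw [c] at e ⊢
  obtain ⟨j, rfl | rfl | rfl | rfl⟩ : ∃ j, k = 4 * j ∨ k = 4 * j + 1 ∨ k = 4 * j + 2 ∨ k = 4 * j + 3 :=
    ⟨k / 4, by omega⟩ <;> simp [pow_add, pow_mul, Nat.mul_mod, Nat.pow_mod] at e ⊢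

theorem a5a' (h : O G) (lc : LC G) {M Q S : Subgroup G} {y : G} (hS : Syl 2 S ⊤) (k : TA M Q S y)
    (n : N(S) ≤ M) : C(OZ S) ≤ M ∨ Abelem 2 Q ∧ #Q = 16 := by
  have Z1 := OZ_ne hS.pi (ne_bot_mono k.le k.lc.ne)
  have ch := (lc _ (OZ_pg S) Z1).2
  rcases cz' h (h.c23 (OZ_pg S) Z1) ch (hS.of_le (cent_OZ S) le_top) le_rfl with e | ⟨c, o, e, p | p⟩
  · exact .inl (e.trans_le k.syl.le)
  · exact .inl (e.trans_le (sup_le k.syl.le (zpowers_le.2 (n p))))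
  refine .inr (b1' h k.lc k.syl.le k.le k.rk (fr' (.inr rfl) k.lc.pg k.lc.nQ k.syl.le k.inv (k.lc.fp5 h))
    k.five p (e ▸ ch) fun lV => ?_)
  have nH : y ∈ N(C(OZ S)) := norm_le_norm_cent _ (norm_OZ S k.yN)
  have nR := norm_le_norm_Oc {2} _ nH
  generalize Oc {2} C(OZ S) = R at p lV nR
  have hc : c ∈ C(OZ S) := e.ge (mem_sup_right (mem_zpowers c))
  have cy : y * c * y⁻¹ * c⁻¹ ∈ R := by
    refine (act3 p.pR o p.nR (mem_norm_of_cj_le ?_)).resolve_right fun i => ?_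
    · rw [cj_sup, cj_of_mem_norm nR, cj_zpowers]
      exact sup_le le_sup_left (zpowers_le.2 (p.mem3 ((H19.orderOf_conj' _ _).trans o)
        (e.le (conj_mem_of_norm nH hc))))
    · have i2 := inv_inv3 nR p.nR i i
      have i3 := mul_mem (conj_mem_of_norm nR i2) i
      rw [show y * (y * y * c * (y * y)⁻¹ * c⁻¹) * y⁻¹ * (y * c * y⁻¹ * c) =
        y * y * y * c * (y * y * y)⁻¹ * (y * c⁻¹ * c * y⁻¹) * c by group, OA.cube' k.o] at i3
      exact p.sq_not p.pR (by simpa using i3)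
  obtain ⟨b, ob, bc, cb⟩ := lift_comm h p.pR k.o nR p.nR (p.y3 ▸ one_mem R) (p.not_mem p.pR) (by
    have := inv_mem cy
    rwa [show (y * c * y⁻¹ * c⁻¹)⁻¹ = c * y * c⁻¹ * y⁻¹ by group] at this)
  have p' := p.congr' ob bc
  obtain ⟨s, hs, ns⟩ := p.ex
  have sy : s * y * s⁻¹ * y⁻¹ ∈ R := by
    have := p.mul hs ns (conj_mem_of_norm k.yN (inv_mem hs)) fun k => ns (by
      have := inv_mem (conj_mem_of_norm' nR k)
      rwa [show (y⁻¹ * (y * s⁻¹ * y⁻¹) * y)⁻¹ = s by group] at this)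
    simpa only [mul_assoc] using this
  obtain ⟨r, hr, h1, h2⟩ := cy' h p.pR k.o nR (p.nS hs) (hS.pi.elt hs) sy
  have h3 := cy2' h p.pR k.o p'.y3 cb.symm nR p'.nR (p.nS hs) (hS.pi.elt hs) sy (p'.inv s hs ns)
  have E : OA.E9p y b := ⟨k.o, ob, cb.symm, fun i =>
    p'.nN (zpowers_le.2 k.yN i)⟩
  have nsr : s * r ∉ R := fun k => ns ((mul_mem_cancel_right hr).1 k)
  have sr : s * r ∈ S := mul_mem hs (p.le hr)
  have srQ : s * r ∈ Q := k.fp _ sr (by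
    rw [← mem_cent1.1 h1, mul_inv_cancel_right, mul_inv_cancel]; exact one_mem Q)
  have eS : R ⊔ zpowers (s * r) = S := (eq_of_prime_index le_sup_left (sup_le p.le (zpowers_le.2 sr))
    (p.idx ▸ Nat.prime_two)).resolve_left fun e => nsr (e.le (mem_sup_right (mem_zpowers _)))
  have l0 : R ⊓ C[y] ≤ OZ Q := by
    refine le_trans (le_OZ (h.ab3 k.o (p.pR.infl _) inf_le_right) (inf_le_left.trans p.le) ?_) (k.lc.OZ_le k.le)
    rw [← eS]
    refine cents_sup (le_trans ?_ (c9 h p.pR E.el (sup_le (zpowers_le.2 nR) (zpowers_le.2 p'.nR))))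
      (cents_symm (zpowers_le.2 h2))
    exact le_inf inf_le_left (cents_sup (cent_zpowers y ▸ inf_le_right) (cents_symm (zpowers_le.2 h3)))
  obtain ⟨x, hx, o5⟩ := k.five
  have m1 := mod53 k.lc.pg (h.mod (.inl rfl) (k.lc.pg.sing_ne (by decide)) o5 (k.lc.nQ hx))
  have m2 := mod53 (OZ_pg Q) (h.mod (.inl rfl) ((OZ_pg Q).sing_ne (by decide)) o5 (k.lc.nV hx))
  rw [mod_cent Nat.prime_three k.o (k.lc.nQ k.yM)] at m1
  rw [mod_cent Nat.prime_three k.o (k.lc.nV k.yM)] at m2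
  have e1 : R ⊓ (Q ⊓ C[y]) = OZ Q ⊓ C[y] := le_antisymm
    (le_inf ((inf_le_inf_left R inf_le_right).trans l0) (inf_le_right.trans inf_le_right))
    (le_inf (inf_le_left.trans lV) (inf_le_inf_right _ (OZ_le Q)))
  have e2 := card_inf_mul_relIndex R (Q ⊓ C[y])
  have e3 : R.relIndex (Q ⊓ C[y]) = 2 := by
    have h1' : R.relIndex (Q ⊓ C[y]) ≤ 2 :=
      p.idx ▸ relIndex_le_of_le_right (inf_le_left.trans k.le) (relIndex_ne_zero' _ _)
    have h2' : R.relIndex (Q ⊓ C[y]) ≠ 1 := fun e => nsr (relIndex_eq_one.1 e ⟨srQ, h1⟩)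
    have := relIndex_pos R (Q ⊓ C[y])
    omega
  rw [e1, e3] at e2
  omega

theorem a5a : A5a.{u} := fun _ _ _ _ _ _ _ h lc hS k n => a5a' h lc hS k n

theorem a5b' (h : O G) {M Q S : Subgroup G} {y : G} (k : TA M Q S y) (n : N(S) ≤ M) (cM : C(OZ S) ≤ M)
    (nJ : ¬ JT S ≤ Q) : C(OZ S) = S ∧ N(JT S) ≤ M ∧ ∀ X ≤ OZ S, X ≠ ⊥ → y ∈ N(X) → X = OZ S := by
  have fr := fr' (.inr rfl) k.lc.pg k.lc.nQ k.syl.le k.inv (k.lc.fp5 h)
  have c16 := ff16 h k.lc k.le k.rk fr k.five nJ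
  obtain ⟨A, hA, nA⟩ := exists_off nJ
  obtain ⟨a, ha, na⟩ := SetLike.not_le_iff_exists.1 nA
  obtain ⟨x, hx, o5⟩ := k.five
  have a2 := sq1 hA.ea ha
  have h1 := off hA k.le (OZ_ab Q) (OZ_le Q) (inf_le_right.trans (cent_OZ Q))
  have h2 := k.rk.2 A hA.le fun b hb => sq1 hA.ea hb ▸ one_mem Q
  have h3 := fr a (hA.le ha) na (a2 ▸ one_mem Q) _ (OZ_ab Q) (OZ_le Q) k.lc.nV (.inl a2)
  have h4 := card_le (inf_le_inf_left (OZ Q) (hA.comm.trans (cent_le_cent1 ha)))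
  rw [c16] at h1 h3
  have h5 : #(OZ Q ⊓ C[a]) = 4 := by nlinarith
  have h6 : #(OZ Q ⊓ A) = 4 := by nlinarith
  have h7 : Q.relIndex A = 4 := by nlinarith
  have eS : Q ⊔ A = S := eq_of_le_of_card_eq (sup_le k.le hA.le) (by
    rw [← card_mul_relIndex (le_sup_left : Q ≤ Q ⊔ A), relIndex_sup_of_norm ((hA.le.trans k.syl.le).trans k.lc.nQ),
      h7, ← card_mul_relIndex k.le, k.idx])
  have lZ := k.lc.OZ_le k.le
  have eZ : OZ Q ⊓ A = OZ S := le_antisymm (le_OZ (abelem_mono (OZ_ab Q) inf_le_left) (inf_le_right.trans hA.le)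
    (eS ▸ cents_sup (inf_le_left.trans (OZ_cent Q)) (inf_le_right.trans hA.comm)))
    (le_inf lZ (hA.le_of_le_centralizer (OZ_le S) (H9.abE_iff_ea.2 (OZ_ab S)) ((OZ_cent S).trans (cent_mono hA.le))))
  rw [eZ] at h6
  have nZ : S ⊔ zpowers y ≤ N(OZ S) := sup_le (norms_of_cents (cent_OZ S)) (zpowers_le.2 (norm_OZ S k.yN))
  have ny : y ∉ C(OZ S) := fun c => by
    obtain ⟨t, ht, i, nt⟩ := k.ex
    have l1 : cj t (OZ S) ≤ OZ Q ⊓ C[y] := le_inf (cj_le_of_mem_norm (k.lc.nV ht) lZ) (le_cent1_iff.2 (by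
      have h1 : t * y * t⁻¹ ∈ C(cj t (OZ S)) := by rw [← cj_cent]; exact conj_mem_cj.2 c
      exact (mul_mem_cancel_left h1).1 (cent_mono (cj_le_of_mem_norm (k.lc.nV ht) lZ) (cent_OZ Q i))))
    have l2 : OZ S ≤ OZ Q ⊓ C[y] := le_inf lZ (le_cent1_iff.2 c)
    have ne : OZ S ≠ OZ Q ⊓ C[y] := fun e => by
      have tn : t ∈ N(OZ S) := mem_norm_of_cj_le (e ▸ l1)
      have lS : S ⊔ zpowers y ≤ N(S) := sup_le le_normalizer (zpowers_le.2 k.yN)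
      rcases k.ov (M ⊓ N(OZ S)) (le_inf k.syl.le (le_sup_left.trans nZ)) inf_le_left with e | e | e
      · exact nt (le_normalizer (e.le ⟨ht, tn⟩))
      · exact nt (lS (e.le ⟨ht, tn⟩))
      · have := h.mod (.inl rfl) ((OZ_pg S).sing_ne (by decide)) o5 (e.ge hx).2
        omega
    have m := mod_cent Nat.prime_three k.o (k.lc.nV k.yM)
    have d1 := card_dvd (inf_le_left : OZ Q ⊓ C[y] ≤ OZ Q)
    have d2 := card_lt (l2.lt_of_ne ne)
    rw [c16] at m d1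
    have d3 := Nat.le_of_dvd (by decide) d1
    have e : #(OZ Q ⊓ C[y]) = 16 := by
      generalize #(OZ Q ⊓ C[y]) = j at *
      interval_cases j <;> omega
    have := eq_of_le_of_card_eq inf_le_left (e.trans c16.symm)
    exact OA.not_mem_of_ord3 k.lc.pg k.o (k.lc.cw' h (OZ_pg Q) k.lc.V1 k.lc.nV
      (le_cent1_iff.1 (this.ge.trans inf_le_right)))
  have eC : C(OZ S) = S := by
    rcases k.ov _ (cent_OZ S) cM with e | e | e
    exacts [e, (ny (e.ge (mem_sup_right (mem_zpowers y)))).elim, (ny (e.ge k.yM)).elim]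
  refine ⟨eC, ?_, fun X l X1 nX => by_contra fun ne => ?_⟩
  · have hA' : H9.MaxAb 2 S (A ⊓ Q ⊔ OZ Q) := hA.of_card_le (sup_le (inf_le_left.trans hA.le) ((OZ_le Q).trans k.le))
      (H9.abE_iff_ea.2 (abelem_sup (abelem_mono hA.ea inf_le_left) (OZ_ab Q) (inf_le_right.trans (cent_OZ Q)))) (by
        have e1 := card_sup_mul_inf (norms_of_cents (cents_symm (inf_le_right.trans (cent_OZ Q) : A ⊓ Q ≤ _)))
        have e2 := card_inf_mul_relIndex Q A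
        rw [inf_assoc, inf_eq_right.2 (OZ_le Q), inf_comm A (OZ Q), eZ, h6, c16] at e1
        rw [h7, inf_comm] at e2
        omega)
    have lA' : A ⊓ Q ⊔ OZ Q ≤ Q := sup_le inf_le_right (OZ_le Q)
    have j1 : A ⊓ Q ⊔ OZ Q ≤ JT Q := JT_eq Q ▸ (hA'.mono lA' k.le).le_JJ
    have j2 : JT Q ≤ JT S := by rw [JT_eq, JT_eq]; exact H9.JJ_mono_of_mem k.le hA' lA'
    have j3 : ∀ {B}, H9.MaxAb 2 S B → OZ (JT S) ≤ B := fun hB => hB.le_of_le_centralizer ((OZ_le _).trans (JT_le S))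
      (H9.abE_iff_ea.2 (OZ_ab _)) ((OZ_cent _).trans (cent_mono (JT_eq S ▸ hB.le_JJ)))
    have nW : M ≤ N(OZ (JT Q)) := (k.lc.nQ.trans (norm_JT Q)).trans (norm_OZ _)
    have lW : OZ (JT Q) ≤ Q := (OZ_le _).trans (JT_le Q)
    have g1 := off hA k.le (OZ_ab _) lW ((le_sup_left.trans j1).trans (cent_OZ _))
    have g2 := fr a (hA.le ha) na (a2 ▸ one_mem Q) _ (OZ_ab _) lW nW (.inl a2)
    have g3 := card_le (inf_le_inf_left (OZ (JT Q)) (hA.comm.trans (cent_le_cent1 ha)))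
    have g4 := card_pos (OZ (JT Q) ⊓ C[a])
    have g5 : #(OZ (JT Q) ⊓ C[a]) ≤ 4 := Nat.le_of_mul_le_mul_left (g2 ▸ g1.trans (Nat.mul_le_mul g3 h7.le)) g4
    have lV : OZ Q ≤ OZ (JT Q) := le_OZ (OZ_ab Q) (le_sup_right.trans j1) ((OZ_cent Q).trans (cent_mono (JT_le Q)))
    have eV : OZ Q = OZ (JT Q) := eq_of_le_of_card_eq lV ((card_le lV).antisymm (by nlinarith))
    have eW : OZ (JT S) = OZ S := le_antisymm (eZ ▸ le_inf (eV ▸ le_OZ (OZ_ab _) ((j3 hA').trans j1)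
      ((OZ_cent _).trans (cent_mono j2))) (j3 hA)) (le_OZ (OZ_ab S) ((eZ.ge.trans inf_le_right).trans
        (JT_eq S ▸ hA.le_JJ)) ((OZ_cent S).trans (cent_mono (JT_le S))))
    refine (norm_OZ _).trans ?_
    rw [eW]
    exact ((norm_le_norm_cent _).trans (by rw [eC])).trans n
  · have d1 := card_dvd l
    have d2 := card_lt (l.lt_of_ne ne)
    have d3 := ne_bot_iff_one_lt_card.1 X1
    have m := mod_cent Nat.prime_three k.o nX
    rw [h6] at d1 d2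
    obtain ⟨z, hz, z1⟩ := exists_ne_one (H := X ⊓ C[y]) fun e => by
      rw [e, card_bot] at m
      generalize #X = j at *
      interval_cases j <;> omega
    exact ny (cent4 (OZ_pg S) h6.le k.o (norm_OZ S k.yN) (l hz.1) z1 (mem_cent1_symm.1 hz.2))

theorem a5b : A5b.{u} := fun _ _ _ _ _ _ _ h k n c j => a5b' h k n c j

end H24.OB
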