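/-
S3432: failure of factorization in solvable groups (chunk FF3 of `H13.O8`).
-/
import Cfsg.Agent.H24.OB5
import Cfsg.Agent.H9.Hol

set_option autoImplicit false
set_option linter.unusedSectionVars false

open Cfsg
namespace H24.OB

open H19 Subgroup H13.O8
open scoped commutatorElement

universe u

theorem ffs {X : Type*} [Group X] [Finite X] {V H N B : Subgroup X} (f : H9.FF 2 V H N) (hB : H9.Off1 2 V H B) :
    ∃ t ∈ B, ∃ y ∈ H, orderOf y = 3 ∧ t * y * t⁻¹ * y = 1 ∧ ∀ s ∈ H, s * y * s⁻¹ ∈ zpowers y ∨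
      s * y * s⁻¹ ∈ C[y] ∧ s * t * s⁻¹ ∈ C[y] ∧ ¬ V ⊓ C[y] ≤ C[s * y * s⁻¹] := by
  haveI := Fact.mk Nat.prime_two
  have c3 : #⁅N, B⁆ = 3 := by
    have := (f.pairEA hB).card_inf
    rw [f.EA_inf hB.isPGroup hB.le] at this
    omega
  obtain ⟨y, hy, o⟩ := exists_orderOf_eq_prime Nat.prime_three c3.symm.dvd
  have ey : zpowers y = ⁅N, B⁆ := eq_of_le_of_card_eq (zpowers_le.2 hy) (by rw [Nat.card_zpowers, o, c3])
  obtain ⟨t, -, rfl⟩ := H9.exists_zpowers_of_card_prime Nat.prime_two hB.card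
  have lN := f.commutator_le hB.le
  refine ⟨t, mem_zpowers t, y, f.le (lN hy), o, ?_, fun s hs => ?_⟩
  · rcases OA.mem_zp3 o (ey.ge (conj_mem_of_norm (commg_normr N _ (mem_zpowers t)) hy)) with e | e | e
    · exact absurd ((H19.orderOf_conj' t y).symm.trans (by rw [e, orderOf_one])) (by rw [o]; decide)
    · have := commg_commg (hB.le.trans f.nn) (f.coprime hB).symm
      rw [← ey, commg_eq_bot.2 (by
        rw [cent_zpowers]; exact zpowers_le.2 (mem_cent1.2 (mul_inv_eq_iff_eq_mul.1 e).symm))] at this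
      rw [← ey, ← this, card_bot] at c3
      omega
    · rw [e, inv_mul_cancel]
  have hB' : H9.Off1 2 V H (cj s (zpowers t)) := hB.conj f.norm hs
  have e1 : ⁅N, cj s (zpowers t)⁆ = zpowers (s * y * s⁻¹) := by
    rw [← cj_zpowers, ey, cj_comm, cj_of_mem_norm (f.nn hs)]
  rcases f.EA_eq_or hB hB' with e | ⟨-, e2, e3⟩
  · left
    rw [ey, ← f.EA_inf hB.isPGroup hB.le, e, f.EA_inf hB'.isPGroup hB'.le, e1]
    exact mem_zpowers _
  · have h1 : y ∈ C(⁅N, cj s (zpowers t)⁆ ⊔ cj s (zpowers t)) := e3 (mem_sup_left hy)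
    have h2 : s * y * s⁻¹ ∈ ⁅N, cj s (zpowers t)⁆ ⊔ cj s (zpowers t) := mem_sup_left (e1.ge (mem_zpowers _))
    refine .inr ⟨mem_cent1_symm.1 (cent_le_cent1 h2 h1), mem_cent1_symm.1 (cent_le_cent1
      (mem_sup_right (conj_mem_cj.2 (mem_zpowers t))) h1), fun l => ?_⟩
    have h3 := (f.pairEA hB').faith.le ⟨h2, le_cent1_iff.1 ((le_inf (commg_le_left ((f.EA_le hB'.le).trans f.norm))
      (le_trans e2 (cent_le_cent1 (mem_sup_left hy)))).trans l)⟩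
    exact absurd ((H19.orderOf_conj' s y).symm.trans (by rw [mem_bot.1 h3, orderOf_one])) (by rw [o]; decide)

variable {G : Type u} [Group G] [Finite G]

theorem ff3' (h : O G) {H S : Subgroup G} (s : H19.Sol H) (hS : Syl 2 S H)
    (c : H ⊓ C(OZ (Oc {2} H)) ≤ Oc {2} H) (nJ : ¬ JT S ≤ Oc {2} H) : ∃ R y, y ∈ H ∧ P3 S R y ∧ Oc {2} H ≤ R := by
  haveI := Fact.mk Nat.prime_two
  obtain ⟨A, hA, nA⟩ := exists_off nJ
  have nR := Oc_normal {2} H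
  have mx : ∀ X, X ⊴ H → PG 2 X → X ≤ Oc {2} H := fun X => le_Oc
  have pR := Oc_pi {2} H
  have lR := Oc_le_hall hS
  generalize Oc {2} H = R at *
  have nW : OZ R ⊴ H := ⟨(OZ_le R).trans nR.le, nR.norm.trans (norm_OZ R)⟩
  haveI := nW.subgroupOf
  obtain ⟨X, _, _, ι, ψ, hol, hk⟩ := H9.exists_hol ((OZ R).subgroupOf H)
  have cW : ∀ x : H, x ∈ C((OZ R).subgroupOf H) ↔ (x : G) ∈ C(OZ R) := fun x =>
    ⟨fun k => H19.mem_cent.2 fun w hw => congrArg Subtype.val (H19.mem_cent.1 k ⟨w, nW.le hw⟩ hw),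
      fun k => H19.mem_cent.2 fun w hw => Subtype.ext (H19.mem_cent.1 k w hw)⟩
  have ker : ∀ x : H, ψ x = 1 ↔ (x : G) ∈ R := fun x => by
    rw [← MonoidHom.mem_ker, hk, cW]
    exact ⟨fun k => c ⟨x.2, k⟩, fun k => cent_OZ R k⟩
  have o2 : Oc {2} (im ψ H) = ⊥ := by
    have l := mx (pre ψ (Oc {2} (im ψ H))) ⟨pre_le _ _, norms_pre le_rfl (Oc_norm _ _)⟩ (PiN.of_elt fun x hx => by
      obtain ⟨hx, k⟩ := mem_pre.1 hx
      obtain ⟨j, e⟩ := ((Oc_pi _ _).elt k).exists_pow (orderOf_pos _).ne'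
      have := pR.elt ((ker (⟨x, hx⟩ ^ 2 ^ j)).1 (by rw [map_pow, ← e, pow_orderOf_eq_one]))
      obtain ⟨i, e'⟩ := this.exists_pow (orderOf_pos _).ne'
      refine OA.pe_of_pow (k := j + i) Nat.prime_two ?_
      rw [pow_add, pow_mul, ← e']
      exact pow_orderOf_eq_one _)
    refine eq_bot_iff.2 fun x hx => ?_
    obtain ⟨g, -, rfl⟩ := mem_im.1 (Oc_le _ _ hx)
    exact (ker g).2 (l (coe_mem_pre.2 hx))
  have f : H9.FF 2 (H9.hat ι ((OZ R).subgroupOf H)) (im ψ H) (Oc {2}ᶜ (im ψ H)) :=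
    ⟨H9.Hol.ea_hat (H9.abE_iff_ea.1 ((H9.abE_map_iff H.subtype_injective).1 (by
        rw [map_subgroupOf_eq_of_le nW.le]; exact H9.abE_iff_ea.2 (OZ_ab R)))),
      hol.map_le_normalizer _, hol.faith hk _, Oc_le _ _, Oc_norm _ _, (Oc_pi _ _).coprime_prime Nat.prime_two, by
      have l : Fit (im ψ H) ≤ Oc {2}ᶜ (im ψ H) := Fit_le_of_Oc fun p hp => by
        by_cases e : p = 2
        · rw [e, o2]; exact bot_le
        · exact Oc_mono (Set.singleton_subset_iff.2 e) _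
      exact ((inf_le_inf_left _ (cent_mono l)).trans (cent_Fit_le (sol_im s ψ))).trans l⟩
  have AH := hA.le.trans hS.le
  have b : IsBestOffenderOn 2 (H9.hat ι ((OZ R).subgroupOf H)) (im ψ A) := hol.best hk
    (((H9.maxAb_subgroupOf_iff hS.le AH).2 hA).isBestOffenderOn (comap_mono ((OZ_le R).trans lR))
      (H9.abE_iff_ea.1 ((H9.abE_map_iff H.subtype_injective).1 (by
        rw [map_subgroupOf_eq_of_le nW.le]; exact H9.abE_iff_ea.2 (OZ_ab R)))))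
  obtain ⟨B, lB, hB⟩ : ∃ B ≤ im ψ A, H9.Off1 2 (H9.hat ι ((OZ R).subgroupOf H)) (im ψ H) B := by
    by_contra! n
    refine nA fun a ha => (ker ⟨a, AH ha⟩).1 (mem_bot.1 ((f.le_sSup_off1 (im_mono AH) b).trans
      (sSup_le fun C k => (n C k.1 k.2).elim) (mem_im_of ha)))
  obtain ⟨t, ht, y, hy, o, i, k⟩ := ffs f hB
  obtain ⟨t, htA, rfl⟩ := mem_im.1 (lB ht)
  obtain ⟨y₀, -, rfl⟩ := mem_im.1 hy
  have n0 : (y₀ : G) ∉ R := fun k => by rw [(ker y₀).2 k, orderOf_one] at o; omega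
  have y3 : (y₀ : G) ^ 3 ∈ R := (ker (y₀ ^ 3)).1 (by rw [map_pow, ← o, pow_orderOf_eq_one])
  have oy := OA.l3 (o8 h) pR y3 n0
  have ey : ψ (y₀ ^ 4) = ψ y₀ := by rw [map_pow, pow_succ, ← o, pow_orderOf_eq_one, one_mul]
  rw [← ey] at i k o
  rw [← SubgroupClass.coe_pow] at oy
  generalize y₀ ^ 4 = y at *
  have ny := nR.norm y.2
  have act : ∀ s : H, ψ s * ψ y * (ψ s)⁻¹ = ψ y ∨ ψ s * ψ y * (ψ s)⁻¹ = (ψ y)⁻¹ := fun s => by
    rcases k (ψ s) (mem_im_of s.2) with e | ⟨e1, e2, e3⟩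
    · refine (OA.mem_zp3 o e).resolve_left fun e => ?_
      exact absurd ((H19.orderOf_conj' _ _).symm.trans (by rw [e, orderOf_one])) (by rw [o]; decide)
    exfalso
    have oy' : orderOf ((s * y * s⁻¹ : H) : G) = 3 := (H19.orderOf_conj' _ _).trans oy
    obtain ⟨b, ob, bc, cb⟩ := lift_comm h pR oy ny (nR.norm (s * y * s⁻¹).2) (OA.cube_of_ord oy' ▸ one_mem R)
      (OA.not_mem_of_ord3 pR oy') ((ker (s * y * s⁻¹ * y * (s * y * s⁻¹)⁻¹ * y⁻¹)).1 (by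
        simp only [map_mul, map_inv]; rw [mem_cent1.1 e1]; group))
    have bH : b ∈ H := (mul_mem_cancel_right (inv_mem (s * y * s⁻¹).2)).1 (nR.le bc)
    have eb : ψ ⟨b, bH⟩ = ψ s * ψ y * (ψ s)⁻¹ := by
      have := (ker (⟨b, bH⟩ * (s * y * s⁻¹)⁻¹)).2 bc
      simp only [map_mul, map_inv] at this
      exact mul_inv_eq_one.1 this
    have := cy2' h pR oy (OA.cube_of_ord ob) cb.symm ny (nR.norm bH) (nR.norm (s * t * s⁻¹).2)
      ((hS.pi.elt (hA.le htA)).e_conj s)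
      ((ker (s * t * s⁻¹ * y * (s * t * s⁻¹)⁻¹ * y⁻¹)).1 (by
        simp only [map_mul, map_inv]; rw [mem_cent1.1 e2]; group))
      ((ker (s * t * s⁻¹ * ⟨b, bH⟩ * (s * t * s⁻¹)⁻¹ * ⟨b, bH⟩)).1 (by
        simp only [map_mul, map_inv]; rw [eb]
        calc _ = ψ s * (ψ t * ψ y * (ψ t)⁻¹ * ψ y) * (ψ s)⁻¹ := by group
          _ = 1 := by rw [i]; group))
    refine e3 ?_
    rintro _ ⟨⟨v, -, rfl⟩, hv⟩
    rw [← eb]
    refine mem_cent1.2 ((hol.comm_iff _ v).2 (Subtype.ext (H19.mem_cent.1 this _ ⟨OZ_le R v.2, ?_⟩)))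
    exact mem_cent1.2 (congrArg Subtype.val ((hol.comm_iff _ v).1 (mem_cent1.1 hv)))
  have mem : ∀ s (hs : s ∈ H), s ∈ pre ψ C[ψ y] ↔ ψ ⟨s, hs⟩ * ψ y * (ψ ⟨s, hs⟩)⁻¹ = ψ y := fun s hs => by
    rw [mul_inv_eq_iff_eq_mul, ← mem_cent1]; exact coe_mem_pre (x := ⟨s, hs⟩)
  have ne : ψ y ≠ (ψ y)⁻¹ := fun e => OA.ne_one_of_ord3 o (eq_one_of_inv (OA.cube_of_ord o) (by
    nth_rewrite 2 [e]; exact mul_inv_cancel _))
  have lR' : R ≤ S ⊓ pre ψ C[ψ y] := fun r hr => ⟨lR hr, (mem r (nR.le hr)).2 (by rw [(ker _).2 hr]; group)⟩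
  have tn : ψ t * ψ y * (ψ t)⁻¹ = (ψ y)⁻¹ := eq_inv_of_mul_eq_one_left i
  refine ⟨S ⊓ pre ψ C[ψ y], y, y.2, ⟨hS.pi, inf_le_left, relIndex_eq_two_iff.2 ⟨t, hA.le htA, fun a ha => ?_⟩, oy,
    mem_norm_of_cj_le ?_, fun a ha na => lR' ((ker (⟨a, hS.le ha⟩ * y * ⟨a, hS.le ha⟩⁻¹ * y)).1 ?_)⟩, lR'⟩
  · have e : ψ ⟨a * t, mul_mem (hS.le ha) t.2⟩ = ψ ⟨a, hS.le ha⟩ * ψ t := map_mul ψ ⟨a, _⟩ t
    have e' : ψ ⟨a * t, mul_mem (hS.le ha) t.2⟩ * ψ y * (ψ ⟨a * t, mul_mem (hS.le ha) t.2⟩)⁻¹ =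
        (ψ ⟨a, hS.le ha⟩ * ψ y * (ψ ⟨a, hS.le ha⟩)⁻¹)⁻¹ := by
      rw [e, show ∀ u v w : X, u * v * w * (u * v)⁻¹ = u * (v * w * v⁻¹) * u⁻¹ by intros; group, tn]; group
    rw [mem_inf, mem_inf, mem _ (hS.le ha), mem _ (mul_mem (hS.le ha) t.2), e']
    rcases act ⟨a, hS.le ha⟩ with k | k <;> rw [k]
    · exact .inr ⟨⟨ha, rfl⟩, fun k => ne k.2.symm⟩
    · exact .inl ⟨⟨mul_mem ha (hA.le htA), inv_inv _⟩, fun k => ne k.2.symm⟩
  · rintro _ ⟨r, hr, rfl⟩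
    have := mul_mem (lR' ((ker (y * ⟨r, hS.le hr.1⟩ * y⁻¹ * ⟨r, hS.le hr.1⟩⁻¹)).1 (by
      simp only [map_mul, map_inv]
      rw [← mul_inv_eq_iff_eq_mul.1 ((mem r (hS.le hr.1)).1 hr.2)]; group))) hr
    simpa using this
  · simp only [map_mul, map_inv]
    rw [(act ⟨a, hS.le ha⟩).resolve_left fun e => na ⟨ha, (mem a _).2 e⟩, inv_mul_cancel]

theorem ff3 : FF3.{u} := fun _ _ _ _ _ h s hS c nJ => ff3' h s hS c nJ

end H24.OB
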