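/-
S3432: trivial intersection subgroups, the lemmas (chunk TI of `H13.O8`).
-/
import Cfsg.Agent.H24.OB6
import Cfsg.Agent.H23.Fpf

set_option autoImplicit false
set_option linter.unusedSectionVars false

open Cfsg
namespace H24.OB

open H19 Subgroup H13.O8
open scoped commutatorElement

universe u

variable {G : Type u} [Group G] [Finite G]

theorem fit_odd {P : Subgroup G} (o : Oc {2} P = ⊥) : PiG {2}ᶜ (Fit P) :=
  (Oc_pi {2}ᶜ P).of_le (Fit_le_of_Oc fun p _ => by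
    by_cases e : p = 2
    · rw [e, o]; exact bot_le
    · exact Oc_mono (Set.singleton_subset_iff.2 e) _)

theorem hyp {P E : Subgroup G} {a : G} (s : H19.Sol P) (o : Oc {2} P = ⊥) (l : E ≤ P) (hE : Abelem 2 E)
    (ha : a ∈ E) (a1 : a ≠ 1) : ∃ B ≤ E, #E ≤ 2 * #B ∧ a ∉ B ∧ ∃ y ∈ Fit P ⊓ C(B), y ≠ 1 ∧ a * y * a⁻¹ * y = 1 := by
  haveI := Fact.mk Nat.prime_two
  by_contra! n
  have a2 := sq1 hE ha
  have := H9.le_of_hyperplanes (L := C[a]) hE (l.trans (Fit_norm P)) ((fit_odd o).coprime_prime Nat.prime_two)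
    fun B lB c x hx => by
      by_cases k : a ∈ B
      · exact cent_le_cent1 k hx.2
      have aB : a ∈ C(B) := cents_of_comm hE.1 le_rfl lB ha
      obtain ⟨h1, h2⟩ := mem_inf.1 hx
      have : a * x * a⁻¹ * x⁻¹ = 1 := by_contra fun e => n B lB c k _
        (mem_inf.2 ⟨mul_mem (conj_mem_of_norm (Fit_norm P (l ha)) h1) (inv_mem h1),
          mul_mem (mul_mem (mul_mem aB h2) (inv_mem aB)) (inv_mem h2)⟩) e (by
            rw [show a * (a * x * a⁻¹ * x⁻¹) * a⁻¹ * (a * x * a⁻¹ * x⁻¹) = a * a * x * (a * a)⁻¹ * x⁻¹ by group, a2]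
            group)
      exact mem_cent1.2 (mul_inv_eq_iff_eq_mul.1 (mul_inv_eq_one.1 this)).symm
  exact a1 (PiN.e_eq_one (OA.pe2_of_sq a2) ((fit_odd o).elt (cent_Fit_le s ⟨l ha, le_cent1_iff.1 this⟩)))

theorem lemY (h : O G) {P Q : Subgroup G} {a : G} (s : H19.Sol P) (o : Oc {2} P = ⊥) (l : Q ≤ P) (hQ : PG 2 Q)
    (ha : a ∈ Q) (a2 : a * a = 1) (a1 : a ≠ 1) (c : Q ≤ C(Fit P ⊓ C[a])) :
    ∃ y ∈ Fit P, y ≠ 1 ∧ a * y * a⁻¹ * y = 1 ∧ ∀ q ∈ Q, q * y * q⁻¹ ∈ C[y] := by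
  by_cases e : Fit P ⊓ C[a] = ⊥
  · have i := H23.inverts_of_fpf a2 (Fit_norm P (l ha)) fun r hr k =>
      mem_bot.1 (e.le ⟨hr, mem_cent1.2 (mul_inv_eq_iff_eq_mul.1 k).symm⟩)
    obtain ⟨y, hy, y1⟩ := exists_ne_one (Fit_ne_bot s (ne_bot_of_mem (l ha) a1))
    refine ⟨y, hy, y1, by rw [i y hy, inv_mul_cancel], fun q hq => mem_cent1.2 ?_⟩
    have hz := conj_mem_of_norm (Fit_norm P (l hq)) hy
    generalize q * y * q⁻¹ = z at hz
    have := i _ (mul_mem hy hz)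
    rw [show a * (y * z) * a⁻¹ = a * y * a⁻¹ * (a * z * a⁻¹) by group, i y hy, i z hz, ← mul_inv_rev] at this
    exact inv_injective this
  obtain ⟨p, hp, d⟩ := exists_prime_dvd_card e
  obtain ⟨x, hx, ox⟩ := exists_orderOf_eq_prime hp d
  have p3 : p = 3 := by
    rcases h.prime hp (d.trans (card_subgroup_dvd_card _)) with e | e | e
    · exact absurd e (((fit_odd o).elt hx.1) p hp ox.symm.dvd)
    · exact e
    · exact absurd (mem_bot.1 ((h.fix2 (ox ▸ e) hQ).le ⟨ha, mem_cent1_symm.1 hx.2⟩)) a1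
  have ab := h.ab3 (ox.trans p3) hQ (c.trans (cent_le_cent1 hx))
  obtain ⟨B, lB, cB, nB, y, hy, y1, i⟩ := hyp s o l ab ha a1
  have i' : a⁻¹ * y * a = y⁻¹ := by
    have := eq_inv_of_mul_eq_one_left i
    rw [inv_eq_of_mul_eq_one_right a2] at this ⊢; exact this
  refine ⟨y, hy.1, y1, i, fun q hq => ?_⟩
  by_cases k : q ∈ B
  · rw [H19.mem_cent.1 hy.2 q k, mul_inv_cancel_right]; exact mem_cent1_self y
  have i2 : B.relIndex Q = 2 := by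
    have h1 := card_mul_relIndex lB
    have h2 : B.relIndex Q ≠ 1 := fun e => nB (relIndex_eq_one.1 e ha)
    have h3 := relIndex_pos B Q
    have h4 : B.relIndex Q ≤ 2 := Nat.le_of_mul_le_mul_left (by rw [h1, mul_comm]; exact cB) (card_pos B)
    omega
  have : q * a ∈ B := (mul_mem_iff_of_index_two (H := B.subgroupOf Q) i2 (a := ⟨q, hq⟩) (b := ⟨a, ha⟩)).2 (by
    simpa only [mem_subgroupOf] using iff_of_false k nB)
  rw [show q * y * q⁻¹ = q * a * (a⁻¹ * y * a) * (q * a)⁻¹ by group, i', H19.mem_cent.1 (inv_mem hy.2) _ this,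
    mul_inv_cancel_right]
  exact inv_mem (mem_cent1_self y)

theorem liftY {K P : Subgroup G} {a : G} {z : Quo K} (n : P ≤ N(K)) (ha : a ∈ P) (a2 : a * a = 1)
    (hz : z ∈ quo K P) (oz : PiE {2}ᶜ z) (z1 : z ≠ 1) (i : qmk K ⟨a, n ha⟩ * z * (qmk K ⟨a, n ha⟩)⁻¹ * z = 1) :
    ∃ (y : G) (hy : y ∈ P), Odd (orderOf y) ∧ a * y * a⁻¹ * y = 1 ∧ qmk K ⟨y, n hy⟩ ∈ zpowers z ∧ y ∉ K := by
  obtain ⟨⟨x, nx⟩, hx, rfl⟩ := mem_im.1 hz
  have dP : a * x * a⁻¹ * x⁻¹ ∈ P := mul_mem (mul_mem (mul_mem ha hx) (inv_mem ha)) (inv_mem hx)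
  obtain ⟨k, c⟩ := H28.exists_pow_coprime (p := 2) (isOfFinOrder_of_finite (a * x * a⁻¹ * x⁻¹))
  have e : qmk K ⟨_, n (pow_mem dP (2 ^ k))⟩ = (qmk K ⟨x, nx⟩ ^ 2 ^ (k + 1))⁻¹ := by
    have : (⟨_, n (pow_mem dP (2 ^ k))⟩ : N(K)) = (⟨a, n ha⟩ * ⟨x, nx⟩ * ⟨a, n ha⟩⁻¹ * ⟨x, nx⟩⁻¹) ^ 2 ^ k := rfl
    rw [this]; simp only [map_pow, map_mul, map_inv]
    rw [eq_inv_of_mul_eq_one_left i, pow_succ', pow_mul, ← inv_pow, pow_two, mul_inv_rev]
  refine ⟨_, pow_mem dP (2 ^ k), Nat.coprime_two_right.1 c, mem_bot.1 (inv_pow' (by rw [norm_bot]; trivial) ?_ _),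
    e ▸ inv_mem (pow_mem (mem_zpowers _) _), fun m => z1 ?_⟩
  · rw [show a * (a * x * a⁻¹ * x⁻¹) * a⁻¹ * (a * x * a⁻¹ * x⁻¹) = a * a * x * (a * a)⁻¹ * x⁻¹ by group, a2]
    simp
  · have := (qmk_eq_one (x := ⟨_, n (pow_mem dP (2 ^ k))⟩)).2 m
    rw [e, inv_eq_one] at this
    exact PiN.e_eq_one (OA.pe_of_pow Nat.prime_two this) oz

theorem mem_of_odd {X : Subgroup G} {a y : G} (a2 : a * a = 1) (o : Odd (orderOf y)) (i : a * y * a⁻¹ * y = 1)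
    (h1 : a ∈ X) (h2 : y * a * y⁻¹ ∈ X) : y ∈ X := by
  refine OA.mem_of_pow_cop (m := 2) ?_ (Nat.coprime_two_left.2 o)
  have := inv_mem (mul_mem h1 h2)
  have e := eq_inv_of_mul_eq_one_left i
  rw [inv_eq_of_mul_eq_one_right a2] at e
  rwa [← mul_assoc, ← mul_assoc, e, mul_inv_rev, inv_inv, ← pow_two] at this

theorem n0 {A R : Subgroup G} {a y : G} (hA : Abelem 2 A) (ti : ∀ g, A ⊓ cj g A ≠ ⊥ → g ∈ N(A)) (hR : PG 2 R)
    (n1 : R ≤ N(A)) (n2 : A ≤ N(R)) (ha : a ∈ A) (ny : y ∈ N(R)) (o : Odd (orderOf y)) (y1 : y ≠ 1)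
    (i : a * y * a⁻¹ * y = 1) : A ⊓ cj y A = ⊥ ∧ ⁅R, zpowers y⁆ = A ⊓ R ⊔ cj y (A ⊓ R) ∧
      ⁅R, zpowers y⁆ ⊓ C[a] ≤ A ⊓ R ∧ ⁅R, zpowers y⁆ ⊓ C[y] = ⊥ := by
  have a2 := sq1 hA ha
  have pA := abelem_pg Nat.prime_two hA
  have e1 : A ⊓ cj y A = ⊥ := by_contra fun e => y1 (H13.O8.mem_of_sq pA o (by
    have := mem_of_odd a2 o i ha (conj_mem_of_norm (ti y e) ha); exact mul_mem this this))
  have cR := cj_of_mem_norm ny
  have nU : R ≤ N(A ⊓ R) := norms_inf n1 le_normalizer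
  have nU' : R ≤ N(cj y (A ⊓ R)) := by rw [← cj_norm]; exact cR.ge.trans (cj_mono y nU)
  have lU' : cj y (A ⊓ R) ≤ R := (cj_mono y inf_le_right).trans cR.le
  have nN := norms_sup nU nU'
  have lN : A ⊓ R ⊔ cj y (A ⊓ R) ≤ R := sup_le inf_le_right lU'
  have c1 : ⁅R, A⁆ ≤ A ⊓ R := le_inf (commg_le_right n1) (commg_le_left n2)
  have c2 : ⁅R, cj y A⁆ ≤ cj y (A ⊓ R) := by
    have := cj_mono y c1
    rwa [cj_comm, cR] at this
  generalize eN : A ⊓ R ⊔ cj y (A ⊓ R) = N at *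
  have k : ∀ {B}, ⁅R, B⁆ ≤ N → B ≤ qpre N C(quo N R) := fun {B} c => by
    have n : B ≤ N(N) := norms_of_commg_le ((commutator_mono lN le_rfl).trans c)
    rwa [← quo_le_iff n, quo_cents_iff n nN, commutator_comm]
  have yX := mem_of_odd a2 o i (k (c1.trans (le_sup_left.trans eN.le)) ha)
    (k (c2.trans (le_sup_right.trans eN.le)) (conj_mem_cj.2 ha))
  have yN := qpre_le_norm _ yX
  have e2 : ⁅R, zpowers y⁆ ≤ N := by
    rw [commutator_comm, ← quo_cents_iff (zpowers_le.2 yN) nN, quo_le_iff (zpowers_le.2 yN)]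
    exact zpowers_le.2 yX
  have fx : ∀ u ∈ A, u ∈ C[y] → u = 1 := fun u hu c => mem_bot.1 (e1.le ⟨hu, mem_cj.2 (by
    rwa [mul_assoc, mem_cent1.1 c, inv_mul_cancel_left])⟩)
  have e3 : N ⊓ C[a] ≤ A ⊓ R := fun x hx => by
    obtain ⟨u, hu, v, hv, rfl⟩ := (mem_sup_of_norm (lU'.trans nU)).1 (eN.ge hx.1)
    have h1 : v ∈ C[a] := (mul_mem_cancel_left (mem_cent1.2 (mul_comm_of_comm hA.1 hu.1 ha))).1 hx.2
    have h2 : y ∈ C[v] := mem_of_odd a2 o i (mem_cent1_symm.1 h1) (mem_cent1.2 (mul_comm_of_comm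
      (abelem_J hA y).1 (conj_mem_cj.2 ha) (cj_mono y inf_le_left hv)))
    have h3 := mem_cj.1 hv
    rw [mul_assoc, ← mem_cent1.1 h2, inv_mul_cancel_left] at h3
    exact mul_mem hu h3
  have e4 : N ⊓ C[y] = ⊥ := by_contra fun e => by
    have := ((hR.of_le lN).infl C[y]).meet_cent (pA.of_le (zpowers_le.2 ha)) (zpowers_le.2 (norms_inf
      (A := zpowers a) (zpowers_le.2 (qpre_le_norm _ (k (c1.trans (le_sup_left.trans eN.le)) ha)))
      (zpowers_le.2 (mem_norm_iff_cj.2 (by rw [cj_cent1, eq_inv_of_mul_eq_one_left i, OA.cent1_inv])))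
      (mem_zpowers a))) e
    obtain ⟨u, hu, u1⟩ := exists_ne_one this
    exact u1 (fx u (e3 ⟨hu.1.1, cent_zpowers a ▸ hu.2⟩).1 hu.1.2)
  have e5 : ⁅R, zpowers y⁆ = N := e2.antisymm ((commg_eq_of_cent_eq_bot (zpowers_le.2 yN) ((hR.of_le lN).coprime
    (piG_zpowers.2 (.of_not_dvd o.not_two_dvd_nat))) (.inl (sol_zpowers y)) (by rw [cent_zpowers, e4])).ge.trans
    (commutator_mono lN le_rfl))
  exact ⟨e1, e5, e5 ▸ e3, e5 ▸ e4⟩

/-- the weak closure -/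
def wc (V X : Subgroup G) : Subgroup G := ⨆ g : {g // cj g V ≤ X}, cj g.1 V

omit [Finite G] in
theorem wc_le (V X : Subgroup G) : wc V X ≤ X := iSup_le fun g => g.2
omit [Finite G] in
theorem le_wc {V X : Subgroup G} {g : G} (h : cj g V ≤ X) : cj g V ≤ wc V X :=
  le_iSup (fun g : {g // cj g V ≤ X} => cj g.1 V) ⟨g, h⟩
omit [Finite G] in
theorem norm_wc (V X : Subgroup G) : N(X) ≤ N(wc V X) :=
  norm_le_norm_of_equivariant (wc V) (equivariant_of_le _ fun g H => cj_le_iff.2 (iSup_le fun k => cj_le_iff.1 (by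
    rw [cj_cj]; exact le_wc (by rw [← cj_cj]; exact cj_mono g k.2)))) X

theorem ti2 {P R A : Subgroup G} (s : H19.Sol P) (nR : R ⊴ P) (hA : Abelem 2 A) (lA : A ≤ P) (c8 : 8 ≤ #A)
    (cen : ∀ v ∈ A, v ≠ 1 → C[v] ≤ N(A)) (cA : A ⊓ C(OZ R) ≤ R) (nA : ¬ A ≤ R)
    (o2 : Oc {2} (quo (P ⊓ C(OZ R)) P) = ⊥) : A ⊓ OZ R ≠ ⊥ := by
  have nW : P ≤ N(OZ R) := nR.norm.trans (norm_OZ R)
  intro e
  have cm : ∀ v ∈ A, v ≠ 1 → OZ R ⊓ C[v] ≤ C(A) := fun v hv v1 => cents_of_norms_disjoint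
    (norms_inf (lA.trans nW) (((cents_of_comm hA.1 le_rfl le_rfl).trans (cent_le_cent1 hv)).trans le_normalizer)) (inf_le_right.trans (cen v hv v1))
    (H19.eq_bot_mono (by rw [inf_comm A] at e; exact e ▸ inf_le_inf_right A inf_le_left) rfl)
  have AR : A ⊓ R = ⊥ := by_contra fun k => by
    obtain ⟨v, hv, v1⟩ := exists_ne_one k
    exact nA ((le_inf le_rfl (cents_symm ((le_inf le_rfl ((OZ_cent R).trans (cent_le_cent1 hv.2))).trans
      (cm v hv.1 v1)))).trans cA)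
  have nC : P ≤ N(P ⊓ C(OZ R)) := (inf_cent_normal nW).norm
  obtain ⟨a, ha, na⟩ := SetLike.not_le_iff_exists.1 nA
  have a2 := sq1 hA ha
  have nc : ∀ v ∈ A, v ∈ P ⊓ C(OZ R) → v = 1 := fun v hv k => mem_bot.1 (AR.le ⟨hv, cA ⟨hv, k.2⟩⟩)
  obtain ⟨B, lB, cB, -, z, hz, z1, i⟩ := hyp (sol_quo s _) o2 (quo_mono _ lA) (abelem_quo hA _)
    (mem_im_of (x := ⟨a, nC (lA ha)⟩) ha) fun k => na (nc a ha (qmk_eq_one.1 k) ▸ one_mem R)
  obtain ⟨y, hy, o, i', yz, ny⟩ := liftY nC (lA ha) a2 (Fit_le _ hz.1) ((fit_odd o2).elt hz.1) z1 i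
  rw [card_quo_of_disjoint (lA.trans nC) (eq_bot_iff.2 fun v hv => mem_bot.2 (nc v hv.2 hv.1))] at cB
  obtain ⟨b, hb, b1⟩ := exists_ne_one (H := B) (ne_bot_iff_one_lt_card.2 (by omega))
  obtain ⟨⟨b', nb⟩, hb', rfl⟩ := mem_im.1 (lB hb)
  have b1' : b' ≠ 1 := by rintro rfl; exact b1 (map_one _)
  have yb : y * b' * y⁻¹ * b'⁻¹ ∈ P ⊓ C(OZ R) := by
    refine (qmk_eq_one (x := ⟨y, nC hy⟩ * ⟨b', nb⟩ * ⟨y, nC hy⟩⁻¹ * ⟨b', nb⟩⁻¹)).1 ?_
    simp only [map_mul, map_inv]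
    rw [← H19.mem_cent.1 (zpowers_le.2 hz.2 yz) _ hb]; group
  have n0 : y ∈ N(OZ R ⊓ C[b']) := mem_norm_of_cj_le (by
    rintro _ ⟨w, hw, rfl⟩
    have hw' := conj_mem_of_norm (nW hy) hw.1
    refine ⟨hw', mem_cent1_symm.1 ?_⟩
    have h1 : y * b' * y⁻¹ ∈ C[y * w * y⁻¹] := by rw [← cj_cent1]; exact conj_mem_cj.2 (mem_cent1_symm.1 hw.2)
    have := mul_mem (inv_mem (cent_le_cent1 hw' yb.2)) h1
    rwa [show (y * b' * y⁻¹ * b'⁻¹)⁻¹ * (y * b' * y⁻¹) = b' by group] at this)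
  have aC : a ∈ C(OZ R ⊓ C[b']) := cents_symm (cm b' hb' b1') ha
  have yC := mem_of_odd a2 o i' aC (conj_mem_of_norm (norm_le_norm_cent _ n0) aC)
  have cop : (#(OZ R)).Coprime #(zpowers y) :=
    (OZ_pg R).coprime (piG_zpowers.2 (.of_not_dvd o.not_two_dvd_nat))
  have l1 : ⁅OZ R, zpowers y⁆ ≤ OZ R := commg_le_left (zpowers_le.2 (nW hy))
  obtain ⟨w, hw, w1⟩ := exists_ne_one (((OZ_pg R).of_le l1).meet_cent (piG_zpowers.2 (OA.pe2_of_sq a2))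
    (norms_comm (zpowers_le.2 (nW (lA ha))) (zpowers_le.2 (mem_norm_iff_cj.2 (by
      rw [cj_zpowers, eq_inv_of_mul_eq_one_left i', zpowers_inv])))) fun k =>
    ny ⟨hy, cents_symm (commg_eq_bot.1 k) (mem_zpowers y)⟩)
  have a1 : a ≠ 1 := by rintro rfl; exact na (one_mem R)
  refine w1 (mem_bot.1 ((ab_commg_inf_cent (OZ_ab R).1 (zpowers_le.2 (nW hy)) cop).le ⟨hw.1, ?_⟩))
  rw [cent_zpowers]
  exact le_cent1_iff.2 yC ⟨l1 hw.1, cent_le_cent1 hb' (cm a ha a1 ⟨l1 hw.1, cent_zpowers a ▸ hw.2⟩)⟩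

theorem ti' (h : O G) {M Q S V P : Subgroup G} (k : H13.O8.Lc M Q) (hS : Syl 2 S ⊤) (l : S ≤ M) (rk : Rk Q S)
    (lV : V ≤ OZ Q) (nV : M ≤ N(V)) (c8 : 8 ≤ #V) (ti : ∀ g, V ⊓ cj g V ≠ ⊥ → g ∈ M) (s : H19.Sol P) (ch : Ch P)
    (lP : S ≤ P) (nP : ¬ P ≤ M) : Q ≤ V := by
  induction P using WellFoundedLT.induction with | _ P ih => ?_
  by_contra nQ
  have hP := hS.of_le lP le_top
  have lR := Oc_le_hall hP
  have mn : ∀ X ≤ P, S ≤ X → X = P ∨ X ≤ M := fun X l1 l2 => or_iff_not_imp_left.2 fun e => by_contra fun n =>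
    nQ (ih X (l1.lt_of_ne e) (sol_mono s l1) (ch.over (lR.trans l2) l1) l2 n)
  have lQ := k.le_syl (hS.of_le l le_top)
  have ab : Abelem 2 V := abelem_mono (OZ_ab Q) lV
  have VQ : V ≤ Q := lV.trans (OZ_le Q)
  have V1 : V ≠ ⊥ := ne_bot_iff_one_lt_card.2 (by omega)
  have cV : C(V) ≤ Q := k.cw' h (k.pg.of_le VQ) V1 nV
  have QV : Q ≤ C(V) := (cent_OZ Q).trans (cent_mono lV)
  have tiA : ∀ g x, cj g V ⊓ cj x (cj g V) ≠ ⊥ → x ∈ N(cj g V) := fun g x e => by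
    rw [← cj_norm, mem_cj]
    refine nV (ti _ fun e' => e ?_)
    rw [← cj_eq_bot (g := g), cj_inf, cj_cj] at e'
    rw [cj_cj, ← e']; congr 2; group
  have fx : ∀ {v x : G} {A : Subgroup G}, v ∈ A → x ∈ C[v] → v ∈ cj x A := fun hv hx => mem_cj.2 (by
    rwa [mul_assoc, ← mem_cent1.1 hx, inv_mul_cancel_left])
  have cen : ∀ g, ∀ v ∈ cj g V, v ≠ 1 → C[v] ≤ N(cj g V) := fun g v hv v1 x hx =>
    tiA g x (ne_bot_of_mem (H := _ ⊓ _) ⟨hv, fx hv hx⟩ v1)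
  have cM : ∀ v ∈ V, v ≠ 1 → C[v] ≤ M := fun v hv v1 x hx => ti x (ne_bot_of_mem (H := _ ⊓ _) ⟨hv, fx hv hx⟩ v1)
  have nR := Oc_normal {2} P
  have pR := Oc_pi {2} P
  have mx : ∀ X, X ⊴ P → PG 2 X → X ≤ Oc {2} P := fun X => le_Oc
  have oq := Oc_quo_Oc {2} P
  have lZ := ch.OZ_le hP
  generalize Oc {2} P = R at *
  have nW : P ≤ N(OZ R) := nR.norm.trans (norm_OZ R)
  have nC := inf_cent_normal nW
  have CM : P ⊓ C(OZ R) ≤ M := by
    obtain ⟨z, hz, z1, hz'⟩ := meetZ hS.pi (VQ.trans lQ) (l.trans nV) V1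
    exact inf_le_right.trans ((cent_le_cent1 (lZ hz')).trans (cM z hz z1))
  have fr0 : ∀ X, X ⊴ P → (P ⊓ C(OZ R)) ⊔ (S ⊓ X) = X → S ⊓ X ≤ R := fun X nX e => by
    have f := (hP.inf_normal nX).frattini nX
    have lS : S ≤ P ⊓ N(S ⊓ X) := le_inf lP (norms_inf le_normalizer (lP.trans nX.norm))
    rcases mn _ inf_le_left lS with e' | e'
    · exact mx _ ⟨inf_le_left.trans lP, e'.ge.trans inf_le_right⟩ (hS.pi.infl _)
    · exact (nP (f.ge.trans (sup_le (e.ge.trans (sup_le CM (inf_le_left.trans l))) e'))).elim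
  have cS : S ⊓ C(OZ R) ≤ R := (le_inf inf_le_left (inf_le_inf_right _ lP)).trans
    (fr0 _ nC (sup_eq_left.2 inf_le_right))
  have o2 : Oc {2} (quo (P ⊓ C(OZ R)) P) = ⊥ := by
    have nX := qpre_normal nC (Oc_normal {2} _)
    have e := (hP.inf_normal nX).sup_eq (le_qpre _) (by
      rw [← card_quo (qpre_le_norm _), quo_qpre]; exact Oc_pi _ _)
    rw [← quo_qpre (Oc {2} _), ← e]
    exact quo_eq_bot (sup_le le_rfl ((fr0 _ nX e).trans (le_inf nR.le (cent_OZ R))))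
  have st2 : ∀ g, cj g V ≤ S → ¬ cj g V ≤ R → cj g V ⊓ OZ R ≠ ⊥ ∧ R ≤ N(cj g V) := fun g l1 n1 => by
    have := ti2 s nR (abelem_J ab g) (l1.trans lP) (by rwa [card_cj]) (cen g)
      ((inf_le_inf_right _ l1).trans cS) n1 o2
    obtain ⟨v, hv, v1⟩ := exists_ne_one this
    exact ⟨this, ((cent_OZ R).trans (cent_le_cent1 hv.2)).trans (cen g v hv.1 v1)⟩
  have st1 : ∀ g, cj g V ≤ S → cj g V ≤ Q := fun g l1 => by
    by_cases m : g ∈ M
    · exact cj_le_of_mem_norm (k.nQ m) VQ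
    have h1 := rk.2 _ l1 fun a ha => sq1 (abelem_J ab g) ha ▸ one_mem Q
    have h2 := card_inf_mul_relIndex Q (cj g V)
    rw [card_cj] at h2
    obtain ⟨v, hv, v1⟩ := exists_ne_one (H := Q ⊓ cj g V) fun e => by rw [e, card_bot] at h2; omega
    exact (cents_symm (cents_of_norms_disjoint (l1.trans (l.trans nV)) ((le_cent1_iff.2 (QV hv.1)).trans
      (cen g v hv.2 v1)) (by_contra fun e => m (ti g e)))).trans cV
  have fitR : ∀ a ∈ S, a ∉ R → a * a = 1 → ∀ T ≤ S, a ∈ T → T ≤ C[a] → (∀ c ∈ P, c * a * c⁻¹ * a⁻¹ ∈ R → c ∈ N(R ⊔ T)) →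
      ∃ y ∈ P, Odd (orderOf y) ∧ y ≠ 1 ∧ a * y * a⁻¹ * y = 1 ∧
        ∀ q ∈ T, q * y * q⁻¹ * y * (q * y * q⁻¹)⁻¹ * y⁻¹ ∈ R := fun a ha na a2 T lT aT Ta cc => by
    have aP := nR.norm (lP ha)
    obtain ⟨z, hz, z1, i, cq⟩ := lemY (h.qq R) (a := qmk R ⟨a, aP⟩) (sol_quo s R) oq (quo_mono R (lT.trans lP))
      ((hS.pi.of_le lT).quo R) (mem_im_of aT) (by rw [← map_mul]; exact qmk_eq_one.2 (show a * a ∈ R from a2 ▸ one_mem R))
      (fun e => na (qmk_eq_one.1 e)) (((hS.pi.of_le lT).quo R).cents_of_norms ((fit_odd oq).infl _) (by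
        rintro x ⟨hx, hx'⟩
        obtain ⟨⟨c, nc⟩, hc, rfl⟩ := mem_im.1 (Fit_le _ hx)
        rw [← quo_sup_left ((lT.trans lP).trans nR.norm)]
        refine im_norm_le (mem_im_of (cc c hc ((qmk_eq_one (x := ⟨c, nc⟩ * ⟨a, aP⟩ * ⟨c, nc⟩⁻¹ * ⟨a, aP⟩⁻¹)).1 ?_)))
        simp only [map_mul, map_inv]
        rw [mem_cent1.1 hx']; group) (norms_inf ((quo_mono R (lT.trans lP)).trans (Fit_norm _)) (le_trans (by
          rintro _ ⟨t, ht, rfl⟩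
          rw [mem_cent1, ← map_mul, ← map_mul]
          exact congrArg _ (Subtype.ext (mem_cent1.1 (Ta ht)))) le_normalizer)))
    obtain ⟨y, hy, o, i', yz, ny⟩ := liftY nR.norm (lP ha) a2 (Fit_le _ hz) ((fit_odd oq).elt hz) z1 i
    refine ⟨y, hy, o, by rintro rfl; exact ny (one_mem R), i', fun q hq => ?_⟩
    have qP := nR.norm (lP (lT hq))
    refine (qmk_eq_one (x := ⟨q, qP⟩ * ⟨y, nR.norm hy⟩ * ⟨q, qP⟩⁻¹ * ⟨y, nR.norm hy⟩ *
      (⟨q, qP⟩ * ⟨y, nR.norm hy⟩ * ⟨q, qP⟩⁻¹)⁻¹ * ⟨y, nR.norm hy⟩⁻¹)).1 ?_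
    simp only [map_mul, map_inv]
    have h1 : qmk R ⟨q, qP⟩ * qmk R ⟨y, nR.norm hy⟩ * (qmk R ⟨q, qP⟩)⁻¹ ∈ C[z] := by
      refine (?_ : cj (qmk R ⟨q, qP⟩) (zpowers z) ≤ _) (conj_mem_cj.2 yz)
      rw [cj_zpowers]; exact zpowers_le.2 (cq _ (mem_im_of hq))
    rw [mem_cent1.1 (cent1_le_cent1_of_mem_zpowers yz h1)]; group
  have VR : ¬ V ≤ R := fun VR => by
    obtain ⟨g, l1, n1⟩ : ∃ g, cj g V ≤ S ∧ ¬ cj g V ≤ R := by
      by_contra! n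
      have e : wc V R = wc V Q := le_antisymm (iSup_le fun g => le_wc (st1 _ (g.2.trans lR)))
        (iSup_le fun g => le_wc (n _ (g.2.trans lQ)))
      exact nP (((nR.norm.trans (norm_wc V R)).trans (by rw [e])).trans (k.mx _ (k.pg.of_le (wc_le V Q))
        (ne_bot_mono ((cj_one V).ge.trans (le_wc ((cj_one V).le.trans VQ))) V1) (k.nQ.trans (norm_wc V Q))))
    obtain ⟨a, ha, na⟩ := SetLike.not_le_iff_exists.1 n1
    have abA := abelem_J ab g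
    have a2 := sq1 abA ha
    obtain ⟨y, hy, o, y1, i, -⟩ := fitR a (l1 ha) na a2 (zpowers a) (zpowers_le.2 (l1 ha)) (mem_zpowers a)
      (zpowers_le.2 (mem_cent1_self a)) fun c hc e => mem_norm_of_cj_le (by
        rw [cj_sup, cj_of_mem_norm (nR.norm hc), cj_zpowers]
        exact sup_le le_sup_left (zpowers_le.2 (by
          simpa using mul_mem (mem_sup_left e) (mem_sup_right (mem_zpowers a)))))
    have nA := (st2 g l1 n1).2
    obtain ⟨-, -, e3, e4⟩ := n0 abA (tiA g) pR nA ((l1.trans lP).trans nR.norm) ha (nR.norm hy) o y1 i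
    have ay : zpowers a ≤ N(zpowers y) := zpowers_le.2 (mem_norm_iff_cj.2 (by
      rw [cj_zpowers, eq_inv_of_mul_eq_one_left i, zpowers_inv]))
    have aR : zpowers a ≤ N(R) := zpowers_le.2 (nR.norm (lP (l1 ha)))
    have e5 := commg_sup_cent (zpowers_le.2 (nR.norm hy))
      (pR.coprime (piG_zpowers.2 (.of_not_dvd o.not_two_dvd_nat))) (.inl (sol_zpowers y))
    have e6 := sup_inf_cent_of_disjoint (norms_comm aR ay) (norms_inf aR (norms_cent ay))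
      (inf_le_left.trans (commg_norml R (zpowers y)))
      (H19.eq_bot_mono (inf_le_inf_left _ (inf_le_right.trans (cent_zpowers y).le)) e4)
    rw [e5, cent_zpowers, cent_zpowers] at e6
    have l2 : V ≤ cj g V ⊓ R ⊔ R ⊓ C[y] := (le_inf VR (le_cent1_iff.2 (QV (st1 g l1 ha)))).trans
      (e6.le.trans (sup_le_sup e3 inf_le_left))
    have h1 := relIndex_le_of_le_right (H := R ⊓ C[y]) l2 (relIndex_ne_zero' _ _)
    rw [relIndex_sup_right_of_norm (inf_le_left.trans (norms_inf nA le_normalizer))] at h1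
    have h2 := card_inf_mul_relIndex (R ⊓ C[y]) V
    have h3 := card_inf_mul_relIndex (R ⊓ C[y]) (cj g V ⊓ R)
    have h4 := card_lt (inf_lt_left.2 n1)
    have h5 := card_pos (R ⊓ C[y] ⊓ (cj g V ⊓ R))
    rw [card_cj] at h4
    obtain ⟨v, hv, v1⟩ := exists_ne_one (H := R ⊓ C[y] ⊓ V) fun e => by
      rw [e, card_bot] at h2; nlinarith
    have yM := cM v hv.2 v1 (mem_cent1_symm.1 hv.1.2)
    have := mem_of_odd a2 o i (st1 g l1 ha) (conj_mem_of_norm (k.nQ yM) (st1 g l1 ha))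
    exact y1 (H13.O8.mem_of_sq k.pg o (mul_mem this this))
  obtain ⟨a, ha, na⟩ := SetLike.not_le_iff_exists.1 VR
  have a2 := sq1 ab ha
  have VS := VQ.trans lQ
  obtain ⟨W1, nA⟩ := st2 1 (by rwa [cj_one]) (by rwa [cj_one])
  rw [cj_one] at W1 nA
  obtain ⟨w, hw, wa⟩ : ∃ w ∈ OZ R, ⁅w, a⁆ ≠ 1 := by
    by_contra! n
    exact na (cS ⟨VS ha, H19.mem_cent.2 fun w hw => commutatorElement_eq_one_iff_mul_comm.1 (n w hw)⟩)
  have cm : ∀ w ∈ OZ R, ⁅w, a⁆ ∈ V := fun w hw =>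
    commg_le_right ((OZ_le R).trans nA) (commutator_mem_commutator hw ha)
  obtain ⟨y, hy, o, y1, i, cq⟩ := fitR a (VS ha) na a2 Q lQ (VQ ha) (QV.trans (cent_le_cent1 ha)) fun c hc e => by
    have w' := conj_mem_of_norm (nW hc) hw
    refine norms_sup (A := zpowers c) (zpowers_le.2 (nR.norm hc)) (zpowers_le.2 (k.nQ (ti c (ne_bot_of_mem
      (H := _ ⊓ _) ⟨?_, conj_mem_cj.2 (cm w hw)⟩ fun e => wa (by simpa using e))))) (mem_zpowers c)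
    have h1 := H19.mem_cent.1 (cent_OZ R e) _ w'
    have h2 := H19.mem_cent.1 (cent_OZ R e) _ (conj_mem_of_norm (nW (lP (VS ha))) (inv_mem w'))
    have := cm _ w'
    rwa [show ⁅c * w * c⁻¹, a⁆ = c * ⁅w, a⁆ * c⁻¹ by
      simp only [commutatorElement_def]
      calc _ = c * w * c⁻¹ * (a * (c * w * c⁻¹)⁻¹ * a⁻¹ * (c * a * c⁻¹ * a⁻¹)) * (c * a * c⁻¹ * a⁻¹)⁻¹ := by group
        _ = _ := by rw [h2]; group] at this
  obtain ⟨e1, e2, e3, -⟩ := n0 ab (fun g e => nV (ti g e)) pR nA ((VS.trans lP).trans nR.norm) ha (nR.norm hy) o y1 i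
  have nN : Q ≤ N(⁅R, zpowers y⁆) := fun q hq => mem_norm_of_cj_le (by
    have qP := lP (lQ hq)
    have yq : q * y * q⁻¹ ∈ N(R) := nR.norm (mul_mem (mul_mem qP hy) (inv_mem qP))
    obtain ⟨r, hr, c⟩ := OA.lift_cent (nR.norm hy) (pR.coprime (.of_not_dvd o.not_two_dvd_nat)) (cq q hq) yq
    have n1 : q * y * q⁻¹ ∈ N(⁅R, zpowers y⁆) := (mul_mem_cancel_left (commg_norml R _ hr)).1
      (norms_comm (zpowers_le.2 (mul_mem (le_normalizer hr) yq)) (zpowers_le.2 (cent1_le_norm_zpowers y c))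
        (mem_zpowers _))
    have nU : q ∈ N(V ⊓ R) := norms_inf ((lQ.trans l).trans nV) ((lQ.trans lP).trans nR.norm) hq
    nth_rewrite 1 [e2]
    rw [cj_sup, cj_of_mem_norm nU, cj_cj, show q * y = q * y * q⁻¹ * q by group, ← cj_cj, cj_of_mem_norm nU]
    exact sup_le (e2.ge.trans' le_sup_left) (cj_le_of_mem_norm n1 (e2.ge.trans' le_sup_left)))
  have lU : cj y (V ⊓ R) ≤ R := cj_le_of_mem_norm (nR.norm hy) inf_le_right
  have lU' : cj y (V ⊓ R) ≤ ⁅R, zpowers y⁆ := e2.ge.trans' le_sup_right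
  have l3 : Q ⊓ ⁅R, zpowers y⁆ ≤ V := (le_inf inf_le_right (inf_le_left.trans (QV.trans (cent_le_cent1 ha)))).trans
    (e3.trans inf_le_left)
  refine nQ (k.fpf h nV ((lU.trans lR).trans l) ((le_inf (commg_le_left (((lU.trans lR).trans l).trans k.nQ))
    ((commutator_mono le_rfl lU').trans (commg_le_right nN))).trans l3) fun m => W1 ?_)
  rw [← cj_eq_bot (g := y)]
  exact H19.eq_bot_mono (le_inf ((cj_mono y (inf_le_inf_left V (OZ_le R))).trans ((le_inf m lU').trans l3))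
    (cj_mono y inf_le_left)) e1

theorem ti : TI.{u} := fun _ _ _ _ _ _ _ _ h k hS l rk lV nV c8 t s ch lP nP => ti' h k hS l rk lV nV c8 t s ch lP nP

end H24.OB
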