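/-
S3432: the known simple groups with element orders at most eight.
-/
import Cfsg.Agent.H13.O83
import Cfsg.Agent.H27.Spec11
import Cfsg.Agent.H19.D8
import Cfsg.Agent.H15.Mathieu
import Cfsg.Agent.S1059
import Cfsg.Agent.S1163
import Cfsg.Agent.S1625
import Cfsg.Agent.S2466
import Cfsg.Agent.S2476

set_option autoImplicit false
set_option linter.unusedSectionVars false

open Cfsg
namespace H24.OB

open H19 Subgroup H5 H13.O8
open scoped commutatorElement MatrixGroups

universe u

variable {G : Type u} [Group G] [Finite G] {F : Type} [Field F] [Fintype F] {n q : ℕ}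

theorem ordp (h : O G) {p : ℕ} (hp : p.Prime) (l : 7 < p) (e : Nat.card G = n) : ¬ p ∣ n := fun d => by
  rcases h.prime hp (e ▸ d) with rfl | rfl | rfl | rfl <;> omega

theorem l2 (h : O G) (c : 4 ≤ Fintype.card F) (e : G ≃* PSL(2, F)) : Ty G := by
  obtain ⟨p, hp⟩ := CharP.exists F
  haveI := Fact.mk (CharP.char_is_prime F p)
  have k := h _ ((ord_congr e).2 ((psl2_ord p).2 (.inr (.inr dvd_rfl))))
  have o := H11.card_psl_two (F := F)
  rw [← Nat.card_congr e.toEquiv] at o
  have l : Fintype.card F ≤ 16 := by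
    have := Nat.div_le_div_left (a := Fintype.card F + 1) (Nat.le_of_dvd two_pos
      (Nat.gcd_dvd_left 2 (Fintype.card F - 1))) (Nat.gcd_pos_of_pos_left _ two_pos)
    omega
  have a := fun (k : Nonempty (PSL(2, F) ≃* alternatingGroup (Fin 5))) => (.inl (k.map e.trans) : Ty G)
  have pp := Fintype.isPrimePow_card_of_field (α := F)
  obtain ⟨q, hq⟩ : ∃ q, Fintype.card F = q := ⟨_, rfl⟩
  rw [hq] at c k o l pp
  interval_cases q
  any_goals (revert k; simp; done)
  · exact a (H11.nonempty_psl2_four_equiv hq)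
  · exact a (H11.nonempty_psl2_five_equiv hq)
  · exact absurd pp (by decide)
  · exact .inr (.inr (.inl ((H19.psl2_seven_sl3 hq).map e.trans)))
  · exact .inr (.inl ((H11.nonempty_psl2_nine_equiv hq).map e.trans))
  · exact (ordp h (p := 11) (n := 660) (by norm_num) (by decide) (by norm_num at o; omega) (by decide)).elim
  · exact (ordp h (p := 13) (n := 1092) (by norm_num) (by decide) (by norm_num at o; omega) (by decide)).elim
  · exact absurd pp (by decide +kernel)

theorem l2' [IsSimpleGroup G] (hG : ¬ IsMulCommutative G) (h : O G) (e : G ≃* PSL(2, F)) : Ty G := by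
  refine l2 h (by_contra fun c => hG ⟨⟨IsSimpleGroup.comm_iff_isSolvable.2 ?_⟩⟩) e
  have o := H11.card_psl_two (F := F)
  rw [← Nat.card_congr e.toEquiv] at o
  have := Fintype.one_lt_card (α := F)
  have d : Nat.card G ∣ 12 := by
    obtain hq | hq : Fintype.card F = 2 ∨ Fintype.card F = 3 := by omega
    · rw [hq] at o; norm_num at o; rw [show Nat.card G = 6 by omega]; decide
    · rw [hq] at o; norm_num at o; rw [show Nat.card G = 12 by omega]
  exact H5.isSolvable_of_primes_subset_pair Nat.prime_two Nat.prime_three fun r hr k => by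
    have := Nat.le_of_dvd (by decide) (k.trans d)
    have := k.trans d
    have := hr.two_le
    interval_cases r <;> first | omega | norm_num at hr

theorem l3 (h : O G) (e : G ≃* PSL(3, F)) : Ty G := by
  obtain ⟨p, hp⟩ := CharP.exists F
  haveI := Fact.mk (CharP.char_is_prime F p)
  have k := h _ ((ord_congr e).2 ((Set.ext_iff.1 (Cfsg.Agent.S2476.result (F := F) p) _).2 (.inl dvd_rfl)))
  have := Nat.div_le_div_left (a := Fintype.card F ^ 2 + Fintype.card F + 1) (Nat.le_of_dvd three_pos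
    (Nat.gcd_dvd_left 3 (Fintype.card F - 1))) (Nat.gcd_pos_of_pos_left _ three_pos)
  have l : Fintype.card F ≤ 4 := by
    by_contra l
    have : 31 ≤ Fintype.card F ^ 2 + Fintype.card F + 1 := by nlinarith
    omega
  have := Fintype.one_lt_card (α := F)
  obtain hq | hq | hq : Fintype.card F = 2 ∨ Fintype.card F = 3 ∨ Fintype.card F = 4 := by omega
  · exact .inr (.inr (.inl ⟨e.trans ((H11.pslCongr (Equiv.refl _) (FiniteField.ringEquivOfCardEq
      (K' := ZMod 2) (by rw [hq, ZMod.card]))).trans ((QuotientGroup.quotientMulEquivOfEq (card_eq_one.1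
        (H11.card_center_sl.trans (by simp)))).trans QuotientGroup.quotientBot))⟩))
  · rw [hq] at k; norm_num at k
  · exact .inr (.inr (.inr (.inr ⟨F, _, _, hq, ⟨e⟩⟩)))

theorem u3 (h : O G) (c : Fintype.card F = q ^ 2) (l : 3 ≤ q) (l5 : q ≠ 5) (e : G ≃* PSU 3 F q) : False := by
  obtain ⟨p, hp⟩ := CharP.exists F
  haveI := Fact.mk (CharP.char_is_prime F p)
  have s := Set.ext_iff.1 (H27.Sp.spec_three (H27.Sp.qp_neg (p := p) c)
    (H27.Sp.psu_spec F (AlgebraicClosure F) c (by omega)))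
  have k1 := h _ ((ord_congr e).2 ((s _).2 (.inr (.inl dvd_rfl))))
  have k2 := h _ ((ord_congr e).2 ((s _).2 (.inr (.inr (.inr (.inl dvd_rfl))))))
  have e1 : ((-q : ℤ) ^ 2 - 1).natAbs = q ^ 2 - 1 := by
    rw [neg_sq, ← Nat.cast_pow, ← Nat.cast_pred (by positivity), Int.natAbs_natCast]
  have e2 : ((-q : ℤ) - 1).natAbs = q + 1 := by omega
  rw [e2] at k2
  rw [e1, e2] at k1
  have := Nat.div_le_div_left (a := q ^ 2 - 1) (Nat.le_of_dvd three_pos
    (Nat.gcd_dvd_left 3 (q + 1))) (Nat.gcd_pos_of_pos_left _ three_pos)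
  have l : q ≤ 5 := by
    by_contra l
    have : 36 ≤ q ^ 2 := by nlinarith
    omega
  interval_cases q
  · obtain ⟨j, -, k⟩ := FiniteField.card F p
    obtain rfl : p = 3 := (Nat.prime_dvd_prime_iff_eq Fact.out Nat.prime_three).1
      ((Fact.out : p.Prime).dvd_of_dvd_pow (n := 2) (c ▸ k ▸ dvd_pow_self p j.ne_zero))
    norm_num at k2
  · norm_num at k1
  · exact l5 rfl

theorem sz (h : O G) (k : IsSuzuki G) : False := by
  obtain ⟨-, m, hm, e⟩ := k
  have q2 : (2 ^ (2 * m + 1)) ^ 2 = 4 * 16 ^ m := by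
    rw [← pow_mul, show (2 * m + 1) * 2 = 2 + 4 * m by ring, pow_add, pow_mul]; rfl
  obtain ⟨j, c⟩ := PiN.exists_pow (p := 5) (n := (2 ^ (2 * m + 1)) ^ 2 + 1) (fun p hp d => by
    rcases h.prime hp (d.trans (e ▸ (Dvd.intro_left _ rfl).mul_right _)) with rfl | rfl | rfl | rfl
    · rw [q2] at d; omega
    · have : 16 ^ m % 3 = 1 := by simp [Nat.pow_mod]
      rw [q2] at d; omega
    · rfl
    · have : 16 ^ m % 7 = 1 ∨ 16 ^ m % 7 = 2 ∨ 16 ^ m % 7 = 4 := by
        clear hm e q2 d
        induction m with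
        | zero => simp
        | succ m ih => rw [pow_succ]; omega
      rw [q2] at d; omega) (by omega)
  obtain ⟨i, rfl | rfl⟩ := Nat.even_or_odd' j
  · rw [mul_comm 2 i, pow_mul] at c
    have : 2 ^ (2 * m + 1) < 5 ^ i := lt_of_pow_lt_pow_left₀ 2 (by positivity) (by omega)
    have : 0 < 2 ^ (2 * m + 1) := by positivity
    nlinarith
  · have h1 : 25 ^ i % 8 = 1 := by simp [Nat.pow_mod]
    obtain ⟨m, rfl⟩ : ∃ k, m = k + 1 := ⟨m - 1, by omega⟩
    rw [q2, pow_succ 5, pow_mul, pow_succ 16] at c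
    norm_num at c
    omega

theorem sz' [IsSimpleGroup G] (h : O G) (l : 2 ≤ n) (c : Fintype.card F = 2 ^ (2 * n - 1))
    (e : G ≃* Lie.Sz F (2 ^ n)) : False := by
  obtain ⟨m, rfl⟩ : ∃ k, n = k + 1 := ⟨n - 1, by omega⟩
  exact sz h ⟨inferInstance, m, by omega, by
    rw [Nat.card_congr e.toEquiv, (Cfsg.Agent.S1163.result (m := m) (by omega) c).1]; ring⟩

theorem sp4 (h : O G) (l : 3 ≤ Fintype.card F) (e : G ≃* PSp 2 F) : False := by
  obtain ⟨p, hp⟩ := CharP.exists F
  haveI := Fact.mk (CharP.char_is_prime F p)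
  have hQ := H27.Sp.qp_nat (F := F) (p := p)
  have c := Nat.card_eq_fintype_card (α := F)
  obtain ⟨a, c1, c2, c3⟩ := H27.Sp.exists_tb (K := AlgebraicClosure F) hQ (M := (Nat.card F + 1 : ℕ)) (ε := -1)
    one_pos (.inr rfl) (by simp) fun d => by
      have := Int.le_of_dvd two_pos d
      omega
  obtain ⟨j, -, k⟩ := FiniteField.card F p
  have pp := (Fact.out : p.Prime)
  have := h _ ((ord_congr e).2 ((H27.Sp.psp_spec (p := p) F (AlgebraicClosure F) two_pos).mem
    (m := (Nat.card F + 1) * p) ⟨(c1.alt c2).add H27.Sp.rl_alt_two, by simp⟩ fun N hN =>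
      Nat.Coprime.mul_dvd_of_dvd_of_dvd ?_ (Int.natCast_dvd_natCast.1 ((c3 _).1 ?_)) ?_))
  · have := pp.two_le
    rcases (show Nat.card F = 3 ∨ 4 ≤ Nat.card F by omega) with e | e
    · obtain rfl : p = 3 := (Nat.prime_dvd_prime_iff_eq pp Nat.prime_three).1
        (e ▸ c ▸ k ▸ dvd_pow_self p j.ne_zero)
      omega
    · nlinarith
  · rw [c, k]
    exact (Nat.coprime_add_iff_right (dvd_pow_self p j.ne_zero) |>.2 (Nat.coprime_one_right p)).symm
  · simpa using hN.1 (a, 1) (by simp [H27.Sp.self_mem_tb one_pos]) (1, 2) (by simp)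
  · simpa [Nat.clog_eq_one le_rfl pp.two_le] using hN.2 (1, 2) (by simp)

theorem nine {X : Type*} [Group X] [Finite X] {K : Type*} [Field K] {Q : ℤ}
    (s : H27.Sp.Spec (K := K) X 3 (H27.Sp.Adm Q 4)) : Ord X 9 :=
  s.mem ((H27.Sp.pre_sing one_ne_zero (one_zpow _) four_pos).adm (by simp) (by simp)) fun N hN => by
    simpa [show Nat.clog 3 4 = 2 by decide +kernel] using hN.2 (1, 4) (by simp)

theorem u4 (h : O G) (c : Fintype.card F = 9) (e : G ≃* PSU 4 F 3) : False := by
  haveI := Fact.mk Nat.prime_three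
  haveI : CharP F 3 := charP_of_card_eq_prime_pow (p := 3) (f := 2) c
  exact h.no (by decide) ((ord_congr e).2 (nine (H27.Sp.psu_spec F (AlgebraicClosure F) (q := 3) c (by omega))))

theorem l4 (h : O G) (c : Fintype.card F = 3) (e : G ≃* PSL(4, F)) : False := by
  haveI := Fact.mk Nat.prime_three
  haveI : CharP F 3 := charP_of_card_eq_prime_pow (p := 3) (f := 1) c
  exact h.no (by decide) ((ord_congr e).2 (nine (H27.Sp.psl_spec F (AlgebraicClosure F) 4)))

theorem g2 (h : O G) (c : Fintype.card F = 3) (e : G ≃* Lie.chevG2.group F) : False :=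
  ordp h (p := 13) (by norm_num) (by decide) ((Nat.card_congr e.toEquiv).trans (Cfsg.Agent.S1059.result c))
    (by decide)

theorem an (h : O G) (l : 8 ≤ n) (e : G ≃* alternatingGroup (Fin n)) : False :=
  h.no (n := 3 * 5) (by decide) ((ord_congr e).2 ((Cfsg.Agent.S2466.result n 3 5 Nat.prime_three Nat.prime_five
    (by decide) (by decide) (by decide) (by omega) (by omega)).2 l))

theorem m11 (h : O G) (e : Spor.IsoM11 G) : False := let ⟨e⟩ := e
  ordp h (p := 11) (by norm_num) (by decide) ((Nat.card_congr e.toEquiv).trans H15.card_M11) (by decide)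
theorem m22 (h : O G) (e : Spor.IsoM22 G) : False := let ⟨e⟩ := e
  ordp h (p := 11) (by norm_num) (by decide) ((Nat.card_congr e.toEquiv).trans H15.card_M22) (by decide)
theorem m23 (h : O G) (e : Spor.IsoM23 G) : False := let ⟨e⟩ := e
  ordp h (p := 11) (by norm_num) (by decide) ((Nat.card_congr e.toEquiv).trans H15.card_M23) (by decide)
theorem j3 (h : O G) (e : Spor.IsoJ3 G) : False := let ⟨F, _, _, ω, c, w, ⟨e⟩⟩ := e
  ordp h (p := 17) (by norm_num) (by decide) ((Nat.card_congr e.toEquiv).trans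
    (Cfsg.Agent.S1625.result F c ω w).2.2.1) (by decide)

end H24.OB
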