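import Cfsg.Agent.H24.SecTwo
import Cfsg.Agent.H10.Taussky
import Cfsg.Agent.H10.DihFusion
import Cfsg.Agent.H2.GWBase

/-! Groups with a self-centralizing four-subgroup. -/

set_option autoImplicit false

namespace H24.Wg
open Subgroup Cfsg H2.GW

variable {G : Type*} [Group G] [Finite G]

/-- `a, b` generate a self-centralizing four-group -/
structure SC (a b : G) : Prop extends K4 a b where
  cen : ∀ x, x * a = a * x → x * b = b * x → x ∈ V4 a b

omit [Finite G] in
theorem card_le_four {H : Subgroup G} {a b : G}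
    (h : ∀ x ∈ H, x = 1 ∨ x = a ∨ x = b ∨ x = a * b) : Nat.card H ≤ 4 := by
  classical
  have : (H : Set G) ⊆ (({1, a, b, a * b} : Finset G) : Set G) := fun x hx => by
    simpa using h x hx
  exact (Set.ncard_le_ncard this (Finset.finite_toSet _)).trans
    (by rw [Set.ncard_coe_finset]; exact Finset.card_le_four)

namespace SC
variable {a b : G} (h : SC a b)
include h

omit [Finite G] in
theorem cen' (x : G) (h1 : x * a = a * x) (h2 : x * b = b * x) :
    x = 1 ∨ x = a ∨ x = b ∨ x = a * b := h.toK4.mem.1 (h.cen x h1 h2)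

theorem pg : IsPGroup 2 (V4 a b) := IsPGroup.of_card (n := 2) h.toK4.card

theorem meet (N : Subgroup G) [N.Normal] (he : ¬ Odd (Nat.card N)) :
    a ∈ N ∨ b ∈ N ∨ a * b ∈ N := by
  let V := V4 a b
  letI := MulAction.compHom N ((MulAut.conjNormal (H := N)).comp V.subtype)
  obtain ⟨⟨x, hx⟩, h1, h2⟩ := h.pg.exists_fixed_point_of_prime_dvd_card_of_fixed_point N
    (even_iff_two_dvd.1 (Nat.not_odd_iff_even.1 he)) (a := 1) (fun v => map_one (MulAut.conjNormal (H := N) (v : G)))
  have f : ∀ v ∈ V, x * v = v * x := fun v hv => by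
    have := congrArg Subtype.val (h1 ⟨v, hv⟩)
    exact (mul_inv_eq_iff_eq_mul.1 this).symm
  rcases h.cen' x (f a (left_mem_V4 a b)) (f b (right_mem_V4 a b)) with
    e | e | e | e
  · exact absurd (Subtype.ext e.symm) h2
  · exact Or.inl (e ▸ hx)
  · exact Or.inr (Or.inl (e ▸ hx))
  · exact Or.inr (Or.inr (e ▸ hx))

theorem mc {T : Subgroup G} (hT : IsPGroup 2 T) (ha : a ∈ T) (hb : b ∈ T)
    (h4 : 4 < Nat.card T) : ∃ n x e, H10.MC (⊤ : Subgroup T) n x e := by
  haveI : Nontrivial T := Finite.one_lt_card_iff_nontrivial.1 (by omega)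
  haveI := hT.center_nontrivial
  obtain ⟨⟨u, hu⟩, u1⟩ := exists_ne (1 : center T)
  have uc : ∀ x ∈ T, x * u = u * x := fun x hx =>
    congrArg Subtype.val (mem_center_iff.1 hu ⟨x, hx⟩)
  obtain ⟨s, hs⟩ : ∃ s : T, Nat.card (centralizer ({s} : Set T)) ≤ 4 := by
    have key : ∀ s (hs : s ∈ T), (∀ x ∈ T, x * s = s * x → x * a = a * x ∧ x * b = b * x) →
        ∃ s : T, Nat.card (centralizer ({s} : Set T)) ≤ 4 := fun s hs H => by
      refine ⟨⟨s, hs⟩, ?_⟩
      rw [← card_map_of_injective T.subtype_injective]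
      refine card_le_four (a := a) (b := b) ?_
      rintro _ ⟨x, hx, rfl⟩
      have := H x x.2 (congrArg Subtype.val (mem_centralizer_singleton_iff.1 hx))
      exact h.cen' _ this.1 this.2
    rcases h.cen' u (uc a ha).symm (uc b hb).symm with e | e | e | e
    · exact absurd (Subtype.ext (Subtype.ext e)) u1
    · exact key b hb fun x hx c => ⟨e ▸ uc x hx, c⟩
    · exact key a ha fun x hx c => ⟨c, e ▸ uc x hx⟩
    · refine key a ha fun x hx c => ⟨c, ?_⟩
      have := uc x hx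
      rw [e, ← mul_assoc, c, mul_assoc, mul_assoc] at this
      exact mul_left_cancel this
  exact H10.taussky_mc hT ((H10.index_commutator_le_card_centralizer s).trans hs) h4

theorem syl_cases {T : Subgroup G} (hT : IsPGroup 2 T) (ha : a ∈ T) (hb : b ∈ T)
    (h4 : 4 < Nat.card T) :
    (∃ k, Nonempty (T ≃* DihedralGroup (2 ^ (k + 2)))) ∨ IsQuasiDihedral T := by
  obtain ⟨n, x, e, m⟩ := h.mc hT ha hb h4
  obtain ⟨w, hw, hw'⟩ := m.exists_out
  have n2 := m.two_le
  have nc : ∀ i : ℕ, ¬ (2 : ℤ) ^ (n - 1) ∣ i → w * x ^ i ≠ x ^ i * w := fun i hi c =>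
    hi ((m.comm_iff hw hw').1 (by simpa using c))
  rcases maxclass_cases m.ord (by simpa using m.idx) ⟨w, x ^ 1, nc 1 fun c => by
      have := (pow_dvd_pow (2 : ℤ) (show 1 ≤ n - 1 by omega)).trans c
      norm_num at this⟩
    (fun h3 => ⟨w, nc 2 fun c => by
      have := (pow_dvd_pow (2 : ℤ) (show 2 ≤ n - 1 by omega)).trans c
      norm_num at this⟩) with c | ⟨k, c1, y, z, c2, c3, c4⟩ | ⟨k, ⟨c⟩⟩
  · exact Or.inl c
  · exact Or.inr ⟨k + 3, by omega, c1, y, z, c2, c3, c4⟩
  · obtain ⟨y, m', hy⟩ := H10.quaternion_mc (m := k + 1) (by omega) c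
    have f : ∀ t ∈ T, t * t = 1 → t ≠ 1 → t = H10.mcZ y (k + 1 + 1) := fun t ht t2 t1 =>
      (m'.invol_in (by_contra fun c => hy t ht c (by rw [sq, t2])) (by rw [sq, t2])).resolve_left t1
    exact absurd ((f a ha h.toK4.tt h.toK4.t1).trans (f b hb h.toK4.ss h.toK4.s1).symm) h.ne


end SC
end H24.Wg
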