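import Cfsg.Agent.H24.SD1
import Cfsg.Agent.H24.SD2
import Cfsg.Agent.H24.SD3
import Cfsg.Agent.H24.SD4
import Cfsg.Agent.H24.SS4

/-! The case tree (generated). -/

set_option autoImplicit false

namespace H24.SS

variable {G : Type*} [Group G] [Finite G]

theorem n0 {u d u' d' : List ℕ} : Dd G nI t1 u d u' d' :=
  tt_s c41
theorem n1 {u d : List ℕ} : Dd G nI t0 (gs t0) [0, 32, 16, 40, 20, 2, 1] u d :=
  ext_s c40 n0
theorem n2 {u d u' d' : List ℕ} : Dd G nI t2 u d u' d' :=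
  tt_s c43
theorem n3 {u d : List ℕ} : Dd G nI t0 (gs t0) [0, 32, 16, 42, 20, 2, 1] u d :=
  ext_s c42 n2
theorem n4 {u d u' d' : List ℕ} : Dd G nI t3 u d u' d' :=
  tt_s c45
theorem n5 {u d : List ℕ} : Dd G nI t0 (gs t0) [0, 32, 48, 8, 14, 2, 1] u d :=
  ext_s c44 n4
theorem n6 {u d u' d' : List ℕ} : Dd G nI t4 u d u' d' :=
  tt_s c47
theorem n7 {u d : List ℕ} : Dd G nI t0 (gs t0) [0, 32, 50, 8, 14, 2, 1] u d :=
  ext_s c46 n6
theorem n8 {u d u' d' : List ℕ} : Dd G nI t6 u d u' d' :=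
  tt_s c49
theorem n9 {u d u' d' : List ℕ} : Dd G nI t8 u d u' d' :=
  tt_s c51
theorem n10 {u d u' d' : List ℕ} : Dd G nI t10 u d u' d' :=
  tt_s c53
theorem n11 {u d u' d' : List ℕ} : Dd G nI t12 u d u' d' :=
  tt_s c55
theorem n12 : Dd G nI t0 (gs t0) [0, 42, 60, 8, 15, 2, 1] (gs t0) [0, 48, 16, 60, 21, 2, 1] :=
  dih_s c56 (al (ext_s c48 n8) (al (ext_s c50 n9) (al (ext_s c52 n10) (al (ext_s c54 n11) an0))))
theorem n13 {u d u' d' : List ℕ} : Dd G nI t14 u d u' d' :=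
  tt_s c58
theorem n14 {u d u' d' : List ℕ} : Dd G nI t16 u d u' d' :=
  tt_s c60
theorem n15 {u d u' d' : List ℕ} : Dd G nI t18 u d u' d' :=
  tt_s c62
theorem n16 {u d u' d' : List ℕ} : Dd G nI t20 u d u' d' :=
  tt_s c64
theorem n17 : Dd G nI t0 (gs t0) [0, 42, 62, 8, 15, 2, 1] (gs t0) [0, 48, 16, 60, 21, 2, 1] :=
  dih_s c65 (al (ext_s c57 n13) (al (ext_s c59 n14) (al (ext_s c61 n15) (al (ext_s c63 n16) an0))))
theorem n18 {u d u' d' : List ℕ} : Dd G nI t22 u d u' d' :=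
  tt_s c67
theorem n19 {u d u' d' : List ℕ} : Dd G nI t24 u d u' d' :=
  tt_s c69
theorem n20 {u d u' d' : List ℕ} : Dd G nI t26 u d u' d' :=
  tt_s c71
theorem n21 {u d u' d' : List ℕ} : Dd G nI t28 u d u' d' :=
  tt_s c73
theorem n22 : Dd G nI t0 (gs t0) [0, 42, 60, 8, 15, 2, 1] (gs t0) [0, 48, 16, 62, 21, 2, 1] :=
  dih_s c74 (al (ext_s c66 n18) (al (ext_s c68 n19) (al (ext_s c70 n20) (al (ext_s c72 n21) an0))))
theorem n23 {u d u' d' : List ℕ} : Dd G nI t30 u d u' d' :=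
  tt_s c76
theorem n24 {u d u' d' : List ℕ} : Dd G nI t32 u d u' d' :=
  tt_s c78
theorem n25 {u d u' d' : List ℕ} : Dd G nI t34 u d u' d' :=
  tt_s c80
theorem n26 {u d u' d' : List ℕ} : Dd G nI t36 u d u' d' :=
  tt_s c82
theorem n27 : Dd G nI t0 (gs t0) [0, 42, 62, 8, 15, 2, 1] (gs t0) [0, 48, 16, 62, 21, 2, 1] :=
  dih_s c83 (al (ext_s c75 n23) (al (ext_s c77 n24) (al (ext_s c79 n25) (al (ext_s c81 n26) an0))))
theorem n28 {u d u' d' : List ℕ} : Dd G nI t0 u d u' d' :=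
  loc_s c38 (al n1 (al n3 (al (loc_s c39 (al n5 (al n7 (al n12 (al n17 an0))))) (al (loc_s c39 (al n5 (al n7 (al n22 (al n27 an0))))) an0))))
theorem n29 {u d u' d' : List ℕ} : Dd G nI t37 u d u' d' :=
  tt_s c85
theorem n30 {u d u' d' : List ℕ} : Dd G nI t39 u d u' d' :=
  tt_s c91
theorem n31 {u d : List ℕ} : Dd G nI t38 (gs t38) [0, 32, 16, 40, 20, 18, 1] u d :=
  ext_s c90 n30
theorem n32 {u d u' d' : List ℕ} : Dd G nI t40 u d u' d' :=
  tt_s c93
theorem n33 {u d : List ℕ} : Dd G nI t38 (gs t38) [0, 32, 16, 46, 20, 18, 1] u d :=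
  ext_s c92 n32
theorem n34 {u d u' d' : List ℕ} : Dd G nI t41 u d u' d' :=
  tt_s c95
theorem n35 {u d : List ℕ} : Dd G nI t38 (gs t38) [0, 16, 32, 2, 14, 8, 1] u d :=
  ext_s c94 n34
theorem n36 {u d u' d' : List ℕ} : Dd G nI t42 u d u' d' :=
  tt_s c97
theorem n37 {u d : List ℕ} : Dd G nI t38 (gs t38) [0, 22, 38, 2, 14, 8, 1] u d :=
  ext_s c96 n36
theorem n38 {u d u' d' : List ℕ} : Dd G nI t44 u d u' d' :=
  tt_s c99
theorem n39 {u d u' d' : List ℕ} : Dd G nI t46 u d u' d' :=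
  tt_s c101
theorem n40 {u d u' d' : List ℕ} : Dd G nI t48 u d u' d' :=
  tt_s c103
theorem n41 {u d u' d' : List ℕ} : Dd G nI t50 u d u' d' :=
  tt_s c105
theorem n42 : Dd G nI t38 (gs t38) [0, 18, 40, 2, 14, 8, 1] (gs t38) [0, 48, 16, 58, 21, 19, 1] :=
  dih_s c106 (al (ext_s c98 n38) (al (ext_s c100 n39) (al (ext_s c102 n40) (al (ext_s c104 n41) an0))))
theorem n43 {u d u' d' : List ℕ} : Dd G nI t52 u d u' d' :=
  tt_s c108
theorem n44 {u d u' d' : List ℕ} : Dd G nI t54 u d u' d' :=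
  tt_s c110
theorem n45 {u d u' d' : List ℕ} : Dd G nI t56 u d u' d' :=
  tt_s c112
theorem n46 {u d u' d' : List ℕ} : Dd G nI t58 u d u' d' :=
  tt_s c114
theorem n47 : Dd G nI t38 (gs t38) [0, 20, 46, 2, 14, 8, 1] (gs t38) [0, 48, 16, 58, 21, 19, 1] :=
  dih_s c115 (al (ext_s c107 n43) (al (ext_s c109 n44) (al (ext_s c111 n45) (al (ext_s c113 n46) an0))))
theorem n48 {u d u' d' : List ℕ} : Dd G nI t60 u d u' d' :=
  tt_s c117
theorem n49 {u d u' d' : List ℕ} : Dd G nI t62 u d u' d' :=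
  tt_s c119
theorem n50 {u d u' d' : List ℕ} : Dd G nI t64 u d u' d' :=
  tt_s c121
theorem n51 {u d u' d' : List ℕ} : Dd G nI t66 u d u' d' :=
  tt_s c123
theorem n52 : Dd G nI t38 (gs t38) [0, 18, 40, 2, 14, 8, 1] (gs t38) [0, 48, 16, 60, 21, 19, 1] :=
  dih_s c124 (al (ext_s c116 n48) (al (ext_s c118 n49) (al (ext_s c120 n50) (al (ext_s c122 n51) an0))))
theorem n53 {u d u' d' : List ℕ} : Dd G nI t68 u d u' d' :=
  tt_s c126
theorem n54 {u d u' d' : List ℕ} : Dd G nI t70 u d u' d' :=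
  tt_s c128
theorem n55 {u d u' d' : List ℕ} : Dd G nI t72 u d u' d' :=
  tt_s c130
theorem n56 {u d u' d' : List ℕ} : Dd G nI t74 u d u' d' :=
  tt_s c132
theorem n57 : Dd G nI t38 (gs t38) [0, 20, 46, 2, 14, 8, 1] (gs t38) [0, 48, 16, 60, 21, 19, 1] :=
  dih_s c133 (al (ext_s c125 n53) (al (ext_s c127 n54) (al (ext_s c129 n55) (al (ext_s c131 n56) an0))))
theorem n58 {u d u' d' : List ℕ} : Dd G nI t38 u d u' d' :=
  loc_s c88 (al n31 (al n33 (al (loc_s c89 (al n35 (al n37 (al n42 (al n47 an0))))) (al (loc_s c89 (al n35 (al n37 (al n52 (al n57 an0))))) an0))))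
theorem n59 {u d u' d' : List ℕ} : Dd G nI t75 u d u' d' :=
  tt_s c135
theorem n60 {u d u' d' : List ℕ} : Dd G nac t77 u d u' d' :=
  tt_s c144
theorem n61 {u d u' d' : List ℕ} : Dd G nac t79 u d u' d' :=
  tt_s c146
theorem n62 : Dd G nac t0 (gs t0) [0, 32, 48, 8, 14, 2, 1] (gs t0) [56, 33, 10, 18, 6, 3, 1] :=
  dih_s c147 (al (ext_s c143 n60) (al (ext_s c145 n61) an0))
theorem n63 {u d u' d' : List ℕ} : Dd G nac t81 u d u' d' :=
  tt_s c149
theorem n64 {u d u' d' : List ℕ} : Dd G nac t83 u d u' d' :=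
  tt_s c151
theorem n65 : Dd G nac t0 (gs t0) [0, 32, 50, 8, 14, 2, 1] (gs t0) [56, 33, 10, 18, 6, 3, 1] :=
  dih_s c152 (al (ext_s c148 n63) (al (ext_s c150 n64) an0))
theorem n66 : Dd G nac t0 (gs t0) [0, 42, 60, 8, 15, 2, 1] (gs t0) [56, 33, 10, 18, 6, 3, 1] :=
  stb_s c153
theorem n67 : Dd G nac t0 (gs t0) [0, 42, 62, 8, 15, 2, 1] (gs t0) [56, 33, 10, 18, 6, 3, 1] :=
  stb_s c154
theorem n68 : Dd G nac t0 (gs t0) [0, 32, 48, 8, 14, 2, 1] (gs t0) [60, 35, 10, 18, 6, 3, 1] :=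
  stb_s c155
theorem n69 : Dd G nac t0 (gs t0) [0, 32, 50, 8, 14, 2, 1] (gs t0) [60, 35, 10, 18, 6, 3, 1] :=
  stb_s c156
theorem n70 {u d u' d' : List ℕ} : Dd G nac t85 u d u' d' :=
  tt_s c158
theorem n71 {u d u' d' : List ℕ} : Dd G nac t87 u d u' d' :=
  tt_s c160
theorem n72 : Dd G nac t0 (gs t0) [0, 42, 60, 8, 15, 2, 1] (gs t0) [60, 35, 10, 18, 6, 3, 1] :=
  dih_s c161 (al (ext_s c157 n70) (al (ext_s c159 n71) an0))
theorem n73 {u d u' d' : List ℕ} : Dd G nac t89 u d u' d' :=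
  tt_s c163
theorem n74 {u d u' d' : List ℕ} : Dd G nac t91 u d u' d' :=
  tt_s c165
theorem n75 : Dd G nac t0 (gs t0) [0, 42, 62, 8, 15, 2, 1] (gs t0) [60, 35, 10, 18, 6, 3, 1] :=
  dih_s c166 (al (ext_s c162 n73) (al (ext_s c164 n74) an0))
theorem n76 : Dd G nac Tw.b (gs Tw.b) [2047, 16, 8, 5, 2, 1] (gs Tw.b) [2047, 10, 18, 6, 3, 1] :=
  nor_s c36 (al (ext_s c37 (nor_s c142 (al (loc_s c39 (al n62 (al n65 (al n66 (al n67 an0))))) (al (loc_s c39 (al n68 (al n69 (al n72 (al n75 an0))))) an0)))) (al (ext_s c84 (nor_s c167 an0)) an0))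
theorem n77 {u d u' d' : List ℕ} : Dd G nac t92 u d u' d' :=
  tt_s c170
theorem n78 {u d u' d' : List ℕ} : Dd G nac t93 u d u' d' :=
  tt_s c172
theorem n79 {u d u' d' : List ℕ} : Dd G nac t94 u d u' d' :=
  loc_s c174 an0
theorem n80 {u d u' d' : List ℕ} : Dd G nac t95 u d u' d' :=
  loc_s c176 an0
theorem n81 {u d u' d' : List ℕ} : Dd G nac t96 u d u' d' :=
  loc_s c178 an0
theorem n82 {u d u' d' : List ℕ} : Dd G nac t97 u d u' d' :=
  loc_s c180 an0
theorem n83 {u d u' d' : List ℕ} : Dd G nac t100 u d u' d' :=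
  tt_s c185
theorem n84 {u d u' d' : List ℕ} : Dd G nac t102 u d u' d' :=
  tt_s c187
theorem n85 {u d u' d' : List ℕ} : Dd G nac t104 u d u' d' :=
  tt_s c189
theorem n86 {u d u' d' : List ℕ} : Dd G nac t106 u d u' d' :=
  tt_s c191
theorem n87 : Dd G nac t98 (gs t98) [0, 72, 43, 60, 8, 14, 2, 1] (gs t98) [0, 80, 51, 16, 60, 22, 2, 1] :=
  dih_s c192 (al (ext_s c184 n83) (al (ext_s c186 n84) (al (ext_s c188 n85) (al (ext_s c190 n86) an0))))
theorem n88 {u d u' d' : List ℕ} : Dd G nac t108 u d u' d' :=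
  tt_s c194
theorem n89 {u d u' d' : List ℕ} : Dd G nac t110 u d u' d' :=
  tt_s c196
theorem n90 {u d u' d' : List ℕ} : Dd G nac t112 u d u' d' :=
  tt_s c198
theorem n91 {u d u' d' : List ℕ} : Dd G nac t114 u d u' d' :=
  tt_s c200
theorem n92 : Dd G nac t98 (gs t98) [0, 72, 43, 62, 8, 14, 2, 1] (gs t98) [0, 80, 51, 16, 60, 22, 2, 1] :=
  dih_s c201 (al (ext_s c193 n88) (al (ext_s c195 n89) (al (ext_s c197 n90) (al (ext_s c199 n91) an0))))
theorem n93 {u d u' d' : List ℕ} : Dd G nac t116 u d u' d' :=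
  tt_s c203
theorem n94 {u d u' d' : List ℕ} : Dd G nac t118 u d u' d' :=
  tt_s c205
theorem n95 {u d u' d' : List ℕ} : Dd G nac t120 u d u' d' :=
  tt_s c207
theorem n96 {u d u' d' : List ℕ} : Dd G nac t122 u d u' d' :=
  tt_s c209
theorem n97 : Dd G nac t98 (gs t98) [0, 72, 43, 60, 8, 14, 2, 1] (gs t98) [0, 80, 51, 16, 62, 22, 2, 1] :=
  dih_s c210 (al (ext_s c202 n93) (al (ext_s c204 n94) (al (ext_s c206 n95) (al (ext_s c208 n96) an0))))
theorem n98 {u d u' d' : List ℕ} : Dd G nac t124 u d u' d' :=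
  tt_s c212
theorem n99 {u d u' d' : List ℕ} : Dd G nac t126 u d u' d' :=
  tt_s c214
theorem n100 {u d u' d' : List ℕ} : Dd G nac t128 u d u' d' :=
  tt_s c216
theorem n101 {u d u' d' : List ℕ} : Dd G nac t130 u d u' d' :=
  tt_s c218
theorem n102 : Dd G nac t98 (gs t98) [0, 72, 43, 62, 8, 14, 2, 1] (gs t98) [0, 80, 51, 16, 62, 22, 2, 1] :=
  dih_s c219 (al (ext_s c211 n98) (al (ext_s c213 n99) (al (ext_s c215 n100) (al (ext_s c217 n101) an0))))
theorem n103 {u d u' d' : List ℕ} : Dd G nac t98 u d u' d' :=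
  loc_s c182 (al (loc_s c183 (al n87 (al n92 an0))) (al (loc_s c183 (al n97 (al n102 an0))) an0))
theorem n104 {u d u' d' : List ℕ} : Dd G nac t131 u d u' d' :=
  loc_s c221 an0
theorem n105 {u d u' d' : List ℕ} : Dd G nac t132 u d u' d' :=
  tt_s c224
theorem n106 {u d u' d' : List ℕ} : Dd G nac t133 u d u' d' :=
  tt_s c226
theorem n107 {u d u' d' : List ℕ} : Dd G nac t134 u d u' d' :=
  tt_s c228
theorem n108 {u d u' d' : List ℕ} : Dd G nac t135 u d u' d' :=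
  tt_s c230
theorem n109 {u d u' d' : List ℕ} : Dd G nac t136 u d u' d' :=
  tt_s c232
theorem n110 {u d u' d' : List ℕ} : Dd G nac t137 u d u' d' :=
  tt_s c234
theorem n111 {u d u' d' : List ℕ} : Dd G nac t138 u d u' d' :=
  tt_s c236
theorem n112 {u d u' d' : List ℕ} : Dd G nac t139 u d u' d' :=
  tt_s c238
theorem n113 : Dd G nac Tw.b (gs Tw.b) [2047, 16, 8, 5, 2, 1] (gs Tw.b) [2047, 16, 8, 6, 2, 1] :=
  nor_s c36 (al (ext_s c37 (nor_s c168 (al (ext_s c169 n77) (al (ext_s c171 n78) (al (ext_s c173 n79) (al (ext_s c175 n80) (al (ext_s c177 n81) (al (ext_s c179 n82) (al (ext_s c181 n103) (al (ext_s c220 n104) an0)))))))))) (al (ext_s c84 (nor_s c222 (al (ext_s c223 n105) (al (ext_s c225 n106) (al (ext_s c227 n107) (al (ext_s c229 n108) (al (ext_s c231 n109) (al (ext_s c233 n110) (al (ext_s c235 n111) (al (ext_s c237 n112) an0)))))))))) an0))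
theorem n114 {u d u' d' : List ℕ} : Dd G nac t141 u d u' d' :=
  tt_s c255
theorem n115 {u d u' d' : List ℕ} : Dd G nac t142 u d u' d' :=
  tt_s c257
theorem n116 {u d u' d' : List ℕ} : Dd G nac t143 u d u' d' :=
  tt_s c259
theorem n117 {u d u' d' : List ℕ} : Dd G nac t144 u d u' d' :=
  tt_s c261
theorem n118 {u d u' d' : List ℕ} : Dd G nac t145 u d u' d' :=
  tt_s c263
theorem n119 {u d u' d' : List ℕ} : Dd G nac t146 u d u' d' :=
  tt_s c265
theorem n120 {u d u' d' : List ℕ} : Dd G nac t147 u d u' d' :=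
  loc_s c267 an0
theorem n121 {u d u' d' : List ℕ} : Dd G nac t148 u d u' d' :=
  tt_s c269
theorem n122 {u d u' d' : List ℕ} : Dd G nac t150 u d u' d' :=
  tt_s c273
theorem n123 {u d u' d' : List ℕ} : Dd G nac t151 u d u' d' :=
  loc_s c275 an0
theorem n124 {u d u' d' : List ℕ} : Dd G nac t152 u d u' d' :=
  loc_s c277 an0
theorem n125 {u d u' d' : List ℕ} : Dd G nac t153 u d u' d' :=
  tt_s c279
theorem n126 {u d u' d' : List ℕ} : Dd G nac t156 u d u' d' :=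
  tt_s c284
theorem n127 {u d u' d' : List ℕ} : Dd G nac t158 u d u' d' :=
  tt_s c286
theorem n128 : Dd G nac t154 (gs t154) [0, 16, 120, 64, 8, 12, 1, 2] (gs t154) [0, 66, 48, 16, 62, 23, 2, 1] :=
  dih_s c287 (al (ext_s c283 n126) (al (ext_s c285 n127) an0))
theorem n129 {u d u' d' : List ℕ} : Dd G nac t160 u d u' d' :=
  tt_s c289
theorem n130 {u d u' d' : List ℕ} : Dd G nac t162 u d u' d' :=
  tt_s c291
theorem n131 : Dd G nac t154 (gs t154) [0, 18, 120, 65, 11, 14, 1, 2] (gs t154) [0, 66, 48, 16, 62, 23, 2, 1] :=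
  dih_s c292 (al (ext_s c288 n129) (al (ext_s c290 n130) an0))
theorem n132 {u d u' d' : List ℕ} : Dd G nac t164 u d u' d' :=
  tt_s c294
theorem n133 {u d u' d' : List ℕ} : Dd G nac t166 u d u' d' :=
  tt_s c296
theorem n134 : Dd G nac t154 (gs t154) [0, 16, 120, 64, 8, 15, 1, 2] (gs t154) [0, 66, 48, 16, 62, 23, 2, 1] :=
  dih_s c297 (al (ext_s c293 n132) (al (ext_s c295 n133) an0))
theorem n135 {u d u' d' : List ℕ} : Dd G nac t168 u d u' d' :=
  tt_s c299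
theorem n136 {u d u' d' : List ℕ} : Dd G nac t170 u d u' d' :=
  tt_s c301
theorem n137 : Dd G nac t154 (gs t154) [0, 18, 120, 65, 11, 13, 1, 2] (gs t154) [0, 66, 48, 16, 62, 23, 2, 1] :=
  dih_s c302 (al (ext_s c298 n135) (al (ext_s c300 n136) an0))
theorem n138 {u d u' d' : List ℕ} : Dd G nac t172 u d u' d' :=
  tt_s c304
theorem n139 {u d u' d' : List ℕ} : Dd G nac t174 u d u' d' :=
  tt_s c306
theorem n140 : Dd G nac t154 (gs t154) [0, 16, 120, 64, 8, 12, 1, 2] (gs t154) [0, 66, 48, 16, 60, 23, 2, 1] :=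
  dih_s c307 (al (ext_s c303 n138) (al (ext_s c305 n139) an0))
theorem n141 {u d u' d' : List ℕ} : Dd G nac t176 u d u' d' :=
  tt_s c309
theorem n142 {u d u' d' : List ℕ} : Dd G nac t178 u d u' d' :=
  tt_s c311
theorem n143 : Dd G nac t154 (gs t154) [0, 18, 120, 65, 11, 14, 1, 2] (gs t154) [0, 66, 48, 16, 60, 23, 2, 1] :=
  dih_s c312 (al (ext_s c308 n141) (al (ext_s c310 n142) an0))
theorem n144 {u d u' d' : List ℕ} : Dd G nac t180 u d u' d' :=
  tt_s c314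
theorem n145 {u d u' d' : List ℕ} : Dd G nac t182 u d u' d' :=
  tt_s c316
theorem n146 : Dd G nac t154 (gs t154) [0, 16, 120, 64, 8, 15, 1, 2] (gs t154) [0, 66, 48, 16, 60, 23, 2, 1] :=
  dih_s c317 (al (ext_s c313 n144) (al (ext_s c315 n145) an0))
theorem n147 {u d u' d' : List ℕ} : Dd G nac t184 u d u' d' :=
  tt_s c319
theorem n148 {u d u' d' : List ℕ} : Dd G nac t186 u d u' d' :=
  tt_s c321
theorem n149 : Dd G nac t154 (gs t154) [0, 18, 120, 65, 11, 13, 1, 2] (gs t154) [0, 66, 48, 16, 60, 23, 2, 1] :=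
  dih_s c322 (al (ext_s c318 n147) (al (ext_s c320 n148) an0))
theorem n150 {u d u' d' : List ℕ} : Dd G nac t154 u d u' d' :=
  loc_s c281 (al (loc_s c282 (al n128 (al n131 (al n134 (al n137 an0))))) (al (loc_s c282 (al n140 (al n143 (al n146 (al n149 an0))))) an0))
theorem n151 {u d u' d' : List ℕ} : Dd G nac t187 u d u' d' :=
  tt_s c324
theorem n152 {u d u' d' : List ℕ} : Dd G nac t188 u d u' d' :=
  loc_s c326 an0
theorem n153 {u d u' d' : List ℕ} : Dd G nac t189 u d u' d' :=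
  tt_s c328
theorem n154 : Dd G nac Tw.b (gs Tw.b) [2047, 16, 10, 5, 2, 1] (gs Tw.b) [2047, 16, 10, 6, 2, 1] :=
  nor_s c251 (al (ext_s c252 (nor_s c253 (al (ext_s c254 n114) (al (ext_s c256 n115) (al (ext_s c258 n116) (al (ext_s c260 n117) (al (ext_s c262 n118) (al (ext_s c264 n119) (al (ext_s c266 n120) (al (ext_s c268 n121) an0)))))))))) (al (ext_s c270 (nor_s c271 (al (ext_s c272 n122) (al (ext_s c274 n123) (al (ext_s c276 n124) (al (ext_s c278 n125) (al (ext_s c280 n150) (al (ext_s c323 n151) (al (ext_s c325 n152) (al (ext_s c327 n153) an0)))))))))) an0))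
theorem n155 {u d u' d' : List ℕ} : Dd G nac t191 u d u' d' :=
  tt_s c343
theorem n156 {u d u' d' : List ℕ} : Dd G nac t192 u d u' d' :=
  tt_s c345
theorem n157 {u d u' d' : List ℕ} : Dd G nac t193 u d u' d' :=
  tt_s c347
theorem n158 {u d u' d' : List ℕ} : Dd G nac t194 u d u' d' :=
  tt_s c349
theorem n159 {u d u' d' : List ℕ} : Dd G nac t195 u d u' d' :=
  tt_s c351
theorem n160 {u d u' d' : List ℕ} : Dd G nac t196 u d u' d' :=
  tt_s c353
theorem n161 {u d u' d' : List ℕ} : Dd G nac t197 u d u' d' :=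
  loc_s c355 an0
theorem n162 {u d u' d' : List ℕ} : Dd G nac t198 u d u' d' :=
  tt_s c357
theorem n163 {u d u' d' : List ℕ} : Dd G nac t200 u d u' d' :=
  tt_s c361
theorem n164 {u d u' d' : List ℕ} : Dd G nac t201 u d u' d' :=
  loc_s c363 an0
theorem n165 {u d u' d' : List ℕ} : Dd G nac t204 u d u' d' :=
  tt_s c368
theorem n166 {u d u' d' : List ℕ} : Dd G nac t206 u d u' d' :=
  tt_s c370
theorem n167 : Dd G nac t202 (gs t202) [0, 72, 34, 48, 8, 13, 2, 1] (gs t202) [0, 80, 32, 16, 111, 20, 2, 3] :=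
  dih_s c371 (al (ext_s c367 n165) (al (ext_s c369 n166) an0))
theorem n168 {u d u' d' : List ℕ} : Dd G nac t208 u d u' d' :=
  tt_s c373
theorem n169 {u d u' d' : List ℕ} : Dd G nac t210 u d u' d' :=
  tt_s c375
theorem n170 : Dd G nac t202 (gs t202) [0, 72, 34, 50, 8, 13, 2, 1] (gs t202) [0, 80, 32, 16, 111, 20, 2, 3] :=
  dih_s c376 (al (ext_s c372 n168) (al (ext_s c374 n169) an0))
theorem n171 {u d u' d' : List ℕ} : Dd G nac t212 u d u' d' :=
  tt_s c378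
theorem n172 {u d u' d' : List ℕ} : Dd G nac t214 u d u' d' :=
  tt_s c380
theorem n173 : Dd G nac t202 (gs t202) [0, 72, 34, 48, 8, 13, 2, 1] (gs t202) [0, 80, 32, 16, 109, 20, 2, 3] :=
  dih_s c381 (al (ext_s c377 n171) (al (ext_s c379 n172) an0))
theorem n174 {u d u' d' : List ℕ} : Dd G nac t216 u d u' d' :=
  tt_s c383
theorem n175 {u d u' d' : List ℕ} : Dd G nac t218 u d u' d' :=
  tt_s c385
theorem n176 : Dd G nac t202 (gs t202) [0, 72, 34, 50, 8, 13, 2, 1] (gs t202) [0, 80, 32, 16, 109, 20, 2, 3] :=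
  dih_s c386 (al (ext_s c382 n174) (al (ext_s c384 n175) an0))
theorem n177 {u d u' d' : List ℕ} : Dd G nac t220 u d u' d' :=
  tt_s c388
theorem n178 {u d u' d' : List ℕ} : Dd G nac t222 u d u' d' :=
  tt_s c390
theorem n179 : Dd G nac t202 (gs t202) [0, 72, 34, 48, 8, 13, 2, 1] (gs t202) [0, 80, 32, 16, 108, 22, 2, 3] :=
  dih_s c391 (al (ext_s c387 n177) (al (ext_s c389 n178) an0))
theorem n180 {u d u' d' : List ℕ} : Dd G nac t224 u d u' d' :=
  tt_s c393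
theorem n181 {u d u' d' : List ℕ} : Dd G nac t226 u d u' d' :=
  tt_s c395
theorem n182 : Dd G nac t202 (gs t202) [0, 72, 34, 50, 8, 13, 2, 1] (gs t202) [0, 80, 32, 16, 108, 22, 2, 3] :=
  dih_s c396 (al (ext_s c392 n180) (al (ext_s c394 n181) an0))
theorem n183 {u d u' d' : List ℕ} : Dd G nac t228 u d u' d' :=
  tt_s c398
theorem n184 {u d u' d' : List ℕ} : Dd G nac t230 u d u' d' :=
  tt_s c400
theorem n185 : Dd G nac t202 (gs t202) [0, 72, 34, 48, 8, 13, 2, 1] (gs t202) [0, 80, 32, 16, 110, 22, 2, 3] :=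
  dih_s c401 (al (ext_s c397 n183) (al (ext_s c399 n184) an0))
theorem n186 {u d u' d' : List ℕ} : Dd G nac t232 u d u' d' :=
  tt_s c403
theorem n187 {u d u' d' : List ℕ} : Dd G nac t234 u d u' d' :=
  tt_s c405
theorem n188 : Dd G nac t202 (gs t202) [0, 72, 34, 50, 8, 13, 2, 1] (gs t202) [0, 80, 32, 16, 110, 22, 2, 3] :=
  dih_s c406 (al (ext_s c402 n186) (al (ext_s c404 n187) an0))
theorem n189 {u d u' d' : List ℕ} : Dd G nac t202 u d u' d' :=
  loc_s c365 (al (loc_s c366 (al n167 (al n170 an0))) (al (loc_s c366 (al n173 (al n176 an0))) (al (loc_s c366 (al n179 (al n182 an0))) (al (loc_s c366 (al n185 (al n188 an0))) an0))))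
theorem n190 {u d u' d' : List ℕ} : Dd G nac t235 u d u' d' :=
  tt_s c408
theorem n191 {u d u' d' : List ℕ} : Dd G nac t236 u d u' d' :=
  loc_s c410 an0
theorem n192 {u d u' d' : List ℕ} : Dd G nac t237 u d u' d' :=
  tt_s c412
theorem n193 {u d u' d' : List ℕ} : Dd G nac t238 u d u' d' :=
  loc_s c414 an0
theorem n194 {u d u' d' : List ℕ} : Dd G nac t239 u d u' d' :=
  tt_s c416
theorem n195 : Dd G nac Tw.b (gs Tw.b) [2047, 18, 8, 5, 2, 1] (gs Tw.b) [2047, 16, 8, 6, 2, 1] :=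
  nor_s c339 (al (ext_s c340 (nor_s c341 (al (ext_s c342 n155) (al (ext_s c344 n156) (al (ext_s c346 n157) (al (ext_s c348 n158) (al (ext_s c350 n159) (al (ext_s c352 n160) (al (ext_s c354 n161) (al (ext_s c356 n162) an0)))))))))) (al (ext_s c358 (nor_s c359 (al (ext_s c360 n163) (al (ext_s c362 n164) (al (ext_s c364 n189) (al (ext_s c407 n190) (al (ext_s c409 n191) (al (ext_s c411 n192) (al (ext_s c413 n193) (al (ext_s c415 n194) an0)))))))))) an0))
theorem n196 {u d u' d' : List ℕ} : Dd G nac t241 u d u' d' :=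
  loc_s c427 an0
theorem n197 {u d u' d' : List ℕ} : Dd G nac t242 u d u' d' :=
  tt_s c429
theorem n198 {u d u' d' : List ℕ} : Dd G nac t243 u d u' d' :=
  tt_s c431
theorem n199 {u d u' d' : List ℕ} : Dd G nac t244 u d u' d' :=
  tt_s c433
theorem n200 {u d u' d' : List ℕ} : Dd G nac t245 u d u' d' :=
  tt_s c435
theorem n201 {u d u' d' : List ℕ} : Dd G nac t246 u d u' d' :=
  tt_s c437
theorem n202 {u d u' d' : List ℕ} : Dd G nac t247 u d u' d' :=
  loc_s c439 an0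
theorem n203 {u d u' d' : List ℕ} : Dd G nac t248 u d u' d' :=
  tt_s c441
theorem n204 {u d u' d' : List ℕ} : Dd G nac t250 u d u' d' :=
  tt_s c445
theorem n205 {u d u' d' : List ℕ} : Dd G nac t251 u d u' d' :=
  tt_s c447
theorem n206 {u d u' d' : List ℕ} : Dd G nac t253 u d u' d' :=
  tt_s c451
theorem n207 {u d : List ℕ} : Dd G nac t252 (gs t252) [0, 16, 113, 64, 11, 13, 1, 2] u d :=
  ext_s c450 n206
theorem n208 {u d u' d' : List ℕ} : Dd G nac t254 u d u' d' :=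
  tt_s c453
theorem n209 {u d : List ℕ} : Dd G nac t252 (gs t252) [0, 16, 113, 64, 11, 14, 1, 2] u d :=
  ext_s c452 n208
theorem n210 {u d u' d' : List ℕ} : Dd G nac t255 u d u' d' :=
  tt_s c455
theorem n211 {u d : List ℕ} : Dd G nac t252 (gs t252) [0, 16, 113, 64, 8, 12, 1, 2] u d :=
  ext_s c454 n210
theorem n212 {u d u' d' : List ℕ} : Dd G nac t256 u d u' d' :=
  tt_s c457
theorem n213 {u d : List ℕ} : Dd G nac t252 (gs t252) [0, 16, 113, 64, 8, 15, 1, 2] u d :=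
  ext_s c456 n212
theorem n214 {u d u' d' : List ℕ} : Dd G nac t252 u d u' d' :=
  loc_s c449 (al n207 (al n209 (al n211 (al n213 an0))))
theorem n215 {u d u' d' : List ℕ} : Dd G nac t257 u d u' d' :=
  tt_s c459
theorem n216 {u d u' d' : List ℕ} : Dd G nac t258 u d u' d' :=
  loc_s c461 an0
theorem n217 {u d u' d' : List ℕ} : Dd G nac t259 u d u' d' :=
  tt_s c463
theorem n218 {u d u' d' : List ℕ} : Dd G nac t260 u d u' d' :=
  tt_s c465
theorem n219 {u d u' d' : List ℕ} : Dd G nac t261 u d u' d' :=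
  tt_s c467
theorem n220 : Dd G nac Tw.b (gs Tw.b) [2047, 18, 10, 5, 2, 1] (gs Tw.b) [2047, 16, 10, 6, 2, 1] :=
  nor_s c423 (al (ext_s c424 (nor_s c425 (al (ext_s c426 n196) (al (ext_s c428 n197) (al (ext_s c430 n198) (al (ext_s c432 n199) (al (ext_s c434 n200) (al (ext_s c436 n201) (al (ext_s c438 n202) (al (ext_s c440 n203) an0)))))))))) (al (ext_s c442 (nor_s c443 (al (ext_s c444 n204) (al (ext_s c446 n205) (al (ext_s c448 n214) (al (ext_s c458 n215) (al (ext_s c460 n216) (al (ext_s c462 n217) (al (ext_s c464 n218) (al (ext_s c466 n219) an0)))))))))) an0))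
theorem wl : ∀ d ∈ La, ∀ e ∈ Lt, Dd G nb Tw.b (gs Tw.b) d (gs Tw.b) e :=
  (al (al (kil_s c0) (al (kil_s c1) (al (kil_s c2) (al (kil_s c3) (al (kil_s c4) (al (kil_s c5) an0)))))) (al (al (kil_s c6) (al (kil_s c7) (al (kil_s c8) (al (kil_s c9) (al (kil_s c10) (al (kil_s c11) an0)))))) (al (al (kil_s c12) (al (kil_s c13) (al (kil_s c14) (al (kil_s c15) (al (kil_s c16) (al (kil_s c17) an0)))))) (al (al (kil_s c18) (al (kil_s c19) (al (kil_s c20) (al (kil_s c21) (al (kil_s c22) (al (kil_s c23) an0)))))) (al (al (kil_s c24) (al (kil_s c25) (al (kil_s c26) (al (kil_s c27) (al (kil_s c28) (al (kil_s c29) an0)))))) (al (al (kil_s c30) (al (kil_s c31) (al (kil_s c32) (al (kil_s c33) (al (kil_s c34) (al (kil_s c35) an0)))))) an0))))))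
theorem cI : ∀ d ∈ Lb, Dd G nI Tw.b (gs Tw.b) d [] [2047] :=
  (al (nor_s c36 (al (ext_s c37 n28) (al (ext_s c84 n29) an0))) (al (nor_s c86 (al (ext_s c87 n58) (al (ext_s c134 n59) an0))) (al (kil_s c136) (al (kil_s c137) (al (kil_s c138) (al (kil_s c139) (al (kil_s c140) (al (kil_s c141) an0))))))))
theorem cIII : ∀ d ∈ Lb, ∀ e ∈ Lt, Dd G nac Tw.b (gs Tw.b) d (gs Tw.b) e :=
  (al (al n76 (al n113 (al (kil_s c239) (al (mul_s c240 (al n76 an0)) (al (mul_s c241 (al n113 an0)) (al (kil_s c242) an0)))))) (al (al (kil_s c243) (al (kil_s c244) (al (kil_s c245) (al (kil_s c246) (al (kil_s c247) (al (kil_s c248) an0)))))) (al (al (kil_s c249) (al (kil_s c250) (al n154 (al (kil_s c329) (al (mul_s c330 (al n154 an0)) (al (kil_s c331) an0)))))) (al (al (kil_s c332) (al (kil_s c333) (al (kil_s c334) (al (kil_s c335) (al (kil_s c336) (al (kil_s c337) an0)))))) (al (al (kil_s c338) (al n195 (al (kil_s c417) (al (kil_s c418)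 (al (kil_s c419) (al (mul_s c420 (al n195 an0)) an0)))))) (al (al (kil_s c421) (al (kil_s c422) (al n220 (al (kil_s c468) (al (kil_s c469) (al (mul_s c470 (al n220 an0)) an0)))))) (al (al (kil_s c471) (al (kil_s c472) (al (kil_s c473) (al (kil_s c474) (al (kil_s c475) (al (kil_s c476) an0)))))) (al (al (kil_s c477) (al (kil_s c478) (al (kil_s c479) (al (kil_s c480) (al (kil_s c481) (al (kil_s c482) an0)))))) an0))))))))

end H24.SS
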