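import Cfsg.Agent.H10.X4

/-! Generated: a model of `2².PGL₃(4)` on 336 points and order bounds. -/

set_option maxRecDepth 100000
set_option maxHeartbeats 4000000
set_option linter.unusedVariables false

open Subgroup
open scoped commutatorElement
namespace H24.SP
open H0 H0.PM H16 H19 H10.X

def IV {G : Type*} [Group G] (x y : G) : Prop :=
  x * x = 1 ∧
  y * y = 1 ∧
  x * y = y * x ∧ True
def CM {G : Type*} [Group G] (x y z w : G) : Prop :=
  x * z = z * x ∧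
  x * w = w * x ∧
  y * z = z * y ∧
  y * w = w * y ∧ True
def CJ {G : Type*} [Group G] (a1 a2 b1 b2 c1 c2 d1 d2 : G) : Prop :=
  a1 * b1 * a1⁻¹ = b1 * c1 * d1 ∧
  a1 * b2 * a1⁻¹ = b2 * c2 * d2 ∧
  a1 * (b1 * b2) * a1⁻¹ = b1 * b2 * (c1 * c2) * (d1 * d2) ∧
  a2 * b1 * a2⁻¹ = b1 * c2 * (d1 * d2) ∧
  a2 * b2 * a2⁻¹ = b2 * (c1 * c2) * d1 ∧
  a2 * (b1 * b2) * a2⁻¹ = b1 * b2 * c1 * d2 ∧
  a1 * a2 * b1 * (a1 * a2)⁻¹ = b1 * (c1 * c2) * d2 ∧
  a1 * a2 * b2 * (a1 * a2)⁻¹ = b2 * c1 * (d1 * d2) ∧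
  a1 * a2 * (b1 * b2) * (a1 * a2)⁻¹ = b1 * b2 * c2 * d1 ∧ True
def SW {G : Type*} [Group G] (y b1 b2 c1 c2 d1 d2 : G) : Prop :=
  y * y = 1 ∧
  y * b1 * y⁻¹ = c1 ∧
  y * b2 * y⁻¹ = c2 ∧
  y * c1 * y⁻¹ = b1 ∧
  y * c2 * y⁻¹ = b2 ∧
  y * d1 * y⁻¹ = d1 ∧
  y * d2 * y⁻¹ = d2 ∧ True
def RL {G : Type*} [Group G] (a1 a2 b1 b2 y x : G) : Prop :=
  (a1 * y) ^ 3 = 1 ∧
  (a2 * y) ^ 5 = 1 ∧
  (a1 * a2 * y) ^ 5 = 1 ∧
  (b1 * x) ^ 3 = 1 ∧
  (b2 * x) ^ 5 = 1 ∧
  (b1 * b2 * x) ^ 5 = 1 ∧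
  (y * x) ^ 3 = 1 ∧
  a2 * y * a1 * a2 * y * a2 * y * b1 * b2 * x * b2 * x * b1 * b2 * x = 1 ∧ True
def OM {G : Type*} [Group G] (k x y : G) : Prop :=
  k * x * k⁻¹ = y ∧
  k * y * k⁻¹ = x * y ∧ True
def KK {G : Type*} [Group G] (k a1 a2 b1 b2 y x : G) : Prop :=
  k ^ 3 = 1 ∧
  k * a1 * k⁻¹ = a1 ∧
  k * a2 * k⁻¹ = a2 ∧
  k * y * k⁻¹ = y ∧
  k * x * k⁻¹ = b2 * x * b1 * b2 * x * b2 ∧ True
def Q2 {G : Type*} [Group G] (a b c d y x : G) : Prop :=
  a * a = 1 ∧
  b * b = 1 ∧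
  c * c = 1 ∧
  d * d = 1 ∧
  y * y = 1 ∧
  x * x = 1 ∧
  a * c = c * a ∧
  a * d = d * a ∧
  b * c = c * b ∧
  b * d = d * b ∧
  c * d = d * c ∧
  a * b * a⁻¹ = b * c * d ∧
  y * b * y⁻¹ = c ∧
  y * d * y⁻¹ = d ∧
  x * a * x⁻¹ = c ∧
  x * d * x⁻¹ = d ∧
  (a * y) ^ 3 = 1 ∧
  (b * x) ^ 3 = 1 ∧
  (y * x) ^ 3 = 1 ∧ True
noncomputable def m4_r_R : List (List ℕ) := [[0,0],
  [1,1],
  [2,2],
  [3,3],
  [4,4],
  [5,5],
  [6,6],
  [7,7],
  [8,8],
  [9,9],
  [7,6,7,6],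
  [5,4,5,4],
  [3,2,3,2],
  [1,0,1,0],
  [2,6,2,6],
  [3,6,3,6],
  [2,7,2,7],
  [3,7,3,7],
  [0,6,0,6],
  [1,6,1,6],
  [0,7,0,7],
  [1,7,1,7],
  [2,4,2,4],
  [3,4,3,4],
  [2,5,2,5],
  [3,5,3,5],
  [0,4,0,4],
  [1,4,1,4],
  [0,5,0,5],
  [1,5,1,5],
  [0,2,0,2],
  [1,2,1,2],
  [0,3,0,3],
  [1,3,1,3],
  [4,2,0,6,4,6],
  [5,3,1,6,5,6],
  [4,5,2,3,0,1,6,5,4,6],
  [4,3,0,1,7,4,7],
  [5,2,3,0,7,5,7],
  [4,5,2,1,7,5,4,7],
  [4,2,3,1,6,7,4,7,6],
  [5,2,0,1,6,7,5,7,6],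
  [4,5,3,0,6,7,5,4,7,6],
  [2,8,4,8],
  [3,8,5,8],
  [4,8,2,8],
  [5,8,3,8],
  [0,8,0,8],
  [1,8,1,8],
  [2,9,6,9],
  [3,9,7,9],
  [6,9,2,9],
  [7,9,3,9],
  [0,9,0,9],
  [1,9,1,9],
  [8,6,8,6,8,6],
  [8,7,8,7,8,7,8,7,8,7],
  [8,7,6,8,7,6,8,7,6,8,7,6,8,7,6],
  [9,4,9,4,9,4],
  [9,5,9,5,9,5,9,5,9,5],
  [9,5,4,9,5,4,9,5,4,9,5,4,9,5,4],
  [9,8,9,8,9,8],
  [9,5,4,9,5,9,5,4,8,7,8,7,6,8,7]]
theorem m4_r {G : Type*} [Group G] {d1 d2 c1 c2 b1 b2 a1 a2 y x : G}
    (ia : IV a1 a2)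
    (ib : IV b1 b2)
    (ic : IV c1 c2)
    (id : IV d1 d2)
    (ac : CM a1 a2 c1 c2)
    (ad : CM a1 a2 d1 d2)
    (bc : CM b1 b2 c1 c2)
    (bd : CM b1 b2 d1 d2)
    (cd : CM c1 c2 d1 d2)
    (cj : CJ a1 a2 b1 b2 c1 c2 d1 d2)
    (sy : SW y b1 b2 c1 c2 d1 d2)
    (sx : SW x a1 a2 c1 c2 d1 d2)
    (rl : RL a1 a2 b1 b2 y x) :
    Rels (nthG [d1, d2, c1, c2, b1, b2, a1, a2, y, x]) m4_r_R :=
  rels_of_eqs ((InvI.cons id.1 (InvI.cons id.2.1 (InvI.cons ic.1 (InvI.cons ic.2.1 (InvI.cons ib.1 (InvI.cons ib.2.1 (InvI.cons ia.1 (InvI.cons ia.2.1 (InvI.cons sy.1 (InvI.cons sx.1 InvI.nil)))))))))) : InvI [d1, d2, c1, c2, b1, b2, a1, a2, y, x] [(nat_lit 0), (nat_lit 1), (nat_lit 2), (nat_lit 3), (nat_lit 4), (nat_lit 5), (nat_lit 6), (nat_lit 7), (nat_lit 8), (nat_lit 9)])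
    (AllEq.append (show AllEq [d1, d2, c1, c2, b1, b2, a1, a2, y, x] [((.mul (.v (nat_lit 6)) (.v (nat_lit 6))), .one), ((.mul (.v (nat_lit 7)) (.v (nat_lit 7))), .one), ((.mul (.v (nat_lit 6)) (.v (nat_lit 7))), (.mul (.v (nat_lit 7)) (.v (nat_lit 6))))] from ia)
    (AllEq.append (show AllEq [d1, d2, c1, c2, b1, b2, a1, a2, y, x] [((.mul (.v (nat_lit 4)) (.v (nat_lit 4))), .one), ((.mul (.v (nat_lit 5)) (.v (nat_lit 5))), .one), ((.mul (.v (nat_lit 4)) (.v (nat_lit 5))), (.mul (.v (nat_lit 5)) (.v (nat_lit 4))))] from ib)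
    (AllEq.append (show AllEq [d1, d2, c1, c2, b1, b2, a1, a2, y, x] [((.mul (.v (nat_lit 2)) (.v (nat_lit 2))), .one), ((.mul (.v (nat_lit 3)) (.v (nat_lit 3))), .one), ((.mul (.v (nat_lit 2)) (.v (nat_lit 3))), (.mul (.v (nat_lit 3)) (.v (nat_lit 2))))] from ic)
    (AllEq.append (show AllEq [d1, d2, c1, c2, b1, b2, a1, a2, y, x] [((.mul (.v (nat_lit 0)) (.v (nat_lit 0))), .one), ((.mul (.v (nat_lit 1)) (.v (nat_lit 1))), .one), ((.mul (.v (nat_lit 0)) (.v (nat_lit 1))), (.mul (.v (nat_lit 1)) (.v (nat_lit 0))))] from id)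
    (AllEq.append (show AllEq [d1, d2, c1, c2, b1, b2, a1, a2, y, x] [((.mul (.v (nat_lit 6)) (.v (nat_lit 2))), (.mul (.v (nat_lit 2)) (.v (nat_lit 6)))), ((.mul (.v (nat_lit 6)) (.v (nat_lit 3))), (.mul (.v (nat_lit 3)) (.v (nat_lit 6)))), ((.mul (.v (nat_lit 7)) (.v (nat_lit 2))), (.mul (.v (nat_lit 2)) (.v (nat_lit 7)))), ((.mul (.v (nat_lit 7)) (.v (nat_lit 3))), (.mul (.v (nat_lit 3)) (.v (nat_lit 7))))] from ac)
    (AllEq.append (show AllEq [d1, d2, c1, c2, b1, b2, a1, a2, y, x] [((.mul (.v (nat_lit 6)) (.v (nat_lit 0))), (.mul (.v (nat_lit 0)) (.v (nat_lit 6)))), ((.mul (.v (nat_lit 6)) (.v (nat_lit 1))), (.mul (.v (nat_lit 1)) (.v (nat_lit 6)))), ((.mul (.v (nat_lit 7)) (.v (nat_lit 0))), (.mul (.v (nat_lit 0)) (.v (nat_lit 7)))), ((.mul (.v (nat_lit 7)) (.v (nat_lit 1))), (.mul (.v (nat_lit 1)) (.v (nat_lit 7))))] from ad)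
    (AllEq.append (show AllEq [d1, d2, c1, c2, b1, b2, a1, a2, y, x] [((.mul (.v (nat_lit 4)) (.v (nat_lit 2))), (.mul (.v (nat_lit 2)) (.v (nat_lit 4)))), ((.mul (.v (nat_lit 4)) (.v (nat_lit 3))), (.mul (.v (nat_lit 3)) (.v (nat_lit 4)))), ((.mul (.v (nat_lit 5)) (.v (nat_lit 2))), (.mul (.v (nat_lit 2)) (.v (nat_lit 5)))), ((.mul (.v (nat_lit 5)) (.v (nat_lit 3))), (.mul (.v (nat_lit 3)) (.v (nat_lit 5))))] from bc)
    (AllEq.append (show AllEq [d1, d2, c1, c2, b1, b2, a1, a2, y, x] [((.mul (.v (nat_lit 4)) (.v (nat_lit 0))), (.mul (.v (nat_lit 0)) (.v (nat_lit 4)))), ((.mul (.v (nat_lit 4)) (.v (nat_lit 1))), (.mul (.v (nat_lit 1)) (.v (nat_lit 4)))), ((.mul (.v (nat_lit 5)) (.v (nat_lit 0))), (.mul (.v (nat_lit 0)) (.v (nat_lit 5)))), ((.mul (.v (nat_lit 5)) (.v (nat_lit 1))), (.mul (.v (nat_lit 1)) (.v (nat_lit 5))))] from bd)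
    (AllEq.append (show AllEq [d1, d2, c1, c2, b1, b2, a1, a2, y, x] [((.mul (.v (nat_lit 2)) (.v (nat_lit 0))), (.mul (.v (nat_lit 0)) (.v (nat_lit 2)))), ((.mul (.v (nat_lit 2)) (.v (nat_lit 1))), (.mul (.v (nat_lit 1)) (.v (nat_lit 2)))), ((.mul (.v (nat_lit 3)) (.v (nat_lit 0))), (.mul (.v (nat_lit 0)) (.v (nat_lit 3)))), ((.mul (.v (nat_lit 3)) (.v (nat_lit 1))), (.mul (.v (nat_lit 1)) (.v (nat_lit 3))))] from cd)
    (AllEq.append (show AllEq [d1, d2, c1, c2, b1, b2, a1, a2, y, x] [((.mul (.mul (.v (nat_lit 6)) (.v (nat_lit 4))) (.inv (.v (nat_lit 6)))), (.mul (.mul (.v (nat_lit 4)) (.v (nat_lit 2))) (.v (nat_lit 0)))), ((.mul (.mul (.v (nat_lit 6)) (.v (nat_lit 5))) (.inv (.v (nat_lit 6)))), (.mul (.mul (.v (nat_lit 5)) (.v (nat_lit 3))) (.v (nat_lit 1)))), ((.mul (.mul (.v (nat_lit 6)) (.mul (.v (nat_lit 4)) (.v (nat_lit 5)))) (.inv (.v (nat_lit 6)))), (.mul (.mul (.mul (.v (nat_lit 4)) (.v (nat_lit 5)))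 (.mul (.v (nat_lit 2)) (.v (nat_lit 3)))) (.mul (.v (nat_lit 0)) (.v (nat_lit 1))))), ((.mul (.mul (.v (nat_lit 7)) (.v (nat_lit 4))) (.inv (.v (nat_lit 7)))), (.mul (.mul (.v (nat_lit 4)) (.v (nat_lit 3))) (.mul (.v (nat_lit 0)) (.v (nat_lit 1))))), ((.mul (.mul (.v (nat_lit 7)) (.v (nat_lit 5))) (.inv (.v (nat_lit 7)))), (.mul (.mul (.v (nat_lit 5)) (.mul (.v (nat_lit 2)) (.v (nat_lit 3)))) (.v (nat_lit 0)))), ((.mul (.mul (.v (nat_lit 7)) (.mul (.v (nat_lit 4)) (.v (nat_lit 5)))) (.inv (.v (nat_lit 7)))), (.mul (.mul (.mul (.v (nat_lit 4)) (.v (nat_lit 5))) (.v (nat_lit 2))) (.v (nat_lit 1)))), ((.mul (.mul (.mul (.v (nat_lit 6)) (.v (nat_lit 7))) (.v (nat_lit 4))) (.inv (.mul (.v (nat_lit 6)) (.v (nat_lit 7))))), (.mul (.mul (.v (nat_lit 4)) (.mul (.v (nat_lit 2)) (.v (nat_lit 3)))) (.v (nat_lit 1)))), ((.mul (.mul (.mul (.v (nat_lit 6)) (.v (nat_lit 7))) (.v (nat_lit 5))) (.inv (.mul (.v (nat_lit 6)) (.v (nat_lit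 7))))), (.mul (.mul (.v (nat_lit 5)) (.v (nat_lit 2))) (.mul (.v (nat_lit 0)) (.v (nat_lit 1))))), ((.mul (.mul (.mul (.v (nat_lit 6)) (.v (nat_lit 7))) (.mul (.v (nat_lit 4)) (.v (nat_lit 5)))) (.inv (.mul (.v (nat_lit 6)) (.v (nat_lit 7))))), (.mul (.mul (.mul (.v (nat_lit 4)) (.v (nat_lit 5))) (.v (nat_lit 3))) (.v (nat_lit 0))))] from cj)
    (AllEq.append (show AllEq [d1, d2, c1, c2, b1, b2, a1, a2, y, x] [((.mul (.v (nat_lit 8)) (.v (nat_lit 8))), .one), ((.mul (.mul (.v (nat_lit 8)) (.v (nat_lit 4))) (.inv (.v (nat_lit 8)))), (.v (nat_lit 2))), ((.mul (.mul (.v (nat_lit 8)) (.v (nat_lit 5))) (.inv (.v (nat_lit 8)))), (.v (nat_lit 3))), ((.mul (.mul (.v (nat_lit 8)) (.v (nat_lit 2))) (.inv (.v (nat_lit 8)))), (.v (nat_lit 4))), ((.mul (.mul (.v (nat_lit 8)) (.v (nat_lit 3))) (.inv (.v (nat_lit 8)))), (.v (nat_lit 5))), ((.mul (.mul (.v (nat_lit 8)) (.v (nat_lit 0))) (.inv (.v (nat_lit 8)))), (.v (nat_lit 0))),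 ((.mul (.mul (.v (nat_lit 8)) (.v (nat_lit 1))) (.inv (.v (nat_lit 8)))), (.v (nat_lit 1)))] from sy)
    (AllEq.append (show AllEq [d1, d2, c1, c2, b1, b2, a1, a2, y, x] [((.mul (.v (nat_lit 9)) (.v (nat_lit 9))), .one), ((.mul (.mul (.v (nat_lit 9)) (.v (nat_lit 6))) (.inv (.v (nat_lit 9)))), (.v (nat_lit 2))), ((.mul (.mul (.v (nat_lit 9)) (.v (nat_lit 7))) (.inv (.v (nat_lit 9)))), (.v (nat_lit 3))), ((.mul (.mul (.v (nat_lit 9)) (.v (nat_lit 2))) (.inv (.v (nat_lit 9)))), (.v (nat_lit 6))), ((.mul (.mul (.v (nat_lit 9)) (.v (nat_lit 3))) (.inv (.v (nat_lit 9)))), (.v (nat_lit 7))), ((.mul (.mul (.v (nat_lit 9)) (.v (nat_lit 0))) (.inv (.v (nat_lit 9)))), (.v (nat_lit 0))), ((.mul (.mul (.v (nat_lit 9)) (.v (nat_lit 1))) (.inv (.v (nat_lit 9)))), (.v (nat_lit 1)))] from sx)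
    (show AllEq [d1, d2, c1, c2, b1, b2, a1, a2, y, x] [((.pw (.mul (.v (nat_lit 6)) (.v (nat_lit 8))) (nat_lit 3)), .one), ((.pw (.mul (.v (nat_lit 7)) (.v (nat_lit 8))) (nat_lit 5)), .one), ((.pw (.mul (.mul (.v (nat_lit 6)) (.v (nat_lit 7))) (.v (nat_lit 8))) (nat_lit 5)), .one), ((.pw (.mul (.v (nat_lit 4)) (.v (nat_lit 9))) (nat_lit 3)), .one), ((.pw (.mul (.v (nat_lit 5)) (.v (nat_lit 9))) (nat_lit 5)), .one), ((.pw (.mul (.mul (.v (nat_lit 4)) (.v (nat_lit 5))) (.v (nat_lit 9))) (nat_lit 5)), .one), ((.pw (.mul (.v (nat_lit 8)) (.v (nat_lit 9))) (nat_lit 3)), .one), ((.mul (.mul (.mul (.mul (.mul (.mul (.mul (.mul (.mul (.mul (.mul (.mul (.mul (.mul (.v (nat_lit 7)) (.v (nat_lit 8))) (.v (nat_lit 6))) (.v (nat_lit 7))) (.v (nat_lit 8))) (.v (nat_lit 7))) (.v (nat_lit 8))) (.v (nat_lit 4))) (.v (nat_lit 5))) (.v (nat_lit 9))) (.v (nat_lit 5))) (.v (nat_lit 9))) (.v (nat_lit 4))) (.v (nat_lit 5))) (.v (nat_lit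 9))), .one)] from rl)))))))))))))
    [(.v (nat_lit 0)), (.v (nat_lit 1)), (.v (nat_lit 2)), (.v (nat_lit 3)), (.v (nat_lit 4)), (.v (nat_lit 5)), (.v (nat_lit 6)), (.v (nat_lit 7)), (.v (nat_lit 8)), (.v (nat_lit 9))] (by decide +kernel)
noncomputable def m4_b2_S0 : List ℕ := [nat_lit 0xf00000700000c004004]
noncomputable def m4_b2_S : List (List ℕ) := [m4_b2_S0]
noncomputable def m4_b2_defs : List ℕ := [(nat_lit 0x100001001000000000000000000000)]
noncomputable def m4_b2_recs : List ℕ := [(nat_lit 0x200003)]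
noncomputable def m4_b2_L0 : List ℕ := [nat_lit 0x700000100000b000002, nat_lit 0x800000000000f000003, nat_lit 0x200000300000c000000, nat_lit 0x1000002000010000001]
noncomputable def m4_b2_L : List (List ℕ) := [m4_b2_L0]
noncomputable def m4_b2_V : List ℕ := [(nat_lit 0x3000000020000000100000000)]
noncomputable def m4_b2_D : H26.Dag := ⟨[], [[0,0],
  [1,1],
  [1,0,1,0]], [], m4_b2_defs, m4_b2_recs⟩
theorem m4_b2_c : m4_b2_D.checkTab m4_b2_S 4 2 m4_b2_V m4_b2_L = true := by decide +kernel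
theorem m4_b2 : Bound m4_r_R 2 4 :=
  bound_dag (Bound.zero m4_r_R) (K := 2) (J := [0,1,13]) (by decide +kernel) m4_b2_c (by decide +kernel)
noncomputable def m4_b4_S0 : List ℕ := [nat_lit 0x1, nat_lit 0x1, nat_lit 0x700000100000800800a, nat_lit 0x700000500000800800c, nat_lit 0xb00000100000c00800e, nat_lit 0xb00000500000c008010, nat_lit 0xf00000700000c004008, nat_lit 0xf00000900001000800e, nat_lit 0xf00000d000010008010]
noncomputable def m4_b4_S : List (List ℕ) := [m4_b4_S0]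
noncomputable def m4_b4_defs : List ℕ := [(nat_lit 0x300001003000000020000000000000)]
noncomputable def m4_b4_recs : List ℕ := [(nat_lit 0x10000300003000000300003020000200003010000200002000000200002010000100001000000100001010000000000000000000000)]
noncomputable def m4_b4_L0 : List ℕ := [nat_lit 0x100000000000500000000000700000100000b000002, nat_lit 0x900000100000d00000100000800000000000f000003, nat_lit 0x1100000200001500000200001a00000300000c000000, nat_lit 0x1d000003000021000003000019000002000010000001]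
noncomputable def m4_b4_L : List (List ℕ) := [m4_b4_L0]
noncomputable def m4_b4_V : List ℕ := [(nat_lit 0x3000000020000000100000000)]
noncomputable def m4_b4_D : H26.Dag := ⟨[], [[0,0],
  [1,1],
  [2,2],
  [3,3],
  [3,2,3,2],
  [0,2,0,2],
  [1,2,1,2],
  [0,3,0,3],
  [1,3,1,3]], [0,1], m4_b4_defs, m4_b4_recs⟩
theorem m4_b4_c : m4_b4_D.checkTab m4_b4_S 4 4 m4_b4_V m4_b4_L = true := by decide +kernel
theorem m4_b4 : Bound m4_r_R 4 16 :=
  bound_dag m4_b2 (K := 4) (J := [0,1,2,3,12,30,31,32,33]) (by decide +kernel) m4_b4_c (by decide +kernel)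
noncomputable def m4_b6_S0 : List ℕ := [nat_lit 0x1, nat_lit 0x1, nat_lit 0x1, nat_lit 0x1, nat_lit 0x700000900000800800e, nat_lit 0x700000d000008008010, nat_lit 0x7000001000008008016, nat_lit 0x7000005000008008018, nat_lit 0xb00000900000c008012, nat_lit 0xb00000d00000c008014, nat_lit 0xb00000100000c00801a, nat_lit 0xb00000500000c00801c, nat_lit 0xf00000700000c00400c, nat_lit 0xf000011000010008012, nat_lit 0xf000015000010008014, nat_lit 0xf00001900001000801a, nat_lit 0xf00001d00001000801c]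
noncomputable def m4_b6_S : List (List ℕ) := [m4_b6_S0]
noncomputable def m4_b6_defs : List ℕ := [(nat_lit 0x500001005000000040000000000000)]
noncomputable def m4_b6_recs : List ℕ := [(nat_lit 0x10000300003000000300003030000300003020000300003040000200003010000200002000000200002030000200002020000200002010000100001000000100001030000100001020000100001030000000000020000000000010000000000000000000000)]
noncomputable def m4_b6_L0 : List ℕ := [nat_lit 0x100000000000500000000000900000000000d00000000000700000100000b000002, nat_lit 0x1900000100001d00000100001100000100001500000100000800000000000f000003, nat_lit 0x2900000200002d00000200002100000200002500000200003200000300000c000000, nat_lit 0x3d000003000041000003000035000003000039000003000031000002000010000001]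
noncomputable def m4_b6_L : List (List ℕ) := [m4_b6_L0]
noncomputable def m4_b6_V : List ℕ := [(nat_lit 0x3000000020000000100000000)]
noncomputable def m4_b6_D : H26.Dag := ⟨[], [[0,0],
  [1,1],
  [2,2],
  [3,3],
  [4,4],
  [5,5],
  [5,4,5,4],
  [2,4,2,4],
  [3,4,3,4],
  [2,5,2,5],
  [3,5,3,5],
  [0,4,0,4],
  [1,4,1,4],
  [0,5,0,5],
  [1,5,1,5]], [0,1,2,3], m4_b6_defs, m4_b6_recs⟩
theorem m4_b6_c : m4_b6_D.checkTab m4_b6_S 4 6 m4_b6_V m4_b6_L = true := by decide +kernel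
theorem m4_b6 : Bound m4_r_R 6 64 :=
  bound_dag m4_b4 (K := 6) (J := [0,1,2,3,4,5,11,22,23,24,25,26,27,28,29]) (by decide +kernel) m4_b6_c (by decide +kernel)
noncomputable def m4_b8_S0 : List ℕ := [nat_lit 0x1, nat_lit 0x1, nat_lit 0x1, nat_lit 0x1, nat_lit 0x1, nat_lit 0x1, nat_lit 0x7000009000008008012, nat_lit 0x700000d000008008014, nat_lit 0x700000100000800801a, nat_lit 0x700000500000800801c, nat_lit 0x7000001000009000011000008010022, nat_lit 0x700000500000d000015000008010024, nat_lit 0xb00000900000c008016, nat_lit 0xb00000d00000c008018, nat_lit 0xb00000100000c00801e, nat_lit 0xb00000500000c008020, nat_lit 0xb00000500000100000d00001100000c014026, nat_lit 0xb00000100000d00000900001500000c014028, nat_lit 0xf00000700000c004010, nat_lit 0xf000019000010008016, nat_lit 0xf00001d000010008018, nat_lit 0xf00002100001000801e, nat_lit 0xf000025000010008020, nat_lit 0xf00002500002100001d000029000010014026, nat_lit 0xf00002100001d00001900002d000010014028]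
noncomputable def m4_b8_S : List (List ℕ) := [m4_b8_S0]
noncomputable def m4_b8_defs : List ℕ := [(nat_lit 0x700001007000000060000000000000)]
noncomputable def m4_b8_recs : List ℕ := [(nat_lit 0x50000300003040000300003010000300003000000300003030000300003020000300003060000200003050000200002040000200002010000200002000000200002030000200002020000200002050000100001040000100001010000100001000000100001030000100001020000100001050000000000040000000000030000000000020000000000010000000000000000000000)]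
noncomputable def m4_b8_L0 : List ℕ := [nat_lit 0x100000000000500000000000900000000000d00000000001100000000001500000000000700000100000b000002, nat_lit 0x2100000100002500000100001900000100001d00000100002900000100002d00000100000800000000000f000003, nat_lit 0x3900000200003d00000200003100000200003500000200004100000200004500000200004a00000300000c000000, nat_lit 0x5500000300005900000300004d00000300005100000300005d000003000061000003000049000002000010000001]
noncomputable def m4_b8_L : List (List ℕ) := [m4_b8_L0]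
noncomputable def m4_b8_V : List ℕ := [(nat_lit 0x3000000020000000100000000)]
noncomputable def m4_b8_D : H26.Dag := ⟨[], [[0,0],
  [1,1],
  [2,2],
  [3,3],
  [4,4],
  [5,5],
  [6,6],
  [7,7],
  [7,6,7,6],
  [2,6,2,6],
  [3,6,3,6],
  [2,7,2,7],
  [3,7,3,7],
  [0,6,0,6],
  [1,6,1,6],
  [0,7,0,7],
  [1,7,1,7],
  [4,2,0,6,4,6],
  [5,3,1,6,5,6],
  [4,3,0,1,7,4,7],
  [5,2,3,0,7,5,7]], [0,1,2,3,4,5], m4_b8_defs, m4_b8_recs⟩
theorem m4_b8_c : m4_b8_D.checkTab m4_b8_S 4 8 m4_b8_V m4_b8_L = true := by decide +kernel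
theorem m4_b8 : Bound m4_r_R 8 256 :=
  bound_dag m4_b6 (K := 8) (J := [0,1,2,3,4,5,6,7,10,14,15,16,17,18,19,20,21,34,35,37,38]) (by decide +kernel) m4_b8_c (by decide +kernel)
noncomputable def m4_b9_S0 : List ℕ := [nat_lit 0x1, nat_lit 0x1, nat_lit 0x1, nat_lit 0x1, nat_lit 0x1, nat_lit 0x1, nat_lit 0x1, nat_lit 0x1, nat_lit 0x700000900000800802c, nat_lit 0x700001100000800002c, nat_lit 0x700000d00000800802e, nat_lit 0x700001500000800002e, nat_lit 0x7000001000008008030, nat_lit 0x7000005000008008032, nat_lit 0xb00002500000c008014, nat_lit 0xb00002d00000c008016, nat_lit 0xb00003100000c00801c, nat_lit 0xb00003500000c00801e, nat_lit 0xb00003100002500002100000c010024, nat_lit 0xb00003500002d00002900000c010026, nat_lit 0xb00000700001900000800000c008034, nat_lit 0xf000025000010008018, nat_lit 0xf00002d00001000801a, nat_lit 0xf000031000010008020, nat_lit 0xf000035000010008022, nat_lit 0xf00003500003100002d000021000010014028,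 nat_lit 0xf00003100002d00002500002900001001402a, nat_lit 0x1300000b000010004012, nat_lit 0x13000039000014008018, nat_lit 0x1300003d00001400801a, nat_lit 0x13000041000014008020, nat_lit 0x13000045000014008022, nat_lit 0x1300004500004100003d000049000014014028, nat_lit 0x1300004100003d00003900004d00001401402a, nat_lit 0x1700005500001800802c, nat_lit 0x1700006500001800002c, nat_lit 0x1700005900001800802e, nat_lit 0x1700006900001800002e, nat_lit 0x1700005d000018008030, nat_lit 0x17000061000018008032, nat_lit 0x1b00007100001c00802c, nat_lit 0x1b00008100001c00002c, nat_lit 0x1b00007500001c00802e, nat_lit 0x1b00008500001c00002e, nat_lit 0x1b00007900001c008030, nat_lit 0x1b00007d00001c008032, nat_lit 0x1f00008d000020008014, nat_lit 0x1f000095000020008016, nat_lit 0x1f00009900002000801c, nat_lit 0x1f00009d00002000801e, nat_lit 0x1f00009900008d000089000020010024, nat_lit 0x1f00009d000095000091000020010026, nat_lit 0x2300008d000024008018,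 nat_lit 0x2300009500002400801a, nat_lit 0x23000099000024008020, nat_lit 0x2300009d000024008022, nat_lit 0x2300009d000099000095000089000024014028, nat_lit 0x2300009900009500008d00009100002401402a, nat_lit 0x2300001700000f00000700001d000008000010000018000024008036, nat_lit 0x270000a5000028008014, nat_lit 0x270000ad000028008016, nat_lit 0x270000b100002800801c, nat_lit 0x270000b500002800801e, nat_lit 0x270000b10000a50000a1000028010024]
noncomputable def m4_b9_S1 : List ℕ := [nat_lit 0x270000b50000ad0000a9000028010026, nat_lit 0x2700001b00006e000018000020008034, nat_lit 0x2b0000a500002c008018, nat_lit 0x2b0000ad00002c00801a, nat_lit 0x2b0000b100002c008020, nat_lit 0x2b0000b500002c008022, nat_lit 0x2b0000b50000b10000ad0000a100002c014028, nat_lit 0x2b0000b10000ad0000a50000a900002c01402a, nat_lit 0x2f00001f000024004012, nat_lit 0x2f0000b9000030008018, nat_lit 0x2f0000bd00003000801a, nat_lit 0x2f0000c1000030008020, nat_lit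 0x2f0000c5000030008022, nat_lit 0x2f0000c50000c10000bd0000c9000030014028, nat_lit 0x2f0000c10000bd0000b90000cd00003001402a, nat_lit 0x3300002700002c004012, nat_lit 0x330000ed000034008018, nat_lit 0x330000f100003400801a, nat_lit 0x330000f5000034008020, nat_lit 0x330000f9000034008022, nat_lit 0x330000f90000f50000f10000fd000034014028, nat_lit 0x330000f50000f10000ed00010100003401402a, nat_lit 0x3300002700001b00001300000b00000700001d00001900000800001000006d00001c00002c00013d00a038, nat_lit 0x3700010900003800802c, nat_lit 0x3700011900003800002c, nat_lit 0x3700010d00003800802e, nat_lit 0x3700011d00003800002e, nat_lit 0x37000111000038008030, nat_lit 0x37000115000038008032, nat_lit 0x3700013d00015900013e000038004034, nat_lit 0x3700002b00001b00001300005100001400001c00002c000038004036, nat_lit 0x3b00012500003c00802c, nat_lit 0x3b00013500003c00002c, nat_lit 0x3b00012900003c00802e, nat_lit 0x3b00013900003c00002e, nat_lit 0x3b00012d00003c008030,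 nat_lit 0x3b00013100003c008032, nat_lit 0x3b0001220000e900012100003c004034, nat_lit 0x3b00002f00010500003400015900003300010600003000003c004036]
noncomputable def m4_b9_S : List (List ℕ) := [m4_b9_S0, m4_b9_S1]
noncomputable def m4_b9_defs : List ℕ := [(nat_lit 0x80000b0080000a00700009007000070070000600600006007000050060000500800004008000030070000200700001006000010080000000000000)]
noncomputable def m4_b9_recs : List ℕ := [(nat_lit 0x40000900009010000900009000000900009030000900009020000900009080000800008050000800008040000800008010000800008000000800008030000800008020000800008050000700007040000700007010000700007000000700007030000700007020000700007010000600006000000600006030000600006050000600006020000600006040000600006010000500005000000500005030000500005050000500005020000500005040000500005050000400004040000400004010000400004000000400004030000400004020000400004060000300004050000300003040000300003010000300003000000300003030000300003020000300003080000200002050000200002040000200002010000200002000000200002030000200002020000200002010000100001000000100001030000100001050000100001020000100001040000100001070000000000060000000000050000000000040000000000030000000000020000000000010000000000000000000000),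
  (nat_lit 0x70000e0000e060000e0000e010000e0000e000000e0000e030000e0000e050000e0000e020000e0000e040000e0000e070000d0000d060000d0000d010000d0000d000000d0000d030000d0000d050000d0000d020000d0000d040000d0000d080000c0000c050000c0000c040000c0000c010000c0000c000000c0000c030000c0000c020000c0000c060000a0000c050000b0000b040000b0000b010000b0000b000000b0000b030000b0000b020000b0000b06000080000b050000a0000a040000a0000a010000a0000a000000a0000a030000a0000a020000a0000a080000700009050000900009)]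
noncomputable def m4_b9_L0 : List ℕ := [nat_lit 0x100000000000500000000000900000000000d00000000001100000000001500000000001900000000001d000000000007000001, nat_lit 0x3100000100003500000100002500000100002d00000100002100000100002900000100000b00000200000f000003000008000000, nat_lit 0x4100000200004500000200003900000200003d00000200004900000200004d00000200000c000001000013000004000051000002, nat_lit 0x5d00000300006100000300005500000300005900000300006500000300006900000300006e000004000010000001000017000005, nat_lit 0x7900000400007d00000400007100000400007500000400008100000400008500000400006d00000300001400000200001b000006, nat_lit 0x9900000500009d00000500008d00000500009500000500008900000500009100000500001f000007000023000008000018000003, nat_lit 0xb10000060000b50000060000a50000060000ad0000060000a10000060000a900000600002700000900002b00000a00001c000004, nat_lit 0xc10000070000c50000070000b90000070000bd0000070000c90000070000cd00000700002000000500002f00000b000106000009,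 nat_lit 0xd90000080000dd0000080000d10000080000d50000080000e10000080000e500000800012200000b0000240000050000e9000008, nat_lit 0xf50000090000f90000090000ed0000090000f10000090000fd00000900010100000900002800000600003300000c000105000007, nat_lit 0x11100000a00011500000a00010900000a00010d00000a00011900000a00011d00000a00013e00000c00002c00000600003700000d, nat_lit 0x12d00000b00013100000b00012500000b00012900000b00013500000b00013900000b00012100000800003000000700003b00000e, nat_lit 0x14900000c00014d00000c00014100000c00014500000c00015100000c00015500000c00013d00000a00003400000900015900000c, nat_lit 0x16d00000d00017100000d00016100000d00016900000d00015d00000d00016500000d00017500000d00017900000d00003800000a, nat_lit 0x18d00000e00019100000e00018100000e00018900000e00017d00000e00018500000e00019500000e00019900000e00003c00000b]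
noncomputable def m4_b9_L : List (List ℕ) := [m4_b9_L0]
noncomputable def m4_b9_V : List ℕ := [(nat_lit 0xe0000000d0000000c0000000b0000000a00000009000000080000000700000006000000050000000400000003000000020000000100000000)]
noncomputable def m4_b9_D : H26.Dag := ⟨[], [[0,0],
  [1,1],
  [2,2],
  [3,3],
  [4,4],
  [5,5],
  [6,6],
  [7,7],
  [8,8],
  [7,6,7,6],
  [2,6,2,6],
  [3,6,3,6],
  [2,7,2,7],
  [3,7,3,7],
  [0,6,0,6],
  [1,6,1,6],
  [0,7,0,7],
  [1,7,1,7],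
  [4,2,0,6,4,6],
  [5,3,1,6,5,6],
  [4,3,0,1,7,4,7],
  [5,2,3,0,7,5,7],
  [2,8,4,8],
  [3,8,5,8],
  [0,8,0,8],
  [1,8,1,8],
  [8,6,8,6,8,6],
  [8,7,8,7,8,7,8,7,8,7],
  [8,7,6,8,7,6,8,7,6,8,7,6,8,7,6]], [0,1,2,3,4,5,6,7], m4_b9_defs, m4_b9_recs⟩
theorem m4_b9_c : m4_b9_D.checkTab m4_b9_S 15 9 m4_b9_V m4_b9_L = true := by decide +kernel
theorem m4_b9 : Bound m4_r_R 9 3840 :=
  bound_dag m4_b8 (K := 9) (J := [0,1,2,3,4,5,6,7,8,10,14,15,16,17,18,19,20,21,34,35,37,38,43,44,47,48,55,56,57]) (by decide +kernel) m4_b9_c (by decide +kernel)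
noncomputable def m4_b10_S0 : List ℕ := [nat_lit 0x1, nat_lit 0x1, nat_lit 0x1, nat_lit 0x1, nat_lit 0x1, nat_lit 0x1, nat_lit 0x1, nat_lit 0x1, nat_lit 0x1, nat_lit 0x7000009000008008048, nat_lit 0x7000019000008000048, nat_lit 0x700000d00000800804a, nat_lit 0x700001d00000800004a, nat_lit 0x700000100000800804c, nat_lit 0x700000500000800804e, nat_lit 0xb00002900000c008028, nat_lit 0xb00003100000c00802a, nat_lit 0xb00003500000c008030, nat_lit 0xb00003900000c008032, nat_lit 0x4500003d00000b00002500000c00c038, nat_lit 0xb00000700001100000800000c008052, nat_lit 0x4900004500004100000b00002d00000c01003c, nat_lit 0xf00002900001000802c, nat_lit 0xf00003100001000802e, nat_lit 0xf000035000010008034, nat_lit 0xf000039000010008036, nat_lit 0x6500005d00000f00002500001000c03a, nat_lit 0x6100005d00005900000f00002d00001001003e, nat_lit 0x13000029000014008040, nat_lit 0x13000031000014008042, nat_lit 0x13000035000014008044, nat_lit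 0x13000039000014008046, nat_lit 0x13000007000021000008000014008054, nat_lit 0x1700000b000010004016, nat_lit 0x1700003d00001800802c, nat_lit 0x1700004100001800802e, nat_lit 0x17000045000018008034, nat_lit 0x17000049000018008036, nat_lit 0x9500008d00001700004d00001800c03a, nat_lit 0x9100008d00008900001700005500001801003e, nat_lit 0xf00000700001500001100002100001d00002100001d00001900002100001d00000800001000008502e056, nat_lit 0x1b00003d00001c008040, nat_lit 0x1b00000b000014000040, nat_lit 0x1b00004100001c008042, nat_lit 0x1b00004500001c008044, nat_lit 0x1b00004900001c008046, nat_lit 0x1f000059000020008040, nat_lit 0x1f00005d000020008042, nat_lit 0x1f00000f000014000042, nat_lit 0x1f000061000020008044, nat_lit 0x1f000065000020008046, nat_lit 0x23000079000024008020, nat_lit 0x2300007d000024008022, nat_lit 0x230000810000a900c048, nat_lit 0x23000013000025000014000024008050, nat_lit 0x27000079000028008024, nat_lit 0x2700007d000028008026,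 nat_lit 0x270000810000c100c04a, nat_lit 0x2b00008900002c008040, nat_lit 0x2b000086000020000040, nat_lit 0x2b00008d00002c008042, nat_lit 0x2b00001700001c000042, nat_lit 0x2b00009100002c008044, nat_lit 0x2b00009500002c008046]
noncomputable def m4_b10_S1 : List ℕ := [nat_lit 0x2f0000aa000024008018, nat_lit 0x2f0000b1000030008020, nat_lit 0x2f0000b5000030008022, nat_lit 0x2f0000d500010100c048, nat_lit 0x2f0000b10000aa000071000024010038, nat_lit 0x2f00001b00004d00001c000030008050, nat_lit 0x330000aa00002800801c, nat_lit 0x330000b1000034008024, nat_lit 0x330000b5000034008026, nat_lit 0x370000c200002400801a, nat_lit 0x370000c5000038008020, nat_lit 0x370000c9000038008022, nat_lit 0x370000e500011900c048, nat_lit 0x370000c90000c200007500002401003a, nat_lit 0x3700001f000069000020000038008050, nat_lit 0x3b0000c200002800801e, nat_lit 0x3b0000c500003c008024, nat_lit 0x3b0000c900003c008026, nat_lit 0x3b0000e500013d00c04a, nat_lit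 0x3b0000c90000c50000c200007100002801403c, nat_lit 0x3b0000c50000c20000a90000ad00003401403e, nat_lit 0x3f000023000028004014, nat_lit 0x3f0000cd000040008024, nat_lit 0x3f0000d1000040008026, nat_lit 0x3f0000d60000f500c04a, nat_lit 0x3f00002300001300002d0000070000150000110000080000100000a200001700000b000014000028012056, nat_lit 0x4300014d000152004016, nat_lit 0x4300011900015100802c, nat_lit 0x4300013d00015200802e, nat_lit 0x430000dd000044008034, nat_lit 0x430000e1000044008036, nat_lit 0x430000270000790000c10000ed0000f101803e, nat_lit 0x470000ee000038008018, nat_lit 0x470000f600003000801a, nat_lit 0x470000f9000048008020, nat_lit 0x470000fd000048008022, nat_lit 0x470000f90000ee0000b9000038010038, nat_lit 0x470000fd0000f60000ad00003001003a, nat_lit 0x4700002b00009900002c000048008050, nat_lit 0x4b00002f000034004014, nat_lit 0x4b00010200004000801c, nat_lit 0x4b00010500004c008024, nat_lit 0x4b00010900004c008026, nat_lit 0x4b00010d00018500c04a,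 nat_lit 0x4b00010500018500018200013600004001403e, nat_lit 0x4b00002f00001b0000550000510000180000860000a200001700005100001800008600002000003c012056, nat_lit 0x4f00011a000165008040, nat_lit 0x4f0001510001b5000042, nat_lit 0x4f00011d000050008044, nat_lit 0x4f000121000050008046, nat_lit 0x4f000131000139000132000050008054, nat_lit 0x4f00003300001b00000b0000100000a200001700005100000b0000100000a200009d00002c00004802c056, nat_lit 0x4f0000330000d50001350001910001ad0001b20001620000f10000e900002b00009d00002c00017d00a056, nat_lit 0x5300003700003c004014, nat_lit 0x530001810001cd00801c, nat_lit 0x5300012600004000801e, nat_lit 0x53000129000054008024, nat_lit 0x5300012d000054008026, nat_lit 0x5300013200017100c04a, nat_lit 0x5300012d00012900012600011100004c01403c, nat_lit 0x530001290001260001010001950001cd01403e, nat_lit 0x5300013900019100019600010d0001950001ad0001ed0001f20001c90001ce00019900004700017d028056]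
noncomputable def m4_b10_S : List (List ℕ) := [m4_b10_S0, m4_b10_S1]
noncomputable def m4_b10_defs : List ℕ := [(nat_lit 0x70000d0080000c0070000b0060000a0050000900700008007000070060000700700006006000060080000500700004006000040080000300800002005000020080000100500001004000010090000000000000)]
noncomputable def m4_b10_recs : List ℕ := [(nat_lit 0x10000a0000a000000a0000a03000060000a050000a0000a02000070000a040000a0000a090000700009010000900009000000900009080000800008090000600008010000800008000000800008010000700007000000700007030000400007050000700007040000700007010000600006000000600006050000600006020000400006040000600006090000500003070000500005060000500005010000500005000000500005030000500005020000500005040000300005090000400004010000400004000000400004050000400004040000400004070000300003060000300003010000300003000000300003030000300003020000300003070000200002090000200002060000200002010000200002000000200002030000200002020000200002010000100001000000100001030000100001070000100001020000100001060000100001080000000000070000000000060000000000050000000000040000000000030000000000020000000000010000000000000000000000),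
  (nat_lit 0x80001000014050001300014040001200014090001000014010001400014000001400014030000f00014020001300014060000e00014060001000013070001100013090001300013010001300013000001300013030001200013040000f00013080000e00012050000f00012090001100012010001200012000001200012020000f00012060000c00012080001100011050000b00011040000d00011010001100011000001100011030000b00011020000d00011070000a00010010001000010000001000010030000c00010020000e00010040000c0001008000090000f090000a0000f010000f0000f000000f0000f06000090000f050000c0000e04000090000e090000e0000e010000e0000e000000e0000e03000090000e080000d0000d05000080000d090000c0000d010000d0000d000000d0000d03000080000d010000c0000c000000c0000c02000090000c080000b0000b04000080000b090000b0000b010000b0000b000000b0000b02000080000b)]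
noncomputable def m4_b10_L0 : List ℕ := [nat_lit 0x100000000000500000000000900000000000d00000000001100000000001500000000001900000000001d000000000021000000000007000001, nat_lit 0x3500000100003900000100002900000100003100000100000b00000200000f00000300002500000100002d000001000013000004000008000000, nat_lit 0x4500000200004900000200003d00000200004100000200000c00000100001700000500004d00000200005500000200001b000006000051000002, nat_lit 0x6100000300006500000300005900000300005d00000300008600000500001000000100006900000300006d00000300001f0000070000a1000005, nat_lit 0x7900000400007d0000040000aa0000060000c2000007000071000004000075000004000023000008000027000009000014000001000081000004, nat_lit 0x9100000500009500000500008900000500008d00000500008500000300001800000200009900000500009d00000500002b00000a0000a2000003, nat_lit 0xb10000060000b50000060000a90000040000f600000a0000a50000060000ad00000600002f00000b00003300000c00001c0000020000d6000008,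 nat_lit 0xc50000070000c90000070000ee00000a0000c10000040000b90000070000bd00000700003700000d00003b00000e0000200000030000e6000009, nat_lit 0xcd0000080000d100000800010200000b00012600000d00011200000b00013600000d00002400000400003f00000f0000d90000080000d5000006, nat_lit 0xdd0000090000e100000900011a00000c00013e00000e00014e00000e00004300001000015600000f00002800000400016600000f0000e5000007, nat_lit 0xf900000a0000fd00000a0000ed0000070000f50000060000e900000a0000f100000a00004700001100017e00001000002c00000500016200000f, nat_lit 0x10500000b00010900000b00010100000800018600001100011100000800019600001100003000000600004b00001200011500000b00010d00000b, nat_lit 0x11d00000c00012100000c00011900000900017200001000016a00001000015200000e00019e00001200003400000600004f00001300013200000d, nat_lit 0x12900000d00012d00000d00018200001100012500000800019200001100013500000800003800000700005300001400013900000d00013100000c, nat_lit 0x14100000e00014500000e00016e00001000013d00000900014d00000900015100000c0001d600001400003c0000070001b600001200014900000e,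 nat_lit 0x15900000f00015d00000f0001a20000120001de0000140001ba0000130001b200001200015500000900004000000800016500000900016100000a, nat_lit 0x17500001000017900001000016d00000e00017100000c00016900000c0000440000090001d200001300017d00000a0001f60000140001ea000014, nat_lit 0x18900001100018d00001100018100000d00018500000b00019100000d00019500000b00004800000a0001ce0000130001990000110001ae000012, nat_lit 0x1a50000120001a90000120001a100000f0001be0000130001ee0000140001b100000f00019d00000c00004c00000b0001b500000e0001ad000011, nat_lit 0x1c10000130001c50000130001da0000140001bd0000120001b900000f0001f20000140001d10000100001cd00001100005000000c0001c9000013, nat_lit 0x1e10000140001e50000140001d90000130001dd00000f0001ed0000120001f10000130001d500000e00005400000d0001f50000100001e9000010]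
noncomputable def m4_b10_L : List (List ℕ) := [m4_b10_L0]
noncomputable def m4_b10_V : List ℕ := [(nat_lit 0x14000000130000001200000011000000100000000f0000000e0000000d0000000c0000000b0000000a00000009000000080000000700000006000000050000000400000003000000020000000100000000)]
noncomputable def m4_b10_D : H26.Dag := ⟨[], [[0,0],
  [1,1],
  [2,2],
  [3,3],
  [4,4],
  [5,5],
  [6,6],
  [7,7],
  [8,8],
  [9,9],
  [7,6,7,6],
  [5,4,5,4],
  [2,6,2,6],
  [3,6,3,6],
  [2,7,2,7],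
  [3,7,3,7],
  [0,6,0,6],
  [1,6,1,6],
  [0,7,0,7],
  [1,7,1,7],
  [2,4,2,4],
  [3,4,3,4],
  [2,5,2,5],
  [3,5,3,5],
  [0,4,0,4],
  [1,4,1,4],
  [0,5,0,5],
  [1,5,1,5],
  [4,2,0,6,4,6],
  [5,3,1,6,5,6],
  [4,3,0,1,7,4,7],
  [5,2,3,0,7,5,7],
  [2,8,4,8],
  [3,8,5,8],
  [0,8,0,8],
  [1,8,1,8],
  [2,9,6,9],
  [3,9,7,9],
  [0,9,0,9],
  [1,9,1,9],
  [8,6,8,6,8,6],
  [9,4,9,4,9,4],
  [9,8,9,8,9,8],
  [9,5,4,9,5,9,5,4,8,7,8,7,6,8,7]], [0,1,2,3,4,5,6,7,8], m4_b10_defs, m4_b10_recs⟩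
theorem m4_b10_c : m4_b10_D.checkTab m4_b10_S 21 10 m4_b10_V m4_b10_L = true := by decide +kernel
theorem m4_b10 : Bound m4_r_R 10 80640 :=
  bound_dag m4_b9 (K := 10) (J := [0,1,2,3,4,5,6,7,8,9,10,11,14,15,16,17,18,19,20,21,22,23,24,25,26,27,28,29,34,35,37,38,43,44,47,48,49,50,53,54,55,58,61,62]) (by decide +kernel) m4_b10_c (by decide +kernel)
theorem m4_le {G : Type*} [Group G] {d1 d2 c1 c2 b1 b2 a1 a2 y x : G}
    (ia : IV a1 a2)
    (ib : IV b1 b2)
    (ic : IV c1 c2)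
    (id : IV d1 d2)
    (ac : CM a1 a2 c1 c2)
    (ad : CM a1 a2 d1 d2)
    (bc : CM b1 b2 c1 c2)
    (bd : CM b1 b2 d1 d2)
    (cd : CM c1 c2 d1 d2)
    (cj : CJ a1 a2 b1 b2 c1 c2 d1 d2)
    (sy : SW y b1 b2 c1 c2 d1 d2)
    (sx : SW x a1 a2 c1 c2 d1 d2)
    (rl : RL a1 a2 b1 b2 y x) :
    Nat.card (sp [d1, d2, c1, c2, b1, b2, a1, a2, y, x]) ≤ 80640 :=
  (m4_b10.le (m4_r ia ib ic id ac ad bc bd cd cj sy sx rl)).2
noncomputable def m2_r_R : List (List ℕ) := [[0,0],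
  [1,1],
  [2,2],
  [3,3],
  [4,4],
  [5,5],
  [1,3,1,3],
  [0,3,0,3],
  [1,2,1,2],
  [0,2,0,2],
  [0,1,0,1],
  [2,1,0,3,2,3],
  [1,4,2,4],
  [0,4,0,4],
  [1,5,3,5],
  [0,5,0,5],
  [4,3,4,3,4,3],
  [5,2,5,2,5,2],
  [5,4,5,4,5,4]]
theorem m2_r {G : Type*} [Group G] {d c b a y x : G}
    (h : Q2 a b c d y x) :
    Rels (nthG [d, c, b, a, y, x]) m2_r_R :=
  rels_of_eqs ((InvI.cons h.2.2.2.1 (InvI.cons h.2.2.1 (InvI.cons h.2.1 (InvI.cons h.1 (InvI.cons h.2.2.2.2.1 (InvI.cons h.2.2.2.2.2.1 InvI.nil)))))) : InvI [d, c, b, a, y, x] [(nat_lit 0), (nat_lit 1), (nat_lit 2), (nat_lit 3), (nat_lit 4), (nat_lit 5)])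
    (show AllEq [d, c, b, a, y, x] [((.mul (.v (nat_lit 3)) (.v (nat_lit 3))), .one), ((.mul (.v (nat_lit 2)) (.v (nat_lit 2))), .one), ((.mul (.v (nat_lit 1)) (.v (nat_lit 1))), .one), ((.mul (.v (nat_lit 0)) (.v (nat_lit 0))), .one), ((.mul (.v (nat_lit 4)) (.v (nat_lit 4))), .one), ((.mul (.v (nat_lit 5)) (.v (nat_lit 5))), .one), ((.mul (.v (nat_lit 3)) (.v (nat_lit 1))), (.mul (.v (nat_lit 1)) (.v (nat_lit 3)))), ((.mul (.v (nat_lit 3)) (.v (nat_lit 0))), (.mul (.v (nat_lit 0)) (.v (nat_lit 3)))), ((.mul (.v (nat_lit 2)) (.v (nat_lit 1))), (.mul (.v (nat_lit 1)) (.v (nat_lit 2)))), ((.mul (.v (nat_lit 2)) (.v (nat_lit 0))), (.mul (.v (nat_lit 0)) (.v (nat_lit 2)))), ((.mul (.v (nat_lit 1)) (.v (nat_lit 0))), (.mul (.v (nat_lit 0)) (.v (nat_lit 1)))), ((.mul (.mul (.v (nat_lit 3)) (.v (nat_lit 2))) (.inv (.v (nat_lit 3)))), (.mul (.mul (.v (nat_lit 2)) (.v (nat_lit 1))) (.v (nat_lit 0)))), ((.mul (.mul (.v (nat_lit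 4)) (.v (nat_lit 2))) (.inv (.v (nat_lit 4)))), (.v (nat_lit 1))), ((.mul (.mul (.v (nat_lit 4)) (.v (nat_lit 0))) (.inv (.v (nat_lit 4)))), (.v (nat_lit 0))), ((.mul (.mul (.v (nat_lit 5)) (.v (nat_lit 3))) (.inv (.v (nat_lit 5)))), (.v (nat_lit 1))), ((.mul (.mul (.v (nat_lit 5)) (.v (nat_lit 0))) (.inv (.v (nat_lit 5)))), (.v (nat_lit 0))), ((.pw (.mul (.v (nat_lit 3)) (.v (nat_lit 4))) (nat_lit 3)), .one), ((.pw (.mul (.v (nat_lit 2)) (.v (nat_lit 5))) (nat_lit 3)), .one), ((.pw (.mul (.v (nat_lit 4)) (.v (nat_lit 5))) (nat_lit 3)), .one)] from h)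
    [(.v (nat_lit 0)), (.v (nat_lit 1)), (.v (nat_lit 2)), (.v (nat_lit 3)), (.v (nat_lit 4)), (.v (nat_lit 5))] (by decide +kernel)
noncomputable def m2_b2_S0 : List ℕ := [nat_lit 0xf00000700000c008004]
noncomputable def m2_b2_S : List (List ℕ) := [m2_b2_S0]
noncomputable def m2_b2_defs : List ℕ := [(nat_lit 0x100001001000000000000000000000)]
noncomputable def m2_b2_recs : List ℕ := [(nat_lit 0x200003)]
noncomputable def m2_b2_L0 : List ℕ := [nat_lit 0x700000100000b000002, nat_lit 0x800000000000f000003, nat_lit 0x200000300000c000000, nat_lit 0x1000002000010000001]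
noncomputable def m2_b2_L : List (List ℕ) := [m2_b2_L0]
noncomputable def m2_b2_V : List ℕ := [(nat_lit 0x3000000020000000100000000)]
noncomputable def m2_b2_D : H26.Dag := ⟨[], [[0,0],
  [1,1],
  [0,1,0,1]], [], m2_b2_defs, m2_b2_recs⟩
theorem m2_b2_c : m2_b2_D.checkTab m2_b2_S 4 2 m2_b2_V m2_b2_L = true := by decide +kernel
theorem m2_b2 : Bound m2_r_R 2 4 :=
  bound_dag (Bound.zero m2_r_R) (K := 2) (J := [0,1,10]) (by decide +kernel) m2_b2_c (by decide +kernel)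
noncomputable def m2_b4_S0 : List ℕ := [nat_lit 0x1, nat_lit 0x1, nat_lit 0x700000500000800800c, nat_lit 0x700000100000800800e, nat_lit 0xb00000500000c008008, nat_lit 0xb00000100000c00800a, nat_lit 0xf000009000010008008, nat_lit 0xf00000d00001000800a, nat_lit 0xf00000d00000900000700000c010010]
noncomputable def m2_b4_S : List (List ℕ) := [m2_b4_S0]
noncomputable def m2_b4_defs : List ℕ := [(nat_lit 0x300001003000000020000000000000)]
noncomputable def m2_b4_recs : List ℕ := [(nat_lit 0x20000200003000000300003010000300003000000200002010000200002000000100001010000100001010000000000000000000000)]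
noncomputable def m2_b4_L0 : List ℕ := [nat_lit 0x100000000000500000000000700000100000b000002, nat_lit 0xd00000100000900000100000800000000000f000003, nat_lit 0x1500000200001100000200002200000300000c000000, nat_lit 0x1d000003000019000003000021000002000010000001]
noncomputable def m2_b4_L : List (List ℕ) := [m2_b4_L0]
noncomputable def m2_b4_V : List ℕ := [(nat_lit 0x3000000020000000100000000)]
noncomputable def m2_b4_D : H26.Dag := ⟨[], [[0,0],
  [1,1],
  [2,2],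
  [3,3],
  [1,3,1,3],
  [0,3,0,3],
  [1,2,1,2],
  [0,2,0,2],
  [2,1,0,3,2,3]], [0,1], m2_b4_defs, m2_b4_recs⟩
theorem m2_b4_c : m2_b4_D.checkTab m2_b4_S 4 4 m2_b4_V m2_b4_L = true := by decide +kernel
theorem m2_b4 : Bound m2_r_R 4 16 :=
  bound_dag m2_b2 (K := 4) (J := [0,1,2,3,6,7,8,9,11]) (by decide +kernel) m2_b4_c (by decide +kernel)
noncomputable def m2_b5_S0 : List ℕ := [nat_lit 0x1, nat_lit 0x1, nat_lit 0x1, nat_lit 0x1, nat_lit 0x7000005000008008010, nat_lit 0x7000009000008000010, nat_lit 0x7000001000008008012, nat_lit 0xb00001500000c00800a, nat_lit 0xb00001900000c00800c, nat_lit 0xb00001900001500001100000c01000e, nat_lit 0xb00000700000d00000800000c008014]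
noncomputable def m2_b5_S : List (List ℕ) := [m2_b5_S0]
noncomputable def m2_b5_defs : List ℕ := [(nat_lit 0x3000010040000000000000)]
noncomputable def m2_b5_recs : List ℕ := [(nat_lit 0x40000200002020000200002000000200002010000200002000000100001010000100001020000100001030000000000020000000000010000000000000000000000)]
noncomputable def m2_b5_L0 : List ℕ := [nat_lit 0x100000000000500000000000900000000000d000000000007000001, nat_lit 0x1900000100001500000100001100000100000b000002000008000000, nat_lit 0x2100000200001d00000200002500000200000c000001000029000002]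
noncomputable def m2_b5_L : List (List ℕ) := [m2_b5_L0]
noncomputable def m2_b5_V : List ℕ := [(nat_lit 0x20000000100000000)]
noncomputable def m2_b5_D : H26.Dag := ⟨[], [[0,0],
  [1,1],
  [2,2],
  [3,3],
  [4,4],
  [1,3,1,3],
  [0,3,0,3],
  [2,1,0,3,2,3],
  [1,4,2,4],
  [0,4,0,4],
  [4,3,4,3,4,3]], [0,1,2,3], m2_b5_defs, m2_b5_recs⟩
theorem m2_b5_c : m2_b5_D.checkTab m2_b5_S 3 5 m2_b5_V m2_b5_L = true := by decide +kernel
theorem m2_b5 : Bound m2_r_R 5 48 :=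
  bound_dag m2_b4 (K := 5) (J := [0,1,2,3,4,6,7,11,12,13,16]) (by decide +kernel) m2_b5_c (by decide +kernel)
noncomputable def m2_b6_S0 : List ℕ := [nat_lit 0x1, nat_lit 0x1, nat_lit 0x1, nat_lit 0x1, nat_lit 0x1, nat_lit 0x700000500000800801a, nat_lit 0x700000d00000800001a, nat_lit 0x700000100000800801c, nat_lit 0xb00001900000c008010, nat_lit 0xb00001d00000c008012, nat_lit 0x2500002100000b00001500000c00c014, nat_lit 0xb00000700000900000800000c008020, nat_lit 0xf000019000010008016, nat_lit 0xf00001d000010008018, nat_lit 0xf000007000011000008000010008022, nat_lit 0x13000021000014008016, nat_lit 0x1300000b000010000016, nat_lit 0x13000025000014008018, nat_lit 0x1700003500001800800e, nat_lit 0x1700003900004100c01a, nat_lit 0x1700000f00001500001000001800801e, nat_lit 0x1b00004200001800800c, nat_lit 0x1b00004500001c00800e, nat_lit 0x1b00004d00005500c01a, nat_lit 0x1b000045000042000031000018010014, nat_lit 0x1b00001300002900001400001c00801e]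
noncomputable def m2_b6_S : List (List ℕ) := [m2_b6_S0]
noncomputable def m2_b6_defs : List ℕ := [(nat_lit 0x300004003000030040000200400001002000010050000000000000)]
noncomputable def m2_b6_recs : List ℕ := [(nat_lit 0x40000600006020000500006050000600006000000600006010000500006040000500005050000400005000000500005000000400004010000300004020000400004050000300003000000300003020000300003050000200002030000200002000000200002010000200002000000100001010000100001030000100001040000000000030000000000020000000000010000000000000000000000)]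
noncomputable def m2_b6_L0 : List ℕ := [nat_lit 0x100000000000500000000000900000000000d000000000011000000000007000001, nat_lit 0x1d00000100001900000100000b00000200001500000100000f000003000008000000, nat_lit 0x2500000200002100000200000c00000100002900000200001300000400002d000002, nat_lit 0x35000003000042000004000031000003000017000005000010000001000039000003, nat_lit 0x4500000400004100000300003d00000400001b00000600001400000200004e000005, nat_lit 0x4900000500005600000600006200000600001800000300005100000500004d000004, nat_lit 0x5900000600005500000500006100000500001c00000400006500000600005d000006]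
noncomputable def m2_b6_L : List (List ℕ) := [m2_b6_L0]
noncomputable def m2_b6_V : List ℕ := [(nat_lit 0x6000000050000000400000003000000020000000100000000)]
noncomputable def m2_b6_D : H26.Dag := ⟨[], [[0,0],
  [1,1],
  [2,2],
  [3,3],
  [4,4],
  [5,5],
  [1,3,1,3],
  [0,3,0,3],
  [1,2,1,2],
  [0,2,0,2],
  [2,1,0,3,2,3],
  [1,4,2,4],
  [0,4,0,4],
  [1,5,3,5],
  [0,5,0,5],
  [4,3,4,3,4,3],
  [5,2,5,2,5,2],
  [5,4,5,4,5,4]], [0,1,2,3,4], m2_b6_defs, m2_b6_recs⟩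
theorem m2_b6_c : m2_b6_D.checkTab m2_b6_S 7 6 m2_b6_V m2_b6_L = true := by decide +kernel
theorem m2_b6 : Bound m2_r_R 6 336 :=
  bound_dag m2_b5 (K := 6) (J := [0,1,2,3,4,5,6,7,8,9,11,12,13,14,15,16,17,18]) (by decide +kernel) m2_b6_c (by decide +kernel)
theorem m2_le {G : Type*} [Group G] {d c b a y x : G}
    (h : Q2 a b c d y x) :
    Nat.card (sp [d, c, b, a, y, x]) ≤ 336 :=
  (m2_b6.le (m2_r h)).2
noncomputable abbrev m_o : Ops := pops (nat_lit 336) (nat_lit 9) (nat_lit 511) (nat_lit 0xa7d3a9b4ca5d2a9348a3d1a8b44a1d0a83409fcfa7b3c9dcea73389bcda6b3499cca633097cba5b2c95caa532893c9a4b2491c8a43208fc7a3b1c8dc6a33188bc5a2b1489c4a231087c3a1b0c85c2a130883c1a0b0481c0a03007fbf9fafc7dbe9f2f87bbd9eaf479bc9e2f077bb9daec75ba9d2e873b99cae471b89c2e06fb79badc6db69b2d86bb59aad469b49a2d067b399acc65b2992c863b198ac461b0982c05faf97abc5dae972b85bad96ab459ac962b057ab95aac55aa952a853a994aa451a8942a04fa793a9c4da6932984ba592a9449a49229047a391a8c45a29128843a190a8441a0902803f9f8fa7c3d9e8f2783b9d8ea74399c8e270379b8da6c359a8d26833998ca6431988c2602f978ba5c2d968b2582b958aa5429948a250279389a4c259289248239188a442190882401f8f87a3c1d8e872381b8d86a34198c86230178b85a2c158a85228138984a241188842200f8783a1c0d86832180b8582a14098482210078381a0c058281208038180a04018080200)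
noncomputable def m_cs : List ℕ := [(nat_lit 0x964ee9111a15291b4d959f6613194d2e550a9e4766b3fa74511d0e91cda7b2499cbe8945994b91f4fa3d0686ff6c44205349bc88f6797f4727d1e8b400fd178c46dfb3a7c20699267a4e0cf0785d018eef863360b046ac94c31a9447e2afb7e330ff135eb39c90f693c15ef284384b633681c5b2606bb99b6f56f1b5dcdf7038ce65c72a41d32773b5a06d465bccdeeb313da0cfa69b28d06984ad44c1d4ba70a89b5f2fdeeb459ae14aba5b2dd8cbc5d965624278aa8a0a949ab9581f14929723c1da89324e0c09d2ac26026942986185d3a3255a090ada96ce692874522d08834621922894424a24807cc668c7c9095a405f3b9d4ec746e999d463689b9c4383299190c9869c8d66a3833e02e83c174bcdc76969640e2b9e8aac12314888ad0b2809a2a1d2982a142394c8a51202c07a431f0fc82a45192c506c090d06a36762502630178783821159314e394f31448250d8685820540b9882d11888329f4b13c9248188dc0c10079601a0c058241408038440a04018080200), (nat_lit 0xa1cc6994da14cd1911a2a4a8f3ba7d2e830a9f4fe691da23f51d3897a1a493da548e9d2b9b9f25b29984aa58ff93c42013599416432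07f42678c789c0a31193f3e229158dc4a912687c38e0cc6a5023d067d42244e681c68e7259447e74fb7e41ceb165eba5eaf475bc5e4af66b7cdae379ba9ece865c10b8e47616dc0e1770ccc2db6e1599cd8699b9ab0b6bb40ded267b65df0c73968d0698e319602e4bb08a8ad4a0c9eebb5e2d94ab75c2e96ab35a16544c5782b980ab562a9261f53a7572a3522c540a10c09d4c9c280ac9c2061a5894bf54d19227a47ce50f494522d108946cd90a83421f502773b45d052e3da40f278401fdf257809c8e30d68b59da38351ad90c931998c86533989ba602f94c8ce57132964363a36808c12f040a29b14264322a25a542a141a97460441f0986e3f2010c243b1e0e82c6c209608e0e6f2f8144507b105a114d130524f4f10848251108c0c98540743c1c0d06c9a9f0b8e49248048f45852178d0060b060c42607040840055068040405), (nat_lit 0xa7c6e3330a4d069748a3c822f14964f6953495c62853c9dc4e6b333ccaa73409c449114c42cb65d439fcda532893c924b263c48645468fc7a22dca746a9b3ea2c5a2b449d4ca3a8786a1a1f0c7ba3198de7837d1e6833c020302453ed12fc7f36d008385bd9eaf37a3c9cb077799582e0753add2e8242c9e260718e1c2ec83420c31c7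d1d19c662a2f5a4d164355a8cf68364d5093632594d357b1162c66130dda98200f1ac415b8f49eac5dad942a959b998a2063a6544b81b87568a7540912a231fab56a1c4e2753c9f4d26d5cc04b25d4a2249a45243082a351d0a45bfdfb318843a5e847c20504f92a9f8be7b3e1de6f233d15c8ada399c8e071371bcd2cb35b34db0481b61dc333118dbae43e8d41a5c0a164b4473b010fed7080d89c4d5c944a04b2612494e72c03cea1e0d8ad78bf518f974be1d87c4ae255948bc2f320c826901a0b45c21210a454150b06472a65225058b01d11154a0218684c170c09c505b1884822532300cba05058281201038181856070081000), (nat_lit 0x8fc6e3288a0d2695158b4828b44454b6973895c4e5d3b9e462554042cd66d339a44a61313ccf684ff9fce5f92580c8651223c4924d46a7b863b1ca722e9b3a8bd1e91149f4ca230e85c41eee3879ed9b0883b7d1b03823fa4efb9640913298036cfef886bd5ecca64bbdc0f0793b9dae559399d0e973ba9d8dd8638a3cf183379c8dc7d241b0d965b55accf69af5a0d16a19a126a6bbd1e6c857b1984c458b1582965f8f1a4bc4a0f49eb8110f838a91dbad863a63ab94eac5191168a256a954ca455aa140a14d2753c9b4e27d32974c30048bb1924524da4723e0a7c8d50dfb4c4321e6e7e4197cfa557ca11028c851ea5f233b9d8ea30391ccdc6f381c4b6542e330286734338ca332c968c061410346a6b36988c6472b959006c080d0a24b5c938984d2812494482c03c8aaa0d8a482401bad974be59ac04a381f8bcba523224c18741b0b85a08150ac84271405c729511adc021f100743cb5218483019130542c690286816532300cbc310881c042c050002604070244206),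 (nat_lit 0x92d369d31851f1193b42519071180500f7427ecea6915a44fa4d2d9bc8a493d974ca988897cce710244c86351f7ace69f3591cda5520943be29088cca637137c1fa791d8c44a888e3123cc66b2d52d9b1c32b1d0c6e38cb1ed437f3fe7e8b45191b5172cc064ecf68385c0ee8f3c1dae569354e67273b59d8d82e389e4f157b71b2de19be5bae46bb99d4ca69bad92f37a186126a65b51a2c8832b84c990c05d829b1186d64b85bad13cbc5dacd54ba5b2f432426fb18a0411bad47a4c258a04e401f9343a1e4bae49e9660261889a4fa702c2209249227f874410f497e3ee573046c150b47a2a09027448458fb4aa09d8f2782b9e8ac8074ba2066734410da6c86330d26f381820efa86c3d9c662f8d868e32dc2dee533b9d460542c0d45aad4e8b944a8538e44a4808038081c1e2c158a4518ed52431f0a4943855978a45d6d868625506938a22c1007c74a652b1492155fa50422b1528142445f0c962c361254481409a4c2247019185e0c058281208038180a45078080200), (nat_lit 0x92cad1288474151a849dcca8945804e51f268dc4e6b16a3c628521414ba7b249151a61313ecda5502a74b6351f93d029f34494ce711294431f1079fca5fb3a8a4f0fd179f481070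a389ece11e3744198658e192945a314b203437f3fe328b4531df31d37bd9eaea75971cadc35b79a6e079bd1d2e871329e2e470b9dc6ec19bb9baf057b69b2d836b519ed676b417ad26ab38d5092db9964c17d2b88499150a590505c2e9a223112f972bf4a0c9541b0d32456266db1936401fad4869f4e2994a411ba683a1e542793aa756a89884d2612d2ab71f48cf090a0d2e92877e3ee9b4c461f0bf4888cdcf2803fc565e86871e902913b9d8ea74399ca1f0d7bc2dae1477b34a8593199a110633c0cc260428d868f265c10d0532b958aa692c0d45ac0278b930974b1289238080388a1c54b1548ac55a4c783d0905c724851978a45d6fad8583006938a23158b0d842813ac04a245e2ec26190c28142445a2cc401f1d0582a6c108ec1447019185e08038440c0c058240204078000a02), (nat_lit 0x8d46637139348a49168ac8e291781442428e44a210e843f4c2148f3e9f1188d82a4a313a4121a1d007e9ee4afc7452e5349a352a827845b8d06dea6d3e9d31a25228f45a6245f142754b5d6e1734e5d8dc7736e66d467d0dd32c7da2a57287fb7d2111591cce471381acd4652e41dcf0986c3e032776c2d9a668f34e18cc7d4719d08831fcc2602d968c5047118cd06781b75cae0369b8de3819b198ac461b0890c05faf8b2bc5dae972b85bad96ab459bdd62b0322b95aac55aa952a853a994aa451a8942a04fa793a9c4da6932984ba592a9449cca24f99c50269358fbfa7f3e9ecb9033c8ecbd0a306d4ee6f36951d4bf2022958f4557b3d5e8f364b299669793c4d8d168391e0af69355b2d83c8d06cef6bb597a46021d8e81407034a250279389a4c2592892c107960ee442190882401f8f87a3c1d8e872c81b9745e5e638c862801a8b85a2c158a85228138984a241188842200f8783a1c0d86832180b8582a540984822032394ca40c058281208038180a57080080200),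 (nat_lit 0xa7d3a9b4ca5d2a9348a3d1a8b44a1d0a83409fcfa7b3c9dcea73389bcda6b3499cca633097cba5b2c95caa53287449a4b2491c8a43208fb8e3ade8dc6a33188bc5a2b1489c4a231075439d6e173429d8dc7736e0ad467c09d3007fbf9fafc7db7df2f8591cce471381acd4652e41dcf0986c3e032776c2d9a668f34e18cc7d4719d0883368c2602d968c5047118cd06781b75cae0369b8de3819944a04e2612c9042208f4b2401f8f092a4518ec88431f3dc9a9b320b44c231107036180b8582ab85b8643c1d0f894723a580805c2b150a450370d249229047a391a8c45a29128843a190a8441a0902803f9f8fa7c3d9e8f2783b9d8ea747b3d5e8f364b299669793c4d8d168391e0af69355b2d82f8d06cef6bb597a462b958aa14070358cc52531162c36113d72c1079608ab55a3017ebc5dacd7cba5b2713ac84a1745e5e6384842301aa655c134c25d2c95122b53c27562ac629a4fa8540aa54a4d44a853a994a54160c812032394ca4010101822050002810040802c1807), (nat_lit 0x904b2874c46236933797c94fef9a6ca90f367f4fa42813cc62732ea45024d2299ca26131a3ce25b4e7fd0a473269cd68d2494cd27b4f8935ce8d9811e2013a481f504da89c7d007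b31c3a1acb33c2a12ce6c17a0b042d46ddb1995cfdf6927e97688303830590bd591a5e2e42a18202ec75b49cee274b41c0f02dba0dae51b185b8dd1a45239078f33daad493ba994e66b42198cd8634592f51aa758a4f58109ec4b53281e8955ba8532a55d8c568b509bcc4cc3292789a2755aa5549a4c2fd70151fa8974be4fab98c97262a172a74e2597894043f11717431f2954b48a251488a0a3d08852ac567911a297e2c8e881ea771a3b1dceb1d240e0b2f7379a1c26b361a9e46e85994cc0d87989bcee3f419f41471c0ce2582b91506ef23abc7250621295a9b601385c7329918ac43223082c28518b03a1e108a8a2721bb7d8edb178316cf8199244a3e0b8e85240562c45a231208876180f8f07a1b0e014322015905485c5980422100703cc8320502c1293038083404018182400), (nat_lit 0xa15229a8992d1a934ea252a8b479cd3cf52c89cfa7b189dc7686f99b4de6935994cd0883974bcff40889da4d2893ca697249148cea777fc22751c8dc422d3c8ac662f149fa02571a80b6a1b0676c08cb1e63c3124e26ec2a1e8e8fbf9f0fc45bea70fd2c3d1b0f679b95e2ec778ce16f075ba5d4e87339de4e46e411b6af6fb7a06e370c39aaf56b35db2d36a340bcd26733cd6646532cba3583ae58ac36213c8e9b59ad8a6bc11ae98cb40daf93cb85f9182242702955a3f5589d46a05329d5c43548293ea850ad5389d600c52e134ca552c1a1bc14608f48401188d7da2a988843a08ab3198218e912969f8f87d2b504ae45904aa428138980e6701b1b4dc0d669a8a4343199a12cc33984c47202345925c2d16c1cf73c9ed0a105e9a4925061130124e2512ca20f60ac8f025522c07c4056104763c1e8e4742f499bd9068770c934911c0a82a2b160b8502955098881c5d88840210f07c30245ba500c1d0b05c5a034c049625424164d80705a889a08060640a5f0a0080001),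 (nat_lit 0x69c323d097bc2e1b1c844060cfa6baf61ed1793c5a4f083b9592cf6cb29e6d06a3d998cd67359aacb77bd1cec1632c9daeb74b99d527642fd5ebe71b89c2e06fb79b8db763d58e59611898abc589bd28ba5a2da08190b96d886d2a1a4b8480a2ccba3361a655c9c4dab156a95c10c9e372812c9c512513546aa208e4803f1f0f43c3c1d8d140b5532612ca24eb0150ad53a856ebb4aa693e9e194829346a5d05733da6d212f4e98d1e512b98514f33ba2132948c49c4a693f9f20679409c50dfefd9d4ce5f379cc7e9f2a9acda652ea14b6594c8e9cce436819a0ce701c1b0d66a31968cc6532375c8352f3b8c26e38961b0e82394c8c52170b474b00f8805024118884e1813070361a210a43a44300c426a40b0ac5411080381aa505020f12492c8e452690ca5f849058241e5f3f21e37198c45e2d158a1ee3425898b0182109444fe2f00a492290434421d007f235168a44a21b47c85208fa854220e0a8e47c09f6157cbe0f407010180a803b9d8ea742b958aa03001146004)]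
noncomputable def m_ia_f_F : Fm := (.qf (.and (.eq (.mul (.v (nat_lit 0)) (.v (nat_lit 0))) .one) (.and (.eq (.mul (.v (nat_lit 1)) (.v (nat_lit 1))) .one) (.eq (.mul (.v (nat_lit 0)) (.v (nat_lit 1))) (.mul (.v (nat_lit 1)) (.v (nat_lit 0)))))))
theorem m_ia_f_chk : Fm.chk m_o m_ia_f_F m_cs = true := by decide +kernel
theorem m_ia_f {G : Type*} [Group G] {R : ℕ → G → Prop} {a1 a2 b1 b2 c1 c2 d1 d2 y x k : G}
    (M : Md0 m_o m_cs R [a1, a2, b1, b2, c1, c2, d1, d2, y, x, k]) :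
    a1 * a1 = 1 ∧ a2 * a2 = 1 ∧ a1 * a2 = a2 * a1 :=
  Fm.sound M.μ m_ia_f_F m_ia_f_chk M.reps
theorem m_ia {G : Type*} [Group G] {R : ℕ → G → Prop} {a1 a2 b1 b2 c1 c2 d1 d2 y x k : G}
    (M : Md0 m_o m_cs R [a1, a2, b1, b2, c1, c2, d1, d2, y, x, k]) :
    IV a1 a2 :=
  have h := m_ia_f M
  ⟨h.1, h.2.1, h.2.2, trivial⟩
noncomputable def m_ib_f_F : Fm := (.qf (.and (.eq (.mul (.v (nat_lit 2)) (.v (nat_lit 2))) .one) (.and (.eq (.mul (.v (nat_lit 3)) (.v (nat_lit 3))) .one) (.eq (.mul (.v (nat_lit 2)) (.v (nat_lit 3))) (.mul (.v (nat_lit 3)) (.v (nat_lit 2)))))))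
theorem m_ib_f_chk : Fm.chk m_o m_ib_f_F m_cs = true := by decide +kernel
theorem m_ib_f {G : Type*} [Group G] {R : ℕ → G → Prop} {a1 a2 b1 b2 c1 c2 d1 d2 y x k : G}
    (M : Md0 m_o m_cs R [a1, a2, b1, b2, c1, c2, d1, d2, y, x, k]) :
    b1 * b1 = 1 ∧ b2 * b2 = 1 ∧ b1 * b2 = b2 * b1 :=
  Fm.sound M.μ m_ib_f_F m_ib_f_chk M.reps
theorem m_ib {G : Type*} [Group G] {R : ℕ → G → Prop} {a1 a2 b1 b2 c1 c2 d1 d2 y x k : G}
    (M : Md0 m_o m_cs R [a1, a2, b1, b2, c1, c2, d1, d2, y, x, k]) :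
    IV b1 b2 :=
  have h := m_ib_f M
  ⟨h.1, h.2.1, h.2.2, trivial⟩
noncomputable def m_ic_f_F : Fm := (.qf (.and (.eq (.mul (.v (nat_lit 4)) (.v (nat_lit 4))) .one) (.and (.eq (.mul (.v (nat_lit 5)) (.v (nat_lit 5))) .one) (.eq (.mul (.v (nat_lit 4)) (.v (nat_lit 5))) (.mul (.v (nat_lit 5)) (.v (nat_lit 4)))))))
theorem m_ic_f_chk : Fm.chk m_o m_ic_f_F m_cs = true := by decide +kernel
theorem m_ic_f {G : Type*} [Group G] {R : ℕ → G → Prop} {a1 a2 b1 b2 c1 c2 d1 d2 y x k : G}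
    (M : Md0 m_o m_cs R [a1, a2, b1, b2, c1, c2, d1, d2, y, x, k]) :
    c1 * c1 = 1 ∧ c2 * c2 = 1 ∧ c1 * c2 = c2 * c1 :=
  Fm.sound M.μ m_ic_f_F m_ic_f_chk M.reps
theorem m_ic {G : Type*} [Group G] {R : ℕ → G → Prop} {a1 a2 b1 b2 c1 c2 d1 d2 y x k : G}
    (M : Md0 m_o m_cs R [a1, a2, b1, b2, c1, c2, d1, d2, y, x, k]) :
    IV c1 c2 :=
  have h := m_ic_f M
  ⟨h.1, h.2.1, h.2.2, trivial⟩
noncomputable def m_id_f_F : Fm := (.qf (.and (.eq (.mul (.v (nat_lit 6)) (.v (nat_lit 6))) .one) (.and (.eq (.mul (.v (nat_lit 7)) (.v (nat_lit 7))) .one) (.eq (.mul (.v (nat_lit 6)) (.v (nat_lit 7))) (.mul (.v (nat_lit 7)) (.v (nat_lit 6)))))))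
theorem m_id_f_chk : Fm.chk m_o m_id_f_F m_cs = true := by decide +kernel
theorem m_id_f {G : Type*} [Group G] {R : ℕ → G → Prop} {a1 a2 b1 b2 c1 c2 d1 d2 y x k : G}
    (M : Md0 m_o m_cs R [a1, a2, b1, b2, c1, c2, d1, d2, y, x, k]) :
    d1 * d1 = 1 ∧ d2 * d2 = 1 ∧ d1 * d2 = d2 * d1 :=
  Fm.sound M.μ m_id_f_F m_id_f_chk M.reps
theorem m_id {G : Type*} [Group G] {R : ℕ → G → Prop} {a1 a2 b1 b2 c1 c2 d1 d2 y x k : G}
    (M : Md0 m_o m_cs R [a1, a2, b1, b2, c1, c2, d1, d2, y, x, k]) :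
    IV d1 d2 :=
  have h := m_id_f M
  ⟨h.1, h.2.1, h.2.2, trivial⟩
noncomputable def m_ac_f_F : Fm := (.qf (.and (.eq (.mul (.v (nat_lit 0)) (.v (nat_lit 4))) (.mul (.v (nat_lit 4)) (.v (nat_lit 0)))) (.and (.eq (.mul (.v (nat_lit 0)) (.v (nat_lit 5))) (.mul (.v (nat_lit 5)) (.v (nat_lit 0)))) (.and (.eq (.mul (.v (nat_lit 1)) (.v (nat_lit 4))) (.mul (.v (nat_lit 4)) (.v (nat_lit 1)))) (.eq (.mul (.v (nat_lit 1)) (.v (nat_lit 5))) (.mul (.v (nat_lit 5)) (.v (nat_lit 1))))))))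
theorem m_ac_f_chk : Fm.chk m_o m_ac_f_F m_cs = true := by decide +kernel
theorem m_ac_f {G : Type*} [Group G] {R : ℕ → G → Prop} {a1 a2 b1 b2 c1 c2 d1 d2 y x k : G}
    (M : Md0 m_o m_cs R [a1, a2, b1, b2, c1, c2, d1, d2, y, x, k]) :
    a1 * c1 = c1 * a1 ∧ a1 * c2 = c2 * a1 ∧ a2 * c1 = c1 * a2 ∧ a2 * c2 = c2 * a2 :=
  Fm.sound M.μ m_ac_f_F m_ac_f_chk M.reps
theorem m_ac {G : Type*} [Group G] {R : ℕ → G → Prop} {a1 a2 b1 b2 c1 c2 d1 d2 y x k : G}
    (M : Md0 m_o m_cs R [a1, a2, b1, b2, c1, c2, d1, d2, y, x, k]) :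
    CM a1 a2 c1 c2 :=
  have h := m_ac_f M
  ⟨h.1, h.2.1, h.2.2.1, h.2.2.2, trivial⟩
noncomputable def m_ad_f_F : Fm := (.qf (.and (.eq (.mul (.v (nat_lit 0)) (.v (nat_lit 6))) (.mul (.v (nat_lit 6)) (.v (nat_lit 0)))) (.and (.eq (.mul (.v (nat_lit 0)) (.v (nat_lit 7))) (.mul (.v (nat_lit 7)) (.v (nat_lit 0)))) (.and (.eq (.mul (.v (nat_lit 1)) (.v (nat_lit 6))) (.mul (.v (nat_lit 6)) (.v (nat_lit 1)))) (.eq (.mul (.v (nat_lit 1)) (.v (nat_lit 7))) (.mul (.v (nat_lit 7)) (.v (nat_lit 1))))))))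
theorem m_ad_f_chk : Fm.chk m_o m_ad_f_F m_cs = true := by decide +kernel
theorem m_ad_f {G : Type*} [Group G] {R : ℕ → G → Prop} {a1 a2 b1 b2 c1 c2 d1 d2 y x k : G}
    (M : Md0 m_o m_cs R [a1, a2, b1, b2, c1, c2, d1, d2, y, x, k]) :
    a1 * d1 = d1 * a1 ∧ a1 * d2 = d2 * a1 ∧ a2 * d1 = d1 * a2 ∧ a2 * d2 = d2 * a2 :=
  Fm.sound M.μ m_ad_f_F m_ad_f_chk M.reps
theorem m_ad {G : Type*} [Group G] {R : ℕ → G → Prop} {a1 a2 b1 b2 c1 c2 d1 d2 y x k : G}
    (M : Md0 m_o m_cs R [a1, a2, b1, b2, c1, c2, d1, d2, y, x, k]) :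
    CM a1 a2 d1 d2 :=
  have h := m_ad_f M
  ⟨h.1, h.2.1, h.2.2.1, h.2.2.2, trivial⟩
noncomputable def m_bc_f_F : Fm := (.qf (.and (.eq (.mul (.v (nat_lit 2)) (.v (nat_lit 4))) (.mul (.v (nat_lit 4)) (.v (nat_lit 2)))) (.and (.eq (.mul (.v (nat_lit 2)) (.v (nat_lit 5))) (.mul (.v (nat_lit 5)) (.v (nat_lit 2)))) (.and (.eq (.mul (.v (nat_lit 3)) (.v (nat_lit 4))) (.mul (.v (nat_lit 4)) (.v (nat_lit 3)))) (.eq (.mul (.v (nat_lit 3)) (.v (nat_lit 5))) (.mul (.v (nat_lit 5)) (.v (nat_lit 3))))))))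
theorem m_bc_f_chk : Fm.chk m_o m_bc_f_F m_cs = true := by decide +kernel
theorem m_bc_f {G : Type*} [Group G] {R : ℕ → G → Prop} {a1 a2 b1 b2 c1 c2 d1 d2 y x k : G}
    (M : Md0 m_o m_cs R [a1, a2, b1, b2, c1, c2, d1, d2, y, x, k]) :
    b1 * c1 = c1 * b1 ∧ b1 * c2 = c2 * b1 ∧ b2 * c1 = c1 * b2 ∧ b2 * c2 = c2 * b2 :=
  Fm.sound M.μ m_bc_f_F m_bc_f_chk M.reps
theorem m_bc {G : Type*} [Group G] {R : ℕ → G → Prop} {a1 a2 b1 b2 c1 c2 d1 d2 y x k : G}
    (M : Md0 m_o m_cs R [a1, a2, b1, b2, c1, c2, d1, d2, y, x, k]) :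
    CM b1 b2 c1 c2 :=
  have h := m_bc_f M
  ⟨h.1, h.2.1, h.2.2.1, h.2.2.2, trivial⟩
noncomputable def m_bd_f_F : Fm := (.qf (.and (.eq (.mul (.v (nat_lit 2)) (.v (nat_lit 6))) (.mul (.v (nat_lit 6)) (.v (nat_lit 2)))) (.and (.eq (.mul (.v (nat_lit 2)) (.v (nat_lit 7))) (.mul (.v (nat_lit 7)) (.v (nat_lit 2)))) (.and (.eq (.mul (.v (nat_lit 3)) (.v (nat_lit 6))) (.mul (.v (nat_lit 6)) (.v (nat_lit 3)))) (.eq (.mul (.v (nat_lit 3)) (.v (nat_lit 7))) (.mul (.v (nat_lit 7)) (.v (nat_lit 3))))))))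
theorem m_bd_f_chk : Fm.chk m_o m_bd_f_F m_cs = true := by decide +kernel
theorem m_bd_f {G : Type*} [Group G] {R : ℕ → G → Prop} {a1 a2 b1 b2 c1 c2 d1 d2 y x k : G}
    (M : Md0 m_o m_cs R [a1, a2, b1, b2, c1, c2, d1, d2, y, x, k]) :
    b1 * d1 = d1 * b1 ∧ b1 * d2 = d2 * b1 ∧ b2 * d1 = d1 * b2 ∧ b2 * d2 = d2 * b2 :=
  Fm.sound M.μ m_bd_f_F m_bd_f_chk M.reps
theorem m_bd {G : Type*} [Group G] {R : ℕ → G → Prop} {a1 a2 b1 b2 c1 c2 d1 d2 y x k : G}
    (M : Md0 m_o m_cs R [a1, a2, b1, b2, c1, c2, d1, d2, y, x, k]) :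
    CM b1 b2 d1 d2 :=
  have h := m_bd_f M
  ⟨h.1, h.2.1, h.2.2.1, h.2.2.2, trivial⟩
noncomputable def m_cd_f_F : Fm := (.qf (.and (.eq (.mul (.v (nat_lit 4)) (.v (nat_lit 6))) (.mul (.v (nat_lit 6)) (.v (nat_lit 4)))) (.and (.eq (.mul (.v (nat_lit 4)) (.v (nat_lit 7))) (.mul (.v (nat_lit 7)) (.v (nat_lit 4)))) (.and (.eq (.mul (.v (nat_lit 5)) (.v (nat_lit 6))) (.mul (.v (nat_lit 6)) (.v (nat_lit 5)))) (.eq (.mul (.v (nat_lit 5)) (.v (nat_lit 7))) (.mul (.v (nat_lit 7)) (.v (nat_lit 5))))))))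
theorem m_cd_f_chk : Fm.chk m_o m_cd_f_F m_cs = true := by decide +kernel
theorem m_cd_f {G : Type*} [Group G] {R : ℕ → G → Prop} {a1 a2 b1 b2 c1 c2 d1 d2 y x k : G}
    (M : Md0 m_o m_cs R [a1, a2, b1, b2, c1, c2, d1, d2, y, x, k]) :
    c1 * d1 = d1 * c1 ∧ c1 * d2 = d2 * c1 ∧ c2 * d1 = d1 * c2 ∧ c2 * d2 = d2 * c2 :=
  Fm.sound M.μ m_cd_f_F m_cd_f_chk M.reps
theorem m_cd {G : Type*} [Group G] {R : ℕ → G → Prop} {a1 a2 b1 b2 c1 c2 d1 d2 y x k : G}
    (M : Md0 m_o m_cs R [a1, a2, b1, b2, c1, c2, d1, d2, y, x, k]) :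
    CM c1 c2 d1 d2 :=
  have h := m_cd_f M
  ⟨h.1, h.2.1, h.2.2.1, h.2.2.2, trivial⟩
noncomputable def m_cj_f_F : Fm := (.qf (.and (.eq (.mul (.mul (.v (nat_lit 0)) (.v (nat_lit 2))) (.inv (.v (nat_lit 0)))) (.mul (.mul (.v (nat_lit 2)) (.v (nat_lit 4))) (.v (nat_lit 6)))) (.and (.eq (.mul (.mul (.v (nat_lit 0)) (.v (nat_lit 3))) (.inv (.v (nat_lit 0)))) (.mul (.mul (.v (nat_lit 3)) (.v (nat_lit 5))) (.v (nat_lit 7)))) (.and (.eq (.mul (.mul (.v (nat_lit 0)) (.mul (.v (nat_lit 2)) (.v (nat_lit 3)))) (.inv (.v (nat_lit 0)))) (.mul (.mul (.mul (.v (nat_lit 2)) (.v (nat_lit 3))) (.mul (.v (nat_lit 4)) (.v (nat_lit 5)))) (.mul (.v (nat_lit 6)) (.v (nat_lit 7))))) (.and (.eq (.mul (.mul (.v (nat_lit 1)) (.v (nat_lit 2))) (.inv (.v (nat_lit 1)))) (.mul (.mul (.v (nat_lit 2)) (.v (nat_lit 5))) (.mul (.v (nat_lit 6)) (.v (nat_lit 7))))) (.and (.eq (.mul (.mul (.v (nat_lit 1)) (.v (nat_lit 3))) (.inv (.v (nat_lit 1)))) (.mul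 (.mul (.v (nat_lit 3)) (.mul (.v (nat_lit 4)) (.v (nat_lit 5)))) (.v (nat_lit 6)))) (.and (.eq (.mul (.mul (.v (nat_lit 1)) (.mul (.v (nat_lit 2)) (.v (nat_lit 3)))) (.inv (.v (nat_lit 1)))) (.mul (.mul (.mul (.v (nat_lit 2)) (.v (nat_lit 3))) (.v (nat_lit 4))) (.v (nat_lit 7)))) (.and (.eq (.mul (.mul (.mul (.v (nat_lit 0)) (.v (nat_lit 1))) (.v (nat_lit 2))) (.inv (.mul (.v (nat_lit 0)) (.v (nat_lit 1))))) (.mul (.mul (.v (nat_lit 2)) (.mul (.v (nat_lit 4)) (.v (nat_lit 5)))) (.v (nat_lit 7)))) (.and (.eq (.mul (.mul (.mul (.v (nat_lit 0)) (.v (nat_lit 1))) (.v (nat_lit 3))) (.inv (.mul (.v (nat_lit 0)) (.v (nat_lit 1))))) (.mul (.mul (.v (nat_lit 3)) (.v (nat_lit 4))) (.mul (.v (nat_lit 6)) (.v (nat_lit 7))))) (.eq (.mul (.mul (.mul (.v (nat_lit 0)) (.v (nat_lit 1))) (.mul (.v (nat_lit 2)) (.v (nat_lit 3)))) (.inv (.mul (.v (nat_lit 0)) (.v (nat_lit 1))))) (.mul (.mul (.mul (.v (nat_lit 2)) (.v (nat_lit 3)))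 (.v (nat_lit 5))) (.v (nat_lit 6)))))))))))))
theorem m_cj_f_chk : Fm.chk m_o m_cj_f_F m_cs = true := by decide +kernel
theorem m_cj_f {G : Type*} [Group G] {R : ℕ → G → Prop} {a1 a2 b1 b2 c1 c2 d1 d2 y x k : G}
    (M : Md0 m_o m_cs R [a1, a2, b1, b2, c1, c2, d1, d2, y, x, k]) :
    a1 * b1 * a1⁻¹ = b1 * c1 * d1 ∧ a1 * b2 * a1⁻¹ = b2 * c2 * d2 ∧ a1 * (b1 * b2) * a1⁻¹ = b1 * b2 * (c1 * c2) * (d1 * d2) ∧ a2 * b1 * a2⁻¹ = b1 * c2 * (d1 * d2) ∧ a2 * b2 * a2⁻¹ = b2 * (c1 * c2) * d1 ∧ a2 * (b1 * b2) * a2⁻¹ = b1 * b2 * c1 * d2 ∧ a1 * a2 * b1 * (a1 * a2)⁻¹ = b1 * (c1 * c2) * d2 ∧ a1 * a2 * b2 * (a1 * a2)⁻¹ = b2 * c1 * (d1 * d2) ∧ a1 * a2 * (b1 * b2) * (a1 * a2)⁻¹ = b1 * b2 * c2 * d1 :=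
  Fm.sound M.μ m_cj_f_F m_cj_f_chk M.reps
theorem m_cj {G : Type*} [Group G] {R : ℕ → G → Prop} {a1 a2 b1 b2 c1 c2 d1 d2 y x k : G}
    (M : Md0 m_o m_cs R [a1, a2, b1, b2, c1, c2, d1, d2, y, x, k]) :
    CJ a1 a2 b1 b2 c1 c2 d1 d2 :=
  have h := m_cj_f M
  ⟨h.1, h.2.1, h.2.2.1, h.2.2.2.1, h.2.2.2.2.1, h.2.2.2.2.2.1, h.2.2.2.2.2.2.1, h.2.2.2.2.2.2.2.1, h.2.2.2.2.2.2.2.2, trivial⟩
noncomputable def m_sy_f_F : Fm := (.qf (.and (.eq (.mul (.v (nat_lit 8)) (.v (nat_lit 8))) .one) (.and (.eq (.mul (.mul (.v (nat_lit 8)) (.v (nat_lit 2))) (.inv (.v (nat_lit 8)))) (.v (nat_lit 4))) (.and (.eq (.mul (.mul (.v (nat_lit 8)) (.v (nat_lit 3))) (.inv (.v (nat_lit 8)))) (.v (nat_lit 5))) (.and (.eq (.mul (.mul (.v (nat_lit 8)) (.v (nat_lit 4))) (.inv (.v (nat_lit 8)))) (.v (nat_lit 2))) (.and (.eq (.mul (.mul (.v (nat_lit 8)) (.v (nat_lit 5))) (.inv (.v (nat_lit 8)))) (.v (nat_lit 3))) (.and (.eq (.mul (.mul (.v (nat_lit 8))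 (.v (nat_lit 6))) (.inv (.v (nat_lit 8)))) (.v (nat_lit 6))) (.eq (.mul (.mul (.v (nat_lit 8)) (.v (nat_lit 7))) (.inv (.v (nat_lit 8)))) (.v (nat_lit 7))))))))))
theorem m_sy_f_chk : Fm.chk m_o m_sy_f_F m_cs = true := by decide +kernel
theorem m_sy_f {G : Type*} [Group G] {R : ℕ → G → Prop} {a1 a2 b1 b2 c1 c2 d1 d2 y x k : G}
    (M : Md0 m_o m_cs R [a1, a2, b1, b2, c1, c2, d1, d2, y, x, k]) :
    y * y = 1 ∧ y * b1 * y⁻¹ = c1 ∧ y * b2 * y⁻¹ = c2 ∧ y * c1 * y⁻¹ = b1 ∧ y * c2 * y⁻¹ = b2 ∧ y * d1 * y⁻¹ = d1 ∧ y * d2 * y⁻¹ = d2 :=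
  Fm.sound M.μ m_sy_f_F m_sy_f_chk M.reps
theorem m_sy {G : Type*} [Group G] {R : ℕ → G → Prop} {a1 a2 b1 b2 c1 c2 d1 d2 y x k : G}
    (M : Md0 m_o m_cs R [a1, a2, b1, b2, c1, c2, d1, d2, y, x, k]) :
    SW y b1 b2 c1 c2 d1 d2 :=
  have h := m_sy_f M
  ⟨h.1, h.2.1, h.2.2.1, h.2.2.2.1, h.2.2.2.2.1, h.2.2.2.2.2.1, h.2.2.2.2.2.2, trivial⟩
noncomputable def m_sx_f_F : Fm := (.qf (.and (.eq (.mul (.v (nat_lit 9)) (.v (nat_lit 9))) .one) (.and (.eq (.mul (.mul (.v (nat_lit 9)) (.v (nat_lit 0))) (.inv (.v (nat_lit 9)))) (.v (nat_lit 4))) (.and (.eq (.mul (.mul (.v (nat_lit 9)) (.v (nat_lit 1))) (.inv (.v (nat_lit 9)))) (.v (nat_lit 5))) (.and (.eq (.mul (.mul (.v (nat_lit 9)) (.v (nat_lit 4))) (.inv (.v (nat_lit 9)))) (.v (nat_lit 0))) (.and (.eq (.mul (.mul (.v (nat_lit 9)) (.v (nat_lit 5))) (.inv (.v (nat_lit 9)))) (.v (nat_lit 1))) (.and (.eq (.mul (.mul (.v (nat_lit 9)) (.v (nat_lit 6))) (.inv (.v (nat_lit 9)))) (.v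 (nat_lit 6))) (.eq (.mul (.mul (.v (nat_lit 9)) (.v (nat_lit 7))) (.inv (.v (nat_lit 9)))) (.v (nat_lit 7))))))))))
theorem m_sx_f_chk : Fm.chk m_o m_sx_f_F m_cs = true := by decide +kernel
theorem m_sx_f {G : Type*} [Group G] {R : ℕ → G → Prop} {a1 a2 b1 b2 c1 c2 d1 d2 y x k : G}
    (M : Md0 m_o m_cs R [a1, a2, b1, b2, c1, c2, d1, d2, y, x, k]) :
    x * x = 1 ∧ x * a1 * x⁻¹ = c1 ∧ x * a2 * x⁻¹ = c2 ∧ x * c1 * x⁻¹ = a1 ∧ x * c2 * x⁻¹ = a2 ∧ x * d1 * x⁻¹ = d1 ∧ x * d2 * x⁻¹ = d2 :=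
  Fm.sound M.μ m_sx_f_F m_sx_f_chk M.reps
theorem m_sx {G : Type*} [Group G] {R : ℕ → G → Prop} {a1 a2 b1 b2 c1 c2 d1 d2 y x k : G}
    (M : Md0 m_o m_cs R [a1, a2, b1, b2, c1, c2, d1, d2, y, x, k]) :
    SW x a1 a2 c1 c2 d1 d2 :=
  have h := m_sx_f M
  ⟨h.1, h.2.1, h.2.2.1, h.2.2.2.1, h.2.2.2.2.1, h.2.2.2.2.2.1, h.2.2.2.2.2.2, trivial⟩
noncomputable def m_rl_f_F : Fm := (.qf (.and (.eq (.pw (.mul (.v (nat_lit 0)) (.v (nat_lit 8))) (nat_lit 3)) .one) (.and (.eq (.pw (.mul (.v (nat_lit 1)) (.v (nat_lit 8))) (nat_lit 5)) .one) (.and (.eq (.pw (.mul (.mul (.v (nat_lit 0)) (.v (nat_lit 1))) (.v (nat_lit 8))) (nat_lit 5)) .one) (.and (.eq (.pw (.mul (.v (nat_lit 2)) (.v (nat_lit 9))) (nat_lit 3)) .one) (.and (.eq (.pw (.mul (.v (nat_lit 3)) (.v (nat_lit 9))) (nat_lit 5)) .one) (.and (.eq (.pw (.mul (.mul (.v (nat_lit 2)) (.v (nat_lit 3))) (.v (nat_lit 9))) (nat_lit 5)) .one) (.and (.eq (.pw (.mul (.v (nat_lit 8)) (.v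 (nat_lit 9))) (nat_lit 3)) .one) (.eq (.mul (.mul (.mul (.mul (.mul (.mul (.mul (.mul (.mul (.mul (.mul (.mul (.mul (.mul (.v (nat_lit 1)) (.v (nat_lit 8))) (.v (nat_lit 0))) (.v (nat_lit 1))) (.v (nat_lit 8))) (.v (nat_lit 1))) (.v (nat_lit 8))) (.v (nat_lit 2))) (.v (nat_lit 3))) (.v (nat_lit 9))) (.v (nat_lit 3))) (.v (nat_lit 9))) (.v (nat_lit 2))) (.v (nat_lit 3))) (.v (nat_lit 9))) .one)))))))))
theorem m_rl_f_chk : Fm.chk m_o m_rl_f_F m_cs = true := by decide +kernel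
theorem m_rl_f {G : Type*} [Group G] {R : ℕ → G → Prop} {a1 a2 b1 b2 c1 c2 d1 d2 y x k : G}
    (M : Md0 m_o m_cs R [a1, a2, b1, b2, c1, c2, d1, d2, y, x, k]) :
    (a1 * y) ^ 3 = 1 ∧ (a2 * y) ^ 5 = 1 ∧ (a1 * a2 * y) ^ 5 = 1 ∧ (b1 * x) ^ 3 = 1 ∧ (b2 * x) ^ 5 = 1 ∧ (b1 * b2 * x) ^ 5 = 1 ∧ (y * x) ^ 3 = 1 ∧ a2 * y * a1 * a2 * y * a2 * y * b1 * b2 * x * b2 * x * b1 * b2 * x = 1 :=
  Fm.sound M.μ m_rl_f_F m_rl_f_chk M.reps
theorem m_rl {G : Type*} [Group G] {R : ℕ → G → Prop} {a1 a2 b1 b2 c1 c2 d1 d2 y x k : G}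
    (M : Md0 m_o m_cs R [a1, a2, b1, b2, c1, c2, d1, d2, y, x, k]) :
    RL a1 a2 b1 b2 y x :=
  have h := m_rl_f M
  ⟨h.1, h.2.1, h.2.2.1, h.2.2.2.1, h.2.2.2.2.1, h.2.2.2.2.2.1, h.2.2.2.2.2.2.1, h.2.2.2.2.2.2.2, trivial⟩
noncomputable def m_kb_f_F : Fm := (.qf (.and (.eq (.mul (.mul (.v (nat_lit 10)) (.v (nat_lit 2))) (.inv (.v (nat_lit 10)))) (.v (nat_lit 3))) (.eq (.mul (.mul (.v (nat_lit 10)) (.v (nat_lit 3))) (.inv (.v (nat_lit 10)))) (.mul (.v (nat_lit 2)) (.v (nat_lit 3))))))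
theorem m_kb_f_chk : Fm.chk m_o m_kb_f_F m_cs = true := by decide +kernel
theorem m_kb_f {G : Type*} [Group G] {R : ℕ → G → Prop} {a1 a2 b1 b2 c1 c2 d1 d2 y x k : G}
    (M : Md0 m_o m_cs R [a1, a2, b1, b2, c1, c2, d1, d2, y, x, k]) :
    k * b1 * k⁻¹ = b2 ∧ k * b2 * k⁻¹ = b1 * b2 :=
  Fm.sound M.μ m_kb_f_F m_kb_f_chk M.reps
theorem m_kb {G : Type*} [Group G] {R : ℕ → G → Prop} {a1 a2 b1 b2 c1 c2 d1 d2 y x k : G}
    (M : Md0 m_o m_cs R [a1, a2, b1, b2, c1, c2, d1, d2, y, x, k]) :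
    OM k b1 b2 :=
  have h := m_kb_f M
  ⟨h.1, h.2, trivial⟩
noncomputable def m_kc_f_F : Fm := (.qf (.and (.eq (.mul (.mul (.v (nat_lit 10)) (.v (nat_lit 4))) (.inv (.v (nat_lit 10)))) (.v (nat_lit 5))) (.eq (.mul (.mul (.v (nat_lit 10)) (.v (nat_lit 5))) (.inv (.v (nat_lit 10)))) (.mul (.v (nat_lit 4)) (.v (nat_lit 5))))))
theorem m_kc_f_chk : Fm.chk m_o m_kc_f_F m_cs = true := by decide +kernel
theorem m_kc_f {G : Type*} [Group G] {R : ℕ → G → Prop} {a1 a2 b1 b2 c1 c2 d1 d2 y x k : G}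
    (M : Md0 m_o m_cs R [a1, a2, b1, b2, c1, c2, d1, d2, y, x, k]) :
    k * c1 * k⁻¹ = c2 ∧ k * c2 * k⁻¹ = c1 * c2 :=
  Fm.sound M.μ m_kc_f_F m_kc_f_chk M.reps
theorem m_kc {G : Type*} [Group G] {R : ℕ → G → Prop} {a1 a2 b1 b2 c1 c2 d1 d2 y x k : G}
    (M : Md0 m_o m_cs R [a1, a2, b1, b2, c1, c2, d1, d2, y, x, k]) :
    OM k c1 c2 :=
  have h := m_kc_f M
  ⟨h.1, h.2, trivial⟩
noncomputable def m_kd_f_F : Fm := (.qf (.and (.eq (.mul (.mul (.v (nat_lit 10)) (.v (nat_lit 6))) (.inv (.v (nat_lit 10)))) (.v (nat_lit 7))) (.eq (.mul (.mul (.v (nat_lit 10)) (.v (nat_lit 7))) (.inv (.v (nat_lit 10)))) (.mul (.v (nat_lit 6)) (.v (nat_lit 7))))))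
theorem m_kd_f_chk : Fm.chk m_o m_kd_f_F m_cs = true := by decide +kernel
theorem m_kd_f {G : Type*} [Group G] {R : ℕ → G → Prop} {a1 a2 b1 b2 c1 c2 d1 d2 y x k : G}
    (M : Md0 m_o m_cs R [a1, a2, b1, b2, c1, c2, d1, d2, y, x, k]) :
    k * d1 * k⁻¹ = d2 ∧ k * d2 * k⁻¹ = d1 * d2 :=
  Fm.sound M.μ m_kd_f_F m_kd_f_chk M.reps
theorem m_kd {G : Type*} [Group G] {R : ℕ → G → Prop} {a1 a2 b1 b2 c1 c2 d1 d2 y x k : G}
    (M : Md0 m_o m_cs R [a1, a2, b1, b2, c1, c2, d1, d2, y, x, k]) :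
    OM k d1 d2 :=
  have h := m_kd_f M
  ⟨h.1, h.2, trivial⟩
noncomputable def m_kk_f_F : Fm := (.qf (.and (.eq (.pw (.v (nat_lit 10)) (nat_lit 3)) .one) (.and (.eq (.mul (.mul (.v (nat_lit 10)) (.v (nat_lit 0))) (.inv (.v (nat_lit 10)))) (.v (nat_lit 0))) (.and (.eq (.mul (.mul (.v (nat_lit 10)) (.v (nat_lit 1))) (.inv (.v (nat_lit 10)))) (.v (nat_lit 1))) (.and (.eq (.mul (.mul (.v (nat_lit 10)) (.v (nat_lit 8))) (.inv (.v (nat_lit 10)))) (.v (nat_lit 8))) (.eq (.mul (.mul (.v (nat_lit 10)) (.v (nat_lit 9))) (.inv (.v (nat_lit 10)))) (.mul (.mul (.mul (.mul (.mul (.v (nat_lit 3)) (.v (nat_lit 9))) (.v (nat_lit 2))) (.v (nat_lit 3))) (.v (nat_lit 9))) (.v (nat_lit 3)))))))))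
theorem m_kk_f_chk : Fm.chk m_o m_kk_f_F m_cs = true := by decide +kernel
theorem m_kk_f {G : Type*} [Group G] {R : ℕ → G → Prop} {a1 a2 b1 b2 c1 c2 d1 d2 y x k : G}
    (M : Md0 m_o m_cs R [a1, a2, b1, b2, c1, c2, d1, d2, y, x, k]) :
    k ^ 3 = 1 ∧ k * a1 * k⁻¹ = a1 ∧ k * a2 * k⁻¹ = a2 ∧ k * y * k⁻¹ = y ∧ k * x * k⁻¹ = b2 * x * b1 * b2 * x * b2 :=
  Fm.sound M.μ m_kk_f_F m_kk_f_chk M.reps
theorem m_kk {G : Type*} [Group G] {R : ℕ → G → Prop} {a1 a2 b1 b2 c1 c2 d1 d2 y x k : G}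
    (M : Md0 m_o m_cs R [a1, a2, b1, b2, c1, c2, d1, d2, y, x, k]) :
    KK k a1 a2 b1 b2 y x :=
  have h := m_kk_f M
  ⟨h.1, h.2.1, h.2.2.1, h.2.2.2.1, h.2.2.2.2, trivial⟩
noncomputable def m_q2_f_F : Fm := (.qf (.and (.eq (.mul (.v (nat_lit 0)) (.v (nat_lit 0))) .one) (.and (.eq (.mul (.v (nat_lit 2)) (.v (nat_lit 2))) .one) (.and (.eq (.mul (.v (nat_lit 4)) (.v (nat_lit 4))) .one) (.and (.eq (.mul (.v (nat_lit 6)) (.v (nat_lit 6))) .one) (.and (.eq (.mul (.v (nat_lit 8)) (.v (nat_lit 8))) .one) (.and (.eq (.mul (.v (nat_lit 9)) (.v (nat_lit 9))) .one) (.and (.eq (.mul (.v (nat_lit 0)) (.v (nat_lit 4))) (.mul (.v (nat_lit 4)) (.v (nat_lit 0)))) (.and (.eq (.mul (.v (nat_lit 0)) (.v (nat_lit 6))) (.mul (.v (nat_lit 6)) (.v (nat_lit 0)))) (.and (.eq (.mul (.v (nat_lit 2)) (.v (nat_lit 4))) (.mul (.v (nat_lit 4)) (.v (nat_lit 2)))) (.and (.eq (.mul (.v (nat_lit 2)) (.v (nat_lit 6))) (.mul (.v (nat_lit 6)) (.v (nat_lit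 2)))) (.and (.eq (.mul (.v (nat_lit 4)) (.v (nat_lit 6))) (.mul (.v (nat_lit 6)) (.v (nat_lit 4)))) (.and (.eq (.mul (.mul (.v (nat_lit 0)) (.v (nat_lit 2))) (.inv (.v (nat_lit 0)))) (.mul (.mul (.v (nat_lit 2)) (.v (nat_lit 4))) (.v (nat_lit 6)))) (.and (.eq (.mul (.mul (.v (nat_lit 8)) (.v (nat_lit 2))) (.inv (.v (nat_lit 8)))) (.v (nat_lit 4))) (.and (.eq (.mul (.mul (.v (nat_lit 8)) (.v (nat_lit 6))) (.inv (.v (nat_lit 8)))) (.v (nat_lit 6))) (.and (.eq (.mul (.mul (.v (nat_lit 9)) (.v (nat_lit 0))) (.inv (.v (nat_lit 9)))) (.v (nat_lit 4))) (.and (.eq (.mul (.mul (.v (nat_lit 9)) (.v (nat_lit 6))) (.inv (.v (nat_lit 9)))) (.v (nat_lit 6))) (.and (.eq (.pw (.mul (.v (nat_lit 0)) (.v (nat_lit 8))) (nat_lit 3)) .one) (.and (.eq (.pw (.mul (.v (nat_lit 2)) (.v (nat_lit 9))) (nat_lit 3)) .one) (.eq (.pw (.mul (.v (nat_lit 8)) (.v (nat_lit 9))) (nat_lit 3)) .one))))))))))))))))))))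
theorem m_q2_f_chk : Fm.chk m_o m_q2_f_F m_cs = true := by decide +kernel
theorem m_q2_f {G : Type*} [Group G] {R : ℕ → G → Prop} {a1 a2 b1 b2 c1 c2 d1 d2 y x k : G}
    (M : Md0 m_o m_cs R [a1, a2, b1, b2, c1, c2, d1, d2, y, x, k]) :
    a1 * a1 = 1 ∧ b1 * b1 = 1 ∧ c1 * c1 = 1 ∧ d1 * d1 = 1 ∧ y * y = 1 ∧ x * x = 1 ∧ a1 * c1 = c1 * a1 ∧ a1 * d1 = d1 * a1 ∧ b1 * c1 = c1 * b1 ∧ b1 * d1 = d1 * b1 ∧ c1 * d1 = d1 * c1 ∧ a1 * b1 * a1⁻¹ = b1 * c1 * d1 ∧ y * b1 * y⁻¹ = c1 ∧ y * d1 * y⁻¹ = d1 ∧ x * a1 * x⁻¹ = c1 ∧ x * d1 * x⁻¹ = d1 ∧ (a1 * y) ^ 3 = 1 ∧ (b1 * x) ^ 3 = 1 ∧ (y * x) ^ 3 = 1 :=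
  Fm.sound M.μ m_q2_f_F m_q2_f_chk M.reps
theorem m_q2 {G : Type*} [Group G] {R : ℕ → G → Prop} {a1 a2 b1 b2 c1 c2 d1 d2 y x k : G}
    (M : Md0 m_o m_cs R [a1, a2, b1, b2, c1, c2, d1, d2, y, x, k]) :
    Q2 a1 b1 c1 d1 y x :=
  have h := m_q2_f M
  ⟨h.1, h.2.1, h.2.2.1, h.2.2.2.1, h.2.2.2.2.1, h.2.2.2.2.2.1, h.2.2.2.2.2.2.1, h.2.2.2.2.2.2.2.1, h.2.2.2.2.2.2.2.2.1, h.2.2.2.2.2.2.2.2.2.1, h.2.2.2.2.2.2.2.2.2.2.1, h.2.2.2.2.2.2.2.2.2.2.2.1, h.2.2.2.2.2.2.2.2.2.2.2.2.1, h.2.2.2.2.2.2.2.2.2.2.2.2.2.1, h.2.2.2.2.2.2.2.2.2.2.2.2.2.2.1, h.2.2.2.2.2.2.2.2.2.2.2.2.2.2.2.1, h.2.2.2.2.2.2.2.2.2.2.2.2.2.2.2.2.1, h.2.2.2.2.2.2.2.2.2.2.2.2.2.2.2.2.2.1, h.2.2.2.2.2.2.2.2.2.2.2.2.2.2.2.2.2.2, trivial⟩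
noncomputable def m_nt_F : Fm := (.qf (.and (.not (.eq (.mul .one (.v (nat_lit 6))) .one)) (.and (.not (.eq (.mul .one (.v (nat_lit 7))) .one)) (.and (.not (.eq (.mul .one (.mul (.v (nat_lit 6)) (.v (nat_lit 7)))) .one)) (.and (.not (.eq (.mul (.v (nat_lit 4)) .one) .one)) (.and (.not (.eq (.mul (.v (nat_lit 4)) (.v (nat_lit 6))) .one)) (.and (.not (.eq (.mul (.v (nat_lit 4)) (.v (nat_lit 7))) .one)) (.and (.not (.eq (.mul (.v (nat_lit 4)) (.mul (.v (nat_lit 6)) (.v (nat_lit 7)))) .one)) (.and (.not (.eq (.mul (.v (nat_lit 5)) .one) .one)) (.and (.not (.eq (.mul (.v (nat_lit 5)) (.v (nat_lit 6))) .one)) (.and (.not (.eq (.mul (.v (nat_lit 5)) (.v (nat_lit 7))) .one)) (.and (.not (.eq (.mul (.v (nat_lit 5)) (.mul (.v (nat_lit 6)) (.v (nat_lit 7)))) .one)) (.and (.not (.eq (.mul (.mul (.v (nat_lit 4)) (.v (nat_lit 5))) .one) .one)) (.and (.not (.eq (.mul (.mul (.v (nat_lit 4)) (.v (nat_lit 5))) (.v (nat_lit 6))) .one))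 (.and (.not (.eq (.mul (.mul (.v (nat_lit 4)) (.v (nat_lit 5))) (.v (nat_lit 7))) .one)) (.not (.eq (.mul (.mul (.v (nat_lit 4)) (.v (nat_lit 5))) (.mul (.v (nat_lit 6)) (.v (nat_lit 7)))) .one)))))))))))))))))
theorem m_nt_chk : Fm.chk m_o m_nt_F m_cs = true := by decide +kernel
theorem m_nt {G : Type*} [Group G] {R : ℕ → G → Prop} {a1 a2 b1 b2 c1 c2 d1 d2 y x k : G}
    (M : Md0 m_o m_cs R [a1, a2, b1, b2, c1, c2, d1, d2, y, x, k]) :
    1 * d1 ≠ 1 ∧ 1 * d2 ≠ 1 ∧ 1 * (d1 * d2) ≠ 1 ∧ c1 * 1 ≠ 1 ∧ c1 * d1 ≠ 1 ∧ c1 * d2 ≠ 1 ∧ c1 * (d1 * d2) ≠ 1 ∧ c2 * 1 ≠ 1 ∧ c2 * d1 ≠ 1 ∧ c2 * d2 ≠ 1 ∧ c2 * (d1 * d2) ≠ 1 ∧ c1 * c2 * 1 ≠ 1 ∧ c1 * c2 * d1 ≠ 1 ∧ c1 * c2 * d2 ≠ 1 ∧ c1 * c2 * (d1 * d2) ≠ 1 :=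
  Fm.sound M.μ m_nt_F m_nt_chk M.reps
noncomputable def m_od_F : Fm := (.qf (.and (.not (.eq (.mul (.v (nat_lit 0)) (.v (nat_lit 8))) .one)) (.and (.not (.eq (.mul (.v (nat_lit 1)) (.v (nat_lit 8))) .one)) (.and (.not (.eq (.mul (.mul (.mul (.v (nat_lit 8)) (.v (nat_lit 6))) (.v (nat_lit 2))) (.v (nat_lit 9))) .one)) (.and (.eq (.pw (.mul (.mul (.mul (.v (nat_lit 8)) (.v (nat_lit 6))) (.v (nat_lit 2))) (.v (nat_lit 9))) (nat_lit 7)) .one) (.and (.eq (.mul (.mul (.mul (.mul (.mul (.mul (.mul (.v (nat_lit 2)) (.v (nat_lit 9))) (.v (nat_lit 0))) (.v (nat_lit 2))) (.v (nat_lit 1))) (.mul (.v (nat_lit 0)) (.v (nat_lit 8)))) (.inv (.mul (.mul (.mul (.mul (.v (nat_lit 2)) (.v (nat_lit 9))) (.v (nat_lit 0))) (.v (nat_lit 2))) (.v (nat_lit 1))))) (.mul (.v (nat_lit 0)) (.v (nat_lit 8)))) (.mul (.mul (.v (nat_lit 0)) (.v (nat_lit 8))) (.mul (.mul (.mul (.mul (.mul (.mul (.v (nat_lit 2)) (.v (nat_lit 9))) (.v (nat_lit 0)))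 (.v (nat_lit 2))) (.v (nat_lit 1))) (.mul (.v (nat_lit 0)) (.v (nat_lit 8)))) (.inv (.mul (.mul (.mul (.mul (.v (nat_lit 2)) (.v (nat_lit 9))) (.v (nat_lit 0))) (.v (nat_lit 2))) (.v (nat_lit 1))))))) (.and (.not (.eq (.mul (.mul (.mul (.mul (.mul (.mul (.v (nat_lit 2)) (.v (nat_lit 9))) (.v (nat_lit 0))) (.v (nat_lit 2))) (.v (nat_lit 1))) (.mul (.v (nat_lit 0)) (.v (nat_lit 8)))) (.inv (.mul (.mul (.mul (.mul (.v (nat_lit 2)) (.v (nat_lit 9))) (.v (nat_lit 0))) (.v (nat_lit 2))) (.v (nat_lit 1))))) (.mul (.v (nat_lit 0)) (.v (nat_lit 8))))) (.not (.eq (.mul (.mul (.mul (.mul (.mul (.mul (.v (nat_lit 2)) (.v (nat_lit 9))) (.v (nat_lit 0))) (.v (nat_lit 2))) (.v (nat_lit 1))) (.mul (.v (nat_lit 0)) (.v (nat_lit 8)))) (.inv (.mul (.mul (.mul (.mul (.v (nat_lit 2)) (.v (nat_lit 9))) (.v (nat_lit 0))) (.v (nat_lit 2))) (.v (nat_lit 1))))) (.pw (.mul (.v (nat_lit 0)) (.v (nat_lit 8))) (nat_lit 2)))))))))))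
theorem m_od_chk : Fm.chk m_o m_od_F m_cs = true := by decide +kernel
theorem m_od {G : Type*} [Group G] {R : ℕ → G → Prop} {a1 a2 b1 b2 c1 c2 d1 d2 y x k : G}
    (M : Md0 m_o m_cs R [a1, a2, b1, b2, c1, c2, d1, d2, y, x, k]) :
    a1 * y ≠ 1 ∧ a2 * y ≠ 1 ∧ y * d1 * b1 * x ≠ 1 ∧ (y * d1 * b1 * x) ^ 7 = 1 ∧ b1 * x * a1 * b1 * a2 * (a1 * y) * (b1 * x * a1 * b1 * a2)⁻¹ * (a1 * y) = a1 * y * (b1 * x * a1 * b1 * a2 * (a1 * y) * (b1 * x * a1 * b1 * a2)⁻¹) ∧ b1 * x * a1 * b1 * a2 * (a1 * y) * (b1 * x * a1 * b1 * a2)⁻¹ ≠ a1 * y ∧ b1 * x * a1 * b1 * a2 * (a1 * y) * (b1 * x * a1 * b1 * a2)⁻¹ ≠ (a1 * y) ^ 2 :=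
  Fm.sound M.μ m_od_F m_od_chk M.reps
theorem m_ex : ∃ a1 a2 b1 b2 c1 c2 d1 d2 y x k : Equiv.Perm (Fin 336), ∃ R, Md0 m_o m_cs R [a1, a2, b1, b2, c1, c2, d1, d2, y, x, k] :=
  ⟨_, _, _, _, _, _, _, _, _, _, _, _, (⟨IsMod.perm (PkOK.of (by decide +kernel)), reps_dec (by decide +kernel)⟩ :
    Md0 m_o m_cs _ (m_cs.map (dec (nat_lit 336) (nat_lit 9) (nat_lit 511))))⟩
theorem m_all : ∃ a1 a2 b1 b2 c1 c2 d1 d2 y x k : Equiv.Perm (Fin 336),
    (IV a1 a2) ∧
    (IV b1 b2) ∧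
    (IV c1 c2) ∧
    (IV d1 d2) ∧
    (CM a1 a2 c1 c2) ∧
    (CM a1 a2 d1 d2) ∧
    (CM b1 b2 c1 c2) ∧
    (CM b1 b2 d1 d2) ∧
    (CM c1 c2 d1 d2) ∧
    (CJ a1 a2 b1 b2 c1 c2 d1 d2) ∧
    (SW y b1 b2 c1 c2 d1 d2) ∧
    (SW x a1 a2 c1 c2 d1 d2) ∧
    (RL a1 a2 b1 b2 y x) ∧
    (OM k b1 b2) ∧
    (OM k c1 c2) ∧
    (OM k d1 d2) ∧
    (KK k a1 a2 b1 b2 y x) ∧
    (Q2 a1 b1 c1 d1 y x) ∧
    (1 * d1 ≠ 1 ∧ 1 * d2 ≠ 1 ∧ 1 * (d1 * d2) ≠ 1 ∧ c1 * 1 ≠ 1 ∧ c1 * d1 ≠ 1 ∧ c1 * d2 ≠ 1 ∧ c1 * (d1 * d2) ≠ 1 ∧ c2 * 1 ≠ 1 ∧ c2 * d1 ≠ 1 ∧ c2 * d2 ≠ 1 ∧ c2 * (d1 * d2) ≠ 1 ∧ (c1 * c2) * 1 ≠ 1 ∧ (c1 * c2) * d1 ≠ 1 ∧ (c1 * c2) * d2 ≠ 1 ∧ (c1 * c2) * (d1 * d2) ≠ 1) ∧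
    (a1 * y ≠ 1 ∧ a2 * y ≠ 1 ∧ y * d1 * b1 * x ≠ 1 ∧ (y * d1 * b1 * x) ^ 7 = 1 ∧ ((b1 * x * a1 * b1 * a2) * (a1 * y) * (b1 * x * a1 * b1 * a2)⁻¹) * (a1 * y) = a1 * y * ((b1 * x * a1 * b1 * a2) * (a1 * y) * (b1 * x * a1 * b1 * a2)⁻¹) ∧ ((b1 * x * a1 * b1 * a2) * (a1 * y) * (b1 * x * a1 * b1 * a2)⁻¹) ≠ a1 * y ∧ ((b1 * x * a1 * b1 * a2) * (a1 * y) * (b1 * x * a1 * b1 * a2)⁻¹) ≠ (a1 * y) ^ 2) :=
  have ⟨a1, a2, b1, b2, c1, c2, d1, d2, y, x, k, _, M⟩ := m_ex
  ⟨a1, a2, b1, b2, c1, c2, d1, d2, y, x, k, m_ia M, m_ib M, m_ic M, m_id M, m_ac M, m_ad M, m_bc M, m_bd M, m_cd M, m_cj M, m_sy M, m_sx M, m_rl M, m_kb M, m_kc M, m_kd M, m_kk M, m_q2 M, m_nt M, m_od M⟩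

end H24.SP
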