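import Cfsg.Agent.H24.SP1
import Cfsg.Agent.H2.CoprimeAbelian

/-! Odd characteristic: a group on `K³` with Sylow subgroup `T`, a fixed vector and a torus. -/

set_option autoImplicit false
set_option linter.unnecessarySeqFocus false

namespace H24.SP
open Subgroup H25
attribute [-simp] LinearEquiv.coe_inv

variable {K : Type*} [Field K] {g h σ : Au (V K)} {a a' μ ν : K} {v y : V K}

theorem fixu (h2 : (2 : K) ≠ 0) (ha : a ≠ 0) (h : u a v = v) : v ∈ Z1 K := by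
  have e1 : v.2.1 + a * v.1 = v.2.1 := congrArg (·.2.1) h
  have e2 : v.2.2 + 2 * a * v.2.1 + a ^ 2 * v.1 = v.2.2 := congrArg (·.2.2) h
  have e3 : v.1 = 0 := by simpa [ha] using e1
  exact ⟨e3, by simpa [e3, ha, h2] using e2⟩

theorem u_Z1 (a : K) (hv : v ∈ Z1 K) : u a v = v := by rw [eq_of_Z1 hv]; simp [u_ap]

theorem z1 (d : K) : ((0, 0, d) : V K) ∈ Z1 K := ⟨rfl, rfl⟩

theorem imu (h2 : (2 : K) ≠ 0) (ha : a ≠ 0) (hv : v ∈ Z2 K) : ∃ x, u a x - x = v :=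
  ⟨(v.2.1 / a, (v.2.2 - a * v.2.1) / (2 * a), 0), by
    rw [eq_of_Z2 hv]; ext <;> simp [u_ap] <;> field_simp <;> ring⟩

theorem conj_ap {x x' : Au (V K)} (e : g * x * g⁻¹ = x') (v : V K) : g (x v) = x' (g v) := by
  rw [← e]; simp

theorem conj_ne (ha : a ≠ 0) (e : g * u a * g⁻¹ = u a') : a' ≠ 0 := by
  rintro rfl
  rw [u_zero, mul_inv_eq_one, mul_eq_left] at e
  exact ha (u_eq_one e)

theorem pres_of_conj (h2 : (2 : K) ≠ 0) (ha : a ≠ 0) (e : g * u a * g⁻¹ = u a') :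
    (∀ v ∈ Z1 K, g v ∈ Z1 K) ∧ ∀ v ∈ Z2 K, g v ∈ Z2 K := by
  refine ⟨fun v hv => fixu h2 (conj_ne ha e) (by rw [← conj_ap e, u_Z1 a hv]), fun v hv => ?_⟩
  obtain ⟨x, rfl⟩ := imu h2 ha hv
  rw [map_sub, conj_ap e]; simp [mem_Z2, u_ap]

theorem nz_pres (h2 : (2 : K) ≠ 0) (hg : g ∈ nz (T K)) :
    (∀ v ∈ Z1 K, g v ∈ Z1 K) ∧ ∀ v ∈ Z2 K, g v ∈ Z2 K := by
  obtain ⟨a, e⟩ := conj_mem_of_mem_nz hg (u_mem (1 : K))
  exact pres_of_conj h2 one_ne_zero e.symm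

/-- torus elements -/
def Tr (μ : K) (h : Au (V K)) : Prop := (∀ v ∈ Z1 K, h v = v) ∧ ∀ a, h * u a * h⁻¹ = u (μ * a)

theorem Tr.ne (H : Tr μ h) : μ ≠ 0 := by simpa using conj_ne one_ne_zero (H.2 1)

theorem Tr.mul (H : Tr μ g) (H' : Tr ν h) : Tr (μ * ν) (g * h) :=
  ⟨fun v hv => by rw [mul_ap, H'.1 v hv, H.1 v hv], fun a => by
    rw [mul_assoc μ, ← H.2, ← H'.2]; group⟩

theorem Tr.inv (H : Tr μ g) : Tr μ⁻¹ g⁻¹ :=
  ⟨fun v hv => inv_fix (H.1 v hv), fun a => by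
    have := H.2 (μ⁻¹ * a)
    rw [mul_inv_cancel_left₀ H.ne] at this
    rw [← this]; group⟩

theorem Tr_u (a : K) : Tr 1 (u a) :=
  ⟨fun _ hv => u_Z1 a hv, fun b => by rw [u_comm, one_mul]; group⟩

theorem Tr.uniq (H : Tr μ g) (H' : Tr ν g) : μ = ν := by
  simpa using u_inj ((H.2 1).symm.trans (H'.2 1))

theorem Tr.lay2 (H : Tr μ h) (h2 : (2 : K) ≠ 0) (hv : v ∈ Z2 K) :
    (h v).1 = 0 ∧ μ * (h v).2.1 = v.2.1 := by
  have e := conj_ap (H.2 1) v
  have e1 : u 1 v = v + (0, 0, 2 * v.2.1) := by ext <;> simp [u_ap, mem_Z2.1 hv]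
  rw [e1, map_add, H.1 _ (z1 _), mul_one] at e
  have e2 : (h v).2.1 + 0 = (h v).2.1 + μ * (h v).1 := congrArg (·.2.1) e
  have e3 : (h v).2.2 + 2 * v.2.1 = (h v).2.2 + 2 * μ * (h v).2.1 + μ ^ 2 * (h v).1 :=
    congrArg (·.2.2) e
  have e4 : (h v).1 = 0 := by simpa [H.ne] using e2
  refine ⟨e4, mul_left_cancel₀ h2 ?_⟩
  rw [e4] at e3; linear_combination -e3

theorem Tr.lay1 (H : Tr μ h) (h2 : (2 : K) ≠ 0) (v : V K) : μ ^ 2 * (h v).1 = v.1 := by
  have e := conj_ap (H.2 1) v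
  have e1 : u 1 v = v + (0, v.1, 2 * v.2.1 + v.1) := by ext <;> simp [u_ap]; ring
  rw [e1, map_add, mul_one] at e
  have e2 : (h v).2.1 + (h (0, v.1, 2 * v.2.1 + v.1)).2.1 = (h v).2.1 + μ * (h v).1 :=
    congrArg (·.2.1) e
  have e3 := (H.lay2 h2 (v := (0, v.1, 2 * v.2.1 + v.1)) rfl).2
  linear_combination e3 - μ * e2

variable [Finite K]

theorem Tr.nz (H : Tr μ h) : h ∈ nz (T K) :=
  mem_nz_of_conj_mem (by rintro _ ⟨a, rfl⟩; exact ⟨_, (H.2 a).symm⟩)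

omit [Finite K] in
theorem tr_of_nz (h2 : (2 : K) ≠ 0) (hg : g ∈ nz (T K)) (hz : ∀ v ∈ Z1 K, g v = v) : ∃ μ, Tr μ g := by
  have hx := (nz_pres h2 hg).2 (0, 1, 0) rfl
  have key : ∀ a a', g * u a * g⁻¹ = u a' → a = a' * (g (0, 1, 0)).2.1 := fun a a' e => by
    have e1 := conj_ap e (0, 1, 0)
    rw [show u a (0, 1, 0) = (0, 1, 0) + (0, 0, 2 * a) by simp [u_ap], map_add, hz _ (z1 _)] at e1
    have e3 : (g (0, 1, 0)).2.2 + 2 * a = (g (0, 1, 0)).2.2 + 2 * a' * (g (0, 1, 0)).2.1 +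
      a' ^ 2 * (g (0, 1, 0)).1 := congrArg (·.2.2) e1
    rw [mem_Z2.1 hx] at e3
    exact mul_left_cancel₀ h2 (by linear_combination e3)
  have h0 : (g (0, 1, 0)).2.1 ≠ 0 := fun h => by
    obtain ⟨a, e⟩ := conj_mem_of_mem_nz hg (u_mem (1 : K))
    simpa [h] using key _ _ e.symm
  refine ⟨((g (0, 1, 0)).2.1)⁻¹, hz, fun a => ?_⟩
  obtain ⟨a', e⟩ := conj_mem_of_mem_nz hg (u_mem a)
  rw [← e, key _ _ e.symm]; congr 1; field_simp

/-- the standing hypothesis -/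
structure OJ (p : ℕ) (L : Subgroup (Au (V K))) (r : K) : Prop where
  syl : Syl p (T K) L
  two : (2 : K) ≠ 0
  r0 : r ≠ 0
  fix : ∀ g ∈ L, g (0, 0, r) = (0, 0, r)
  tor : ∀ μ ≠ 0, ∃ h ∈ L, Tr μ h

variable {p : ℕ} [Fact p.Prime] [CharP K p] {L : Subgroup (Au (V K))} {r : K}

theorem OJ.um (H : OJ p L r) (a : K) : u a ∈ L := H.syl.le (u_mem a)

theorem OJ.T1 (H : OJ p L r) (hg : g ∈ L) (h : Tr 1 g) : g ∈ T K :=
  chain' H.syl hg (fun v => by simpa using h.lay1 H.two v)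
    (fun v hv => by simpa using (h.lay2 H.two hv).2) h.1

theorem OJ.A (H : OJ p L r) (hg : g ∈ L) (hy : y ∈ Z2 K) (h : g y ∈ Z1 K) : y ∈ Z1 K := by
  refine ⟨hy, by_contra fun hc => H.r0 ?_⟩
  have hs := H.syl.cj g⁻¹
  rw [cj_eq_of_mem (inv_mem hg)] at hs
  have := ht hs (y := y) (δ := (0, 0, r)) (p_smul _) (by
    rintro _ ⟨_, ⟨a, rfl⟩, rfl⟩
    refine ⟨?_, H.fix _ (mul_mem (mul_mem (inv_mem hg) (H.um a)) (inv_mem (inv_mem hg)))⟩
    show g⁻¹ (u a (g⁻¹⁻¹ y)) = y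
    rw [inv_inv, u_Z1 a h, inv_ap]) (H.um (r / (2 * y.2.1))) (H.fix _ (H.um _)) (by
      have := H.two
      rw [eq_of_Z2 hy]; ext <;> simp [u_ap]; field_simp)
  simpa using this

theorem OJ.sq (H : OJ p L r) (hσ : σ ∈ L) (h : Tr (-1) σ) : σ * σ = 1 := by
  obtain ⟨a, e⟩ := H.T1 (mul_mem hσ hσ) (by simpa using h.mul h)
  have e1 := h.2 a
  rw [e, show σ * (σ * σ) * σ⁻¹ = σ * σ by group, ← e] at e1
  have e2 : 2 * a = 0 := by linear_combination u_inj e1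
  rw [← e, (mul_eq_zero.1 e2).resolve_left H.two, u_zero]

theorem OJ.sq' (H : OJ p L r) (hσ : σ ∈ L) (h : Tr (-1) σ) (v : V K) : σ (σ v) = v := by
  rw [← mul_ap, H.sq hσ h, one_ap]

theorem OJ.zero_of (H : OJ p L r) (hσ : σ ∈ L) (h : Tr (-1) σ) (hv : σ v - v ∈ Z1 K) : σ v = v := by
  have e := h.1 _ hv
  rw [map_sub, H.sq' hσ h] at e
  have e2 : (2 : K) • (σ v - v) = 0 := by rw [two_smul]; nth_rewrite 1 [← e]; simp
  exact sub_eq_zero.1 ((smul_eq_zero.1 e2).resolve_left H.two)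

theorem OJ.sub_Z2 (H : OJ p L r) (h : Tr (-1) σ) (v : V K) : σ v - v ∈ Z2 K := by
  have := h.lay1 H.two v
  simp only [mem_Z2, Prod.fst_sub]; linear_combination this

theorem OJ.fixσ (H : OJ p L r) (hv : v.1 ≠ 0) : ∃ σ ∈ L, Tr (-1) σ ∧ σ v = v := by
  obtain ⟨τ, hτ, h⟩ := H.tor (-1) (by simp)
  have h1 : (τ v).1 = v.1 := by simpa using h.lay1 H.two v
  have h' : Tr (-1) (u ((v.2.1 - (τ v).2.1) / v.1) * τ) := by simpa using (Tr_u _).mul h
  refine ⟨_, mul_mem (H.um _) hτ, h', H.zero_of (mul_mem (H.um _) hτ) h' ⟨H.sub_Z2 h' v, ?_⟩⟩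
  simp [u_ap, h1]; field_simp; ring

theorem OJ.S (H : OJ p L r) (hσ : σ ∈ L) (h : Tr (-1) σ) (hg : g ∈ L)
    (hn : g * σ * g⁻¹ ∈ nz (T K)) : Tr (-1) (g * σ * g⁻¹) := by
  have hL : g * σ * g⁻¹ ∈ L := mul_mem (mul_mem hg hσ) (inv_mem hg)
  have hsq : g * σ * g⁻¹ * (g * σ * g⁻¹) = 1 := by
    rw [show g * σ * g⁻¹ * (g * σ * g⁻¹) = g * (σ * σ) * g⁻¹ by group, H.sq hσ h]; group
  obtain ⟨μ, hμ⟩ := tr_of_nz H.two hn fun v hv => by
    have e : σ (g⁻¹ v) = g⁻¹ v := H.zero_of hσ h (H.A hg (H.sub_Z2 h _) (by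
      rw [map_sub, ap_inv]; exact sub_mem ((nz_pres H.two hn).1 v hv) hv))
    rw [mul_ap, mul_ap, e, ap_inv]
  have h1 : μ * μ = 1 := (hμ.mul hμ).uniq (by rw [hsq, ← u_zero]; exact Tr_u 0)
  rcases mul_self_eq_one_iff.1 h1 with rfl | rfl
  · obtain ⟨a, e⟩ := H.T1 hL hμ
    rw [← e, u_mul] at hsq
    have e2 : 2 * a = 0 := by linear_combination u_eq_one hsq
    rw [(mul_eq_zero.1 e2).resolve_left H.two, u_zero, eq_comm, mul_inv_eq_one, mul_eq_left] at e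
    rw [e, ← u_zero] at h
    exact absurd (by linear_combination (Tr_u 0).uniq h) H.two
  · exact hμ

theorem OJ.nz_of_cen (H : OJ p L r) (hg : g ∈ L) (ha : a ≠ 0) (e : g * u a * g⁻¹ = u a') :
    g ∈ nz (T K) :=
  nrm H.syl hg (pres_of_conj H.two ha e).1 (pres_of_conj H.two ha e).2

theorem OJ.B (H : OJ p L r) (hg : g ∈ L) (hn : g ∉ nz (T K)) :
    (∀ d, g (0, 0, d) ∈ Z1 K → d ∈ AddSubgroup.zmultiples r) ∧ ∃ d, d ∉ AddSubgroup.zmultiples r := by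
  have h2 := H.two
  obtain ⟨x, x1, x2, x3⟩ : ∃ x ∈ Z2 K, x.2.1 ≠ 0 ∧ (g x).1 ≠ 0 := by
    by_contra hc
    push Not at hc
    have h1 : ∀ x ∈ Z2 K, g x ∈ Z2 K := fun x hx => by
      by_cases h0 : x.2.1 = 0
      · have e1 := hc (0, 1, 0) rfl (by simp)
        have e2 := hc (x + (0, 1, 0)) (by simpa [mem_Z2] using mem_Z2.1 hx) (by simp [h0])
        rw [map_add, Prod.fst_add, e1, add_zero] at e2
        exact e2
      · exact hc x hx h0
    exact hn (nrm H.syl hg (fun v hv => H.A (inv_mem hg) (h1 v hv.1) (by rwa [inv_ap])) h1)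
  obtain ⟨σ, hσ, hσ1, hσ2⟩ := H.fixσ x3
  set s := g⁻¹ * σ * g⁻¹⁻¹ with hs
  have hsL : s ∈ L := mul_mem (mul_mem (inv_mem hg) hσ) (inv_mem (inv_mem hg))
  have hsx : s x = x := by rw [hs, inv_inv, mul_ap, mul_ap, hσ2, inv_ap]
  have hsz : ∀ v, g v ∈ Z1 K → s v = v := fun v hv => by
    rw [hs, inv_inv, mul_ap, mul_ap, hσ1.1 _ hv, inv_ap]
  have hsn : s ∉ nz (T K) := fun h => by
    have := ((H.S hσ hσ1 (inv_mem hg) h).lay2 h2 x1).2
    rw [← hs, hsx] at this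
    exact mul_ne_zero h2 x2 (by linear_combination -this)
  refine ⟨fun d hd => by_contra fun hd' => hsn ?_, by_contra fun hc => hsn ?_⟩
  · set c := x.2.1
    let C : Subgroup (Au (V K)) := L ⊓ MulAction.stabilizer _ x ⊓ MulAction.stabilizer _ ((0, 0, d) : V K)
    let A : Subgroup (Au (V K)) :=
      { carrier := {t | ∃ m n : ℤ, u ((m * r + n * d) / (2 * c)) = t}
        one_mem' := ⟨0, 0, by simp [u_zero]⟩
        mul_mem' := by
          rintro _ _ ⟨m, n, rfl⟩ ⟨m', n', rfl⟩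
          exact ⟨m + m', n + n', by rw [u_mul]; congr 1; push_cast; ring⟩
        inv_mem' := by
          rintro _ ⟨m, n, rfl⟩
          exact ⟨-m, -n, by rw [u_inv]; congr 1; push_cast; ring⟩ }
    have hAT : A ≤ T K := by rintro _ ⟨m, n, rfl⟩; exact u_mem _
    have : IsMulCommutative A := ⟨⟨by
      rintro ⟨_, m, n, rfl⟩ ⟨_, m', n', rfl⟩; exact Subtype.ext (u_comm _ _)⟩⟩
    have hcyc : ¬ IsCyclic A := by
      rintro ⟨⟨_, m, n, rfl⟩, hz⟩
      obtain ⟨i, hi⟩ := mem_powers_iff_mem_zpowers.2 (hz ⟨_, 1, 0, rfl⟩)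
      obtain ⟨j, hj⟩ := mem_powers_iff_mem_zpowers.2 (hz ⟨_, 0, 1, rfl⟩)
      have hi' := u_inj ((u_pow _ i).symm.trans (congrArg Subtype.val hi))
      have hj' := u_inj ((u_pow _ j).symm.trans (congrArg Subtype.val hj))
      have hi0 : (i : K) ≠ 0 := fun h0 => by
        rw [h0, eq_comm] at hi'
        simp [H.r0, h2, x2] at hi'
      have hi1 : (i : ZMod p) ≠ 0 := fun h0 => hi0 (by
        rwa [CharP.cast_eq_zero_iff K p, ← ZMod.natCast_eq_zero_iff])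
      have hi2 : (((i : ZMod p)⁻¹.val * i : ℕ) : K) = 1 := by
        rw [← Nat.cast_one (R := K), CharP.natCast_eq_natCast K p, ← ZMod.natCast_eq_natCast_iff]
        simp [hi1]
      refine hd' ⟨((i : ZMod p)⁻¹.val * j : ℕ), ?_⟩
      push_cast at hi2 hi' hj'
      field_simp at hi' hj'
      simp only [zsmul_eq_mul]
      push_cast
      linear_combination (((i : ZMod p)⁻¹.val : K) * j) * (-hi') + (((i : ZMod p)⁻¹.val : K) * i) * hj' + d * hi2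
    have hAC : A ≤ normalizer (C : Set (Au (V K))) := le_nz_iff.2 (by
      rintro _ ⟨m, n, rfl⟩ k ⟨⟨k1, k2⟩, k3⟩
      have k2' : k x = x := k2
      have k3' : k (0, 0, d) = (0, 0, d) := k3
      have k1' : k ∈ L := k1
      refine ⟨⟨L.mul_mem (L.mul_mem (H.um _) k1') (L.inv_mem (H.um _)), ?_⟩, ?_⟩
      · show u _ (k ((u _)⁻¹ x)) = x
        have e : (u ((m * r + n * d) / (2 * c)))⁻¹ x = x - m • (0, 0, r) - n • (0, 0, d) := by
          rw [u_inv, eq_of_Z2 x1]; ext <;> simp [u_ap]; field_simp; ring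
        have e' : k ((u ((m * r + n * d) / (2 * c)))⁻¹ x) = (u ((m * r + n * d) / (2 * c)))⁻¹ x := by
          rw [e, map_sub, map_sub, map_zsmul, map_zsmul, k2', k3', H.fix k k1']
        rw [e', ap_inv]
      · show u _ (k ((u _)⁻¹ (0, 0, d))) = (0, 0, d)
        rw [inv_fix (u_Z1 _ ⟨rfl, rfl⟩), k3', u_Z1 _ ⟨rfl, rfl⟩])
    have hcop : (Nat.card A).Coprime (Nat.card C) := by
      obtain ⟨n, hn⟩ := (pT.to_le hAT).exists_card_eq
      rw [hn]
      refine Nat.Coprime.pow_left _ ((Nat.Prime.coprime_iff_not_dvd Fact.out).2 fun hd => ?_)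
      obtain ⟨⟨l, ⟨l1, l2⟩, l3⟩, hl⟩ := exists_prime_orderOf_dvd_card' p hd
      have hl' : orderOf l = p ^ 1 := by rw [pow_one, ← hl]; exact (orderOf_mk l _).symm
      obtain ⟨k, hk, hle⟩ := H.syl.exists_cj_le (isPGroup_zpowers_of_orderOf hl') (zpowers_le.2 l1)
      obtain ⟨a, ha⟩ := hle (conj_mem_cj k (mem_zpowers l))
      have ha0 : a ≠ 0 := by
        rintro rfl
        rw [u_zero, eq_comm, mul_inv_eq_one, mul_eq_left] at ha
        rw [ha, orderOf_one, pow_one] at hl'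
        exact (Fact.out : p.Prime).one_lt.ne hl'
      have l2' : l x = x := l2
      exact x2 (H.A hk x1 (fixu h2 ha0 (by rw [ha, mul_ap, mul_ap, inv_ap, l2']))).2
    refine H2.le_of_centralizer_le hcyc hAC hcop ?_ (⟨⟨hsL, hsx⟩, hsz _ hd⟩ : s ∈ C)
    intro t ht ht1 k hk
    obtain ⟨a, rfl⟩ := hAT ht
    refine H.nz_of_cen hk.1.1.1 (a := a) (a' := a) (by rintro rfl; exact ht1 u_zero) ?_
    rw [← mem_centralizer_iff.1 hk.2 _ rfl]; group
  · push Not at hc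
    have hz : ∀ v ∈ Z1 K, s v = v := fun v hv => by
      obtain ⟨n, hn⟩ := hc v.2.2
      have : v = n • (0, 0, r) := by rw [eq_of_Z1 hv, ← hn]; simp
      rw [this, map_zsmul, H.fix s hsL]
    refine nrm H.syl hsL (fun v hv => by rwa [hz v hv]) fun v hv => ?_
    obtain ⟨n, hn⟩ := hc (v.2.1 * r / x.2.1)
    have hn' : (n : K) * x.2.1 = v.2.1 := by
      have := H.r0
      simp only [zsmul_eq_mul] at hn
      field_simp at hn; linear_combination hn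
    have : s v = v := by
      rw [← sub_add_cancel v (n • x), map_add, map_zsmul, hsx, hz _ ⟨by
        simp [mem_Z2.1 hv, mem_Z2.1 x1], by simp [hn']⟩]
    rwa [this]

theorem OJ.ker (H : OJ p L r) (hg : g ∈ L) (hn : g ∉ nz (T K)) {d : K} :
    g (0, 0, d) ∈ Z2 K ↔ d ∈ AddSubgroup.zmultiples r := by
  refine ⟨fun h => (H.B hg hn).1 d (H.A (inv_mem hg) h (by rw [inv_ap]; exact ⟨rfl, rfl⟩)), ?_⟩
  rintro ⟨n, rfl⟩
  rw [show ((0, 0, n • r) : V K) = n • (0, 0, r) by simp, map_zsmul, H.fix g hg]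
  simp [mem_Z2]

theorem OJ.C (H : OJ p L r) (hg : g ∈ L) (hn : g ∉ nz (T K)) :
    ∃ σ ∈ L, Tr (-1) σ ∧ Tr (-1) (g * σ * g⁻¹) := by
  obtain ⟨d, hd⟩ := (H.B hg hn).2
  obtain ⟨σ, hσ, h1, h2⟩ := H.fixσ (v := g⁻¹ (0, 0, d)) fun h =>
    hd ((H.ker (inv_mem hg) (mt inv_mem_iff.1 hn)).1 h)
  refine ⟨σ, hσ, h1, H.S hσ h1 hg (by_contra fun hc => hd ?_)⟩
  refine (H.B (mul_mem (mul_mem hg hσ) (inv_mem hg)) hc).1 d ?_
  rw [mul_ap, mul_ap, h2, ap_inv]; exact ⟨rfl, rfl⟩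

theorem OJ.D (H : OJ p L r) (hg : g ∈ L) (hn : g ∉ nz (T K)) (c : K) :
    ∃ e : K, g (0, c, e) ∈ Z2 K := by
  obtain ⟨σ, hσ, h1, h2⟩ := H.C hg hn
  have h3 := h1.lay2 H.two (v := (0, -c / 2, 0)) rfl
  have h4 := H.sub_Z2 h2 (g (0, -c / 2, 0))
  rw [mul_ap, mul_ap, inv_ap, ← map_sub] at h4
  refine ⟨(σ (0, -c / 2, 0)).2.2, ?_⟩
  convert h4 using 2
  have := H.two
  ext
  · simp [h3.1]
  · have := h3.2
    simp only [Prod.snd_sub, Prod.fst_sub] at this ⊢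
    field_simp at this ⊢; linear_combination this
  · simp

theorem OJ.E1 (H : OJ p L r) (hg : g ∈ L) (hn : g ∉ nz (T K)) (h : g * u a * g⁻¹ ∈ nz (T K)) :
    a = 0 := by
  by_contra ha
  obtain ⟨a', e⟩ := mem_T_of_pow H.syl (mul_mem (mul_mem hg (H.um a)) (inv_mem hg)) h (by
    rw [conj_pow, u_pow]; simp [u_zero])
  exact hn (H.nz_of_cen hg ha e.symm)

theorem nz_mult (h2 : (2 : K) ≠ 0) (hn : g ∈ nz (T K)) (x y : K) :
    (g (0, 0, x * y)).2.2 * (g (0, 0, 1)).2.2 = (g (0, 0, x)).2.2 * (g (0, 0, y)).2.2 := by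
  have key : ∀ a a' c, g * u a * g⁻¹ = u a' → (g (0, 0, a * c)).2.2 = a' * (g (0, c, 0)).2.1 :=
    fun a a' c e => by
      have e1 := conj_ap e (0, c, 0)
      rw [show u a (0, c, 0) = (0, c, 0) + (0, 0, a * c) + (0, 0, a * c) by
        ext <;> simp [u_ap]; ring, map_add, map_add] at e1
      have e3 : (g (0, c, 0)).2.2 + (g (0, 0, a * c)).2.2 + (g (0, 0, a * c)).2.2 =
        (g (0, c, 0)).2.2 + 2 * a' * (g (0, c, 0)).2.1 + a' ^ 2 * (g (0, c, 0)).1 := congrArg (·.2.2) e1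
      rw [mem_Z2.1 ((nz_pres h2 hn).2 (0, c, 0) rfl)] at e3
      exact mul_left_cancel₀ h2 (by linear_combination e3)
  obtain ⟨a, e⟩ := conj_mem_of_mem_nz hn (u_mem x)
  obtain ⟨b, e'⟩ := conj_mem_of_mem_nz hn (u_mem (1 : K))
  have e1 := key _ _ y e.symm
  have e2 := key _ _ 1 e.symm
  have e3 := key _ _ y e'.symm
  have e4 := key _ _ 1 e'.symm
  rw [mul_one] at e2 e4
  rw [one_mul] at e3
  rw [e1, e2, e3, e4]; ring

theorem OJ.card_r (H : OJ p L r) : Nat.card (AddSubgroup.zmultiples r) = p := by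
  rw [Nat.card_zmultiples]
  exact addOrderOf_eq_prime (by simp) H.r0

theorem OJ.E (H : OJ p L r) (hg : g ∈ L) (hn : g ∉ nz (T K)) (hh : h ∈ L) (hμ : Tr μ h)
    (h1 : g * h * g⁻¹ ∈ nz (T K)) : μ ^ 4 = 1 := by
  have h2 := H.two
  have r0 := H.r0
  set n := g * h * g⁻¹ with hn'
  have hnL : n ∈ L := mul_mem (mul_mem hg hh) (inv_mem hg)
  let G : K → K := fun d => (n (0, 0, d)).2.2
  have hG : ∀ d, n (0, 0, d) = (0, 0, G d) := fun d => eq_of_Z1 ((nz_pres h2 h1).1 _ ⟨rfl, rfl⟩)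
  let π : K →+ K := AddMonoidHom.mk' (fun d => (g⁻¹ (0, 0, d)).1) fun x y => by
    rw [← Prod.fst_add, ← map_add]; simp
  have hπ : ∀ d, π d = 0 ↔ d ∈ AddSubgroup.zmultiples r := fun d =>
    H.ker (inv_mem hg) (mt inv_mem_iff.1 hn)
  have hμ0 := hμ.ne
  obtain ⟨ν, hν⟩ : ∃ ν, ν = (μ ^ 2)⁻¹ := ⟨_, rfl⟩
  have hπG : ∀ d, π (G d) = ν * π d := fun d => by
    have e := hμ.lay1 h2 (g⁻¹ (0, 0, d))
    have e' : π (G d) = (h (g⁻¹ (0, 0, d))).1 := by
      show (g⁻¹ (0, 0, G d)).1 = _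
      rw [← hG, hn', mul_ap, mul_ap, inv_ap]
    rw [e', hν, eq_inv_mul_iff_mul_eq₀ (pow_ne_zero 2 hμ0)]; exact e
  have hidx : π.range.index = p := by
    have e1 : π.ker = AddSubgroup.zmultiples r := by ext d; exact hπ d
    have e2 := π.range.card_mul_index
    have e3 := π.ker.card_mul_index
    rw [AddSubgroup.index_ker, e1, H.card_r, ← e2, mul_comm] at e3
    exact (Nat.eq_of_mul_eq_mul_left Nat.card_pos e3).symm
  obtain ⟨m, hm⟩ : ∃ m : ℤ, ν = m := by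
    obtain ⟨k, hk⟩ : ∃ k, k ∉ π.range := by
      by_contra hc
      push Not at hc
      rw [(AddSubgroup.eq_top_iff' _).2 hc, AddSubgroup.index_top] at hidx
      exact (Fact.out : p.Prime).one_lt.ne hidx
    have htop : π.range ⊔ AddSubgroup.zmultiples k = ⊤ := by
      have e := AddSubgroup.relIndex_mul_index
        (le_sup_left : π.range ≤ π.range ⊔ AddSubgroup.zmultiples k)
      rw [hidx] at e
      rcases (Nat.dvd_prime Fact.out).1 (Dvd.intro _ e) with e1 | e1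
      · exact absurd (AddSubgroup.relIndex_eq_one.1 e1 (AddSubgroup.mem_sup_right
          (AddSubgroup.mem_zmultiples k))) hk
      · rw [e1] at e
        exact AddSubgroup.index_eq_one.1 (by
          simpa [(Fact.out : p.Prime).ne_zero] using e)
    have hdec : ∀ x : K, ∃ d, ∃ m : ℤ, x = π d + m * k := fun x => by
      obtain ⟨_, ⟨d, rfl⟩, _, ⟨m, rfl⟩, e⟩ := AddSubgroup.mem_sup.1 (htop.ge (AddSubgroup.mem_top x))
      exact ⟨d, m, by simpa using e.symm⟩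
    obtain ⟨d, m, e⟩ := hdec (ν * k)
    refine ⟨m, by_contra fun hc => hk ?_⟩
    obtain ⟨d', m', e'⟩ := hdec (k / (ν - m))
    refine ⟨G d' - m • d' + m' • d, ?_⟩
    have := sub_ne_zero.2 hc
    rw [map_add, map_sub, map_zsmul, map_zsmul, hπG]
    simp only [zsmul_eq_mul]
    field_simp at e'
    linear_combination -e' - m' * e
  have hGr : G r = r := by simp only [G, H.fix n hnL]
  have hG1 : G 1 ≠ 0 := fun h0 => by
    have := nz_mult h2 h1 r 1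
    have e := hG 1
    rw [h0] at e
    have := n.injective (e.trans (map_zero n).symm)
    simp at this
  let θ : K →+* K :=
    { toFun := fun x => G (x * r) / r
      map_one' := by simp [hGr, r0]
      map_zero' := by simp [G, show ((0, 0, 0) : V K) = 0 from rfl]
      map_add' := fun x y => by
        simp only [G]
        rw [← add_div, ← Prod.snd_add, ← Prod.snd_add, ← map_add, add_mul]; simp
      map_mul' := fun x y => by
        have e1 : G (x * r * (y * r)) * G 1 = G (x * r) * G (y * r) := nz_mult h2 h1 _ _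
        have e2 : G (x * y * r * r) * G 1 = G (x * y * r) * G r := nz_mult h2 h1 _ _
        rw [show x * r * (y * r) = x * y * r * r by ring, e2, hGr] at e1
        field_simp; linear_combination e1 }
  have hθ : ∀ x, ∃ j : ℤ, θ x = ν * x + j := fun x => by
    obtain ⟨j, hj⟩ := (hπ (G (x * r) - m • (x * r))).1 (by
      rw [map_sub, map_zsmul, hπG, hm]; simp)
    refine ⟨j, ?_⟩
    show G (x * r) / r = _
    simp only [zsmul_eq_mul] at hj
    rw [hm]; field_simp; linear_combination -hj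
  suffices e : ν ^ 2 = 1 by
    rw [hν, inv_pow, inv_eq_one] at e; rw [← e]; ring
  by_cases hν1 : ν = 1
  · simp [hν1]
  have hν2 := sub_ne_zero.2 hν1
  have hν0 : ν ≠ 0 := by simp [hν, hμ0]
  have hθν : θ ν = ν := by rw [hm, map_intCast]
  obtain ⟨x, hx⟩ : ∃ x, θ x ≠ x := by
    by_contra hc
    push Not at hc
    obtain ⟨d, hd⟩ := (H.B hg hn).2
    obtain ⟨j, hj⟩ := hθ (d / r / (1 - ν))
    have := sub_ne_zero.2 (Ne.symm hν1)
    rw [hc] at hj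
    refine hd ⟨j, ?_⟩
    have e : (j : K) = d / r := by
      rw [← mul_div_cancel₀ (d / r) this]; linear_combination -hj
    simp only [zsmul_eq_mul]
    rw [e]; field_simp
  obtain ⟨j, hj⟩ := hθ x
  have e1 : θ (x + j / (ν - 1)) = ν * (x + j / (ν - 1)) := by
    rw [map_add, map_div₀, map_sub, map_intCast, map_one, hθν, hj]; field_simp; ring
  have e0 : x + j / (ν - 1) ≠ 0 := fun h0 => hx (by
    rw [eq_neg_of_add_eq_zero_left h0, map_neg, map_div₀, map_sub, map_intCast, map_one, hθν])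
  set z := x + j / (ν - 1)
  obtain ⟨i, hi⟩ := hθ (z ^ 2)
  have e2 : z ^ 2 = i / (ν * (ν - 1)) := by
    rw [map_pow, e1] at hi; field_simp; linear_combination hi
  have e3 : θ (z ^ 2) = z ^ 2 := by
    rw [e2, map_div₀, map_mul, map_sub, map_intCast, map_one, hθν]
  rw [map_pow, e1, mul_pow] at e3
  exact mul_right_cancel₀ (pow_ne_zero 2 e0) (by rw [e3, one_mul])

end H24.SP
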