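import Cfsg.Agent.H24.SP2

/-! Odd characteristic: the counting argument. -/

set_option autoImplicit false
set_option linter.unnecessarySeqFocus false

namespace H24.SP
open Subgroup H25 Finset
attribute [-simp] LinearEquiv.coe_inv

theorem dvd_of_stab {G X : Type*} [Group G] [Finite G] [MulAction G X] (k : ℕ) (s : Finset X)
    (h1 : ∀ g : G, ∀ x ∈ s, g • x ∈ s) (h2 : ∀ x ∈ s, Nat.card (MulAction.stabilizer G x) ∣ k) :
    Nat.card G ∣ k * s.card := by
  classical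
  induction s using Finset.strongInduction with
  | H s ih =>
    rcases s.eq_empty_or_nonempty with rfl | ⟨x, hx⟩
    · simp
    let O := s.filter (· ∈ MulAction.orbit G x)
    have hO : Nat.card (MulAction.orbit G x) = O.card := by
      rw [← Nat.card_eq_finsetCard]
      exact Nat.card_congr (Equiv.subtypeEquivRight fun y => by
        simp only [O, mem_filter]
        exact ⟨fun ⟨g, e⟩ => ⟨e ▸ h1 g x hx, g, e⟩, fun h => h.2⟩)
    have e1 : Nat.card G ∣ k * O.card := by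
      rw [← hO, ← (MulAction.stabilizer G x).card_mul_index, MulAction.index_stabilizer,
        Nat.card_coe_set_eq]
      exact Nat.mul_dvd_mul_right (h2 x hx) _
    have e2 := ih (s \ O) (sdiff_ssubset (filter_subset _ _)
      ⟨x, mem_filter.2 ⟨hx, MulAction.mem_orbit_self x⟩⟩) (fun g y hy => by
        rw [mem_sdiff] at hy ⊢
        refine ⟨h1 g y hy.1, fun h => hy.2 (mem_filter.2 ⟨hy.1, ?_⟩)⟩
        obtain ⟨a, e⟩ := (mem_filter.1 h).2
        exact ⟨g⁻¹ * a, by simp only at e ⊢; rw [mul_smul, e, inv_smul_smul]⟩)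
      fun y hy => h2 y (mem_sdiff.1 hy).1
    rw [← card_sdiff_add_card_eq_card (filter_subset (· ∈ MulAction.orbit G x) s), mul_add]
    exact dvd_add e2 e1

theorem cnt {G X : Type*} [Group G] [Fintype G] [MulAction G X] (H : Subgroup G) (Y : Finset X) {x y : X}
    [DecidablePred fun g => g ∈ H ∧ g • y ∈ Y]
    (hb : ∀ y ∈ Y, ∃ b ∈ H, b • x = y) (hy : y ∈ Y) :
    (univ.filter fun g => g ∈ H ∧ g • y ∈ Y).card =
      Y.card * Nat.card (H ⊓ MulAction.stabilizer G x : Subgroup G) := by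
  classical
  rw [card_eq_sum_card_fiberwise (f := fun g => g • y) (t := Y) fun g hg => (mem_filter.1 hg).2.2,
    ← smul_eq_mul, ← sum_const]
  refine sum_congr rfl fun z hz => ?_
  obtain ⟨b, b1, rfl⟩ := hb y hy
  obtain ⟨c, c1, rfl⟩ := hb z hz
  rw [← Nat.card_eq_finsetCard]
  refine Nat.card_congr
    { toFun := fun g => ⟨c⁻¹ * g * b, ?_⟩
      invFun := fun g => ⟨c * g * b⁻¹, ?_⟩
      left_inv := fun g => Subtype.ext (by simp [mul_assoc])
      right_inv := fun g => Subtype.ext (by simp [mul_assoc]) }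
  · obtain ⟨a1, a2⟩ := mem_filter.1 g.2
    refine ⟨H.mul_mem (H.mul_mem (H.inv_mem c1) (mem_filter.1 a1).2.1) b1, ?_⟩
    show (c⁻¹ * g * b) • x = x
    rw [mul_smul, mul_smul, a2, inv_smul_smul]
  · have a2 : (g : G) • x = x := g.2.2
    have e : (c * g * b⁻¹) • b • x = c • x := by rw [mul_smul, inv_smul_smul, mul_smul, a2]
    exact mem_filter.2 ⟨mem_filter.2 ⟨mem_univ _, mul_mem (mul_mem c1 g.2.1) (inv_mem b1),
      by rwa [e]⟩, e⟩

theorem arith {p s m n : ℕ} (hp : p.Prime) (hp2 : p ≠ 2) (hs : 1 < s) (hn : 1 < n)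
    (hc : ∀ k : ℕ, k.Coprime p → k.Coprime (p * s))
    (e1 : p * s * m = p * s + (n - 1) * p) (e2 : m ∣ n * (p * s * (p * s - 1)))
    (e3 : p * s * (p * s - 1) ∣ 4 * (n - 1)) : False := by
  have h3 : 3 ≤ p := by have := hp.two_le; omega
  obtain ⟨n, rfl⟩ : ∃ k, n = k + 1 := ⟨n - 1, by omega⟩
  rw [Nat.add_sub_cancel] at e1 e3
  have e4 : s * m = s + n := Nat.eq_of_mul_eq_mul_left hp.pos (by linarith)
  obtain ⟨m, rfl⟩ : ∃ k, m = k + 1 := ⟨m - 1, by
    rcases m with _ | m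
    · omega
    · simp⟩
  have e5 : n = s * m := by linarith
  subst e5
  obtain ⟨s, rfl⟩ : ∃ k, s = k + 1 := ⟨s - 1, by omega⟩
  obtain ⟨w, hw⟩ : ∃ w, p * (s + 1) = w + 1 := ⟨p * (s + 1) - 1, by
    have : 0 < p * (s + 1) := by positivity
    omega⟩
  rw [hw, Nat.add_sub_cancel] at e2
  have e6 : p * w ∣ 4 * m := Nat.dvd_of_mul_dvd_mul_left (Nat.succ_pos s) (by
    rw [hw, Nat.add_sub_cancel, ← hw] at e3
    convert e3 using 1 <;> simp only [Nat.succ_eq_add_one] <;> ring)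
  have e7 : p ∣ m := by
    refine ((Nat.Prime.dvd_mul hp).1 ((Dvd.intro _ rfl).trans e6)).resolve_left fun h => hp2 ?_
    exact (Nat.prime_dvd_prime_iff_eq hp Nat.prime_two).1 (hp.dvd_of_dvd_pow (n := 2) h)
  have e8 : (m + 1).Coprime (w + 1) := hw ▸ hc _ (by
    obtain ⟨c, rfl⟩ := e7
    simp)
  have e9 : m + 1 ∣ ((s + 1) * m + 1) * w :=
    e8.dvd_of_dvd_mul_left (by convert e2 using 1; ring)
  have e10 : m + 1 ∣ s * w := (Nat.dvd_add_right e9).1 ⟨(s + 1) * w, by ring⟩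
  obtain ⟨j, hj⟩ := e6
  have e11 : m + 1 ∣ 4 * s := (Nat.dvd_add_right (e10.mul_right (p * j))).1 ⟨4 * s, by
    rw [show s * w * (p * j) = s * (p * w * j) by ring, ← hj]; ring⟩
  obtain ⟨t, ht⟩ := e11
  have hm : 0 < m := Nat.pos_of_ne_zero (by rintro rfl; simp at hn)
  have hj0 : 0 < j := Nat.pos_of_ne_zero (by rintro rfl; omega)
  have ht0 : 0 < t := Nat.pos_of_ne_zero (by rintro rfl; omega)
  have key : 16 * s = (4 + p * w * j) * t := by nlinarith
  rcases (by omega : p = 3 ∨ 4 ≤ p) with rfl | h4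
  · have hw' : w = 3 * s + 2 := by omega
    subst hw'
    rcases (by omega : t = 1 ∨ 2 ≤ t) with rfl | t2
    · rcases (by omega : j = 1 ∨ 2 ≤ j) with rfl | j2
      · omega
      · nlinarith
    · nlinarith [Nat.mul_le_mul hj0 t2]
  · have a1 : 4 * s ≤ w := by nlinarith
    have a2 : 16 * s ≤ p * w := by nlinarith
    have a3 : p * w ≤ p * w * j := Nat.le_mul_of_pos_right _ hj0
    have a4 : 4 + p * w * j ≤ (4 + p * w * j) * t := Nat.le_mul_of_pos_right _ ht0
    omega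

variable {K : Type*} [Field K] [Finite K] {p : ℕ} [Fact p.Prime] [CharP K p]
  {L : Subgroup (Au (V K))} {r : K} {g : Au (V K)}

theorem OJ.tdvd (H : OJ p L r) :
    Nat.card K * (Nat.card K - 1) ∣ 4 * ((nz (T K)).relIndex L - 1) := by
  classical
  let B : Subgroup L :=
    { carrier := {b | ∃ μ : K, Tr μ (b : Au (V K))}
      one_mem' := ⟨1, by simpa [u_zero] using Tr_u (0 : K)⟩
      mul_mem' := fun ⟨_, a⟩ ⟨_, b⟩ => ⟨_, a.mul b⟩
      inv_mem' := fun ⟨_, a⟩ => ⟨_, a.inv⟩ }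
  have hB : ∀ b : B, ∃ μ : K, Tr μ ((b : L) : Au (V K)) := fun b => b.2
  choose f hf using hB
  let χ : B →* Kˣ := MonoidHom.mk' (fun b => Units.mk0 (f b) (hf b).ne) fun a b =>
    Units.ext ((hf (a * b)).uniq ((hf a).mul (hf b)))
  have hχ : ∀ b, (χ b : K) = f b := fun _ => rfl
  have h1 : χ.range = ⊤ := MonoidHom.range_eq_top.2 fun μ => by
    obtain ⟨h, a, b⟩ := H.tor μ μ.ne_zero
    exact ⟨⟨⟨h, a⟩, _, b⟩, Units.ext ((hf _).uniq b)⟩
  have h2 : Nat.card χ.ker = Nat.card K :=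
    (Nat.card_congr (Equiv.ofBijective (fun a : K => (⟨⟨⟨u a, H.um a⟩, 1, Tr_u a⟩,
      Units.ext ((hf _).uniq (Tr_u a))⟩ : χ.ker))
      ⟨fun _ _ h => u_inj (congrArg (fun x : χ.ker => ((x : B) : L).1) h), fun ⟨b, hb⟩ => by
        have e : f b = 1 := congrArg Units.val hb
        obtain ⟨a, ha⟩ := H.T1 b.1.2 (e ▸ hf b)
        exact ⟨a, Subtype.ext (Subtype.ext (Subtype.ext ha))⟩⟩)).symm
  have h3 : Nat.card B = Nat.card K * (Nat.card K - 1) := by
    rw [← χ.ker.card_mul_index, index_ker, h1, h2, card_top, Nat.card_units]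
  let N := (nz (T K)).subgroupOf L
  have := Fintype.ofFinite (L ⧸ N)
  have h4 := dvd_of_stab (G := B) 4 (univ.erase ((1 : L) : L ⧸ N)) (fun b x hx => by
    rw [mem_erase] at hx ⊢
    refine ⟨fun e => hx.1 ?_, mem_univ _⟩
    rw [← inv_smul_smul b x, e]
    show ((((b⁻¹ : B) : L) * 1 : L) : L ⧸ N) = _
    rw [QuotientGroup.eq]
    simpa using (show (b : L) ∈ N from (hf b).nz)) fun x hx => by
      obtain ⟨g, rfl⟩ := QuotientGroup.mk_surjective x
      have hg : (g : Au (V K))⁻¹ ∉ nz (T K) := fun h =>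
        (mem_erase.1 hx).1 (QuotientGroup.eq.2 (by simpa using (show g⁻¹ ∈ N from h)))
      have hs : ∀ b : MulAction.stabilizer B (g : L ⧸ N),
          (g : Au (V K))⁻¹ * ((b : B) : L) * (g : Au (V K))⁻¹⁻¹ ∈ nz (T K) := fun b => by
        have e : ((((b : B) : L) * g : L) : L ⧸ N) = g := b.2
        have e' : (g⁻¹ * (((b : B) : L) * g)) ∈ N := QuotientGroup.eq.1 e.symm
        rw [inv_inv, mul_assoc]; exact e'
      let ψ : MulAction.stabilizer B (g : L ⧸ N) →* K :=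
        ((Units.coeHom K).comp χ).comp (Subgroup.subtype _)
      have hψ : Function.Injective ψ := (injective_iff_map_eq_one _).2 fun b hb => by
        have e : f b = 1 := hb
        obtain ⟨a, ha⟩ := H.T1 b.1.1.2 (e ▸ hf b)
        have := hs b
        rw [← ha] at this
        rw [H.E1 (inv_mem g.2) hg this, u_zero] at ha
        exact Subtype.ext (Subtype.ext (Subtype.ext ha.symm))
      have := isCyclic_of_injective_ringHom ψ hψ
      rw [← IsCyclic.exponent_eq_card]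
      exact Monoid.exponent_dvd_of_forall_pow_eq_one fun b => hψ (by
        rw [map_pow, map_one]; exact H.E (inv_mem g.2) hg b.1.1.2 (hf b) (hs b))
  rwa [h3, card_erase_of_mem (mem_univ _), card_univ, ← Nat.card_eq_fintype_card] at h4

theorem OJ.le_nz (H : OJ p L r) : L ≤ nz (T K) := by
  classical
  by_contra hc
  obtain ⟨g0, hg0, hn0⟩ := SetLike.not_le_iff_exists.1 hc
  have := Fintype.ofFinite K
  have := Fintype.ofFinite (Au (V K))
  have h2 := H.two
  let Y : Finset (V K) := univ.filter fun v => v.1 = 0 ∧ v.2.1 ≠ 0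
  have mY : ∀ v, v ∈ Y ↔ v.1 = 0 ∧ v.2.1 ≠ 0 := fun v => by simp [Y]
  set q := Nat.card K with hq
  have fib : ∀ (P : V K → Prop) [DecidablePred P] (k : ℕ), (∀ c ≠ 0, Nat.card {d : K // P (0, c, d)} = k) →
      (Y.filter P).card = (q - 1) * k := fun P _ k hk => by
    rw [card_eq_sum_card_fiberwise (f := fun v => v.2.1) (t := univ.erase 0) fun v hv =>
      mem_erase.2 ⟨((mY v).1 (mem_filter.1 hv).1).2, mem_univ _⟩, hq, Nat.card_eq_fintype_card,
      ← card_univ, ← card_erase_of_mem (mem_univ (0 : K)), ← smul_eq_mul, ← sum_const]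
    refine sum_congr rfl fun c hc => ?_
    rw [← hk c (mem_erase.1 hc).1, ← Nat.card_eq_finsetCard]
    refine Nat.card_congr
      { toFun := fun v => ⟨v.1.2.2, ?_⟩
        invFun := fun d => ⟨(0, c, d), ?_⟩
        left_inv := fun v => Subtype.ext ?_
        right_inv := fun d => rfl }
    · obtain ⟨a1, a2⟩ := mem_filter.1 v.2
      obtain ⟨a3, a4⟩ := mem_filter.1 a1
      rwa [eq_of_Z2 ((mY _).1 a3).1, a2] at a4
    · exact mem_filter.2 ⟨mem_filter.2 ⟨(mY _).2 ⟨rfl, (mem_erase.1 hc).1⟩, d.2⟩, rfl⟩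
    · obtain ⟨a1, a2⟩ := mem_filter.1 v.2
      exact Prod.ext ((mY _).1 (mem_filter.1 a1).1).1.symm (Prod.ext a2.symm rfl)
  have cY : Y.card = q * (q - 1) := by
    have := fib (fun _ => True) q fun c _ => Nat.card_congr (Equiv.subtypeUnivEquiv fun _ => trivial)
    rwa [filter_true, mul_comm] at this
  have toY : ∀ g ∈ L, ∀ y ∈ Y, g y ∈ Z2 K → g y ∈ Y := fun g hg y hy h =>
    (mY _).2 ⟨h, fun h' => ((mY y).1 hy).2 (H.A hg ((mY y).1 hy).1 ⟨h, h'⟩).2⟩
  let N := L ⊓ nz (T K)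
  let x : V K := (0, 1, 0)
  have hx : x ∈ Y := (mY x).2 ⟨rfl, one_ne_zero⟩
  have hb : ∀ y ∈ Y, ∃ b ∈ N, b • x = y := fun y hy => by
    obtain ⟨y1, y2⟩ := (mY y).1 hy
    obtain ⟨h, a1, a2⟩ := H.tor y.2.1⁻¹ (inv_ne_zero y2)
    obtain ⟨a3, a4⟩ := a2.lay2 h2 (v := x) rfl
    have a5 : (h x).2.1 = y.2.1 := by field_simp at a4; simpa [x] using a4
    refine ⟨u ((y.2.2 - (h x).2.2) / (2 * y.2.1)) * h,
      ⟨mul_mem (H.um _) a1, mul_mem (Tr_u _).nz a2.nz⟩, ?_⟩
    show u _ (h x) = y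
    ext
    · simp [u_ap, a3, y1]
    · simp [u_ap, a3, a5]
    · simp [u_ap, a3, a5]; field_simp; ring
  have c1 := cnt N Y hb hx
  have c1' : (univ.filter fun g => g ∈ N ∧ g • x ∈ Y).card = Nat.card N := by
    rw [← Nat.card_eq_finsetCard]
    exact Nat.card_congr (Equiv.subtypeEquivRight fun g => by
      simp only [mem_filter, mem_univ, true_and]
      exact ⟨fun h => h.1, fun h => ⟨h, toY g h.1 x hx ((nz_pres h2 h.2).2 x rfl)⟩⟩)
  have c2 : ∑ y ∈ Y, (univ.filter fun g => g ∈ L ∧ g • y ∈ Y).card =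
      Y.card * (Y.card * Nat.card (L ⊓ MulAction.stabilizer _ x : Subgroup (Au (V K)))) := by
    rw [← smul_eq_mul, ← sum_const]
    exact sum_congr rfl fun y hy => cnt L Y (x := x) (fun y hy => (hb y hy).imp fun _ h => ⟨h.1.1, h.2⟩) hy
  have c3 : ∑ y ∈ Y, (univ.filter fun g => g ∈ L ∧ g • y ∈ Y).card =
      ∑ g ∈ univ.filter (· ∈ L), (Y.filter fun y => g y ∈ Y).card := by
    simp only [card_filter]
    rw [sum_comm, sum_filter]
    refine sum_congr rfl fun g _ => ?_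
    by_cases hg : g ∈ L <;> simp [hg]
  have cL : (univ.filter (· ∈ L)).card = Nat.card L := by
    rw [← Nat.card_eq_finsetCard]; exact Nat.card_congr (Equiv.subtypeEquivRight (by simp))
  have cN : ((univ.filter (· ∈ L)).filter (· ∈ nz (T K))).card = Nat.card N := by
    rw [← Nat.card_eq_finsetCard]; exact Nat.card_congr (Equiv.subtypeEquivRight (by simp [N]))
  have c4 : ∑ g ∈ univ.filter (· ∈ L), (Y.filter fun y => g y ∈ Y).card =
      Nat.card N * Y.card + (Nat.card L - Nat.card N) * ((q - 1) * p) := by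
    rw [← sum_filter_add_sum_filter_not _ (· ∈ nz (T K)), ← cL,
      ← card_filter_add_card_filter_not (s := univ.filter (· ∈ L)) (· ∈ nz (T K)), ← cN,
      Nat.add_sub_cancel_left, ← smul_eq_mul, ← smul_eq_mul _ ((q - 1) * p), ← sum_const, ← sum_const]
    congr 1
    · refine sum_congr rfl fun g hg => ?_
      obtain ⟨a1, a2⟩ := mem_filter.1 hg
      rw [filter_true_of_mem fun y hy =>
        toY g (mem_filter.1 a1).2 y hy ((nz_pres h2 a2).2 y ((mY y).1 hy).1)]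
    · refine sum_congr rfl fun g hg => fib _ _ fun c hc => ?_
      obtain ⟨a1, a2⟩ := mem_filter.1 hg
      have a1 := (mem_filter.1 a1).2
      obtain ⟨e, he⟩ := H.D a1 a2 c
      rw [← H.card_r]
      refine Nat.card_congr ((Equiv.subRight e).subtypeEquiv fun d => ?_)
      rw [Equiv.subRight_apply, ← H.ker a1 a2, show ((0, 0, d - e) : V K) = (0, c, d) - (0, c, e) by simp,
        map_sub]
      refine ⟨fun h => sub_mem ((mY _).1 h).1 he, fun h => toY g a1 _ ((mY _).2 ⟨rfl, hc⟩) ?_⟩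
      simpa using add_mem h he
  set n := (nz (T K)).relIndex L with hn
  have d1 : Nat.card L = Nat.card N * n := by
    rw [hn, ← inf_relIndex_left, relIndex, ← ((L ⊓ nz (T K)).subgroupOf L).card_mul_index,
      Nat.card_congr (subgroupOfEquivOfLe inf_le_left).toEquiv]
  obtain ⟨m, d2⟩ := card_dvd_of_le (inf_le_inf_right (MulAction.stabilizer _ x) inf_le_left :
    N ⊓ MulAction.stabilizer _ x ≤ L ⊓ MulAction.stabilizer _ x)
  obtain ⟨o, d3⟩ := card_dvd_of_le (inf_le_left : L ⊓ MulAction.stabilizer _ x ≤ L)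
  set k := Nat.card (N ⊓ MulAction.stabilizer _ x : Subgroup (Au (V K)))
  have k0 : 0 < k := Nat.card_pos
  have q1 : 1 < q := Finite.one_lt_card
  have n1 : 1 < n := by
    have a1 : n ≠ 0 := index_ne_zero_of_finite
    have a2 : n ≠ 1 := fun h => hc (relIndex_eq_one.1 h)
    omega
  obtain ⟨i, hi⟩ : ∃ i, q = p ^ i := by
    obtain ⟨i, -, hi⟩ := FiniteField.card K p
    exact ⟨i, by rw [hq, Nat.card_eq_fintype_card, hi]⟩
  obtain ⟨s, hs⟩ : p ∣ q := H.card_r ▸ AddSubgroup.card_addSubgroup_dvd_card _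
  have s1 : 1 < s := by
    obtain ⟨d, hd⟩ := (H.B hg0 hn0).2
    have a1 : s ≠ 0 := by rintro rfl; omega
    have a2 : s ≠ 1 := by
      rintro rfl
      exact hd ((AddSubgroup.eq_top_of_card_eq _ (by rw [H.card_r, ← hq, hs, mul_one])).ge
        (AddSubgroup.mem_top d))
    omega
  rw [c1', cY] at c1
  rw [c3, c4, d1, d2, c1, cY, ← Nat.mul_sub_one] at c2
  have q0 : 0 < q - 1 := by omega
  refine arith (p := p) (s := s) (m := m) (n := n) Fact.out ?_ s1 n1 (fun a ha => ?_) ?_ ?_ ?_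
  · rintro rfl
    exact h2 (CharP.cast_eq_zero K 2)
  · rw [← hs, hi]; exact ha.pow_right _
  · rw [← hs]
    refine Nat.eq_of_mul_eq_mul_left (show 0 < q * (q - 1) * k * (q - 1) by positivity) ?_
    linarith
  · rw [← hs]
    rw [d1, c1, d2] at d3
    exact ⟨o, Nat.eq_of_mul_eq_mul_left k0 (by linarith)⟩
  · rw [← hs]; exact H.tdvd

/-- final form: `R ≤ Z` invariant under `L` -/
theorem oddJ (hs : Syl p (T K) L) (h2 : (2 : K) ≠ 0) (R : Set (V K)) (hR : ∀ v ∈ R, v ∈ Z1 K)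
    (hi : ∀ g ∈ L, ∀ v ∈ R, g v ∈ R) {v : V K} (hv : v ∈ R) (hv0 : v ≠ 0)
    (ht : ∀ μ : K, μ ≠ 0 → ∃ h ∈ L, Tr μ h) : L ≤ nz (T K) := by
  let M : Subgroup (Au (V K)) :=
    { carrier := {g | g ∈ L ∧ ∀ v ∈ R, g v = v}
      one_mem' := ⟨one_mem _, fun _ _ => rfl⟩
      mul_mem' := fun ⟨a, b⟩ ⟨c, d⟩ => ⟨mul_mem a c, fun v hv => by rw [mul_ap, d v hv, b v hv]⟩
      inv_mem' := fun ⟨a, b⟩ => ⟨inv_mem a, fun v hv => inv_fix (b v hv)⟩ }
  have hT : T K ≤ M := by
    rintro _ ⟨a, rfl⟩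
    exact ⟨hs.le (u_mem a), fun v hv => u_Z1 a (hR v hv)⟩
  have hM : Syl p (T K) M := hs.mono_right hT fun g hg => hg.1
  have H : OJ p M v.2.2 := ⟨hM, h2, fun h => hv0 (by rw [eq_of_Z1 (hR v hv), h]; rfl),
    fun g hg => by rw [← eq_of_Z1 (hR v hv)]; exact hg.2 v hv, fun μ hμ => by
      obtain ⟨h, a, b⟩ := ht μ hμ
      exact ⟨h, ⟨a, fun v hv => b.1 v (hR v hv)⟩, b⟩⟩
  refine fun g hg => mem_nz_of_conj_mem ?_
  rintro _ ⟨a, rfl⟩
  have hm : g * u a * g⁻¹ ∈ M := ⟨mul_mem (mul_mem hg (hs.le (u_mem a))) (inv_mem hg), fun v hv => by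
    rw [mul_ap, mul_ap, u_Z1 a (hR _ (hi _ (inv_mem hg) v hv)), ap_inv]⟩
  exact mem_T_of_pow hM hm (H.le_nz hm) (by rw [conj_pow, u_pow]; simp [u_zero])

end H24.SP
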