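import Cfsg.Agent.H24.SP3
import Cfsg.Agent.H24.SP4

/-! Odd characteristic: fusion systems with nontrivial core are constrained. -/

set_option autoImplicit false
set_option linter.unnecessarySeqFocus false

namespace H24.SP
open Subgroup H25 H25.FS
attribute [-simp] LinearEquiv.coe_inv

variable {Γ : Type*} [Group Γ] {K : Type*} [Field K]

namespace Co
section
variable {S : Subgroup Γ} {w : K → K → K → K → Γ} {g : Γ}

theorem ZS (H : Co S w) (h2 : (2 : K) ≠ 0) : S ⊓ cz S = H.Z := by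
  refine le_antisymm (fun s hs => ?_) (le_inf H.Z_le (le_cz_comm.1 H.cenZ))
  obtain ⟨a, b, c, d, rfl⟩ := (H.mem s).1 hs.1
  have e1 := H.comm_iff.1 (mem_cz.1 hs.2 _ (H.wm 1 0 0 0))
  have e2 := H.comm_iff.1 (mem_cz.1 hs.2 _ (H.wm 0 1 0 0))
  have e3 : b = 0 := by simpa using e1.1.symm
  exact H.mZ.2 ⟨by simpa using e2.1, e3, by simpa [e3, h2] using e1.2.symm⟩

theorem nzZ (H : Co S w) (h2 : (2 : K) ≠ 0) (hg : g ∈ nz S) : g ∈ nz H.Z := by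
  rw [← H.ZS h2]; exact mem_nz_inf hg (mem_nz_cz hg)

theorem commZ' (H : Co S w) {s t : Γ} (hs : s ∈ H.Y) (ht : t ∈ S) : s * t * s⁻¹ * t⁻¹ ∈ H.Z := by
  simpa [mul_assoc] using inv_mem (H.commZ ht hs)

theorem nzY (H : Co S w) (h2 : (2 : K) ≠ 0) (hg : g ∈ nz S) : g ∈ nz H.Y :=
  mem_nz_of_char hg (H.nzZ h2 hg) fun y => ⟨fun h => ⟨H.Y_le h, fun _ ht => H.commZ' h ht⟩, fun h => by
    obtain ⟨a, b, c, d, rfl⟩ := (H.mem y).1 h.1
    have e1 := h.2 _ (H.wm 1 0 0 0)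
    have e2 := h.2 _ (H.wm 0 1 0 0)
    rw [H.comm, H.mZ] at e1 e2
    exact H.mY.2 ⟨by simpa using e2, by simpa using e1⟩⟩

theorem nzJ (H : Co S w) (h2 : (2 : K) ≠ 0) (hg : g ∈ nz S) : g ∈ nz (H.X 1 0) := by
  have e : H.X 1 0 = S ⊓ cz H.Y := by
    refine le_antisymm (le_inf (H.X_le _ _) (H.abJ.trans (cz_anti (H.Y_le_X _ _)))) fun s hs => ?_
    obtain ⟨a, b, c, d, rfl⟩ := (H.mem s).1 hs.1
    have e1 := H.comm_iff.1 (mem_cz.1 hs.2 (w 0 0 1 0) (by simp [H.mY]))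
    exact H.mJ.2 (by simpa [h2] using e1.2)
  rw [e]; exact mem_nz_inf hg (mem_nz_cz (H.nzY h2 hg))

theorem fixJ (H : Co S w) (h2 : (2 : K) ≠ 0) {a b c d b' c' d' : K} (ha : a ≠ 0)
    (h : w a b c d * w 0 b' c' d' * (w a b c d)⁻¹ = w 0 b' c' d') : w 0 b' c' d' ∈ H.Z := by
  obtain ⟨e1, e2⟩ := H.comm_iff.1 h
  have e3 : b' = 0 := by simpa [ha] using e1
  exact H.mZ.2 ⟨rfl, e3, by simpa [e3, ha, h2] using e2⟩

theorem ab_of (H : Co S w) {a b c d : K} (ha : a ≠ 0) {s t : Γ} (hs : s ∈ S) (ht : t ∈ S)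
    (h1 : w a b c d * s * (w a b c d)⁻¹ = s) (h3 : w a b c d * t * (w a b c d)⁻¹ = t) :
    s * t * s⁻¹ = t := by
  obtain ⟨a', b', c', d', rfl⟩ := (H.mem s).1 hs
  obtain ⟨a'', b'', c'', d'', rfl⟩ := (H.mem t).1 ht
  obtain ⟨e1, e2⟩ := H.comm_iff.1 h1
  obtain ⟨e3, e4⟩ := H.comm_iff.1 h3
  refine H.comm_iff.2 ⟨mul_left_cancel₀ ha ?_, mul_left_cancel₀ ha ?_⟩
  · linear_combination a' * e3 - a'' * e1
  · linear_combination a' * e4 - a'' * e2 + (a' ^ 2 - a * a') * e3 - (a'' ^ 2 - a * a'') * e1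
end

variable [Finite Γ] {p : ℕ} [Fact p.Prime] [CharP K p] {F : FS Γ} {w : K → K → K → K → Γ}
  {E : Subgroup Γ}

omit [Finite Γ] [Fact p.Prime] in
theorem z_pow (H : Co F.S w) (d : K) (n : ℕ) : w 0 0 0 d ^ n = w 0 0 0 (n * d) := by
  induction n with
  | zero => simp [H.one]
  | succ n ih => rw [pow_succ, ih, H.mul]; exact weq w (by simp) (by simp) (by simp) (by push_cast; ring)

theorem not_ab (H : Co F.S w) (hF : F.Sat p) (h2 : (2 : K) ≠ 0) (hc : F.core ≠ ⊥) (hE : F.Ess E)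
    {a b c d : K} (ha : a ≠ 0) (hz : w a b c d ∈ E ⊓ cz E) : False := by
  have hZ : H.Z ≤ E := H.ZS h2 ▸ hE.centric.Z_le
  have hT := hF.nm_iff_ess.1 F.nm_core
  obtain ⟨hRE, hRn⟩ := hT E (.inr hE)
  have hEJ : ∀ {b' c' d'}, w 0 b' c' d' ∈ E → w 0 b' c' d' ∈ H.Z := fun h =>
    H.fixJ h2 ha (mem_cz.1 hz.2 _ h)
  have hRZ : F.core ≤ H.Z := fun x hx => by
    obtain ⟨a', b', c', d', rfl⟩ := (H.mem x).1 (F.core_le hx)
    have e := mul_mem (conj_mem_of_mem_nz ((hT _ (.inl rfl)).2 (F.N_le_A _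
      ⟨H.wm 0 1 0 0, le_normalizer (H.wm 0 1 0 0)⟩)) hx) (inv_mem hx)
    rw [H.comm] at e
    obtain rfl : a' = 0 := by simpa using (H.mZ.1 (hEJ (hRE e))).2.2
    exact hEJ (hRE hx)
  obtain ⟨⟨r, hr⟩, hr1⟩ := ne_bot_iff_exists_ne_one.1 hc
  have hY : ∀ c', w 0 0 c' 0 ∈ F.N E := fun c' => ⟨H.wm .., mem_nz_of_conj_mem fun x hx => by
    simpa using mul_mem (hZ (H.commZ' (s := w 0 0 c' 0) (by simp [H.mY]) (hE.le hx))) hx⟩
  obtain ⟨g, hg, z, hz', hy⟩ : ∃ g ∈ F.A E, ∃ z ∈ H.Z, g * z * g⁻¹ ∉ H.Z := by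
    by_contra h
    push Not at h
    have := ess_mem hF hE (H.wm 0 0 1 0) (chain2 (hF.pg' hE.le) hZ
      (fun g hg => mem_nz_of_conj_mem (h g hg)) (F.N_le_A E (hY 1)) (H.cenZ (H.wm ..))
      fun x hx => H.commZ' (by simp [H.mY]) (hE.le hx))
    simpa [H.mZ] using hEJ this
  have hyE := conj_mem_of_mem_nz (F.A_le_nz E hg) (hZ hz')
  obtain ⟨a', b', c', d', e⟩ := (H.mem _).1 (hE.le hyE)
  have ha' : a' ≠ 0 := by rintro rfl; exact hy (e ▸ hEJ (e ▸ hyE))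
  have hs := (hF.syl hE.fn).cj g
  rw [cj_eq_of_mem hg] at hs
  have hU : ∀ x ∈ cj g (ai F.S E), ∀ z ∈ H.Z, x * (g * z * g⁻¹) * x⁻¹ = g * z * g⁻¹ := by
    rintro _ ⟨x, hx, rfl⟩ z hz
    have : x ∈ cz H.Z := by
      rw [ai_eq_sup] at hx
      exact sup_le (inf_le_left.trans H.cenZ) (cz_anti hZ) hx
    show g * x * g⁻¹ * (g * z * g⁻¹) * (g * x * g⁻¹)⁻¹ = _
    conv_rhs => rw [← mem_cz.1 this z hz]
    group
  obtain ⟨r0, rfl⟩ := hRZ hr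
  refine hr1 (Subtype.ext (ht_mul hs (y := g * z * g⁻¹) (by simp [H.z_pow, H.one])
    (fun x hx => ⟨hU x hx z hz', ?_⟩) (F.N_le_A E (hY (-r0 / (2 * a'))))
    (mem_cz.1 (H.cenZ (H.wm ..)) _ ⟨r0, rfl⟩) ?_))
  · simpa [mul_assoc] using hU x hx _ (hRZ (conj_mem_of_mem_nz' (hRn hg) hr))
  · rw [← e, H.conj, H.mul]
    exact weq w (by simp) (by simp) (by simp) (by field_simp; ring)

theorem ess_odd (H : Co F.S w) (hF : F.Sat p) (h2 : (2 : K) ≠ 0) (hc : F.core ≠ ⊥) (hE : F.Ess E) :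
    E = H.X 1 0 ∨ ∃ l, E = H.X l 1 := by
  have hZ : H.Z ≤ E := H.ZS h2 ▸ hE.centric.Z_le
  by_cases hJ : E ≤ H.X 1 0
  · exact .inl (le_antisymm hJ fun x hx => hE.centric.C_le ⟨H.X_le _ _ hx, cz_anti hJ (H.abJ hx)⟩)
  obtain ⟨s, hs, hs'⟩ := SetLike.not_le_iff_exists.1 hJ
  obtain ⟨a, b, c, d, rfl⟩ := (H.mem s).1 (hE.le hs)
  have ha : a ≠ 0 := mt H.mJ.2 hs'
  have e : H.Z = E ⊓ cz E := by
    refine le_antisymm (le_inf hZ (le_cz_comm.1 (hE.le.trans H.cenZ))) fun z hz => ?_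
    obtain ⟨a', b', c', d', rfl⟩ := (H.mem z).1 (hE.le hz.1)
    by_cases ha' : a' = 0
    · subst ha'
      exact H.fixJ h2 ha (by rw [mem_cz'.1 hz.2 _ hs]; group)
    · exact (H.not_ab hF h2 hc hE ha' hz).elim
  have nZ : F.A E ≤ nz H.Z := fun g hg => by
    rw [e]; exact mem_nz_inf (F.A_le_nz E hg) (mem_nz_cz (F.A_le_nz E hg))
  have key : ∀ x ∈ F.S, (∀ y ∈ E, x * y * x⁻¹ * y⁻¹ ∈ H.Z) → x ∈ E := fun x hx h =>
    ess_mem hF hE hx (chain2 (hF.pg' hE.le) hZ nZ (F.N_le_A E ⟨hx, mem_nz_of_conj_mem fun y hy => by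
      simpa using mul_mem (hZ (h y hy)) hy⟩) (H.cenZ hx) h)
  have hY : H.Y ≤ E := fun x hx => key x (H.Y_le hx) fun y hy => H.commZ' hx (hE.le hy)
  by_cases hX : E ≤ H.X (b / a) 1
  · refine .inr ⟨_, le_antisymm hX fun x hx => key x (H.X_le _ _ hx) fun y hy => ?_⟩
    obtain ⟨a1, b1, c1, d1, e1, rfl⟩ := hx
    obtain ⟨a2, b2, c2, d2, e2, rfl⟩ := hX hy
    rw [H.comm, H.mZ]
    exact ⟨rfl, rfl, by linear_combination a2 * e1 - a1 * e2⟩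
  obtain ⟨s, hs1, hs1'⟩ := SetLike.not_le_iff_exists.1 hX
  obtain ⟨a1, b1, c1, d1, rfl⟩ := (H.mem s).1 (hE.le hs1)
  have hb : b * a1 - a * b1 ≠ 0 := fun h => hs1' (H.mX.2 (by field_simp; linear_combination h))
  have nY : F.A E ≤ nz H.Y := fun g hg => mem_nz_of_char (F.A_le_nz E hg) (nZ hg) fun y =>
    ⟨fun h => ⟨hY h, fun t ht => H.commZ' h (hE.le ht)⟩, fun h => by
      obtain ⟨a', b', c', d', rfl⟩ := (H.mem y).1 (hE.le h.1)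
      have e1 := h.2 _ hs
      have e2 := h.2 _ hs1
      rw [H.comm, H.mZ] at e1 e2
      exact H.mY.2 ⟨mul_left_cancel₀ hb (by linear_combination a1 * e1.2.2 - a * e2.2.2),
        mul_left_cancel₀ hb (by linear_combination b1 * e1.2.2 - b * e2.2.2)⟩⟩
  exact absurd (fun x hx => ess_mem hF hE hx (chain3 (hF.pg' hE.le) hZ hY nZ nY
    (F.N_le_A E ⟨hx, H.nz_of_Y hY hE.le hx⟩) (H.cenZ hx) (fun y hy => H.commZ hx hy)
    fun y hy => H.commY hx (hE.le hy))) hE.lt.not_ge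

end Co

/-- coordinates on `X_l` -/
def qq (w : K → K → K → K → Γ) (l a e d : K) : Γ := w a (l * a) (e + l * a ^ 2 / 2) d

section
variable {F : FS Γ} {w : K → K → K → K → Γ} {l A B C D A' B' C' D' : K} {g h : Γ}

theorem Co.qm (H : Co F.S w) (a e d : K) : qq w l a e d ∈ H.X l 1 := H.mX.2 (by simp)

theorem Co.exQ (H : Co F.S w) (hg : g ∈ H.X l 1) : ∃ a e d, qq w l a e d = g := by
  obtain ⟨a, b, c, d, e, rfl⟩ := hg
  exact ⟨a, c - l * a ^ 2 / 2, d, weq w rfl (by simpa using e) (by ring) rfl⟩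

theorem Co.q_inj (H : Co F.S w) {a e d a' e' d' : K} (h : qq w l a e d = qq w l a' e' d') :
    a = a' ∧ e = e' := by
  obtain ⟨rfl, -, h3, -⟩ := H.inj h
  exact ⟨rfl, by linear_combination h3⟩

theorem Co.q_comm (H : Co F.S w) (h2 : (2 : K) ≠ 0) (a e d a' e' d' : K) :
    qq w l a e d * qq w l a' e' d' * (qq w l a e d)⁻¹ * (qq w l a' e' d')⁻¹ =
      w 0 0 0 (2 * (a * e' - a' * e)) := by
  simp only [qq]
  rw [H.comm]
  exact weq w rfl rfl (by ring) (by field_simp; ring)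

theorem Co.q_z (H : Co F.S w) (a e d d' : K) : qq w l a e d * w 0 0 0 d' = qq w l a e (d + d') := by
  simp only [qq]
  rw [H.mul]; simp

/-- action on `X_l / Z` by a matrix -/
def Mx (H : Co F.S w) (l : K) (g : Γ) (A B C D : K) : Prop :=
  g ∈ F.A (H.X l 1) ∧ g ∈ cz H.Z ∧
    ∀ a e d, ∃ d', g * qq w l a e d * g⁻¹ = qq w l (A * a + B * e) (C * a + D * e) d'

variable {H : Co F.S w}

theorem Mx.congr (m : Mx H l g A B C D) (h1 : A = A') (h2 : B = B') (h3 : C = C') (h4 : D = D') :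
    Mx H l g A' B' C' D' := by subst h1 h2 h3 h4; exact m

theorem Mx.mul (m : Mx H l g A B C D) (m' : Mx H l h A' B' C' D') :
    Mx H l (g * h) (A * A' + B * C') (A * B' + B * D') (C * A' + D * C') (C * B' + D * D') :=
  ⟨mul_mem m.1 m'.1, mul_mem m.2.1 m'.2.1, fun a e d => by
    obtain ⟨d', e1⟩ := m'.2.2 a e d
    obtain ⟨d'', e2⟩ := m.2.2 (A' * a + B' * e) (C' * a + D' * e) d'
    refine ⟨d'', ?_⟩
    rw [show g * h * qq w l a e d * (g * h)⁻¹ = g * (h * qq w l a e d * h⁻¹) * g⁻¹ by group, e1, e2]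
    congr 1 <;> ring⟩

theorem Mx.inv (m : Mx H l g A B C D) (h : A * D - B * C = 1) : Mx H l g⁻¹ D (-B) (-C) A :=
  ⟨inv_mem m.1, inv_mem m.2.1, fun a e d => by
    obtain ⟨d', e1⟩ := m.2.2 (D * a + -B * e) (-C * a + A * e) 0
    rw [show A * (D * a + -B * e) + B * (-C * a + A * e) = a by linear_combination a * h,
      show C * (D * a + -B * e) + D * (-C * a + A * e) = e by linear_combination e * h] at e1
    refine ⟨0 + (d - d'), ?_⟩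
    rw [← H.q_z, show d = d' + (d - d') by ring, ← H.q_z, ← e1,
      ← mem_cz.1 m.2.1 (w 0 0 0 (d - d')) ⟨_, rfl⟩, add_sub_cancel_left, mem_cz.1 m.2.1 _ ⟨_, rfl⟩]
    conv_lhs => rw [← mem_cz.1 m.2.1 (w 0 0 0 (d - d')) ⟨_, rfl⟩]
    group⟩

theorem Mx_t (H : Co F.S w) (l β : K) : Mx H l (w 0 (-β) 0 0) 1 0 β 1 :=
  ⟨F.N_le_A _ ⟨H.wm .., H.nz_of_Y (H.Y_le_X _ _) (H.X_le _ _) (H.wm ..)⟩, H.cenZ (H.wm ..),
    fun a e d => ⟨_, by
      simp only [qq]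
      rw [H.conj]
      exact weq w (by ring) (by ring) (by ring) rfl⟩⟩

theorem exists_Mx (h2 : (2 : K) ≠ 0) (hg : g ∈ F.A (H.X l 1)) (hz : g ∈ cz H.Z) :
    ∃ A B C D, A * D - B * C = 1 ∧ Mx H l g A B C D := by
  have ex : ∀ a e d, ∃ a' e' d', g * qq w l a e d * g⁻¹ = qq w l a' e' d' := fun a e d =>
    let ⟨a', e', d', h⟩ := H.exQ (conj_mem_of_mem_nz (F.A_le_nz _ hg) (H.qm a e d))
    ⟨a', e', d', h.symm⟩
  have key : ∀ {a e d a' e' d' a1 e1 d1 a1' e1' d1'}, g * qq w l a e d * g⁻¹ = qq w l a1 e1 d1 →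
      g * qq w l a' e' d' * g⁻¹ = qq w l a1' e1' d1' → a * e' - a' * e = a1 * e1' - a1' * e1 := by
    intro a e d a' e' d' a1 e1 d1 a1' e1' d1' x y
    have e0 := H.q_comm (l := l) h2 a1 e1 d1 a1' e1' d1'
    rw [← x, ← y] at e0
    have e9 := mem_cz.1 hz _ (⟨2 * (a * e' - a' * e), rfl⟩ : _ ∈ H.Z)
    nth_rewrite 1 [← H.q_comm (l := l) h2 a e d a' e' d'] at e9
    exact mul_left_cancel₀ h2 (H.inj ((e9.symm.trans (by group)).trans e0)).2.2.2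
  obtain ⟨A, C, _, x⟩ := ex 1 0 0
  obtain ⟨B, D, _, y⟩ := ex 0 1 0
  have h1 := key x y
  refine ⟨A, B, C, D, by linear_combination -h1, hg, hz, fun a e d => ?_⟩
  obtain ⟨a1, e1, d1, z⟩ := ex a e d
  have h3 := key z x
  have h4 := key z y
  refine ⟨d1, z.trans ?_⟩
  congr 1
  · linear_combination -A * h4 + B * h3 + a1 * h1
  · linear_combination -C * h4 + D * h3 + e1 * h1

theorem Co.ZQ (H : Co F.S w) (h2 : (2 : K) ≠ 0) (hg : g ∈ nz (H.X l 1)) : g ∈ nz H.Z := by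
  have e : H.Z = H.X l 1 ⊓ cz (H.X l 1) := by
    refine le_antisymm (le_inf (H.Z_le_Y.trans (H.Y_le_X _ _))
      (le_cz_comm.1 ((H.X_le _ _).trans H.cenZ))) fun z hz => ?_
    obtain ⟨a, e, d, rfl⟩ := H.exQ hz.1
    have e1 := H.q_comm (l := l) h2 a e d 1 0 0
    have e2 := H.q_comm (l := l) h2 a e d 0 1 0
    rw [mem_cz.1 hz.2 _ (H.qm ..), mul_inv_cancel, eq_comm, H.eq_one] at e1 e2
    obtain rfl : a = 0 := by simpa [h2] using e2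
    obtain rfl : e = 0 := by simpa [h2] using e1
    simp [qq, H.mZ]
  rw [e]; exact mem_nz_inf hg (mem_nz_cz hg)

theorem Mx.comm_Z (m : Mx H l g 1 0 0 1) (x : Γ) (hx : x ∈ H.X l 1) : g * x * g⁻¹ * x⁻¹ ∈ H.Z := by
  obtain ⟨a, e, d, rfl⟩ := H.exQ hx
  obtain ⟨d', e1⟩ := m.2.2 a e d
  simp only [qq] at e1 ⊢
  rw [e1, H.inv, H.mul, H.mZ]
  exact ⟨by ring, by ring, by ring⟩

variable [Finite Γ] {p : ℕ} [Fact p.Prime]

theorem exists_W (hF : F.Sat p) (h2 : (2 : K) ≠ 0) (hE : F.Ess (H.X l 1)) :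
    ∃ W B C, B * C = -1 ∧ Mx H l W 0 B C 0 := by
  have nZ : F.A (H.X l 1) ≤ nz H.Z := fun g hg => H.ZQ h2 (F.A_le_nz _ hg)
  obtain ⟨g, hg, y, hy, hy'⟩ : ∃ g ∈ F.A (H.X l 1), ∃ y ∈ H.Y, g * y * g⁻¹ ∉ H.Y := by
    by_contra h
    push Not at h
    have := ess_mem hF hE (H.wm 0 (-1) 0 0) (chain3 (hF.pg' hE.le) (H.Z_le_Y.trans (H.Y_le_X _ _))
      (H.Y_le_X _ _) nZ (fun g hg => mem_nz_of_conj_mem (h g hg)) (Mx_t H l 1).1 (H.cenZ (H.wm ..))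
      (fun x hx => H.commZ (H.wm ..) hx) fun x hx => H.commY (H.wm ..) (H.X_le _ _ hx))
    simp [H.mX] at this
  obtain ⟨A, B, C, D, hd, m⟩ := exists_Mx (g := g * w 0 (-1) 0 0 * g⁻¹) h2
    (mul_mem (mul_mem hg (Mx_t H l 1).1) (inv_mem hg))
    (conj_mem_of_mem_nz (mem_nz_cz (nZ hg)) (H.cenZ (H.wm ..)))
  have hB : B ≠ 0 := by
    rintro rfl
    obtain ⟨a, e, d, e1⟩ := H.exQ (conj_mem_of_mem_nz (F.A_le_nz _ hg) (H.Y_le_X l 1 hy))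
    have ha : a ≠ 0 := by rintro rfl; exact hy' (e1 ▸ by simp [qq, H.mY])
    obtain ⟨d', e2⟩ := m.2.2 a e d
    have e3 : w 0 (-1) 0 0 * y * (w 0 (-1) 0 0)⁻¹ = y :=
      mem_cz.1 (H.abJ (by simp [H.mJ])) y (H.Y_le_X _ _ hy)
    rw [e1, show g * w 0 (-1) 0 0 * g⁻¹ * (g * y * g⁻¹) * (g * w 0 (-1) 0 0 * g⁻¹)⁻¹ =
      g * (w 0 (-1) 0 0 * y * (w 0 (-1) 0 0)⁻¹) * g⁻¹ by group, e3, ← e1] at e2
    obtain ⟨e4, e5⟩ := H.q_inj e2
    obtain rfl : A = 1 := mul_right_cancel₀ ha (by linear_combination -e4)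
    obtain rfl : D = 1 := by linear_combination hd
    obtain rfl : C = 0 := mul_right_cancel₀ ha (by linear_combination -e5)
    have e6 := conj_mem_of_mem_nz' (nZ hg)
      (m.comm_Z _ (conj_mem_of_mem_nz (F.A_le_nz _ hg) (H.qm 1 0 0)))
    rw [show g⁻¹ * (g * w 0 (-1) 0 0 * g⁻¹ * (g * qq w l 1 0 0 * g⁻¹) * (g * w 0 (-1) 0 0 * g⁻¹)⁻¹ *
      (g * qq w l 1 0 0 * g⁻¹)⁻¹) * g = w 0 (-1) 0 0 * qq w l 1 0 0 * (w 0 (-1) 0 0)⁻¹ *
      (qq w l 1 0 0)⁻¹ by group, qq, H.comm, H.mZ] at e6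
    simp at e6
  exact ⟨_, B, -B⁻¹, by field_simp, (((Mx_t H l (-D / B)).mul m).mul (Mx_t H l (-A / B))).congr
    (by field_simp; ring) (by ring) (by field_simp; linear_combination -hd) (by field_simp; ring)⟩

theorem exists_tor (hF : F.Sat p) (h2 : (2 : K) ≠ 0) (hE : F.Ess (H.X l 1)) {μ : K} (hμ : μ ≠ 0) :
    ∃ h ∈ F.A F.S, Mx H l h μ 0 0 μ⁻¹ := by
  obtain ⟨W, B, C, hd, m⟩ := exists_W hF h2 hE
  have hB : B ≠ 0 := by rintro rfl; simp at hd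
  have hC : C = -B⁻¹ := by field_simp; linear_combination hd
  subst hC
  have hy : ∀ γ, ∃ y, Mx H l y 1 γ 0 1 := fun γ => ⟨_, ((m.mul (Mx_t H l (-γ / B ^ 2))).mul
    (m.inv (by field_simp; ring))).congr (by field_simp; ring) (by field_simp; ring) (by simp)
      (by field_simp; ring)⟩
  have hw : ∀ β ≠ 0, ∃ y, Mx H l y 0 (-β⁻¹) β 0 := fun β hβ =>
    let ⟨_, m⟩ := hy (-β⁻¹)
    ⟨_, (((Mx_t H l β).mul m).mul (Mx_t H l β)).congr (by field_simp; ring) (by ring)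
      (by field_simp; ring) (by field_simp; ring)⟩
  obtain ⟨_, m1⟩ := hw μ⁻¹ (inv_ne_zero hμ)
  obtain ⟨_, m2⟩ := hw (-1) (by simp)
  obtain ⟨h, mh⟩ : ∃ h, Mx H l h μ 0 0 μ⁻¹ :=
    ⟨_, (m1.mul m2).congr (by simp) (by simp) (by simp) (by simp)⟩
  have hn := H.nz_of_Y (H.Y_le_X l 1) (H.X_le _ _)
  obtain ⟨k, hk, e⟩ := ext_S hF hE.le hn mh.1 fun s hs => by
    obtain ⟨a, b, c, d, rfl⟩ := (H.mem s).1 hs
    have e1 : w a b c d = w 0 (-(l * a - b)) 0 0 * w a (l * a) c d := by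
      rw [H.mul]; exact weq w (by ring) (by ring) (by ring) (by ring)
    have m3 : Mx H l _ 1 0 0 1 := (((mh.mul (Mx_t H l (l * a - b))).mul (mh.inv (by field_simp; ring))).mul
      ((Mx_t H l ((l * a - b) / μ ^ 2)).inv (by ring))).congr (by field_simp; ring) (by ring)
        (by field_simp; ring) (by field_simp; ring)
    have e2 := ai_mono hE.le _ ((hF.ess_rad hE).2 (chain2 (hF.pg' hE.le)
      (H.Z_le_Y.trans (H.Y_le_X _ _)) (fun g hg => H.ZQ h2 (F.A_le_nz _ hg)) m3.1 m3.2.1 m3.comm_Z))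
    have e3 := mul_mem e2 (mem_ai_of_mem (H.wm 0 (-((l * a - b) / μ ^ 2)) 0 0) (hn (H.wm ..)))
    have e4 := conj_mem_of_mem_nz (F.A_le_nz _ mh.1) (H.mX.2 (by simp) : w a (l * a) c d ∈ H.X l 1)
    have e5 := mul_mem e3 (mem_ai_of_mem (hE.le e4) (le_normalizer e4))
    rw [e1]; convert e5 using 1; group
  refine ⟨k, hk, e.mem_A mh.1, mem_cz.2 fun z hz => ?_, fun a e' d => ?_⟩
  · rw [e z (H.Y_le_X _ _ (H.Z_le_Y hz)), mem_cz.1 mh.2.1 z hz]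
  · rw [e _ (H.qm ..)]; exact mh.2.2 a e' d

omit [Finite Γ] in
theorem Mx.tr {μ ν : K} (m : Mx H l h μ 0 0 ν) (h2 : (2 : K) ≠ 0) (hh : h ∈ F.A F.S) :
    ∃ f, Act (fun v => w 0 v.1 v.2.1 v.2.2) h f ∧ Tr μ f := by
  obtain ⟨f, hf⟩ := H.mdJ.exists_act (H.nzJ h2 (F.A_le_nz _ hh))
  refine ⟨f, hf, fun v hv => H.mdJ.inj ?_, fun a => ?_⟩
  · exact (hf v).symm.trans (mem_cz.1 m.2.1 _ (H.mZ.2 ⟨rfl, hv.1, hv.2⟩))
  · obtain ⟨d', e⟩ := m.2.2 a 0 0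
    have e1 := (hf.mul (H.actJ a (l * a) (0 + l * a ^ 2 / 2) 0)).mul hf.inv
    rw [show w a (l * a) (0 + l * a ^ 2 / 2) 0 = qq w l a 0 0 from rfl, e] at e1
    simpa using H.mdJ.uniq e1 (H.actJ _ _ _ _)

/-- sign pattern `+ - + -` -/
def Sg (H : Co F.S w) (h : Γ) : Prop := h ∈ F.A F.S ∧ h ∈ cz H.Z ∧ (∀ y ∈ H.Y, h * y * h⁻¹ * y ∈ H.Z) ∧
  (∀ y ∈ H.X 1 0, h * y * h⁻¹ * y⁻¹ ∈ H.Y) ∧ ∀ y ∈ F.S, h * y * h⁻¹ * y ∈ H.X 1 0

omit [Finite Γ] in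
theorem Sg.conj (s : Sg H h) (h2 : (2 : K) ≠ 0) (hg : g ∈ F.A F.S) : Sg H (g * h * g⁻¹) := by
  have n := F.A_le_nz _ hg
  refine ⟨mul_mem (mul_mem hg s.1) (inv_mem hg), conj_mem_of_mem_nz (mem_nz_cz (H.nzZ h2 n)) s.2.1,
    fun y hy => ?_, fun y hy => ?_, fun y hy => ?_⟩
  · convert conj_mem_of_mem_nz (H.nzZ h2 n) (s.2.2.1 _ (conj_mem_of_mem_nz' (H.nzY h2 n) hy)) using 1
    group
  · convert conj_mem_of_mem_nz (H.nzY h2 n) (s.2.2.2.1 _ (conj_mem_of_mem_nz' (H.nzJ h2 n) hy)) using 1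
    group
  · convert conj_mem_of_mem_nz (H.nzJ h2 n) (s.2.2.2.2 _ (conj_mem_of_mem_nz' n hy)) using 1
    group

omit [Finite Γ] in
theorem inv_inv_fix {P : Subgroup Γ} {y : Γ} (hg : g ∈ nz P) (hy : y ∈ nz P)
    (h1 : g * y * g⁻¹ * y ∈ P) (h2 : h * y * h⁻¹ * y ∈ P) : g * h * y * (g * h)⁻¹ * y⁻¹ ∈ P := by
  convert mul_mem (conj_mem_of_mem_nz hg h2) (conj_mem_of_mem_nz hy (inv_mem h1)) using 1
  group

theorem Sg.key (s : Sg H h) (s' : Sg H g) (hF : F.Sat p) (h2 : (2 : K) ≠ 0) {x : Γ} (hx : x ∈ F.S)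
    (e : g * x * g⁻¹ * x ∈ H.Y) : h * x * h⁻¹ * x ∈ H.Y := by
  have n := F.A_le_nz _ s.1
  obtain ⟨-, k, hk, e1⟩ := hF.rad_S.2 (chain4 hF.pg H.Z_le H.Y_le (H.X_le 1 0)
    (fun g hg => H.nzZ h2 (F.A_le_nz _ hg)) (fun g hg => H.nzY h2 (F.A_le_nz _ hg))
    (fun g hg => H.nzJ h2 (F.A_le_nz _ hg)) (mul_mem s.1 s'.1) (mul_mem s.2.1 s'.2.1)
    (fun y hy => inv_inv_fix (H.nzZ h2 n) (H.nzZ h2 (le_normalizer (H.Y_le hy))) (s.2.2.1 y hy)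
      (s'.2.2.1 y hy))
    (fun y hy => by
      convert mul_mem (conj_mem_of_mem_nz (H.nzY h2 n) (s'.2.2.2.1 y hy)) (s.2.2.2.1 y hy) using 1
      group)
    fun y hy => inv_inv_fix (H.nzJ h2 n) (H.nzJ h2 (le_normalizer hy)) (s.2.2.2.2 y hy)
      (s'.2.2.2.2 y hy))
  have e2 := H.commY hk hx
  rw [← e1 x hx] at e2
  have e3 := mul_mem (inv_mem e2) (conj_mem_of_mem_nz (H.nzY h2 n) e)
  convert conj_mem_of_mem_nz' (H.nzY h2 (le_normalizer hx)) e3 using 1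
  group

theorem exists_Sg (hF : F.Sat p) (h2 : (2 : K) ≠ 0) (hE : F.Ess (H.X l 1)) :
    ∃ h, Sg H h ∧ ∀ x ∈ F.S, h * x * h⁻¹ * x ∈ H.Y ↔ x ∈ H.X l 1 := by
  obtain ⟨h, hh, m⟩ := exists_tor hF h2 hE (μ := -1) (by simp)
  obtain ⟨f, hf, t⟩ := m.tr h2 hh
  have k1 : ∀ b c d, ∃ c' d', h * w 0 b c d * h⁻¹ = w 0 b c' d' := fun b c d =>
    ⟨_, _, (hf (b, c, d)).trans (weq w rfl (by simpa using t.lay1 h2 (b, c, d)) rfl rfl)⟩
  have k2 : ∀ a b c d, ∃ c' d', h * w a b c d * h⁻¹ * w a b c d = w 0 (2 * (b - l * a)) c' d' :=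
    fun a b c d => by
      obtain ⟨c1, d1, e1⟩ := k1 (b - l * a) 0 0
      obtain ⟨d2, e2⟩ := m.2.2 a (c - l * a ^ 2 / 2) d
      have e3 : w a b c d = w 0 (b - l * a) 0 0 * qq w l a (c - l * a ^ 2 / 2) d := by
        rw [qq, H.mul]; exact weq w (by ring) (by ring) (by ring) (by ring)
      nth_rewrite 1 [e3]
      rw [show h * (w 0 (b - l * a) 0 0 * qq w l a (c - l * a ^ 2 / 2) d) * h⁻¹ =
        (h * w 0 (b - l * a) 0 0 * h⁻¹) * (h * qq w l a (c - l * a ^ 2 / 2) d * h⁻¹) by group, e1, e2,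
        qq, H.mul, H.mul]
      exact ⟨_, _, weq w (by ring) (by ring) rfl rfl⟩
  refine ⟨h, ⟨hh, m.2.1, fun y hy => ?_, fun y hy => ?_, fun y hy => ?_⟩, fun y hy => ?_⟩
  · obtain ⟨c, d, rfl⟩ := H.exY hy
    obtain ⟨e1, e2⟩ := t.lay2 h2 (v := (0, c, d)) rfl
    rw [hf (0, c, d), H.mul, H.mZ]
    exact ⟨by simp, by simpa using e1, by linear_combination -e2⟩
  · obtain ⟨b, c, d, rfl⟩ := H.exJ hy
    obtain ⟨c', d', e⟩ := k1 b c d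
    simp [e, H.inv, H.mul, H.mY]
  · obtain ⟨a, b, c, d, rfl⟩ := (H.mem y).1 hy
    obtain ⟨c', d', e⟩ := k2 a b c d
    simp [e, H.mJ]
  · obtain ⟨a, b, c, d, rfl⟩ := (H.mem y).1 hy
    obtain ⟨c', d', e⟩ := k2 a b c d
    simp [e, H.mY, H.mX, h2, sub_eq_zero, eq_comm]

variable [Finite K] [CharP K p]

theorem odd_constr (H : Co F.S w) (hF : F.Sat p) (h2 : (2 : K) ≠ 0) (hc : F.core ≠ ⊥) : F.Constr p := by
  have hT := hF.nm_iff_ess.1 F.nm_core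
  by_cases hX : ∃ l, F.Ess (H.X l 1)
  · obtain ⟨l, hl⟩ := hX
    have hJ : ¬ F.Ess (H.X 1 0) := fun hJ => by
      obtain ⟨⟨r, hr⟩, hr1⟩ := ne_bot_iff_exists_ne_one.1 hc
      obtain ⟨v, rfl⟩ := (H.mdJ.mem r).1 ((hT _ (.inr hJ)).1 hr)
      obtain ⟨W, B, C, hd, m⟩ := exists_W hF h2 hl
      refine H.mdJ.not_le hF hJ (oddJ (H.mdJ.syl hF) h2 {v | w 0 v.1 v.2.1 v.2.2 ∈ F.core}
        (fun v hv => ?_) ?_ hr (by rintro rfl; exact hr1 (Subtype.ext H.one)) fun μ hμ => ?_)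
      · have e1 : v.1 = 0 := by simpa [eq_comm] using H.mX.1 ((hT _ (.inr hl)).1 hv)
        obtain ⟨d', e2⟩ := m.2.2 0 v.2.1 v.2.2
        have e3 := conj_mem_of_mem_nz ((hT _ (.inr hl)).2 m.1) hv
        rw [show w 0 v.1 v.2.1 v.2.2 = qq w l 0 v.2.1 v.2.2 by simp [qq, e1], e2] at e3
        have e4 := H.mJ.1 ((hT _ (.inr hJ)).1 e3)
        exact ⟨e1, by linear_combination -C * e4 + v.2.1 * hd⟩
      · rintro f ⟨g, hg, hf⟩ v hv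
        have := conj_mem_of_mem_nz ((hT _ (.inr hJ)).2 hg) hv
        exact (hf v).subst (motive := (· ∈ F.core)) this
      · obtain ⟨h, hh, m⟩ := exists_tor hF h2 hl hμ
        obtain ⟨f, hf, t⟩ := m.tr h2 hh
        exact ⟨f, ⟨h, mem_A_of_le le_rfl hh (H.X_le _ _) (H.nzJ h2 (F.A_le_nz _ hh)), hf⟩, t⟩
    obtain ⟨h, s, hs⟩ := exists_Sg hF h2 hl
    refine ⟨hF, _, hF.nm_iff_ess.2 fun P hP => ?_, hl.centric⟩
    rcases hP with rfl | hP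
    · refine ⟨hl.le, fun g hg => mem_nz_of_conj_mem fun x hx => ?_⟩
      have hx' := conj_mem_of_mem_nz (F.A_le_nz _ hg) (hl.le hx)
      refine (hs _ hx').1 (s.key (s.conj h2 hg) hF h2 hx' ?_)
      convert conj_mem_of_mem_nz (H.nzY h2 (F.A_le_nz _ hg)) ((hs x (hl.le hx)).2 hx) using 1
      group
    · rcases H.ess_odd hF h2 hc hP with rfl | ⟨l', rfl⟩
      · exact (hJ hP).elim
      · obtain ⟨h', s', hs'⟩ := exists_Sg hF h2 hP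
        have e : H.X l 1 = H.X l' 1 := le_antisymm
          (fun x hx => (hs' x (hl.le hx)).1 (s'.key s hF h2 (hl.le hx) ((hs x (hl.le hx)).2 hx)))
          fun x hx => (hs x (hP.le hx)).1 (s.key s' hF h2 (hP.le hx) ((hs' x (hP.le hx)).2 hx))
        rw [e]; exact ⟨le_rfl, F.A_le_nz _⟩
  · by_cases hJ : F.Ess (H.X 1 0)
    · refine ⟨hF, _, hF.nm_iff_ess.2 fun P hP => ?_, hJ.centric⟩
      rcases hP with rfl | hP
      · exact ⟨hJ.le, fun g hg => H.nzJ h2 (F.A_le_nz _ hg)⟩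
      · rcases H.ess_odd hF h2 hc hP with rfl | ⟨l', rfl⟩
        · exact ⟨le_rfl, F.A_le_nz _⟩
        · exact (hX ⟨_, hP⟩).elim
    · refine ⟨hF, _, hF.nm_S_iff.2 fun P hP => ?_, F.centric_S⟩
      rcases H.ess_odd hF h2 hc hP with rfl | ⟨l', rfl⟩
      exacts [hJ hP, hX ⟨_, hP⟩]
end

end H24.SP
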