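import Cfsg.Agent.H24.SP2

/-! Characteristic two: groups on `K³` with Sylow subgroup `T`. -/

set_option autoImplicit false
set_option linter.unnecessarySeqFocus false

namespace H24.SP
open Subgroup H25
attribute [-simp] LinearEquiv.coe_inv

variable {K : Type*} [Field K]

/-- the swap of the first two coordinates -/
def sw (K : Type*) [Field K] : Au (V K) where
  toFun v := (v.2.1, v.1, v.2.2)
  invFun v := (v.2.1, v.1, v.2.2)
  map_add' _ _ := rfl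
  map_smul' _ _ := rfl
  left_inv _ := rfl
  right_inv _ := rfl

theorem sw_ap (v : V K) : sw K v = (v.2.1, v.1, v.2.2) := rfl

/-- shifts -/
def sh (φ ψ : K →+ K) : Au (V K) where
  toFun v := (v.1, v.2.1 + φ v.1, v.2.2 + ψ v.1)
  invFun v := (v.1, v.2.1 - φ v.1, v.2.2 - ψ v.1)
  map_add' v w := by ext <;> simp <;> ring
  map_smul' n v := by ext <;> simp [-zsmul_eq_mul]
  left_inv v := by ext <;> simp
  right_inv v := by ext <;> simp

theorem sh_ap (φ ψ : K →+ K) (v : V K) : sh φ ψ v = (v.1, v.2.1 + φ v.1, v.2.2 + ψ v.1) := rfl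
theorem sh_inv_ap (φ ψ : K →+ K) (v : V K) : (sh φ ψ)⁻¹ v = (v.1, v.2.1 - φ v.1, v.2.2 - ψ v.1) := rfl

variable [CharP K 2] {g h k n : Au (V K)} {a η : K} {v x y : V K}

theorem t0 : (2 : K) = 0 := CharTwo.two_eq_zero

theorem u2 (a : K) (v : V K) : u a v = (v.1, v.2.1 + a * v.1, v.2.2 + a ^ 2 * v.1) := by
  simp [u_ap, t0]

theorem u_Z2 (a : K) (hv : v ∈ Z2 K) : u a v = v := by rw [eq_of_Z2 hv]; simp [u2]

theorem sh_u (φ ψ : K →+ K) (a : K) : sh φ ψ * u a * (sh φ ψ)⁻¹ = u a := by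
  ext v <;> simp [u2, sh_ap, sh_inv_ap] <;> ring

theorem nz_pres2 (hg : g ∈ nz (T K)) : ∀ v ∈ Z2 K, g v ∈ Z2 K := fun v hv => by
  obtain ⟨a, e⟩ := conj_mem_of_mem_nz hg (u_mem (1 : K))
  have e1 := conj_ap e.symm v
  rw [u_Z2 1 hv, u2] at e1
  have e2 : (g v).2.1 = (g v).2.1 + a * (g v).1 := congrArg (·.2.1) e1
  simpa [mem_Z2, conj_ne one_ne_zero e.symm] using e2

variable [Finite K] {L : Subgroup (Au (V K))} {r : K}

theorem nrm2 (hs : Syl 2 (T K) L) (hg : g ∈ L) (h2 : ∀ v ∈ Z2 K, g v ∈ Z2 K) : g ∈ nz (T K) := by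
  refine mem_nz_of_conj_mem ?_
  rintro _ ⟨a, rfl⟩
  have e : ∀ v ∈ Z2 K, (g * u a * g⁻¹) v = v := fun v hv => by
    rw [mul_ap, mul_ap, u_Z2 a (inv_pres h2 v hv), ap_inv]
  refine chain hs (Z2 K) (Z2 K) (fun a v => by simp [mem_Z2, u_ap])
    (fun a v hv => by simp [mem_Z2, u_ap]) (fun a v hv => u_Z2 a hv) le_rfl
    (mul_mem (mul_mem hg (hs.le (u_mem a))) (inv_mem hg)) (fun v => ?_) (fun v hv => by simp [e v hv]) e
  rw [show (g * u a * g⁻¹) v - v = g (u a (g⁻¹ v) - g⁻¹ v) by simp]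
  exact h2 _ (by simp [mem_Z2, u_ap])

theorem ht2 (hs : Syl 2 (T K) L) (hg : g ∈ L) (hy : g y ∈ Z2 K) (hy0 : y.1 ≠ 0)
    (h : g (0, a * y.1, a ^ 2 * y.1) ∈ Z2 K) : a = 0 := by
  have hs' := hs.cj g⁻¹
  rw [cj_eq_of_mem (inv_mem hg)] at hs'
  have key : ∀ v, g v ∈ Z2 K → ∀ t ∈ cj g⁻¹ (T K), t v = v := by
    rintro v hv _ ⟨_, ⟨a, rfl⟩, rfl⟩
    show g⁻¹ (u a (g⁻¹⁻¹ v)) = v
    rw [inv_inv, u_Z2 a hv, inv_ap]
  have := ht hs' (y := y) (δ := (0, a * y.1, a ^ 2 * y.1)) (p_smul _)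
    (fun t ht => ⟨key _ hy t ht, key _ h t ht⟩) (hs.le (u_mem a)) (u_Z2 a rfl) (by ext <;> simp [u2])
  simpa [hy0] using congrArg (·.2.1) this

theorem surj2 (hs : Syl 2 (T K) L) (hg : g ∈ L) (hn : g ∉ nz (T K)) :
    (∀ s, ∃ x : V K, x.1 = s ∧ g x ∈ Z2 K) ∧
      Nat.card K ≤ Nat.card {δ : V K // δ.1 = 0 ∧ g δ ∈ Z2 K} := by
  obtain ⟨y, hy, hy0⟩ : ∃ y, g y ∈ Z2 K ∧ y.1 ≠ 0 := by
    by_contra hc
    push Not at hc
    exact hn (inv_mem_iff.1 (nrm2 hs (inv_mem hg) fun v hv => hc _ (by rwa [ap_inv])))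
  let π : K × K →+ K := AddMonoidHom.mk' (fun x => (g⁻¹ (0, x)).1) fun x y => by
    rw [← Prod.fst_add, ← map_add]; simp
  have e1 : Nat.card π.ker = Nat.card {δ : V K // δ.1 = 0 ∧ g δ ∈ Z2 K} := Nat.card_congr
    { toFun := fun x => ⟨g⁻¹ (0, x.1), x.2, by rw [ap_inv]; rfl⟩
      invFun := fun δ => ⟨(g δ).2, by
        show (g⁻¹ (0, (g δ).2)).1 = 0
        rw [show ((0, (g δ).2) : V K) = g δ from Prod.ext δ.2.2.symm rfl, inv_ap, δ.2.1]⟩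
      left_inv := fun x => Subtype.ext (by simp)
      right_inv := fun δ => Subtype.ext (by
        show g⁻¹ (0, (g δ).2) = δ
        rw [show ((0, (g δ).2) : V K) = g δ from Prod.ext δ.2.2.symm rfl, inv_ap]) }
  have e2 := π.ker.card_mul_index
  rw [AddSubgroup.index_ker, e1, Nat.card_prod] at e2
  have e3 : Nat.card {δ : V K // δ.1 = 0 ∧ g δ ∈ Z2 K} * Nat.card K ≤ Nat.card K * Nat.card K := by
    rw [← Nat.card_prod, ← Nat.card_prod]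
    refine Nat.card_le_card_of_injective (fun x => x.1.1.2 + (x.2 * y.1, x.2 ^ 2 * y.1)) ?_
    rintro ⟨δ, a⟩ ⟨δ', a'⟩ e
    have e4 : δ'.1 - δ.1 = (0, (a - a') * y.1, (a - a') ^ 2 * y.1) := by
      have a1 : δ.1.2.1 + a * y.1 = δ'.1.2.1 + a' * y.1 := congrArg Prod.fst e
      have a2 : δ.1.2.2 + a ^ 2 * y.1 = δ'.1.2.2 + a' ^ 2 * y.1 := congrArg Prod.snd e
      ext
      · simp [δ.2.1, δ'.2.1]
      · simp only [Prod.snd_sub, Prod.fst_sub]; linear_combination -a1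
      · simp only [Prod.snd_sub]; linear_combination -a2 + (a * a' * y.1 - a' ^ 2 * y.1) * t0 (K := K)
    have e5 := ht2 hs hg hy hy0 (a := a - a') (by rw [← e4, map_sub]; exact sub_mem δ'.2.2 δ.2.2)
    rw [e5] at e4
    exact Prod.ext (Subtype.ext (sub_eq_zero.1 (e4.trans (by simp))).symm) (sub_eq_zero.1 e5)
  have e4 : Nat.card π.range ≤ Nat.card K := Nat.card_le_card_of_injective _ Subtype.val_injective
  have q0 : 0 < Nat.card K := Nat.card_pos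
  refine ⟨fun s => ?_, by nlinarith⟩
  have e5 : π.range = ⊤ := AddSubgroup.eq_top_of_card_eq _ (le_antisymm e4 (by
    have := Nat.le_of_mul_le_mul_right e3 q0
    nlinarith))
  obtain ⟨x, hx⟩ := e5.ge (AddSubgroup.mem_top s)
  exact ⟨_, hx, by rw [ap_inv]; rfl⟩

theorem axis (hs : Syl 2 (T K) L) (hg : g ∈ L) (hn : g ∉ nz (T K)) {c d : K}
    (h : g (0, c, d) ∈ Z2 K) : c = 0 ∨ d = 0 := by
  by_contra hc
  push Not at hc
  obtain ⟨y, h1, h2⟩ := (surj2 hs hg hn).1 (c ^ 2 / d)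
  have := hc.1
  have := hc.2
  have := ht2 hs hg h2 (a := d / c) (by rw [h1]; positivity) (by
    rw [h1]; convert h using 3 <;> field_simp)
  simp [hc.1, hc.2] at this

/-- the standing hypothesis -/
structure EJ (L : Subgroup (Au (V K))) (r : K) : Prop where
  syl : Syl 2 (T K) L
  r0 : r ≠ 0
  inv : ∀ g ∈ L, g (0, 0, r) ∈ Z2 K
  nn : ¬ L ≤ nz (T K)

theorem EJ.um (H : EJ L r) (a : K) : u a ∈ L := H.syl.le (u_mem a)

theorem EJ.DD (H : EJ L r) (hg : g ∈ L) (hn : g ∉ nz (T K)) (hv : v ∈ Z2 K) : g v ∈ Z2 K ↔ v ∈ Z1 K := by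
  have key : ∀ v ∈ Z2 K, g v ∈ Z2 K → v ∈ Z1 K := fun v hv h => ⟨hv, by_contra fun hc => by
    have e1 := (axis H.syl hg hn (eq_of_Z2 hv ▸ h)).resolve_left hc
    have e2 := add_mem h (H.inv g hg)
    rw [← map_add, eq_of_Z2 hv, e1] at e2
    simpa [hc, H.r0] using axis H.syl hg hn (c := v.2.1) (d := r) (by simpa using e2)⟩
  refine ⟨key v hv, fun h => ?_⟩
  have hi : Function.Injective fun δ : {δ : V K // δ.1 = 0 ∧ g δ ∈ Z2 K} => δ.1.2.2 := fun δ δ' e =>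
    Subtype.ext (by rw [eq_of_Z1 (key _ δ.2.1 δ.2.2), eq_of_Z1 (key _ δ'.2.1 δ'.2.2)]; simpa using e)
  obtain ⟨δ, e⟩ := (hi.bijective_of_nat_card_le (surj2 H.syl hg hn).2).2 v.2.2
  rw [eq_of_Z1 h, ← e, ← eq_of_Z1 (key _ δ.2.1 δ.2.2)]
  exact δ.2.2

theorem EJ.pres (H : EJ L r) (hg : g ∈ L) (hv : v ∈ Z1 K) : g v ∈ Z1 K := by
  have key : ∀ g ∈ L, g ∉ nz (T K) → ∀ v ∈ Z1 K, g v ∈ Z1 K := fun g hg hn v hv =>
    (H.DD (inv_mem hg) (mt inv_mem_iff.1 hn) ((H.DD hg hn hv.1).2 hv)).1 (by rw [inv_ap]; exact hv.1)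
  by_cases hn : g ∈ nz (T K)
  · obtain ⟨k, hk, hk'⟩ := SetLike.not_le_iff_exists.1 H.nn
    have := key (g * k⁻¹) (mul_mem hg (inv_mem hk))
      (fun h => hk' (by simpa using mul_mem (inv_mem h) hn)) _ (key k hk hk' v hv)
    rwa [mul_ap, inv_ap] at this
  · exact key g hg hn v hv

theorem EJ.lines (H : EJ L r) (hg : g ∈ L) (hk : k ∈ L) (hx : x ∉ Z1 K) (h1 : g x ∈ Z2 K)
    (h2 : k x ∈ Z2 K) (hv : g v ∈ Z2 K) : k v ∈ Z2 K := by
  have hm : k * g⁻¹ ∈ nz (T K) := by_contra fun hn => hx (by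
    have := H.pres (inv_mem hg) ((H.DD (mul_mem hk (inv_mem hg)) hn h1).1 (by rwa [mul_ap, inv_ap]))
    rwa [inv_ap] at this)
  simpa using nz_pres2 hm _ hv

theorem EJ.faith (H : EJ L r) (hg : g ∈ L) (hk : k ∈ L) (h1 : ∀ v ∈ Z1 K, g v = k v)
    (h2 : ∀ v, (g v).1 = (k v).1 ∧ (g v).2.1 = (k v).2.1) : g = k := by
  have e : ∀ v, (k⁻¹ * g) v - v ∈ Z1 K := fun v => by
    rw [show (k⁻¹ * g) v - v = k⁻¹ (g v - k v) by simp]
    exact H.pres (inv_mem hk) ⟨by simp [(h2 v).1], by simp [(h2 v).2]⟩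
  obtain ⟨a, ha⟩ := chain' H.syl (mul_mem (inv_mem hk) hg) (fun v => sub_eq_zero.1 (e v).1)
    (fun v _ => sub_eq_zero.1 (e v).2) fun v hv => by rw [mul_ap, h1 v hv, inv_ap]
  have e2 := (e (1, 0, 0)).2
  rw [← ha] at e2
  obtain rfl : a = 0 := by simpa [u2] using e2
  rw [u_zero, eq_comm, inv_mul_eq_one] at ha
  exact ha.symm

theorem EJ.cj_sh (H : EJ L r) (φ ψ : K →+ K) : EJ (cj (sh φ ψ) L) r := by
  have e : cj (sh φ ψ) (T K) = T K := cj_eq_of_le (cj_le.2 (by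
    rintro _ ⟨a, rfl⟩; rw [sh_u]; exact u_mem a))
  refine ⟨e ▸ H.syl.cj _, H.r0, ?_, fun h => H.nn ?_⟩
  · rintro _ ⟨g, hg, rfl⟩
    have := H.inv g hg
    show (sh φ ψ (g ((sh φ ψ)⁻¹ (0, 0, r)))).1 = 0
    simpa [sh_ap, sh_inv_ap, mem_Z2] using this
  · rwa [← e, ← cj_nz, cj_le_cj] at h

theorem EJ.swap0 (H : EJ L r) (hg : g ∈ L) (hz : ∀ v, g v ∈ Z2 K ↔ v.2.1 = 0) :
    ∃ ψ : K →+ K, sh 0 ψ * sw K * (sh 0 ψ)⁻¹ ∈ L := by
  have yL : ∀ a, g⁻¹ * u a * g ∈ L := fun a => mul_mem (mul_mem (inv_mem hg) (H.um a)) hg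
  have y1 : ∀ (a : K) (v : V K), v.2.1 = 0 → (g⁻¹ * u a * g) v = v := fun a v hv => by
    rw [mul_ap, mul_ap, u_Z2 a ((hz v).2 hv), inv_ap]
  have y2 : ∀ (a : K) (v : V K), ((g⁻¹ * u a * g) v).2.1 = v.2.1 := fun a v => by
    have := (hz ((g⁻¹ * u a * g) v - v)).1 (by simp [mem_Z2, u2])
    exact sub_eq_zero.1 this
  have y3 : ∀ a : K, ((g⁻¹ * u a * g) (0, 1, 0)).1 = 0 → a = 0 := fun a h => by
    have e := H.pres hg (v := (g⁻¹ * u a * g) (0, 1, 0) - (0, 1, 0)) ⟨by simp only [Prod.fst_sub, h]; simp,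
      by simp only [Prod.snd_sub, Prod.fst_sub, y2]; simp⟩
    have e' : (g (0, 1, 0)).1 ≠ 0 := fun h => by simpa using (hz _).1 h
    simpa [u2, e'] using e.2
  have y4 : Function.Injective fun a : K => ((g⁻¹ * u a * g) (0, 1, 0)).1 := fun a b e => by
    refine sub_eq_zero.1 (y3 _ ?_)
    have e1 : g⁻¹ * u (a - b) * g = (g⁻¹ * u b * g)⁻¹ * (g⁻¹ * u a * g) := by
      rw [sub_eq_neg_add, ← u_mul, ← u_inv]; group
    have e2 : (g⁻¹ * u a * g) (0, 1, 0) = (g⁻¹ * u b * g) (0, 1, 0) +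
        (0, 0, ((g⁻¹ * u a * g) (0, 1, 0)).2.2 - ((g⁻¹ * u b * g) (0, 1, 0)).2.2) := by
      ext
      · simpa using e
      · simp only [Prod.snd_add, Prod.fst_add, y2]; simp
      · simp only [Prod.snd_add]; ring
    rw [e1, mul_ap, e2, map_add, inv_ap, inv_fix (y1 _ _ rfl)]; simp
  obtain ⟨a, ha⟩ := Finite.injective_iff_surjective.1 y4 1
  obtain ⟨y, hy⟩ : ∃ y, y = g⁻¹ * u a * g := ⟨_, rfl⟩
  have ha' : (y (0, 1, 0)).1 = 1 := hy ▸ ha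
  replace y1 := hy ▸ y1 a
  replace y2 := hy ▸ y2 a
  replace yL := hy ▸ yL a
  have y5 : ∀ z, (y (0, z, 0)).1 = z := fun z => by
    have := (hz (u 1 (y (0, z, 0)))).1 (H.lines (inv_mem yL) (mul_mem hg (H.um 1)) (x := y (0, 1, 0))
      (fun h => by simpa [ha'] using h.1) (by rw [inv_ap]; rfl)
      ((hz (u 1 (y (0, 1, 0)))).2 (by simp [u2, y2, ha', CharTwo.add_self_eq_zero])) (v := y (0, z, 0))
      (by rw [inv_ap]; rfl))
    simp only [u2, y2] at this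
    linear_combination this - z * t0 (K := K)
  let ψ : K →+ K := AddMonoidHom.mk' (fun t => (y (0, t, 0)).2.2 + t) fun s t => by
    rw [show ((0, s + t, 0) : V K) = (0, s, 0) + (0, t, 0) by simp, map_add, Prod.snd_add, Prod.snd_add]
    ring
  have y6 : ∀ v, y v = (v.1 + v.2.1, v.2.1, v.2.2 + ψ v.2.1 + v.2.1) := fun v => by
    rw [show v = (v.1, 0, v.2.2) + (0, v.2.1, 0) by ext <;> simp, map_add, y1 _ rfl]
    ext
    · simp [y5]
    · simp [y2]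
    · simp [ψ, add_assoc, CharTwo.add_self_eq_zero]
  refine ⟨ψ, ?_⟩
  convert mul_mem (mul_mem (H.um 1) yL) (H.um 1) using 1
  ext v
  · simp [u2, y6, sh_ap, sh_inv_ap, sw_ap]; linear_combination -v.1 * t0 (K := K)
  · simp [u2, y6, sh_ap, sh_inv_ap, sw_ap]; linear_combination -(v.1 + v.2.1) * t0 (K := K)
  · simp [u2, y6, sh_ap, sh_inv_ap, sw_ap]
    linear_combination -(2 * v.1 + v.2.1 + ψ v.1) * t0 (K := K)

theorem EJ.swap (H : EJ L r) : ∃ φ ψ : K →+ K, sh φ ψ * sw K * (sh φ ψ)⁻¹ ∈ L := by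
  obtain ⟨g, hg, hn⟩ := SetLike.not_le_iff_exists.1 H.nn
  choose x hx hx' using (surj2 H.syl hg hn).1
  have key : ∀ v, g v ∈ Z2 K ↔ v.2.1 = (x v.1).2.1 := fun v => by
    have e := H.DD hg hn (v := v - x v.1) (by simp [mem_Z2, hx])
    rw [map_sub] at e
    exact ⟨fun h => sub_eq_zero.1 (e.1 (sub_mem h (hx' _))).2, fun h => by
      simpa using add_mem (e.2 ⟨by simp [hx], by simp [h]⟩) (hx' v.1)⟩
  let φ : K →+ K := AddMonoidHom.mk' (fun s => (x s).2.1) fun s t => by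
    have := (key (x s + x t)).1 (by rw [map_add]; exact add_mem (hx' s) (hx' t))
    simpa [hx] using this.symm
  obtain ⟨ψ, h⟩ := (H.cj_sh φ 0).swap0 (conj_mem_cj _ hg) fun v => by
    show (g ((sh φ 0)⁻¹ v)).1 = 0 ↔ _
    rw [← mem_Z2, key]
    simp only [sh_inv_ap, φ, AddMonoidHom.mk'_apply]
    exact ⟨fun h => by linear_combination h + (x v.1).2.1 * t0 (K := K),
      fun h => by linear_combination h - (x v.1).2.1 * t0 (K := K)⟩
  refine ⟨-φ, ψ, ?_⟩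
  convert mem_cj.1 h using 1
  ext v <;> simp [sh_ap, sh_inv_ap, sw_ap, sub_eq_add_neg]

theorem EJ.tor0 (H : EJ L r) (hw : sw K ∈ L) (hη : η ≠ 0) : ∃ h ∈ L, ∀ v, h v =
    (η⁻¹ * v.1, η * v.2.1, v.2.2 + (η ^ 2 + η⁻¹) * v.2.1 + (η + η⁻¹ ^ 2) * v.1) := by
  refine ⟨u η * (sw K * u η⁻¹ * sw K) * u η * sw K, mul_mem (mul_mem (mul_mem (H.um _)
    (mul_mem (mul_mem hw (H.um _)) hw)) (H.um _)) hw, fun v => ?_⟩
  ext <;> simp [u2, sw_ap] <;> field_simp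
  · linear_combination η * v.2.1 * t0 (K := K)
  · linear_combination (v.1 + η * v.2.1) * t0 (K := K)
  · linear_combination η ^ 4 * v.2.1 * t0 (K := K)

theorem EJ.eta (H : EJ L r) (hw : sw K ∈ L) (hη : η ≠ 0) : η ^ 3 = 1 := by
  obtain ⟨h, hh, e⟩ := H.tor0 hw hη
  have key : ∀ ξ, h * u ξ = u (η ^ 2 * ξ) * h := fun ξ => H.faith (mul_mem hh (H.um _))
    (mul_mem (H.um _) hh) (fun v hv => by rw [mul_ap, mul_ap, u_Z1 _ hv, u_Z1 _ (H.pres hh hv)])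
    fun v => by simp [e, u2]; field_simp
  have e1 := congrArg (fun g : Au (V K) => (g (η, 0, 0)).2.2) (key 1)
  have e2 := congrArg (fun g : Au (V K) => (g (1, 0, 0)).2.2) (key η)
  simp [e, u2] at e1 e2
  field_simp at e1 e2
  by_cases h1 : η = 1
  · simp [h1]
  refine mul_left_cancel₀ (mul_ne_zero (pow_ne_zero 3 hη) (sub_ne_zero.2 h1)) ?_
  linear_combination η * e1 - e2

theorem EJ.tor (H : EJ L r) (hw : sw K ∈ L) (hη : η ≠ 0) : ∃ h ∈ L ⊓ nz (T K), ∀ v, h v =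
    (η ^ 2 * v.1, η * v.2.1, v.2.2) := by
  obtain ⟨h, hh, e⟩ := H.tor0 hw hη
  have e3 := H.eta hw hη
  have e4 : η⁻¹ = η ^ 2 := by field_simp; exact e3.symm
  refine ⟨h, ⟨hh, nrm2 H.syl hh fun v hv => by simp [mem_Z2, e, mem_Z2.1 hv]⟩, fun v => ?_⟩
  rw [e, e4]
  refine Prod.ext rfl (Prod.ext rfl ?_)
  linear_combination (η ^ 2 * v.2.1 + η * v.1) * t0 (K := K) + η * v.1 * e3

theorem EJ.dc (H : EJ L r) (hw : sw K ∈ L) (hg : g ∈ L) :
    g ∈ nz (T K) ∨ ∃ η, sw K * u η * g ∈ nz (T K) := by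
  refine or_iff_not_imp_left.2 fun hn => ⟨(g (0, 1, 0)).2.1 / (g (0, 1, 0)).1, by_contra fun hc => ?_⟩
  have e : (g (0, 1, 0)).1 ≠ 0 := fun h => by simpa using ((H.DD hg hn (v := (0, 1, 0)) rfl).1 h).2
  have := ((H.DD (mul_mem (mul_mem hw (H.um _)) hg) hc (v := (0, 1, 0)) rfl).1 (by
    simp [mem_Z2, u2, sw_ap, e, CharTwo.add_self_eq_zero])).2
  simp at this

theorem EJ.dg (H : EJ L r) (hw : sw K ∈ L) (hn : n ∈ L) {ρ κ δ : K} (h1 : ∀ v, (n v).1 = ρ * v.1)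
    (h2 : ∀ c d, n (0, c, d) = (0, κ * c, δ * d)) (h3 : δ * κ = ρ ^ 2) (hκ : κ ≠ 0) (hρ : ρ ≠ 0) :
    ∃ η, ∀ v, u η (n v) = (ρ * v.1, κ * v.2.1, δ * v.2.2) := by
  refine ⟨(n (1, 0, 0)).2.1 / ρ, ?_⟩
  obtain ⟨m, hm⟩ : ∃ m, m = u ((n (1, 0, 0)).2.1 / ρ) * n := ⟨_, rfl⟩
  suffices ∀ v, m v = (ρ * v.1, κ * v.2.1, δ * v.2.2) from fun v => by rw [← this, hm, mul_ap]
  have mL : m ∈ L := hm ▸ mul_mem (H.um _) hn
  have m1 : ∀ v, (m v).1 = ρ * v.1 := fun v => by rw [hm, ← h1]; rfl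
  have m2 : ∀ c d, m (0, c, d) = (0, κ * c, δ * d) := fun c d => by
    rw [hm, mul_ap, h2, u_Z2 _ rfl]
  have m3 : ∀ s, (m (s, 0, 0)).2.1 = 0 := fun s =>
    H.lines hw (mul_mem hw mL) (x := (1, 0, 0)) (fun h => by simpa using h.1) rfl (by
      simp [mem_Z2, hm, u2, sw_ap, h1, hρ, CharTwo.add_self_eq_zero]) (v := (s, 0, 0)) rfl
  have m4 : ∀ v, (m v).2.1 = κ * v.2.1 := fun v => by
    rw [show v = (v.1, 0, 0) + (0, v.2.1, v.2.2) by ext <;> simp, map_add, m2]; simp [m3]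
  have key : m * (sw K * u 1 * sw K) = (sw K * u (ρ / κ) * sw K) * m :=
    H.faith (mul_mem mL (mul_mem (mul_mem hw (H.um _)) hw))
      (mul_mem (mul_mem (mul_mem hw (H.um _)) hw) mL) (fun v hv => by
        rw [eq_of_Z1 hv]; simp [u2, sw_ap, m2]) fun v => by
        simp [u2, sw_ap, m1, m4]; field_simp
  have m5 : ∀ s, (m (s, 0, 0)).2.2 = 0 := fun s => by
    have e := congrArg (fun g : Au (V K) => (g (0, s, 0)).2.2) key
    simp only [mul_ap, u2, sw_ap, m2] at e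
    rw [show ((0 + 1 * s, s, 0 + 1 ^ 2 * s) : V K) = (s, 0, 0) + (0, s, s) by simp, map_add, m2] at e
    simp only [Prod.snd_add] at e
    field_simp at e
    exact mul_left_cancel₀ hκ (by linear_combination e - s * h3)
  intro v
  refine Prod.ext (m1 v) (Prod.ext (m4 v) ?_)
  rw [show v = (v.1, 0, 0) + (0, v.2.1, v.2.2) by ext <;> simp, map_add, m2]; simp [m5]

end H24.SP
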