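import Cfsg.Agent.H24.SP5
import Cfsg.Agent.H24.SP6

/-! Characteristic two: normal form of a fusion system with two essential subgroups. -/

set_option autoImplicit false
set_option linter.unnecessarySeqFocus false

namespace H24.SP
open Subgroup H25 H25.FS
attribute [-simp] LinearEquiv.coe_inv

variable {Γ : Type*} [Group Γ] {K : Type*} [Field K] [CharP K 2]

namespace Co
section
variable {S S' : Subgroup Γ} {w w' : K → K → K → K → Γ} {g : Γ}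

theorem cenY (H : Co S w) : S ≤ cz H.Y := fun s hs => mem_cz.2 fun y hy => by
  obtain ⟨a, b, c, d, rfl⟩ := (H.mem s).1 hs
  obtain ⟨c', d', rfl⟩ := H.exY hy
  simp [H.comm_iff, t0]

theorem YS (H : Co S w) : S ⊓ cz S = H.Y := by
  refine le_antisymm (fun s hs => ?_) (le_inf H.Y_le (le_cz_comm.1 H.cenY))
  obtain ⟨a, b, c, d, rfl⟩ := (H.mem s).1 hs.1
  have e1 := H.comm_iff.1 (mem_cz.1 hs.2 _ (H.wm 1 0 0 0))
  have e2 := H.comm_iff.1 (mem_cz.1 hs.2 _ (H.wm 0 1 0 0))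
  exact H.mY.2 ⟨by simpa using e2.1, by simpa using e1.1.symm⟩

theorem nzY2 (H : Co S w) (hg : g ∈ nz S) : g ∈ nz H.Y := by
  rw [← H.YS]; exact mem_nz_inf hg (mem_nz_cz hg)

theorem abB (H : Co S w) : H.X 0 1 ≤ cz (H.X 0 1) := fun s hs => mem_cz.2 fun t ht => by
  obtain ⟨b, c, d, rfl⟩ := H.exB hs
  obtain ⟨b', c', d', rfl⟩ := H.exB ht
  simp [H.comm_iff, t0]

theorem cen1 (H : Co S w) {b c d : K} (hb : b ≠ 0) : S ⊓ cz (zpowers (w 0 b c d)) = H.X 1 0 := by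
  refine le_antisymm (fun s hs => ?_) (le_inf (H.X_le _ _)
    (H.abJ.trans (cz_anti (zpowers_le.2 (H.mJ.2 rfl)))))
  obtain ⟨a', b', c', d', rfl⟩ := (H.mem s).1 hs.1
  simpa [hb, H.mJ] using (H.comm_iff.1 (mem_cz_zpowers.1 hs.2)).1

theorem cen2 (H : Co S w) {a c d : K} (ha : a ≠ 0) : S ⊓ cz (zpowers (w a 0 c d)) = H.X 0 1 := by
  refine le_antisymm (fun s hs => ?_) (le_inf (H.X_le _ _)
    (H.abB.trans (cz_anti (zpowers_le.2 (H.mB.2 rfl)))))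
  obtain ⟨a', b', c', d', rfl⟩ := (H.mem s).1 hs.1
  simpa [ha, H.mB] using (H.comm_iff.1 (mem_cz_zpowers.1 hs.2)).1

theorem sq_one (H : Co S w) {a b c d : K} : w a b c d * w a b c d = 1 ↔ a * b = 0 := by
  rw [H.mul, H.eq_one]
  refine ⟨fun h => by linear_combination h.2.2.1 - c * t0 (K := K), fun h => ⟨CharTwo.add_self_eq_zero a,
    CharTwo.add_self_eq_zero b, by linear_combination h + c * t0 (K := K),
    by linear_combination a * h + (d + a * c) * t0 (K := K)⟩⟩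

theorem cjA (H : Co S w) (hg : g ∈ nz S) {x : Γ} (hx : x ∈ S) (hx' : x ∉ H.Y) (h : x * x = 1) :
    cj g (S ⊓ cz (zpowers x)) = H.X 1 0 ∨ cj g (S ⊓ cz (zpowers x)) = H.X 0 1 := by
  rw [cj_inf, cj_cz, cj_zpowers, cj_eq_of_mem_nz hg]
  obtain ⟨a, b, c, d, e⟩ := (H.mem _).1 (conj_mem_of_mem_nz hg hx)
  have e1 : w a b c d ∉ H.Y := fun h => hx' (by
    simpa [e, mul_assoc] using conj_mem_of_mem_nz' (H.nzY2 hg) h)
  have e2 : a * b = 0 := H.sq_one.1 (by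
    rw [e, show g * x * g⁻¹ * (g * x * g⁻¹) = g * (x * x) * g⁻¹ by group, h]; group)
  rw [← e]
  rcases mul_eq_zero.1 e2 with rfl | rfl
  · exact .inl (H.cen1 fun h => e1 (H.mY.2 ⟨rfl, h⟩))
  · exact .inr (H.cen2 fun h => e1 (H.mY.2 ⟨h, rfl⟩))

theorem nzA (H : Co S w) (hg : g ∈ nz S) {n : ℕ} (hn : Odd n) (h : g ^ n ∈ ai S S) :
    g ∈ nz (H.X 1 0) ∧ g ∈ nz (H.X 0 1) := by
  have e1 := H.cjA hg (H.wm 0 1 0 0) (by simp [H.mY]) (H.sq_one.2 (by simp))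
  have e2 := H.cjA hg (H.wm 1 0 0 0) (by simp [H.mY]) (H.sq_one.2 (by simp))
  rw [H.cen1 one_ne_zero] at e1
  rw [H.cen2 one_ne_zero] at e2
  have ne : H.X 1 0 ≠ H.X 0 1 := fun e => by
    simpa [H.mB] using e.le (H.mJ.2 rfl : w 0 1 0 0 ∈ _)
  rcases e1 with e1 | e1
  · exact ⟨mem_nz.2 e1, mem_nz.2 (e2.resolve_left fun e => ne (cj_inj.1 (e1.trans e.symm)))⟩
  · have e3 := e2.resolve_right fun e => ne (cj_inj.1 (e1.trans e.symm))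
    have e4 : g ^ 2 ∈ nz (H.X 1 0) := mem_nz.2 (by rw [pow_two, ← cj_cj, e1, e3])
    obtain ⟨-, s, hs, e⟩ := h
    have e5 : g ^ n ∈ nz (H.X 1 0) := (e.mono (H.X_le 1 0)).mem_nz
      (H.nz_of_Y (H.Y_le_X _ _) (H.X_le _ _) hs)
    obtain ⟨k, rfl⟩ := hn
    rw [pow_succ, pow_mul] at e5
    exact (ne ((mem_nz.1 ((mul_mem_cancel_left (pow_mem e4 k)).1 e5)).symm.trans e1)).elim

theorem actB (H : Co S w) (h4 : ∀ x : K, x ^ 4 = x) (a b c d : K) :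
    Act (fun v => w v.1 0 v.2.1 (v.2.2 ^ 2)) (w a b c d) (u b) := fun v => by
  rw [H.conj]
  simp only [u2]
  refine weq w rfl rfl (by linear_combination (-v.1 * b) * t0 (K := K)) ?_
  linear_combination (a * v.2.1 - v.1 * c - v.1 ^ 2 * b - v.2.2 * b ^ 2 * v.1) * t0 (K := K) -
    v.1 ^ 2 * h4 b

theorem mdB (H : Co S w) (h4 : ∀ x : K, x ^ 4 = x) :
    MD S (H.X 0 1) fun v => w v.1 0 v.2.1 (v.2.2 ^ 2) where
  add x y := by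
    rw [H.mul]
    exact weq w rfl (by simp) (by simp) (by simp [CharTwo.add_sq, t0])
  inj x y h := by
    obtain ⟨a, -, b, c⟩ := H.inj h
    refine Prod.ext a (Prod.ext b ?_)
    rw [← h4 x.2.2, ← h4 y.2.2]
    linear_combination (x.2.2 ^ 2 + y.2.2 ^ 2) * c
  mem g := ⟨fun h => let ⟨b, c, d, e⟩ := H.exB h; ⟨(b, c, d ^ 2), by
    rw [← e]; exact weq w rfl rfl rfl (by linear_combination h4 d)⟩, by rintro ⟨v, rfl⟩; simp [H.mB]⟩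
  le := H.X_le _ _
  ex s hs := by
    obtain ⟨a, b, c, d, rfl⟩ := (H.mem s).1 hs
    exact ⟨b, H.actB h4 _ _ _ _⟩
  ex' a := ⟨_, H.wm 0 a 0 0, H.actB h4 _ _ _ _⟩

theorem shift (H : Co S w) (φ₁ ψ₁ φ₂ ψ₂ : K →+ K) :
    Co S fun a b c d => w a b (c + φ₁ b + φ₂ a) (d + ψ₁ b + ψ₂ a) where
  mul a b c d a' b' c' d' := by
    rw [H.mul]
    exact weq w rfl rfl (by simp only [map_add]; ring) (by simp only [map_add, t0]; ring)
  inj h := by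
    obtain ⟨rfl, rfl, h3, h4⟩ := H.inj h
    exact ⟨rfl, rfl, by linear_combination h3, by linear_combination h4⟩
  mem g := (H.mem g).trans ⟨fun ⟨a, b, c, d, e⟩ => ⟨a, b, c - φ₁ b - φ₂ a, d - ψ₁ b - ψ₂ a, by
    rw [← e]; exact weq w rfl rfl (by ring) (by ring)⟩, fun ⟨_, _, _, _, e⟩ => ⟨_, _, _, _, e⟩⟩

omit [CharP K 2] in
theorem X_eq (H : Co S w) (H' : Co S w') {l m l' m' : K}
    (h : ∀ a b c d, w' a b c d ∈ H.X l m ↔ l' * a = m' * b) : H'.X l' m' = H.X l m := by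
  ext g
  refine ⟨fun hg => ?_, fun hg => ?_⟩
  · obtain ⟨a, b, c, d, e, rfl⟩ := hg; exact (h ..).2 e
  · obtain ⟨a, b, c, d, rfl⟩ := (H'.mem g).1 (H.X_le _ _ hg); exact H'.mX.2 ((h ..).1 hg)

theorem flip (H : Co S w) (ρ : K ≃+* K) (hρ : ∀ x, ρ (x ^ 2) = x) :
    Co S fun a b c d => (w (ρ b) a (ρ d) c)⁻¹ where
  mul a b c d a' b' c' d' := by
    have e : ∀ x, ρ x ^ 2 = x := fun x => by rw [← map_pow, hρ]
    rw [← mul_inv_rev, H.mul]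
    refine congrArg _ (weq w (by simp [add_comm]) (add_comm _ _) ?_ ?_)
    · simp only [map_add, map_mul, hρ, t0, map_zero]; ring
    · rw [e, t0]; ring
  inj h := by
    obtain ⟨h1, h2, h3, h4⟩ := H.inj (inv_injective h)
    exact ⟨h2, ρ.injective h1, h4, ρ.injective h3⟩
  mem g := by
    rw [← inv_mem_iff, H.mem]
    exact ⟨fun ⟨a, b, c, d, e⟩ => ⟨b, a ^ 2, d, c ^ 2, by rw [hρ, hρ, e, inv_inv]⟩,
      fun ⟨_, _, _, _, e⟩ => ⟨_, _, _, _, inv_eq_iff_eq_inv.1 e⟩⟩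
end

variable [Finite Γ] {F : FS Γ} {w : K → K → K → K → Γ} {E : Subgroup Γ}

theorem ess_two (H : Co F.S w) (hF : F.Sat 2) (hE : F.Ess E) : E = H.X 1 0 ∨ E = H.X 0 1 := by
  have hY : H.Y ≤ E := H.YS ▸ hE.centric.Z_le
  have hn : ¬ F.A E ≤ nz H.Y := fun h => hE.lt.not_ge fun x hx => ess_mem hF hE hx
    (chain2 (hF.pg' hE.le) hY h (F.N_le_A E ⟨hx, H.nz_of_Y hY hE.le hx⟩) (H.cenY hx)
      fun y hy => H.commY hx (hE.le hy))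
  obtain ⟨z, hz, hz'⟩ : ∃ z ∈ E ⊓ cz E, z ∉ H.Y := by
    by_contra h
    push Not at h
    have e : H.Y = E ⊓ cz E := le_antisymm (le_inf hY (le_cz_comm.1 (hE.le.trans H.cenY))) h
    exact hn fun g hg => e ▸ mem_nz_inf (F.A_le_nz E hg) (mem_nz_cz (F.A_le_nz E hg))
  have hle : E ≤ F.S ⊓ cz (zpowers z) :=
    le_inf hE.le (le_cz_comm.1 (zpowers_le.2 hz.2))
  obtain ⟨a, b, c, d, rfl⟩ := (H.mem z).1 (hE.le hz.1)
  by_cases ha : a = 0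
  · subst ha
    rw [H.cen1 fun h => hz' (H.mY.2 ⟨rfl, h⟩)] at hle
    exact .inl (le_antisymm hle fun x hx => hE.centric.C_le ⟨H.X_le _ _ hx, cz_anti hle (H.abJ hx)⟩)
  by_cases hb : b = 0
  · subst hb
    rw [H.cen2 ha] at hle
    exact .inr (le_antisymm hle fun x hx => hE.centric.C_le ⟨H.X_le _ _ hx, cz_anti hle (H.abB hx)⟩)
  refine (hn fun g hg => mem_nz_of_conj_mem fun y hy => ?_).elim
  have h1 := conj_mem_of_mem_nz (F.A_le_nz E hg) (hY hy)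
  have h2 : g * y * g⁻¹ * (g * y * g⁻¹) = 1 := by
    obtain ⟨c', d', rfl⟩ := H.exY hy
    rw [show g * w 0 0 c' d' * g⁻¹ * (g * w 0 0 c' d' * g⁻¹) = g * (w 0 0 c' d' * w 0 0 c' d') * g⁻¹ by
      group, H.sq_one.2 (by simp)]; group
  obtain ⟨a', b', c', d', e⟩ := (H.mem _).1 (hE.le h1)
  rw [← e] at h1 h2 ⊢
  have e1 := (H.comm_iff.1 (mem_cz.1 hz.2 _ h1)).1
  rcases mul_eq_zero.1 (H.sq_one.1 h2) with rfl | rfl
  · exact H.mY.2 ⟨rfl, by simpa [ha] using e1⟩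
  · exact H.mY.2 ⟨by simpa [hb] using e1, rfl⟩

end Co

/-- normal form -/
structure NF (F : FS Γ) (w : K → K → K → K → Γ) (r : K) : Prop where
  co : Co F.S w
  sat : F.Sat 2
  e4 : ∀ x : K, x ^ 4 = x
  r0 : r ≠ 0
  i1 : ∀ g ∈ F.A (co.X 1 0), g * w 0 0 0 r * g⁻¹ ∈ co.Y
  i2 : ∀ g ∈ F.A (co.X 0 1), g * w 0 0 0 r * g⁻¹ ∈ co.Y
  w1 : ∃ g ∈ F.A (co.X 1 0), ∀ b c d, g * w 0 b c d * g⁻¹ = w 0 c b d
  w2 : ∃ g ∈ F.A (co.X 0 1), ∀ a c d, g * w a 0 c d * g⁻¹ = w c 0 a d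

variable [Finite Γ] [Finite K] {F E : FS Γ} {w : K → K → K → K → Γ} {r r' : K} {g h : Γ}

theorem EJ.e4 {L : Subgroup (Au (V K))} (H : EJ L r) (x : K) : x ^ 4 = x := by
  obtain ⟨φ, ψ, h⟩ := H.swap
  by_cases hx : x = 0
  · simp [hx]
  have := (H.cj_sh (-φ) (-ψ)).eta (mem_cj.2 (by
    convert h using 1
    ext v <;> simp [sh_ap, sh_inv_ap, sw_ap, sub_eq_add_neg])) hx
  linear_combination x * this

omit [Finite K] in
theorem ej1 (H : Co F.S w) (hF : F.Sat 2) (hr : r ≠ 0)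
    (hi : ∀ g ∈ F.A (H.X 1 0), g * w 0 0 0 r * g⁻¹ ∈ H.Y)
    (hn : ¬ LL F (H.X 1 0) (fun v => w 0 v.1 v.2.1 v.2.2) ≤ nz (T K)) :
    EJ (LL F (H.X 1 0) fun v => w 0 v.1 v.2.1 v.2.2) r :=
  ⟨H.mdJ.syl hF, hr, fun _ ⟨g, hg, e⟩ => (H.mY.1 ((e (0, 0, r)).subst (motive := (· ∈ H.Y)) (hi g hg))).2,
    hn⟩

omit [Finite K] in
theorem ej2 (H : Co F.S w) (hF : F.Sat 2) (h4 : ∀ x : K, x ^ 4 = x) (hr : r ≠ 0)
    (hi : ∀ g ∈ F.A (H.X 0 1), g * w 0 0 0 r * g⁻¹ ∈ H.Y)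
    (hn : ¬ LL F (H.X 0 1) (fun v => w v.1 0 v.2.1 (v.2.2 ^ 2)) ≤ nz (T K)) :
    EJ (LL F (H.X 0 1) fun v => w v.1 0 v.2.1 (v.2.2 ^ 2)) (r ^ 2) :=
  ⟨(H.mdB h4).syl hF, pow_ne_zero 2 hr, fun _ ⟨g, hg, e⟩ =>
    (H.mY.1 ((e (0, 0, r ^ 2)).subst (motive := (· ∈ H.Y)) (by
      show g * w 0 0 0 ((r ^ 2) ^ 2) * g⁻¹ ∈ H.Y
      rw [show (r ^ 2) ^ 2 = r by linear_combination h4 r]; exact hi g hg))).1, hn⟩

theorem nf0 (H : Co F.S w) (hF : F.Sat 2) (h1 : F.Ess (H.X 1 0)) (h2 : F.Ess (H.X 0 1))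
    (hr : r ≠ 0) (hc : w 0 0 0 r ∈ F.core) : ∃ w', NF F w' r := by
  have hT := hF.nm_iff_ess.1 F.nm_core
  have hY : F.core ≤ H.Y := le_inf (hT _ (.inr h1)).1 (hT _ (.inr h2)).1
  have i1 : ∀ g ∈ F.A (H.X 1 0), g * w 0 0 0 r * g⁻¹ ∈ H.Y := fun g hg =>
    hY (conj_mem_of_mem_nz ((hT _ (.inr h1)).2 hg) hc)
  have i2 : ∀ g ∈ F.A (H.X 0 1), g * w 0 0 0 r * g⁻¹ ∈ H.Y := fun g hg =>
    hY (conj_mem_of_mem_nz ((hT _ (.inr h2)).2 hg) hc)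
  have J1 := ej1 H hF hr i1 (H.mdJ.not_le hF h1)
  have J2 := ej2 H hF J1.e4 hr i2 ((H.mdB J1.e4).not_le hF h2)
  obtain ⟨φ₁, ψ₁, g1, a1, b1⟩ := J1.swap
  obtain ⟨φ₂, ψ₂, g2, a2, b2⟩ := J2.swap
  have H' := H.shift φ₁ ψ₁ φ₂ ((frobenius K 2).toAddMonoidHom.comp ψ₂)
  have e1 : H'.X 1 0 = H.X 1 0 := H.X_eq H' fun _ _ _ _ => H.mX
  have e2 : H'.X 0 1 = H.X 0 1 := H.X_eq H' fun _ _ _ _ => H.mX
  have e3 : H'.Y = H.Y := by rw [Co.Y, e1, e2, Co.Y]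
  refine ⟨_, H', hF, J1.e4, hr, ?_, ?_, ⟨g1, e1 ▸ a1, fun b c d => ?_⟩, ⟨g2, e2 ▸ a2, fun a c d => ?_⟩⟩
  · simpa [e1, e3] using i1
  · simpa [e2, e3] using i2
  · simpa [sh_ap, sh_inv_ap, sw_ap] using b1 (sh φ₁ ψ₁ (b, c, d))
  · have := b2 (sh φ₂ ψ₂ (a, c, d ^ 2))
    simpa [sh_ap, sh_inv_ap, sw_ap, CharTwo.add_sq, ← pow_mul, J1.e4, frobenius_def] using this

theorem odd_pow (hF : F.Sat 2) (hg : g ∈ F.A F.S) : ∃ n, Odd n ∧ g ^ n ∈ ai F.S F.S := by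
  have hs := hF.syl F.FN_S
  have : ((ai F.S F.S).subgroupOf (F.A F.S)).Normal :=
    (normal_subgroupOf_iff_le_normalizer hs.le).2 ((F.A_le_nz _).trans (nz_le_nz_ai_self _))
  exact ⟨_, Nat.not_even_iff_odd.1 (mt even_iff_two_dvd.1 hs.2),
    mem_subgroupOf.1 (pow_index_mem ((ai F.S F.S).subgroupOf (F.A F.S)) ⟨g, hg⟩)⟩

omit [Finite K] in
theorem nzA (H : Co F.S w) (hF : F.Sat 2) (hg : g ∈ F.A F.S) : g ∈ nz (H.X 1 0) ∧ g ∈ nz (H.X 0 1) :=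
  let ⟨_, h1, h2⟩ := odd_pow hF hg; H.nzA (F.A_le_nz _ hg) h1 h2

theorem even_cases (H : Co F.S w) (hF : F.Sat 2) (hc : F.core ≠ ⊥) :
    F.Constr 2 ∨ ∃ (w' : K → K → K → K → Γ) (r : K), NF F w' r := by
  by_cases h1 : F.Ess (H.X 1 0) <;> by_cases h2 : F.Ess (H.X 0 1)
  · right
    have hT := hF.nm_iff_ess.1 F.nm_core
    have hY : F.core ≤ H.Y := le_inf (hT _ (.inr h1)).1 (hT _ (.inr h2)).1
    obtain ⟨⟨x, hx⟩, hx1⟩ := ne_bot_iff_exists_ne_one.1 hc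
    obtain ⟨c, d, rfl⟩ := H.exY (hY hx)
    obtain ⟨f, hf, hn⟩ := SetLike.not_le_iff_exists.1 (H.mdJ.not_le hF h1)
    have hf' := hf
    obtain ⟨g, hg, e⟩ := hf'
    rcases axis (H.mdJ.syl hF) hf hn (c := c) (d := d) (H.mY.1 ((e (0, c, d)).subst
      (motive := (· ∈ H.Y)) (hY (conj_mem_of_mem_nz ((hT _ (.inr h1)).2 hg) hx)))).2 with rfl | rfl
    · exact (nf0 H hF h1 h2 (by rintro rfl; exact hx1 (Subtype.ext H.one)) hx).imp fun _ h => ⟨_, h⟩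
    · have hρ : ∀ x : K, (frobeniusEquiv K 2).symm (x ^ 2) = x := fun x =>
        (frobeniusEquiv K 2).symm_apply_apply x
      have H' := H.flip _ hρ
      have e1 : H'.X 1 0 = H.X 0 1 := H.X_eq H' fun _ _ _ _ => by simp [H.mB]
      have e2 : H'.X 0 1 = H.X 1 0 := H.X_eq H' fun _ _ _ _ => by simp [H.mJ, @eq_comm _ (0 : K)]
      exact (nf0 H' hF (e1 ▸ h2) (e2 ▸ h1) (r := c ^ 2)
        (pow_ne_zero 2 (by rintro rfl; exact hx1 (Subtype.ext H.one)))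
        (by simpa [hρ] using hx)).imp fun _ h => ⟨_, h⟩
  · refine .inl ⟨hF, _, hF.nm_iff_ess.2 fun P hP => ?_, h1.centric⟩
    rcases hP with rfl | hP
    · exact ⟨h1.le, fun g hg => (nzA H hF hg).1⟩
    · rcases H.ess_two hF hP with rfl | rfl
      exacts [⟨le_rfl, F.A_le_nz _⟩, (h2 hP).elim]
  · refine .inl ⟨hF, _, hF.nm_iff_ess.2 fun P hP => ?_, h2.centric⟩
    rcases hP with rfl | hP
    · exact ⟨h2.le, fun g hg => (nzA H hF hg).2⟩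
    · rcases H.ess_two hF hP with rfl | rfl
      exacts [(h1 hP).elim, ⟨le_rfl, F.A_le_nz _⟩]
  · refine .inl ⟨hF, _, hF.nm_S_iff.2 fun P hP => ?_, F.centric_S⟩
    rcases H.ess_two hF hP with rfl | rfl
    exacts [h1 hP, h2 hP]

end H24.SP
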