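import Cfsg.Agent.H24.SP7
import Cfsg.Agent.H4.Rz2

/-! Characteristic two: a fusion system in normal form is determined by its torus. -/

set_option autoImplicit false
set_option linter.unnecessarySeqFocus false

namespace H24.SP
open Subgroup H25 H25.FS
attribute [-simp] LinearEquiv.coe_inv

variable {Γ : Type*} [Group Γ] {K : Type*} [Field K] [CharP K 2]

omit [CharP K 2] in
theorem cube (h4 : ∀ x : K, x ^ 4 = x) {x : K} (hx : x ≠ 0) : x ^ 3 = 1 :=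
  mul_left_cancel₀ hx (by linear_combination h4 x)

theorem four (h4 : ∀ x : K, x ^ 4 = x) {x : K} (h0 : x ≠ 0) (h1 : x ≠ 1) (y : K) :
    y = 0 ∨ y = 1 ∨ y = x ∨ y = x + 1 := by
  have key : ∀ y : K, y ≠ 0 → y ≠ 1 → y ^ 2 + y + 1 = 0 := fun y a b =>
    mul_left_cancel₀ (sub_ne_zero.2 b) (by linear_combination cube h4 a)
  by_cases a : y = 0
  · exact .inl a
  by_cases b : y = 1
  · exact .inr (.inl b)
  have : (y - x) * (y - (x + 1)) = 0 := by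
    linear_combination key y a b + key x h0 h1 - (y + x * y + 1) * t0 (K := K)
  exact .inr (.inr ((mul_eq_zero.1 this).imp sub_eq_zero.1 sub_eq_zero.1))

theorem odd_lin (h4 : ∀ x : K, x ^ 4 = x) (β : K →+ K) {n : ℕ} (hn : Odd n) (h : ∀ x, β^[n] x = x)
    (y : K) : β y = β 1 * y := by
  have hi : Function.Injective β := by
    obtain ⟨k, rfl⟩ := hn
    exact Function.LeftInverse.injective (g := β^[2 * k]) h
  have h1 : β 1 ≠ 0 := fun e => one_ne_zero (hi (e.trans (map_zero β).symm))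
  by_contra hy
  have y0 : y ≠ 0 := by rintro rfl; simp at hy
  have y1 : y ≠ 1 := by rintro rfl; simp at hy
  have y2 : y ^ 2 = y + 1 := by
    have := mul_left_cancel₀ (sub_ne_zero.2 y1) (show (y - 1) * (y ^ 2 + y + 1) = (y - 1) * 0 by
      linear_combination cube h4 y0)
    linear_combination this - (y + 1) * t0 (K := K)
  have e1 : β y = β 1 * (y + 1) := by
    rcases four h4 y0 y1 (β y / β 1) with e | e | e | e <;> rw [div_eq_iff h1] at e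
    · exact (y0 (hi (by simpa using e))).elim
    · exact (y1 (hi (by simpa using e))).elim
    · exact (hy (by rw [e, mul_comm])).elim
    · rw [e, mul_comm]
  have e2 : ∀ z, β z = β 1 * z ^ 2 := fun z => by
    rcases four h4 y0 y1 z with rfl | rfl | rfl | rfl
    · simp
    · simp
    · rw [e1, y2]
    · rw [map_add, e1]; linear_combination -β 1 * y2 - β 1 * y * t0 (K := K)
  have e3 : ∀ z, β (β z) = z := fun z => by
    rw [e2, e2 z]; linear_combination z ^ 4 * cube h4 h1 + h4 z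
  have e4 : ∀ z, β z = z := fun z => by
    obtain ⟨k, rfl⟩ := hn
    have : β^[2 * k] = id := by
      rw [Function.iterate_mul, show β^[2] = id from funext e3, Function.iterate_id]
    have e5 : β^[2 * k] (β z) = z := h z
    rwa [this] at e5
  exact hy (by rw [e4, e4, one_mul])

theorem lin1 (h4 : ∀ x : K, x ^ 4 = x) {f : Au (V K)} (hf : ∀ v ∈ Z2 K, f v ∈ Z2 K) {n : ℕ} (hn : Odd n)
    {a : K} (h : f ^ n = u a) : ∃ ρ ≠ 0, ∀ v, (f v).1 = ρ * v.1 := by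
  let β : K →+ K := AddMonoidHom.mk' (fun s => (f (s, 0, 0)).1) fun s t => by
    rw [← Prod.fst_add, ← map_add]; simp
  have e1 : ∀ v, (f v).1 = β v.1 := fun v => by
    have := mem_Z2.1 (hf (v - (v.1, 0, 0)) (by simp [mem_Z2]))
    rwa [map_sub, Prod.fst_sub, sub_eq_zero] at this
  have e2 : ∀ k v, ((f ^ k) v).1 = β^[k] v.1 := fun k => by
    induction k with
    | zero => exact fun _ => rfl
    | succ k ih => exact fun v => by rw [pow_succ, mul_ap, ih, e1]; rfl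
  have e3 : ∀ x, β^[n] x = x := fun x => by rw [← e2 n (x, 0, 0), h]; rfl
  have e4 := odd_lin h4 β hn e3
  refine ⟨β 1, fun e => ?_, fun v => by rw [e1, e4]⟩
  obtain ⟨k, rfl⟩ := hn
  have := (Function.iterate_succ_apply' β (2 * k) 1).symm.trans (e3 1)
  rw [e4, e] at this
  simp at this

/-- diagonal automorphisms -/
def Dg (w : K → K → K → K → Γ) (g : Γ) (m r : K) : Prop :=
  ∀ a b c d, g * w a b c d * g⁻¹ = w (m * a) (r * b) (m * r * c) (m ^ 2 * r * d)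

variable {F E : FS Γ} {w : K → K → K → K → Γ} {r r' m m' s s' : K} {g h : Γ}

omit [CharP K 2] in
theorem Dg.mul (H : Dg w g m s) (H' : Dg w h m' s') : Dg w (g * h) (m * m') (s * s') := fun a b c d => by
  rw [show g * h * w a b c d * (g * h)⁻¹ = g * (h * w a b c d * h⁻¹) * g⁻¹ by group, H', H]
  exact weq w (by ring) (by ring) (by ring) (by ring)

theorem NF.sw1 (N : NF F w r) : sw K ∈ LL F (N.co.X 1 0) fun v => w 0 v.1 v.2.1 v.2.2 :=
  let ⟨g, a, b⟩ := N.w1; ⟨g, a, fun _ => b ..⟩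
theorem NF.sw2 (N : NF F w r) : sw K ∈ LL F (N.co.X 0 1) fun v => w v.1 0 v.2.1 (v.2.2 ^ 2) :=
  let ⟨g, a, b⟩ := N.w2; ⟨g, a, fun _ => b ..⟩

theorem sw_nn : sw K ∉ nz (T K) := fun h => by simpa [mem_Z2, sw_ap] using nz_pres2 h (0, 1, 0) rfl

variable [Finite Γ] [Finite K]

omit [Finite K] in
theorem NF.J1 (N : NF F w r) : EJ (LL F (N.co.X 1 0) fun v => w 0 v.1 v.2.1 v.2.2) r :=
  ej1 N.co N.sat N.r0 N.i1 fun h => sw_nn (h N.sw1)
omit [Finite K] in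
theorem NF.J2 (N : NF F w r) : EJ (LL F (N.co.X 0 1) fun v => w v.1 0 v.2.1 (v.2.2 ^ 2)) (r ^ 2) :=
  ej2 N.co N.sat N.e4 N.r0 N.i2 fun h => sw_nn (h N.sw2)

theorem NF.AS (N : NF F w r) (hg : g ∈ F.A F.S) : ∃ x ∈ F.S, ∃ m ≠ 0, ∃ s ≠ 0, Dg w (x * g) m s := by
  have H := N.co
  have h4 := N.e4
  obtain ⟨n1, n2⟩ := nzA H N.sat hg
  have nY := H.nzY2 (F.A_le_nz _ hg)
  obtain ⟨f1, a1⟩ := H.mdJ.exists_act n1
  obtain ⟨f2, a2⟩ := (H.mdB h4).exists_act n2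
  have l1 : f1 ∈ LL F (H.X 1 0) _ := ⟨g, mem_A_of_le le_rfl hg (H.X_le _ _) n1, a1⟩
  have l2 : f2 ∈ LL F (H.X 0 1) _ := ⟨g, mem_A_of_le le_rfl hg (H.X_le _ _) n2, a2⟩
  obtain ⟨n, hn, -, x, hx, e⟩ := odd_pow N.sat hg
  obtain ⟨_, b1⟩ := H.mdJ.ex x hx
  obtain ⟨_, b2⟩ := (H.mdB h4).ex x hx
  obtain ⟨s, s0, hs⟩ := lin1 h4 (f := f1) (fun v hv => (H.mY.1 ((a1 v).subst (motive := (· ∈ H.Y))
    (conj_mem_of_mem_nz nY (H.mY.2 ⟨rfl, hv⟩)))).2) hn
    (H.mdJ.uniq (a1.pow n) (H.mdJ.of_agree b1 (e.mono (H.X_le _ _))))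
  obtain ⟨m, m0, hm⟩ := lin1 h4 (f := f2) (fun v hv => (H.mY.1 ((a2 v).subst (motive := (· ∈ H.Y))
    (conj_mem_of_mem_nz nY (H.mY.2 ⟨hv, rfl⟩)))).1) hn
    ((H.mdB h4).uniq (a2.pow n) ((H.mdB h4).of_agree b2 (e.mono (H.X_le _ _))))
  have kc : ∀ a b, g * w 0 0 (a * b) (a ^ 2 * b) * g⁻¹ = w 0 0 (m * s * (a * b)) (m ^ 2 * s * (a ^ 2 * b)) :=
    fun a b => by
      have e1 := a1 (b, 0, 0)
      have e2 := a2 (a, 0, 0)
      simp only [hs, hm, ne_eq, OfNat.ofNat_ne_zero, not_false_eq_true, zero_pow] at e1 e2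
      have e3 := H.comm a 0 0 0 0 b 0 0
      have e4 := H.comm (m * a) 0 (f2 (a, 0, 0)).2.1 ((f2 (a, 0, 0)).2.2 ^ 2) 0 (s * b) (f1 (b, 0, 0)).2.1
        (f1 (b, 0, 0)).2.2
      rw [← e1, ← e2] at e4
      simp only [t0, zero_mul, mul_zero, sub_zero, zero_add, add_zero] at e3 e4
      rw [← e3, show m * s * (a * b) = m * a * (s * b) by ring,
        show m ^ 2 * s * (a ^ 2 * b) = (m * a) ^ 2 * (s * b) by ring, ← e4]
      group
  have kd : ∀ d, g * w 0 0 0 d * g⁻¹ = w 0 0 0 (m ^ 2 * s * d) := fun d => by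
    by_cases hx : ∃ x : K, x ≠ 0 ∧ x ≠ 1
    · obtain ⟨x, x0, x1⟩ := hx
      have x2 : 1 + x ≠ 0 := fun h => x1 (by linear_combination h - t0 (K := K))
      have e1 : w 0 0 0 d = w 0 0 (1 * (d / (1 + x))) (1 ^ 2 * (d / (1 + x))) *
          w 0 0 (x * (d / (1 + x) / x)) (x ^ 2 * (d / (1 + x) / x)) := by
        rw [H.mul]
        exact weq w (by simp) (by simp) (by field_simp; linear_combination -d * t0 (K := K))
          (by field_simp; ring)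
      rw [e1, ← conj_mul, kc, kc, H.mul]
      exact weq w (by simp) (by simp) (by field_simp; linear_combination m * s * d * t0 (K := K))
        (by field_simp; ring)
    · push Not at hx
      by_cases hd : d = 0
      · simp [hd, H.one]
      have e1 := N.J1.pres l1 (z1 d)
      have e2 : (f1 (0, 0, d)).2.2 ≠ 0 := fun h => hd (by
        rw [eq_of_Z1 e1, h] at e1
        have : f1 (0, 0, d) = 0 := by rw [eq_of_Z1 (N.J1.pres l1 (z1 d)), h]; rfl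
        simpa using f1.injective (this.trans (map_zero f1).symm))
      rw [a1 (0, 0, d)]
      exact weq w rfl e1.1 e1.2 (by rw [hx _ e2, hx _ m0, hx _ s0, hx _ hd]; simp)
  have kz : ∀ c d, g * w 0 0 c d * g⁻¹ = w 0 0 (m * s * c) (m ^ 2 * s * d) := fun c d => by
    have e1 : w 0 0 c d = w 0 0 (1 * c) (1 ^ 2 * c) * w 0 0 0 (d - c) := by rw [H.mul]; simp
    rw [e1, ← conj_mul, kc, kd, H.mul]
    exact weq w (by simp) (by simp) (by simp) (by ring)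
  have m3 := cube h4 m0
  have s3 := cube h4 s0
  obtain ⟨η₁, c1⟩ := N.J1.dg N.sw1 l1 hs (κ := m * s) (δ := m ^ 2 * s)
    (fun c d => H.mdJ.inj ((a1 (0, c, d)).symm.trans (kz c d))) (by linear_combination s ^ 2 * m3)
    (mul_ne_zero m0 s0) s0
  obtain ⟨η₂, c2⟩ := N.J2.dg N.sw2 l2 hm (κ := m * s) (δ := m * s ^ 2)
    (fun c d => (H.mdB h4).inj ((a2 (0, c, d)).symm.trans ((kz c _).trans (weq w rfl rfl rfl (by
      linear_combination -m ^ 2 * d ^ 2 * h4 s))))) (by linear_combination m ^ 2 * s3)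
    (mul_ne_zero m0 s0) m0
  refine ⟨_, H.wm η₁ η₂ 0 0, m, m0, s, s0, fun a b c d => ?_⟩
  have e1 := ((H.actJ η₁ η₂ 0 0).mul a1) (b, c, d)
  have e2 := ((H.actB h4 η₁ η₂ 0 0).mul a2) (a, 0, 0)
  simp only [mul_ap, c1, c2, mul_zero, ne_eq, OfNat.ofNat_ne_zero, not_false_eq_true, zero_pow] at e1 e2
  rw [show w a b c d = w 0 b c d * w a 0 0 0 by rw [H.mul]; simp, ← conj_mul, e1, e2, H.mul]
  simp

theorem NF.diag (N : NF F w r) (hm : m ≠ 0) : ∃ g ∈ F.A F.S, Dg w g m m := by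
  have H := N.co
  obtain ⟨f, ⟨⟨g, hg, a1⟩, hf⟩, e⟩ := N.J1.tor N.sw1 (pow_ne_zero 2 hm)
  obtain ⟨k, hk, a2⟩ := H.mdJ.ext N.sat hg a1 hf
  obtain ⟨x, hx, m', m0, s, s0, hD⟩ := N.AS hk
  obtain ⟨a, a3⟩ := H.mdJ.ex x hx
  have e1 := (H.inj ((hD 0 1 0 0).symm.trans ((a3.mul a2) (1, 0, 0)))).2.1
  have e2 := (H.inj ((hD 0 0 1 0).symm.trans ((a3.mul a2) (0, 1, 0)))).2.2.1
  simp only [mul_ap, e, u2, mul_one, mul_zero, add_zero] at e1 e2
  obtain rfl : s = m := by linear_combination e1 + N.e4 m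
  obtain rfl : m' = s := mul_right_cancel₀ hm (by linear_combination e2)
  exact ⟨_, mul_mem (F.N_le_A _ ⟨hx, le_normalizer hx⟩) hk, hD⟩

/-- all diagonal automorphisms occur -/
def Full (F : FS Γ) (w : K → K → K → K → Γ) : Prop :=
  ∃ g ∈ F.A F.S, ∃ m ≠ 0, ∃ s ≠ 0, m ≠ s ∧ Dg w g m s

theorem NF.full (N : NF F w r) (hF : Full F w) (hm : m ≠ 0) (hs : s ≠ 0) : ∃ g ∈ F.A F.S, Dg w g m s := by
  obtain ⟨g, hg, a, a0, b, b0, hab, hD⟩ := hF
  obtain ⟨k, hk, hD'⟩ := N.diag (inv_ne_zero a0)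
  have h1 := hD'.mul hD
  rw [inv_mul_cancel₀ a0] at h1
  have x0 : a⁻¹ * b ≠ 0 := mul_ne_zero (inv_ne_zero a0) b0
  have x1 : a⁻¹ * b ≠ 1 := fun h => hab (by field_simp at h; exact h.symm)
  obtain ⟨l, hl, hD2⟩ := N.diag hm
  rcases four N.e4 x0 x1 (s / m) with e | e | e | e <;> rw [div_eq_iff hm] at e
  · simp [hs] at e
  · exact ⟨l, hl, by rwa [e, one_mul]⟩
  · exact ⟨_, mul_mem hl (mul_mem hk hg), by simpa [e, mul_comm] using hD2.mul h1⟩
  · refine ⟨_, mul_mem hl (mul_mem (mul_mem hk hg) (mul_mem hk hg)), ?_⟩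
    convert hD2.mul (h1.mul h1) using 1
    · simp
    · have := mul_left_cancel₀ (sub_ne_zero.2 x1) (show (a⁻¹ * b - 1) * ((a⁻¹ * b) ^ 2 + a⁻¹ * b + 1) =
        (a⁻¹ * b - 1) * 0 by linear_combination cube N.e4 x0)
      linear_combination e - m * this + m * (a⁻¹ * b + 1) * t0 (K := K)

theorem le_aux {P : Subgroup Γ} {j : V K → Γ} (hF : F.Sat 2) (M : MD F.S P j) (M' : MD E.S P j)
    (J : EJ (LL F P j) r) (h1 : sw K ∈ LL F P j) (h2 : sw K ∈ LL E P j) (hS : F.A F.S ≤ E.A E.S)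
    (hg : g ∈ F.A P) : g ∈ E.A P := by
  have key : ∀ g ∈ F.A P, ∀ f, Act j g f → f ∈ nz (T K) → g ∈ E.A P := fun g hg f a b => by
    obtain ⟨k, hk, c⟩ := M.ext hF hg a b
    exact (M.agree a c).mem_A (mem_A_of_le le_rfl (hS hk) M'.le (M.nz c))
  obtain ⟨f, a⟩ := M.exists_act (F.A_le_nz _ hg)
  rcases J.dc h1 ⟨g, hg, a⟩ with b | ⟨η, b⟩
  · exact key g hg f a b
  · obtain ⟨x, x1, x2⟩ := h1
    obtain ⟨y, y1, y2⟩ := h2
    obtain ⟨t, t1, t2⟩ := M.ex' η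
    obtain ⟨t', t1', t2'⟩ := M'.ex' η
    have := key _ (mul_mem (mul_mem x1 (M.S_A t1)) hg) _ ((x2.mul t2).mul a) b
    exact (mul_mem_cancel_left ((M.agree (x2.mul t2) (y2.mul t2')).mem_A
      (mul_mem y1 (M'.S_A t1')))).1 this

theorem NF.le (N : NF F w r) (N' : NF E w r') (hS : E.S = F.S) (h : Full F w → Full E w) : F ≤ E := by
  have H := N.co
  have hA : F.A F.S ≤ E.A E.S := fun g hg => by
    obtain ⟨x, hx, m, m0, s, s0, hD⟩ := N.AS hg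
    obtain ⟨k, hk, hD'⟩ : ∃ k ∈ E.A E.S, Dg w k m s := by
      by_cases e : m = s
      · exact e ▸ N'.diag m0
      · exact N'.full (h ⟨_, mul_mem (F.N_le_A _ ⟨hx, le_normalizer hx⟩) hg, m, m0, s, s0, e, hD⟩) m0 s0
    have e : Agree E.S (x * g) k := fun y hy => by
      obtain ⟨a, b, c, d, rfl⟩ := (N'.co.mem y).1 hy
      rw [hD, hD']
    rw [← hS] at hx
    exact (mul_mem_cancel_left (E.N_le_A _ ⟨hx, le_normalizer hx⟩)).1 (e.mem_A hk)
  refine N.sat.le_of_ess fun Q hQ g hg => ?_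
  rcases hQ with rfl | hQ
  · exact hS ▸ T_of_mem_A le_rfl (hA hg)
  · rcases H.ess_two N.sat hQ with rfl | rfl
    · exact T_of_mem_A (N'.co.X_le 1 0) (le_aux N.sat H.mdJ N'.co.mdJ N.J1 N.sw1 N'.sw1 hA hg)
    · exact T_of_mem_A (N'.co.X_le 0 1)
        (le_aux N.sat (H.mdB N.e4) (N'.co.mdB N.e4) N.J2 N.sw2 N'.sw2 hA hg)

/-- a model group -/
structure Mo {G : Type*} [Group G] (M : Subgroup G) (v : K → K → K → K → G) (full : Prop) : Prop where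
  co : Co M v
  odd : ¬ 2 ∣ M.index
  nD : ∀ g : G, ∃ d, g * v 0 0 0 1 * g⁻¹ = v 0 0 0 d
  w1 : ∃ g : G, ∀ b c d, g * v 0 b c d * g⁻¹ = v 0 c b d
  w2 : ∃ g : G, ∀ a c d, g * v a 0 c d * g⁻¹ = v c 0 a d
  f1 : full → ∃ g : G, ∃ s ≠ 0, 1 ≠ s ∧ Dg v g 1 s
  f2 : ¬ full → ∀ g : G, g * v 0 0 0 1 * g⁻¹ = v 0 0 0 1

theorem NF.rz {G : Type*} [Group G] {M : Subgroup G} {v : K → K → K → K → G} (N : NF F w r)
    (hU : H4.Un F.S G) (B : Mo M v (Full F w)) : H4.Rz 2 F G := by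
  have H := N.co
  let D : Subgroup (Γ × G) :=
    { carrier := {p | ∃ a b c d, p = (w a b c d, v a b c d)}
      one_mem' := ⟨0, 0, 0, 0, Prod.ext H.one.symm B.co.one.symm⟩
      mul_mem' := by
        rintro _ _ ⟨a, b, c, d, rfl⟩ ⟨a', b', c', d', rfl⟩
        exact ⟨_, _, _, _, Prod.ext (H.mul ..) (B.co.mul ..)⟩
      inv_mem' := by
        rintro _ ⟨a, b, c, d, rfl⟩
        exact ⟨_, _, _, _, Prod.ext (H.inv ..) (B.co.inv ..)⟩ }
  obtain ⟨i, hi, e⟩ := hU.graph D (by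
    rintro t ⟨a, b, c, d, e⟩
    obtain ⟨e1, e2⟩ := Prod.ext_iff.1 e
    exact e2.trans (B.co.eq_one.2 (H.eq_one.1 e1.symm))) (by
    rintro t ⟨a, b, c, d, e⟩
    obtain ⟨e1, e2⟩ := Prod.ext_iff.1 e
    exact e1.trans (H.eq_one.2 (B.co.eq_one.1 e2.symm))) fun s hs => by
    obtain ⟨a, b, c, d, rfl⟩ := (H.mem s).1 hs
    exact ⟨_, a, b, c, d, rfl⟩
  have e1 : ∀ a b c d, i (v a b c d) = w a b c d := fun a b c d => e _ (H.wm ..) _ ⟨a, b, c, d, rfl⟩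
  have e2 : M.map i = F.S := by
    ext g
    rw [H.mem]
    constructor
    · rintro ⟨x, hx, rfl⟩
      obtain ⟨a, b, c, d, rfl⟩ := (B.co.mem x).1 hx
      exact ⟨a, b, c, d, (e1 ..).symm⟩
    · rintro ⟨a, b, c, d, rfl⟩
      exact ⟨_, B.co.wm a b c d, e1 ..⟩
  have hs := H4.syl_map hi B.odd
  rw [e2] at hs
  have eA : ∀ P ≤ F.S, (ofSub i.range F.S).A P = ai i.range P := fun P hP => ofSub_A hs.le hP
  have cj' : ∀ g a b c d, i g * w a b c d * (i g)⁻¹ = i (g * v a b c d * g⁻¹) := fun g a b c d => by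
    rw [← e1]; simp
  have inv : ∀ P ≤ F.S, H.Y ≤ P → ∀ g ∈ (ofSub i.range F.S).A P, g * w 0 0 0 1 * g⁻¹ ∈ H.Y :=
    fun P hP hY g hg => by
      rw [eA P hP] at hg
      obtain ⟨-, _, ⟨k, rfl⟩, e⟩ := hg
      obtain ⟨d, e'⟩ := B.nD k
      rw [e _ (hY (H.mY.2 ⟨rfl, rfl⟩)), cj', e', e1]
      exact H.mY.2 ⟨rfl, rfl⟩
  have N' : NF (ofSub i.range F.S) w 1 := by
    refine ⟨H, sat_ofSub N.sat.pg hs, N.e4, one_ne_zero, inv _ (H.X_le _ _) (H.Y_le_X _ _),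
      inv _ (H.X_le _ _) (H.Y_le_X _ _), ?_, ?_⟩
    · obtain ⟨g, hg⟩ := B.w1
      have : ∀ b c d, i g * w 0 b c d * (i g)⁻¹ = w 0 c b d := fun b c d => by rw [cj', hg, e1]
      exact ⟨i g, (eA _ (H.X_le _ _)).ge (mem_ai_of_mem ⟨g, rfl⟩
        (H.mdJ.nz (f := sw K) fun _ => this ..)), this⟩
    · obtain ⟨g, hg⟩ := B.w2
      have : ∀ a c d, i g * w a 0 c d * (i g)⁻¹ = w c 0 a d := fun b c d => by rw [cj', hg, e1]
      exact ⟨i g, (eA _ (H.X_le _ _)).ge (mem_ai_of_mem ⟨g, rfl⟩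
        ((H.mdB N.e4).nz (f := sw K) fun _ => this ..)), this⟩
  refine ⟨i, hi, hs, le_antisymm (N.le N' rfl fun h => ?_) (N'.le N rfl fun h => by_contra fun hc => ?_)⟩
  · obtain ⟨g, s, s0, s1, hD⟩ := B.f1 h
    have hD' : Dg w (i g) 1 s := fun a b c d => by rw [cj', hD, e1]
    refine ⟨i g, (eA _ le_rfl).ge (mem_ai_of_mem ⟨g, rfl⟩ (mem_nz_of_conj_mem fun x hx => ?_)), 1,
      one_ne_zero, s, s0, s1, hD'⟩
    obtain ⟨a, b, c, d, rfl⟩ := (H.mem x).1 hx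
    rw [hD']; exact H.wm ..
  · obtain ⟨g, hg, m, m0, s, s0, hms, hD⟩ := h
    obtain ⟨-, _, ⟨k, rfl⟩, e⟩ := (eA _ le_rfl).le hg
    have e3 := hD 0 0 0 1
    rw [e _ (H.wm ..), cj', B.f2 hc, e1] at e3
    have e4 := (H.inj e3).2.2.2
    exact hms (by linear_combination m * e4 + s * cube N.e4 m0)

omit [Finite Γ] [Finite K] in
theorem NF.map {K' : Type*} [Field K'] [CharP K' 2] (N : NF F w r) (e : K' ≃+* K) :
    NF F (fun a b c d => w (e a) (e b) (e c) (e d)) (e.symm r) := by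
  have H := N.co
  have H' : Co F.S fun a b c d => w (e a) (e b) (e c) (e d) :=
    ⟨fun a b c d a' b' c' d' => by rw [H.mul]; simp [map_ofNat], fun h => by
      obtain ⟨a, b, c, d⟩ := H.inj h
      exact ⟨e.injective a, e.injective b, e.injective c, e.injective d⟩, fun g => (H.mem g).trans
      ⟨fun ⟨a, b, c, d, h⟩ => ⟨e.symm a, e.symm b, e.symm c, e.symm d, by simpa using h⟩,
        fun ⟨_, _, _, _, h⟩ => ⟨_, _, _, _, h⟩⟩⟩
  have e1 : H'.X 1 0 = H.X 1 0 := by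
    ext g
    refine ⟨fun hg => ?_, fun hg => ?_⟩
    · obtain ⟨b, c, d, rfl⟩ := H'.exJ hg; simp [H.mJ]
    · obtain ⟨b, c, d, rfl⟩ := H.exJ hg
      exact ⟨0, e.symm b, e.symm c, e.symm d, by simp, by simp⟩
  have e2 : H'.X 0 1 = H.X 0 1 := by
    ext g
    refine ⟨fun hg => ?_, fun hg => ?_⟩
    · obtain ⟨b, c, d, rfl⟩ := H'.exB hg; simp [H.mB]
    · obtain ⟨b, c, d, rfl⟩ := H.exB hg
      exact ⟨e.symm b, 0, e.symm c, e.symm d, by simp, by simp⟩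
  have e3 : H'.Y = H.Y := by rw [Co.Y, e1, e2, Co.Y]
  refine ⟨H', N.sat, fun x => e.injective (by rw [map_pow, N.e4]), by simpa using N.r0, ?_, ?_, ?_, ?_⟩
  · simpa [e1, e3] using N.i1
  · simpa [e2, e3] using N.i2
  · obtain ⟨g, a, b⟩ := N.w1
    exact ⟨g, e1 ▸ a, fun _ _ _ => by simp [b]⟩
  · obtain ⟨g, a, b⟩ := N.w2
    exact ⟨g, e2 ▸ a, fun _ _ _ => by simp [b]⟩

end H24.SP
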