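import Cfsg.Agent.H24.FCStr
import Cfsg.Agent.H24.FTAux
import Cfsg.Agent.H23.Cyc
import Cfsg.Agent.H5.Frobenius
import Cfsg.Agent.H3.Util
import Cfsg.Agent.H2.Hall
import Cfsg.Agent.H2.CoprimeAbelian

/-! TI subgroups that are Hall subgroups of their normalizers. -/

set_option autoImplicit false
universe u

namespace H24
open Subgroup Cfsg H28
open scoped commutatorElement

variable {G : Type u} [Group G] [Finite G]

theorem commutator_le_cent_of_cyclic {P Q : Subgroup G} (hP : IsCyclic P) (h : Q ≤ 𝐍 P) :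
    ⁅Q, Q⁆ ≤ 𝐂 P := commutator_le.2 fun a ha b hb => mem_centralizer'.2 fun x hx => by
  have := congrArg (fun f : MulAut P => ((f ⟨x, hx⟩ : P) : G)) (show H2.conjAut h ⁅(⟨a, ha⟩ : Q), ⟨b, hb⟩⁆ = 1 by
    rw [map_commutatorElement, commutatorElement_eq_one_iff_mul_comm]
    exact (IsCyclic.mulAutMulEquiv P).injective (by rw [map_mul, map_mul, mul_comm]))
  exact (mul_inv_eq_iff_eq_mul.1 this).symm

/-- coprime action on a Z-group -/
theorem coprime_commutator_of_zgroup {H Q : Subgroup G} [IsZGroup H] (hn : Q ≤ 𝐍 H)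
    (hc : (Nat.card Q).Coprime (Nat.card H)) :
    (Nat.card (⁅H, Q⁆ : Subgroup G)).Coprime (Nat.card (H ⊓ 𝐂 Q : Subgroup G)) := by
  refine Nat.coprime_of_dvd fun p hp h1 h2 => ?_
  haveI := Fact.mk hp
  obtain ⟨x, hx, ho⟩ := exists_orderOf_eq_of_dvd_card h2
  obtain ⟨P, a1, a2, a3, a4, a5⟩ := H2.exists_invariant_sylow_ge hn hc (solvable_or_of_coprime _ _ hc)
    (zpowers_le.2 hx.1) (isPGroup_zpowers (k := 1) (by simpa using ho)) (le_normalizer_of_le_centralizer
      (le_centralizer_comm.1 (zpowers_le.2 hx.2)))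
  haveI : IsZGroup P := IsZGroup.of_injective (inclusion_injective a2)
  haveI : IsCyclic P := topEquiv.isCyclic.1 (a3.to_subgroup ⊤).isCyclic_of_isZGroup
  have b1 : Q ≤ 𝐂 P := H2.le_centralizer_of_prime_order a5 (hc.coprime_dvd_right (card_dvd_of_le a2))
    fun v hv h3 a ha => mem_centralizer'.1 (zpowers_le.2 hx.2 (H23.mem_zpowers_of_orderOf_dvd this hv
      (a1 (mem_zpowers x)) (by rw [ho, H23.orderOf_eq_of_prime a3 hv h3]))) a ha
  have hT := commutator_le_of_le_normalizer hn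
  have e := H2.commutator_commutator_eq hn hc
  have hQT := le_normalizer_commutator_right H Q
  have hS := (isSylowIn_of_not_dvd_relIndex a2 a3 a4).inf_normal' hT (le_normalizer_commutator_left H Q)
  have b2 : Q ≤ 𝐂 (P ⊓ ⁅H, Q⁆) := b1.trans (centralizer_anti inf_le_left)
  have b3 : IsCyclic ↥(P ⊓ ⁅H, Q⁆) := isCyclic_of_injective _ (inclusion_injective inf_le_left)
  generalize P ⊓ ⁅H, Q⁆ = R at *
  generalize ⁅H, Q⁆ = T at *
  haveI : IsZGroup T := IsZGroup.of_injective (inclusion_injective hT)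
  have c1 : T ≤ pResidualOf p T := by
    conv_lhs => rw [← e, ← hS.pResidualOf_sup]
    refine H1.commutator_sup_le le_normalizer (hS.le.trans (le_normalizer_pResidualOf p T))
      (commutator_le_of_le_normalizer (le_normalizer_pResidualOf' hQT)) ?_
    rw [commutator_eq_bot_iff'.2 b2]; exact bot_le
  have c2 : R ≤ ⁅R, T⁆ := by
    have := H3.inf_pResidualOf_eq_of_abelian hS (le_centralizer_self_iff.2 inferInstance)
    rw [inf_eq_left.2 (hS.le.trans c1)] at this
    exact this.le.trans (commutator_mono le_rfl inf_le_left)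
  have c3 : T ≤ 𝐍 R := (le_normalizer_commutator_left T T).trans (H23.normalizer_le_normalizer_of_isCyclic
    (by rw [← map_subtype_commutator]
        haveI := IsZGroup.isCyclic_commutator T
        exact isCyclic_of_surjective _ (equivMapOfInjective _ _ T.subtype_injective).surjective)
    (c2.trans (commutator_mono hS.le le_rfl)))
  have c4 : ⁅⁅T, Q⁆, R⁆ = ⊥ := commutator_commutator_eq_bot_of_rotate
    (by rw [commutator_eq_bot_iff.2 b2, commutator_bot_left])
    (commutator_eq_bot_iff'.2 (b2.trans (centralizer_anti (commutator_le_of_le_normalizer c3))))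
  rw [e, comm_comm] at c4
  exact hS.ne_bot h1 (le_bot_iff.1 (c4 ▸ c2))

/-- `H` is a TI subgroup and a Hall subgroup of its normalizer -/
structure TH (H : Subgroup G) : Prop where
  ti : IsTISubset (H : Set G)
  hall : (Nat.card H).Coprime (H.relIndex (𝐍 H))

namespace TH
variable {H : Subgroup G} (h : TH H)
include h

omit [Finite G] in
theorem norm_le {U : Subgroup G} (hU : U ≤ H) (h0 : U ≠ ⊥) : 𝐍 U ≤ 𝐍 H := fun g hg =>
  by_contra fun a => h0 (eq_bot_iff.2 fun x hx =>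
    h.ti g a x (hU hx) (hU (conj_mem_of_mem_normalizer hg hx)))

theorem coprime : (Nat.card H).Coprime H.index := Nat.coprime_of_dvd fun p hp h1 => by
  haveI := Fact.mk hp
  obtain ⟨P, hP⟩ := exists_isSylowIn p H
  have h2 := hP.trans le_normalizer fun a => hp.one_lt.ne' (Nat.eq_one_of_dvd_coprimes h.hall h1 a)
  have h3 : IsSylowIn p P ⊤ := IsSylowIn.of_inf_normalizer (h2.mono (le_inf le_top le_normalizer)
    (inf_le_right.trans (h.norm_le hP.le (hP.ne_bot h1))))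
  simpa using h3.not_dvd_relIndex_of_le hP.le

theorem compl {K : Subgroup G} (hK : K ≤ 𝐍 H) (hn : 𝐍 H ≤ 𝐍 K) (h1 : K ⊓ H = ⊥) (h2 : K ⊔ H = 𝐍 H) :
    ∃ N : Subgroup G, N.Normal ∧ N.IsComplement' H := by
  have hp : ∀ {L : Subgroup G}, 𝐍 H ≤ 𝐍 L → ∀ y ∈ 𝐍 H, y ^ L.relIndex (𝐍 H) ∈ L := fun {L} a y hy =>
    haveI := normal_subgroupOf_of_le_normalizer a
    (L.subgroupOf (𝐍 H)).pow_index_mem (⟨y, hy⟩ : 𝐍 H)
  have h3 : K.relIndex (𝐍 H) = Nat.card H := by
    rw [← h2, H2.relIndex_sup_left_of_le_normalizer (le_normalizer.trans hn), ← inf_relIndex_right, h1,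
      relIndex_bot_left]
  obtain ⟨N, a, -, b, c⟩ := H5.frobenius_wielandt (𝐍 H) K
    (fun g a m _ b => conj_mem_of_mem_normalizer (hn a) b) fun x hx y hy e =>
      mem_of_pow_mem_of_pow_mem h.hall (h3 ▸ hp hn y hy) (by
        rw [h.ti x hx _ (hp le_rfl y hy) (by simpa [conj_pow] using hp le_rfl _ e)]; exact one_mem _)
  rw [inf_eq_left.2 hK] at b
  refine ⟨N, a, H3.isComplement'_of_normal ?_ ?_⟩
  · rw [← inf_eq_right.2 (le_normalizer (H := H)), ← inf_assoc, b, h1]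
  · rw [eq_top_iff, ← c, ← h2, ← sup_assoc, ← b, sup_inf_self]

theorem fpf {O : Subgroup G} (hn : H ≤ 𝐍 O) (hc : (Nat.card H).Coprime (Nat.card O)) (hO : ¬ O ≤ 𝐍 H) :
    ∃ (V : Type u) (_ : Group V) (_ : Finite V) (_ : Nontrivial V) (φ : H →* MulAut V),
      ∀ a : H, a ≠ 1 → ∀ v : V, φ a v = v → v = 1 := by
  obtain ⟨q, hq, h1⟩ := Nat.exists_prime_and_dvd (mt relIndex_eq_one.1 hO)
  haveI := Fact.mk hq
  obtain ⟨Q, a1, a2, a3, a4⟩ := H2.exists_invariant_sylow hn hc (solvable_or_of_coprime _ _ hc) q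
  have b1 := lt_inf_normalizer a2 (inf_lt_left.2 fun e => a3 (h1.trans (relIndex_dvd_of_le_left O e)))
  have b2 : H ≤ 𝐍 (Q ⊓ 𝐍 H) := le_normalizer_inf a4 (le_normalizer_normalizer le_normalizer)
  have b3 : H ≤ 𝐍 (Q ⊓ 𝐍 (Q ⊓ 𝐍 H)) := le_normalizer_inf a4 (le_normalizer_normalizer b2)
  set R := Q ⊓ 𝐍 (Q ⊓ 𝐍 H)
  haveI : ((Q ⊓ 𝐍 H).subgroupOf R).Normal := normal_subgroupOf_of_le_normalizer inf_le_right
  have b4 : ∀ a : H, ∀ n ∈ (Q ⊓ 𝐍 H).subgroupOf R, H2.conjAut b3 a n ∈ (Q ⊓ 𝐍 H).subgroupOf R :=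
    fun a n hn => conj_mem_of_mem_normalizer (b2 a.2) hn
  refine ⟨R ⧸ (Q ⊓ 𝐍 H).subgroupOf R, inferInstance, inferInstance, QuotientGroup.nontrivial_iff.2
    (mt subgroupOf_eq_top.1 b1.not_ge), H2.quotAut (H2.conjAut b3) _ b4, fun a ha v e => ?_⟩
  induction v using QuotientGroup.induction_on with | H r => ?_
  have c1 : zpowers (a : G) ≤ H := zpowers_le.2 a.2
  have c2 := (hc.coprime_dvd_left (card_dvd_of_le c1)).coprime_dvd_right
    (card_dvd_of_le (inf_le_left.trans a1 : Q ⊓ 𝐍 H ≤ O))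
  obtain ⟨n, d1, d2⟩ := H2.exists_mul_mem_centralizer' (c1.trans b2) c2 (solvable_or_of_coprime _ _ c2)
    (k := r) fun b hb => by
      obtain ⟨k, rfl⟩ := mem_zpowers_iff.1 hb
      have := zpow_mem (show H2.quotAut (H2.conjAut b3) _ b4 a ∈
        MulAction.stabilizer _ (r : R ⧸ (Q ⊓ 𝐍 H).subgroupOf R) from e) k
      rw [← map_zpow] at this
      exact (QuotientGroup.eq (a := r) (b := H2.conjAut b3 (a ^ k) r)).1
        (MulAction.mem_stabilizer_iff.1 this).symm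
  have := h.norm_le c1 (by simpa using ha) (centralizer_le_normalizer _ d2)
  exact (QuotientGroup.eq_one_iff _).2 (mem_inf.2 ⟨r.2.1, (Subgroup.mul_mem_cancel_right _ (mem_inf.1 d1).2).1 this⟩)

theorem ne_bot (hnn : ¬ H.Normal) : H ≠ ⊥ := by rintro rfl; exact hnn inferInstance

theorem isFC (hnn : ¬ H.Normal) {O : Subgroup G} [O.Normal] (hc : (Nat.card O).Coprime (Nat.card H))
    (hO : O ⊔ 𝐍 H = ⊤) : IsFC H := by
  obtain ⟨V, _, _, _, φ, hφ⟩ := h.fpf (le_normalizer_of_normal (H := O)) hc.symm fun e =>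
    hnn (normal_iff_top_le.2 (hO.ge.trans (sup_le e le_rfl)))
  haveI := (nontrivial_iff_ne_bot H).2 (h.ne_bot hnn)
  exact isFC_of_fpf φ hφ

theorem sep (hnn : ¬ H.Normal) (hs : H2.NSeries (fun n => H2.PiNum {p | p ∣ Nat.card H} n ∨
    n.Coprime (Nat.card H)) G) : pPrimeCore (Nat.card H) G ⊔ 𝐍 H = ⊤ := by
  set O := pPrimeCore (Nat.card H) G
  have hO : (Nat.card O).Coprime (Nat.card H) := H1.pPrimeCore_coprime
  have hd : ∀ a b, a ∣ b → H2.PiNum {p | p ∣ Nat.card H} b ∨ b.Coprime (Nat.card H) →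
      H2.PiNum {p | p ∣ Nat.card H} a ∨ a.Coprime (Nat.card H) := fun a b e f =>
    f.imp (·.of_dvd e) (·.coprime_dvd_left e)
  haveI : Nontrivial (G ⧸ O) := QuotientGroup.nontrivial_iff.2 fun e => h.ne_bot hnn (card_eq_one.1
    (Nat.eq_one_of_dvd_coprimes hO (card_dvd_of_le (e ▸ le_top : H ≤ O)) dvd_rfl))
  obtain ⟨M, a1, a2, a3⟩ := (hs.of_surjective hd (QuotientGroup.mk'_surjective O)).exists_normal
  replace a3 := a3.resolve_right fun e =>
    a2 (H1.pPrimeCore_eq_bot_iff.1 H1.pPrimeCore_quotient_pPrimeCore M a1 e)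
  set L := M.comap (QuotientGroup.mk' O)
  have b0 : O ≤ L := QuotientGroup.le_comap_mk' O M
  have b1 := H2.isPiHallOf_inf_of_normal (H2.isPiHall_of_coprime h.coprime) L
  have b2 : O.relIndex L = Nat.card M := Nat.eq_of_mul_eq_mul_right Nat.card_pos
    ((H1.relIndex_mul_card b0).trans (H1.card_comap_mk' O M))
  have b3 : L ≤ O ⊔ H ⊓ L := relIndex_eq_one.1 (Nat.eq_one_of_dvd_coprimes
    (a3.coprime b1.2.2) (b2 ▸ relIndex_dvd_of_le_left L le_sup_left) (relIndex_dvd_of_le_left L le_sup_right))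
  have b4 : H ⊓ L ≠ ⊥ := fun e => a2 (card_eq_one.1 (b2 ▸ relIndex_eq_one.2 (by simpa [e] using b3)))
  have b5 := H2.dPi_of_separable_of_odd_order {p | p ∣ Nat.card H} (fun X _ _ e =>
    solvable_of_not_two_dvd X e.not_two_dvd_nat) L ((hs.of_injective hd L.subtype_injective).mono
      fun a e => e.imp_right fun f => H2.piNum'_iff_compl.1 (H2.piNum'_dvd_iff.2 f))
  refine eq_top_iff.2 fun x _ => ?_
  obtain ⟨m, c1, c2⟩ := b5.frattini b1 (le_normalizer_of_normal (H := L)) (mem_top x)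
  exact (mul_mem_cancel_left (inv_mem (sup_le_sup_left (inf_le_left.trans le_normalizer) O (b3 c1)))).1
    (mem_sup_right (h.norm_le inf_le_left b4 c2))

end TH
end H24
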