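import Cfsg.Agent.H4.Mx3

/-! An extraspecial subgroup of index `p`: elementary group theory. -/

set_option autoImplicit false
set_option linter.unusedSectionVars false

namespace H24
namespace XE
open Subgroup H25 H25.FS H4 H4.P5 H4.G3 H4.Mx
open scoped commutatorElement

variable {Γ : Type*} [Group Γ] [Finite Γ] {p : ℕ} [hp : Fact p.Prime]
variable {S Q A B C D E H K L M N U V W X Y : Subgroup Γ} {a b c d e g h k q s t u v w x y z : Γ}

/-- additive character of `K` with kernel `H` -/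
structure Ch (p : ℕ) (K H : Subgroup Γ) (χ : Γ → ZMod p) : Prop where
  add : ∀ x ∈ K, ∀ y ∈ K, χ (x * y) = χ x + χ y
  ker : ∀ x ∈ K, χ x = 0 ↔ x ∈ H

theorem exists_ch (hK : IsPGroup p K) (h : H ≤ K) (c : Nat.card K = Nat.card H * p) :
    ∃ χ, Ch p K H χ := by
  classical
  haveI : (H.subgroupOf K).Normal := (normal_subgroupOf_iff' h).2 (le_nz_of_card hK h c.le)
  have c1 : Nat.card (K ⧸ H.subgroupOf K) = p := by
    have := card_mul_relIndex h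
    rw [c] at this
    exact Nat.eq_of_mul_eq_mul_left Nat.card_pos this
  let e := mulEquivOfPrimeCardEq c1 (G' := Multiplicative (ZMod p)) (by simp)
  refine ⟨fun x => if hx : x ∈ K then Multiplicative.toAdd (e (QuotientGroup.mk ⟨x, hx⟩)) else 0,
    fun x hx y hy => ?_, fun x hx => ?_⟩
  · simp only [dif_pos hx, dif_pos hy, dif_pos (mul_mem hx hy)]
    rw [← toAdd_mul, ← map_mul]; rfl
  · simp only [dif_pos hx]
    rw [toAdd_eq_zero, map_eq_one_iff e e.injective, QuotientGroup.eq_one_iff, mem_subgroupOf]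

namespace Ch
variable {χ : Γ → ZMod p} (r : Ch p K H χ)
include r

theorem zero (hx : x ∈ K) (h : x ∈ H) : χ x = 0 := (r.ker x hx).2 h
theorem one : χ 1 = 0 := r.zero (one_mem _) (one_mem _)
theorem mem (hx : x ∈ K) (h : χ x = 0) : x ∈ H := (r.ker x hx).1 h
theorem ne (hx : x ∈ K) (h : x ∉ H) : χ x ≠ 0 := fun e => h (r.mem hx e)
theorem inv (hx : x ∈ K) : χ x⁻¹ = -χ x := by
  have := r.add x hx _ (inv_mem hx)
  rw [mul_inv_cancel, r.one] at this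
  linear_combination -this
theorem pow (hx : x ∈ K) (n : ℕ) : χ (x ^ n) = n * χ x := by
  induction n with
  | zero => simp [r.one]
  | succ n ih => rw [pow_succ, r.add _ (pow_mem hx n) _ hx, ih]; push_cast; ring
theorem zpow (hx : x ∈ K) (n : ℤ) : χ (x ^ n) = n * χ x := by
  obtain ⟨m, rfl | rfl⟩ := n.eq_nat_or_neg
  · simpa using r.pow hx m
  · rw [zpow_neg, zpow_natCast, r.inv (pow_mem hx m), r.pow hx]; push_cast; ring
/-- adjusting by a power -/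
theorem adj (hx : x ∈ K) (h : x ∉ H) (c : ZMod p) : ∃ n : ℕ, χ (x ^ n) = c :=
  ⟨(c / χ x).val, by rw [r.pow hx, ZMod.natCast_zmod_val, div_mul_cancel₀ _ (r.ne hx h)]⟩
theorem adj' (hx : x ∈ K) (h : x ∉ H) (hy : y ∈ K) : ∃ n : ℕ, y * x ^ n ∈ H := by
  obtain ⟨n, hn⟩ := r.adj hx h (-χ y)
  exact ⟨n, r.mem (mul_mem hy (pow_mem hx n)) (by rw [r.add _ hy _ (pow_mem hx n), hn]; ring)⟩

end Ch

theorem adj_pow (hK : IsPGroup p K) (h : H ≤ K) (c : Nat.card K ≤ Nat.card H * p) (hx : x ∈ K)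
    (hx' : x ∉ H) (hy : y ∈ K) : ∃ n : ℕ, y * x ^ n ∈ H := by
  obtain ⟨χ, r⟩ := exists_ch hK h (le_antisymm c (card_mul_le_lt hK le_rfl
    (lt_of_le_not_ge h fun e => hx' (e hx))))
  exact r.adj' hx hx' hy

theorem comm_idx (hK : IsPGroup p K) (h : H ≤ K) (c : Nat.card K ≤ Nat.card H * p) (hx : x ∈ K)
    (hy : y ∈ K) : ⁅x, y⁆ ∈ H :=
  comm_of_stab (mem_stab_of_card hK le_rfl h c hx (le_nz_of_card hK h c hx) (le_nz_self K hx)) hy

theorem lt_card (hK : IsPGroup p K) (h : H < K) : Nat.card H * p ≤ Nat.card K := card_mul_le_lt hK le_rfl h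

theorem exi_of_card (h : Nat.card H < Nat.card K) : ∃ x ∈ K, x ∉ H :=
  SetLike.not_le_iff_exists.1 fun e => (card_le_of_le e).not_gt h

/-- `Q` is extraspecial of index `p` in `S` -/
structure XQ (p : ℕ) (S Q : Subgroup Γ) (z : Γ) : Prop where
  p2 : p ≠ 2
  pg : IsPGroup p S
  QS : Q ≤ S
  card : Nat.card S = Nat.card Q * p
  ge : GE p Q z
  z1 : z ≠ 1
  zQ : Q ⊓ cz Q ≤ zpowers z
  zS : z ∈ cz S
  big : p ^ 5 ≤ Nat.card Q

namespace XQ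
variable (r : XQ p S Q z)
include r

theorem pQ : IsPGroup p Q := r.pg.to_le r.QS
theorem nQ : S ≤ nz Q := le_nz_of_card r.pg r.QS r.card.le
theorem cm (hx : x ∈ S) (hy : y ∈ S) : ⁅x, y⁆ ∈ Q := comm_idx r.pg r.QS r.card.le hx hy
theorem pw (hx : x ∈ S) : x ^ p ∈ Q := pow_mem_of_card r.pg r.QS r.card.le hx
theorem cZ : Nat.card (zpowers z) = p := card_zpowers_of_pow hp.out r.ge.pow r.z1
theorem ZQ : zpowers z ≤ Q := zpowers_le.2 r.ge.mem
theorem Zc : zpowers z ≤ cz S := zpowers_le.2 r.zS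
theorem cZ' : S ≤ cz (zpowers z) := le_cz_comm.1 r.Zc
theorem nZ : S ≤ nz (zpowers z) := r.cZ'.trans (cz_le_nz _)
theorem nZ' : Q ≤ nz (zpowers z) := r.QS.trans r.nZ
theorem qc (hx : x ∈ Q) (hy : y ∈ Q) : ⁅x, y⁆ ∈ zpowers z := r.ge.comm x hx y hy
theorem cen (hu : u ∈ zpowers z) (hs : s ∈ S) : Commute s u := mem_cz'.1 (r.Zc hu) s hs
theorem zp (hu : u ∈ zpowers z) : u ^ p = 1 := zp_pw r.ge.pow u hu
theorem sup (hx : x ∈ S) (h : x ∉ Q) : Q ⊔ zpowers x = S := eq_sup_of_card r.pg r.QS r.card.le hx h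
theorem mem_Z (hx : x ∈ Q) (h : ∀ y ∈ Q, ⁅x, y⁆ = 1) : x ∈ zpowers z :=
  r.zQ ⟨hx, mem_cz'.2 fun y hy => (commutatorElement_eq_one_iff_mul_comm.1 (h y hy)).symm⟩
theorem gen (hu : u ∈ zpowers z) (h : u ≠ 1) : zpowers u = zpowers z :=
  le_antisymm (zpowers_le.2 hu) (zpowers_le.2 (mem_zpowers_of_ne_one r.ge.pow hu h))

theorem mul_l (hx : x ∈ Q) (hy : y ∈ Q) (hw : w ∈ Q) : ⁅x * y, w⁆ = ⁅x, w⁆ * ⁅y, w⁆ := by
  have h1 := (r.cen (r.qc hy hw) (r.QS hx)).eq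
  have h2 := (r.cen (r.qc hy hw) (r.QS (r.ZQ (r.qc hx hw)))).eq
  calc ⁅x * y, w⁆ = x * ⁅y, w⁆ * x⁻¹ * ⁅x, w⁆ := by simp only [commutatorElement_def]; group
    _ = _ := by rw [h1, h2]; group
theorem mul_r (hx : x ∈ Q) (hy : y ∈ Q) (hw : w ∈ Q) : ⁅w, x * y⁆ = ⁅w, x⁆ * ⁅w, y⁆ := by
  have h1 := (r.cen (r.qc hw hy) (r.QS hx)).eq
  calc ⁅w, x * y⁆ = ⁅w, x⁆ * (x * ⁅w, y⁆ * x⁻¹) := by simp only [commutatorElement_def]; group
    _ = _ := by rw [h1]; group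
theorem z_l (hu : u ∈ zpowers z) (hs : s ∈ S) : ⁅u, s⁆ = 1 :=
  commutatorElement_eq_one_iff_commute.2 (r.cen hu hs).symm
theorem z_r (hu : u ∈ zpowers z) (hs : s ∈ S) : ⁅s, u⁆ = 1 :=
  commutatorElement_eq_one_iff_commute.2 (r.cen hu hs)

theorem pw_mul (hx : x ∈ Q) (hy : y ∈ Q) : (x * y) ^ p = x ^ p * y ^ p := by
  have := mul_pow_of_odd (hp.out.odd_of_ne_two r.p2) (r.cen (r.qc hy hx) (r.QS hx))
    (r.cen (r.qc hy hx) (r.QS hy)) (r.zp (r.qc hy hx))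
  exact this

theorem pw_comm (hs : s ∈ S) (hx : x ∈ Q) : ⁅s, x⁆ ^ p = 1 := by
  rw [commutatorElement_def, r.pw_mul (conj_mem_of_mem_nz (r.nQ hs) hx) (inv_mem hx), conj_pow,
    (r.cen (r.ge.pw x hx) hs).eq, inv_pow]
  group

theorem exO : ∃ O : Subgroup Γ, ∀ x, x ∈ O ↔ x ∈ Q ∧ x ^ p = 1 :=
  exists_om r.p2 (r.Zc.trans (cz_anti r.QS)) (fun _ h => r.zp h) fun _ hx _ hy => r.qc hx hy

theorem pw_sup (hU : U ≤ Q) (h1 : ∀ x ∈ U, x ^ p = 1) (hx : x ∈ Q) (h2 : x ^ p = 1) :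
    ∀ y ∈ U ⊔ zpowers x, y ^ p = 1 := by
  obtain ⟨O, hO⟩ := r.exO
  exact fun y hy => ((hO y).1 ((sup_le (fun u hu => (hO u).2 ⟨hU hu, h1 u hu⟩)
    (zpowers_le.2 ((hO x).2 ⟨hx, h2⟩)) : _ ≤ O) hy)).2

theorem exp_of_wt {l i : ℤ} (hk : k * z * k⁻¹ = z ^ l) (hx : x ∈ Q) (hM : M ≤ Q) (h1 : ∀ y ∈ M, y ^ p = 1)
    (h : Wa k M x i) (hne : (l : ZMod p) ≠ i) : x ^ p = 1 := by
  obtain ⟨j, hj⟩ := r.ge.pw x hx
  have e : k * x * k⁻¹ = x ^ i * ((x ^ i)⁻¹ * (k * x * k⁻¹)) := by group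
  have e2 : (k * x * k⁻¹) ^ p = (x ^ p) ^ i := by
    rw [e, r.pw_mul (zpow_mem hx i) (hM h), h1 _ h, mul_one, ← zpow_natCast, ← zpow_mul, mul_comm, zpow_mul,
      zpow_natCast]
  rw [conj_pow, ← hj] at e2
  simp only at e2
  rw [← conj_zpow, hk, ← zpow_mul, ← zpow_mul, zpow_eq_zpow_iff_modEq, orderOf_eq_prime r.ge.pow r.z1,
    ← ZMod.intCast_eq_intCast_iff] at e2
  push_cast at e2
  have e3 : (j : ZMod p) = (0 : ℤ) := by
    have : ((l : ZMod p) - i) * j = 0 := by linear_combination e2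
    simpa using (mul_eq_zero.1 this).resolve_left (sub_ne_zero.2 hne)
  rw [← hj]
  simpa using H4.zpow_congr r.ge.pow e3

theorem cz_le (hX : X ≤ Q) (hx : x ∈ Q) :
    Nat.card X ≤ Nat.card (X ⊓ cz (zpowers x) : Subgroup Γ) * p :=
  card_le_cz (fun _ hy => r.qc hx (hX hy)) (r.Zc.trans (cz_anti (hX.trans r.QS))) r.cZ.le

theorem cnt (hU : U ≤ Q) (hX : X ≤ Q) (H : Subgroup Γ) (hH : H ≤ X) :
    Nat.card (U ⊓ cz H : Subgroup Γ) * Nat.card H ≤ Nat.card (U ⊓ cz X : Subgroup Γ) * Nat.card X := by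
  induction H using card_induction_down with
  | h H ih =>
  rcases hH.eq_or_lt with rfl | h
  · exact le_rfl
  obtain ⟨x, hx, h1, h2, h3⟩ := exists_mem_nz_pow (r.pQ.to_le hX) h
  have c := card_sup_zpowers_prime hp.out h1 h2 h3
  refine le_trans ?_ (ih (H ⊔ zpowers x) (by
    rw [c]; exact lt_mul_of_one_lt_right Nat.card_pos hp.out.one_lt) (sup_le hH (zpowers_le.2 hx)))
  have := r.cz_le (X := U ⊓ cz H) (inf_le_left.trans hU) (hX hx)
  rw [c, cz_sup, ← inf_assoc]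
  nlinarith [Nat.card_pos (α := H)]

theorem dual (h1 : zpowers z ≤ X) (hX : X ≤ Q) :
    Nat.card (Q ⊓ cz X : Subgroup Γ) * Nat.card X = Nat.card Q * p := by
  refine le_antisymm ?_ ?_
  · have := r.cnt hX le_rfl (Q ⊓ cz X) inf_le_left
    rw [inf_eq_left.2 (le_cz_comm.1 inf_le_right)] at this
    have h2 := (card_le_of_le ((inf_le_inf_right _ hX).trans r.zQ)).trans r.cZ.le
    nlinarith [Nat.card_pos (α := Q)]
  · have := r.cnt le_rfl hX (zpowers z) h1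
    rwa [inf_eq_left.2 (r.QS.trans r.cZ'), r.cZ] at this

theorem ab_le (h1 : zpowers z ≤ X) (hX : X ≤ Q) (h : Cm X) : Nat.card X * Nat.card X ≤ Nat.card Q * p :=
  r.dual h1 hX ▸ Nat.mul_le_mul_right _ (card_le_of_le (le_inf hX (cm_iff.1 h)))

/-- an abelian subgroup has index at least `p ^ 2` -/
theorem ab_lt (h1 : zpowers z ≤ X) (hX : X ≤ Q) (h : Cm X) : Nat.card X * p < Nat.card Q := by
  by_contra! hn
  have h2 := r.ab_le h1 hX h
  have h3 := r.big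
  have p1 := hp.out.one_lt
  have h4 : Nat.card Q * Nat.card Q ≤ Nat.card Q * p ^ 3 :=
    calc _ ≤ (Nat.card X * p) * (Nat.card X * p) := Nat.mul_le_mul hn hn
      _ = Nat.card X * Nat.card X * (p * p) := by ring
      _ ≤ Nat.card Q * p * (p * p) := Nat.mul_le_mul_right _ h2
      _ = _ := by ring
  have h5 := h3.trans (Nat.le_of_mul_le_mul_left h4 Nat.card_pos)
  exact absurd ((Nat.pow_le_pow_iff_right p1).1 h5) (by decide)

/-- the elements of `Q` centralizing `v` modulo the centre -/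
def CC (v : Γ) : Subgroup Γ := cmSub v Q (zpowers z) r.nZ'

theorem mem_CC : x ∈ r.CC v ↔ x ∈ Q ∧ ⁅v, x⁆ ∈ zpowers z := Iff.rfl
theorem CC_le : r.CC v ≤ Q := fun _ h => h.1
theorem Z_CC (hv : v ∈ S) : zpowers z ≤ r.CC v := fun _ h => ⟨r.ZQ h, r.z_r h hv ▸ one_mem _⟩
theorem card_CC : Nat.card (r.CC v) ≤ Nat.card (Q ⊓ cz (zpowers v) : Subgroup Γ) * p :=
  (card_le_cz (X := r.CC v) (fun _ hy => hy.2) (r.Zc.trans (cz_anti (r.CC_le.trans r.QS))) r.cZ.le).trans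
    (Nat.mul_le_mul_right _ (card_le_of_le (inf_le_inf_right _ r.CC_le)))

theorem nzQ (hv : v ∈ S) (h : Nat.card (r.CC v) * p < Nat.card Q) (h1 : g ∈ nz S)
    (h2 : g ∈ nz (zpowers z)) : g ∈ nz Q := by
  by_contra hn
  have hM : cj g Q ≤ S := (cj_mono g r.QS).trans (cj_eq_of_mem_nz h1).le
  obtain ⟨u, hu, hu'⟩ := SetLike.not_le_iff_exists.1 fun e : cj g Q ≤ Q => hn (mem_nz_of_le e)
  have c := card_le_inf r.QS hM (by rw [card_cj]; exact r.card.le)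
  refine h.not_ge (c.trans (Nat.mul_le_mul_right _ (card_le_of_le fun d hd => ⟨hd.1, comm_symm ?_⟩)))
  refine cm_gen (U := Q) (c := u) (by rw [r.sup (hM hu) hu']; exact r.nZ) (fun y hy => r.qc hd.1 hy) ?_ v
    (by rw [r.sup (hM hu) hu']; exact hv)
  have := conj_mem_cj g (r.qc (mem_cj.1 hd.2) (mem_cj.1 hu))
  rw [cj_eq_of_mem_nz h2] at this
  convert this using 1
  simp only [commutatorElement_def]; group

/-- invariance of the commutator form -/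
theorem inv_form (hs : s ∈ S) (hx : x ∈ Q) (hy : y ∈ Q) :
    ⁅⁅s, x⁆, ⁅s, y⁆⁆ * ⁅⁅s, x⁆, y⁆ * ⁅x, ⁅s, y⁆⁆ = 1 := by
  have a := r.cm hs (r.QS hx)
  have b := r.cm hs (r.QS hy)
  have e : ⁅⁅s, x⁆ * x, ⁅s, y⁆ * y⁆ = s * ⁅x, y⁆ * s⁻¹ := by simp only [commutatorElement_def]; group
  rw [(r.cen (r.qc hx hy) hs).eq, r.mul_l a hx (mul_mem b hy), r.mul_r b hy a, r.mul_r b hy hx,
    mul_inv_cancel_right] at e
  exact mul_right_cancel (b := ⁅x, y⁆) (by rw [one_mul, mul_assoc]; exact e)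

theorem d_cz (hv : v ∈ S) (hq : q ∈ Q) : ⁅v, q⁆ ∈ Q ⊓ cz (r.CC v) :=
  ⟨r.cm hv (r.QS hq), mem_cz'.2 fun c hc => by
    have := r.inv_form hv hc.1 hq
    rw [r.z_l hc.2 (r.QS (r.cm hv (r.QS hq))), r.z_l hc.2 (r.QS hq), one_mul, one_mul] at this
    exact commutatorElement_eq_one_iff_mul_comm.1 this⟩

theorem dual2 (hv : v ∈ S) (he : e ∈ Q ⊓ cz (r.CC v)) : ∃ q ∈ Q, (⁅v, q⁆)⁻¹ * e ∈ zpowers z := by
  let f : Γ → Γ ⧸ zpowers z := QuotientGroup.mk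
  have c1 := card_image_eq_relIndex (r.CC v) Q (fun x => f ⁅v, x⁆) fun x hx y hy => by
    rw [QuotientGroup.eq, r.mem_CC, and_iff_right (mul_mem (inv_mem hx) hy)]
    have e : ⁅v, x⁻¹ * y⁆ = x⁻¹ * ((⁅v, x⁆)⁻¹ * ⁅v, y⁆) * x⁻¹⁻¹ := by
      simp only [commutatorElement_def]; group
    rw [e]
    exact (mem_normalizer_iff.1 (inv_mem (r.nZ' hx)) _)
  have c2 := card_image_eq_relIndex (zpowers z) (Q ⊓ cz (r.CC v)) f fun x hx y hy => QuotientGroup.eq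
  have hZ : zpowers z ≤ Q ⊓ cz (r.CC v) := le_inf r.ZQ (r.Zc.trans (cz_anti (r.CC_le.trans r.QS)))
  have c3 := card_mul_relIndex hZ
  have c4 := card_mul_relIndex (r.CC_le (v := v))
  have c5 := r.dual (r.Z_CC hv) r.CC_le
  rw [r.cZ] at c3
  have c6 : (zpowers z).relIndex (Q ⊓ cz (r.CC v)) = (r.CC v).relIndex Q := by
    rw [← c3, ← c4] at c5
    have h1 : 0 < Nat.card (r.CC v) * p := Nat.mul_pos Nat.card_pos hp.out.pos
    exact Nat.eq_of_mul_eq_mul_left h1 (by linarith)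
  have sub : (fun x => f ⁅v, x⁆) '' Q ⊆ f '' (Q ⊓ cz (r.CC v) : Subgroup Γ) := by
    rintro _ ⟨x, hx, rfl⟩; exact ⟨_, r.d_cz hv hx, rfl⟩
  have := Set.eq_of_subset_of_ncard_le sub (by
    rw [← Nat.card_coe_set_eq, ← Nat.card_coe_set_eq, c1, c2, c6])
  obtain ⟨q, hq, e⟩ := this.ge ⟨e, he, rfl⟩
  exact ⟨q, hq, QuotientGroup.eq.1 e⟩

end XQ

end XE
end H24
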