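import Cfsg.Agent.H24.XE1

/-! Anisotropic quadratic maps on `p`-groups. -/

set_option autoImplicit false
set_option linter.unusedSectionVars false

namespace H24
namespace XE
open Subgroup H25 H25.FS H4 H4.P5 H4.G3 H4.Mx
open scoped commutatorElement

variable {Γ : Type*} [Group Γ] [Finite Γ] {p : ℕ} [hp : Fact p.Prime]
variable {S Q A B C D E H K L M N U V W X Y : Subgroup Γ} {a b c d e g h k q s t u v w x y z : Γ}

theorem two_ne (hp2 : p ≠ 2) : (2 : ZMod p) ≠ 0 := fun h =>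
  hp2 ((Nat.prime_dvd_prime_iff_eq hp.out Nat.prime_two).1 ((ZMod.natCast_eq_zero_iff 2 p).1 h))

open Polynomial in
theorem binary (hp2 : p ≠ 2) {a b : ZMod p} (ha : a ≠ 0) (hb : b ≠ 0) (c : ZMod p) :
    ∃ x y : ℕ, a * x ^ 2 + b * y ^ 2 = c := by
  obtain ⟨x, y, h⟩ := FiniteField.exists_root_sum_quadratic (f := C a * X ^ 2) (g := C b * X ^ 2 - C c)
    (degree_C_mul_X_pow 2 ha) (by
      rw [degree_sub_C (by rw [degree_C_mul_X_pow 2 hb]; norm_num), degree_C_mul_X_pow 2 hb]; rfl)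
    (by rw [ZMod.card]; exact Nat.odd_iff.1 (hp.out.odd_of_ne_two hp2))
  refine ⟨x.val, y.val, ?_⟩
  simp only [ZMod.natCast_zmod_val]
  simp at h
  linear_combination h

theorem pow_notMem (hQ : IsPGroup p Q) (ht : t ∈ Q) (h : t ∉ E) {n : ℕ} (hn : (n : ZMod p) ≠ 0) :
    t ^ n ∉ E := fun e => h (mem_of_pow_mem_of_coprime e (by
  obtain ⟨k, hk⟩ := (IsPGroup.iff_orderOf.1 hQ) ⟨t, ht⟩
  rw [← orderOf_coe] at hk
  simp only at hk
  rw [hk]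
  exact Nat.Coprime.pow_right _ ((Nat.coprime_comm.1 ((Nat.Prime.coprime_iff_not_dvd hp.out).2
    fun d => hn ((ZMod.natCast_eq_zero_iff _ _).2 d))))))

theorem card_sup_le (hn : ∀ x ∈ Q, ∀ y ∈ Q, ⁅x, y⁆ ∈ E) (pw : ∀ x ∈ Q, x ^ p ∈ E) (h1 : E ≤ U) (h2 : U ≤ Q)
    (ht : t ∈ Q) : Nat.card (U ⊔ zpowers t : Subgroup Γ) ≤ Nat.card U * p :=
  card_zp_le (X := ⊥) .of_bot (nz_of_comm fun y hy => h1 (hn t ht y (h2 hy))) (h1 (pw t ht))

theorem qf (hp2 : p ≠ 2) (hQ : IsPGroup p Q) (hE : E ≤ Q) (hn : ∀ x ∈ Q, ∀ y ∈ Q, ⁅x, y⁆ ∈ E)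
    (pw : ∀ x ∈ Q, x ^ p ∈ E) {φ : Γ → ZMod p} {β : Γ → Γ → ZMod p}
    (h1 : ∀ s ∈ Q, ∀ t ∈ Q, φ (s * t) = φ s + φ t + β s t)
    (h2 : ∀ s ∈ Q, ∀ s' ∈ Q, ∀ t ∈ Q, β (s * s') t = β s t + β s' t)
    (h3 : ∀ s ∈ Q, ∀ t ∈ Q, β s t = β t s) (h4 : ∀ t ∈ Q, φ t = 0 ↔ t ∈ E)
    (h5 : ∀ e ∈ E, ∀ t ∈ Q, β e t = 0) (c : Nat.card E * p < Nat.card Q) :
    Nat.card Q ≤ Nat.card E * p * p ∧ ∀ c, ∃ t ∈ Q, φ t = c := by
  have t2 := two_ne hp2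
  have bp : ∀ s ∈ Q, ∀ t ∈ Q, ∀ n : ℕ, β (s ^ n) t = n * β s t := fun s hs t ht n => by
    induction n with
    | zero => simpa using h5 1 (one_mem _) t ht
    | succ n ih => rw [pow_succ, h2 _ (pow_mem hs n) _ hs _ ht, ih]; push_cast; ring
  have h2' : ∀ t ∈ Q, ∀ s ∈ Q, ∀ s' ∈ Q, β t (s * s') = β t s + β t s' := fun t ht s hs s' hs' => by
    rw [h3 _ ht _ (mul_mem hs hs'), h2 _ hs _ hs' _ ht, h3 _ hs _ ht, h3 _ hs' _ ht]
  have bp' : ∀ t ∈ Q, ∀ s ∈ Q, ∀ n : ℕ, β t (s ^ n) = n * β t s := fun t ht s hs n => by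
    rw [h3 _ ht _ (pow_mem hs n), bp _ hs _ ht, h3 _ hs _ ht]
  have sq : ∀ s ∈ Q, ∀ t ∈ Q, β (s * t) (s * t) = β s s + 2 * β s t + β t t := fun s hs t ht => by
    rw [h2 _ hs _ ht _ (mul_mem hs ht), h2' _ hs _ hs _ ht, h2' _ ht _ hs _ ht, h3 _ ht _ hs]; ring
  set μ : Γ → ZMod p := fun t => 2 * φ t - β t t with hμ
  have m1 : ∀ s ∈ Q, ∀ t ∈ Q, μ (s * t) = μ s + μ t := fun s hs t ht => by
    simp only [hμ, h1 _ hs _ ht, sq _ hs _ ht]; ring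
  have m0 : ∀ e ∈ E, μ e = 0 := fun e he => by
    simp only [hμ, (h4 _ (hE he)).2 he, h5 _ he _ (hE he)]; ring
  have mp : ∀ s ∈ Q, ∀ n : ℕ, μ (s ^ n) = n * μ s := fun s hs n => by
    induction n with
    | zero => simpa using m0 1 (one_mem _)
    | succ n ih => rw [pow_succ, m1 _ (pow_mem hs n) _ hs, ih]; push_cast; ring
  have key : ∀ t ∈ Q, μ t ≠ 0 → β t t = 0 := fun t ht h => by
    by_contra h'
    obtain ⟨n, hn'⟩ : ∃ n : ℕ, (n : ZMod p) = -μ t / β t t := ⟨_, ZMod.natCast_zmod_val _⟩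
    have e := mp t ht n
    have e2 : n * β t t = -μ t := by rw [hn']; field_simp
    refine pow_notMem hQ ht (fun e => h (m0 t e)) (n := n) (by
      rw [hn']; exact div_ne_zero (neg_ne_zero.2 h) h')
      ((h4 _ (pow_mem ht _)).1 (mul_left_cancel₀ t2 ?_))
    simp only [hμ, bp _ ht _ (pow_mem ht _), bp' _ ht _ ht] at e e2
    linear_combination e + n * e2
  have out : ∀ U, E ≤ U → U ≤ Q → ∀ t ∈ Q, Nat.card U * p < Nat.card Q →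
      ∃ s ∈ Q, s ∉ U ⊔ zpowers t := fun U a b t ht c =>
    exi_of_card ((card_sup_le hn pw a b ht).trans_lt c)
  have mz : ∀ t ∈ Q, μ t = 0 := fun t ht => by
    by_contra h
    obtain ⟨s0, hs0, hs0'⟩ := out E le_rfl hE t ht c
    have hs := mul_mem hs0 (pow_mem ht (-μ s0 / μ t).val)
    have e0 : μ (s0 * t ^ (-μ s0 / μ t).val) = 0 := by
      rw [m1 _ hs0 _ (pow_mem ht _), mp _ ht, ZMod.natCast_zmod_val]; field_simp; ring
    have e1 : s0 * t ^ (-μ s0 / μ t).val ∉ E := fun e => hs0'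
      ((mul_mem_cancel_right (mem_sup_right (npow_mem_zpowers t _))).1 (mem_sup_left e))
    generalize s0 * t ^ (-μ s0 / μ t).val = s at hs e0 e1
    have f1 := key _ (mul_mem hs ht) (by rw [m1 _ hs _ ht, e0]; simpa using h)
    have f2 := key _ (mul_mem hs (pow_mem ht 2)) (by
      rw [m1 _ hs _ (pow_mem ht 2), e0, mp _ ht, zero_add]; exact mul_ne_zero t2 h)
    rw [sq _ hs _ ht, key t ht h] at f1
    rw [sq _ hs _ (pow_mem ht 2), bp _ ht _ (pow_mem ht 2), bp' _ ht _ ht, bp' _ hs _ ht, key t ht h] at f2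
    refine e1 ((h4 s hs).1 (mul_left_cancel₀ t2 ?_))
    simp only [hμ] at e0
    push_cast at f2
    linear_combination e0 + 2 * f1 - f2
  have ph : ∀ t ∈ Q, 2 * φ t = β t t := fun t ht => sub_eq_zero.1 (mz t ht)
  have an : ∀ t ∈ Q, t ∉ E → β t t ≠ 0 := fun t ht h e =>
    h ((h4 t ht).1 (mul_left_cancel₀ t2 (by rw [ph t ht, e, mul_zero])))
  have gs : ∀ t ∈ Q, t ∉ E → ∀ s ∈ Q, ∃ n : ℕ, β (s * t ^ n) t = 0 := fun t ht h s hs =>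
    ⟨(-β s t / β t t).val, by
      have := an t ht h
      rw [h2 _ hs _ (pow_mem ht _) _ ht, bp _ ht _ ht, ZMod.natCast_zmod_val]; field_simp; ring⟩
  obtain ⟨t1, a1, a1'⟩ := exi_of_card ((Nat.le_mul_of_pos_right _ hp.out.pos).trans_lt c)
  obtain ⟨s2, b1, b1'⟩ := out E le_rfl hE t1 a1 c
  obtain ⟨n, b2⟩ := gs t1 a1 a1' s2 b1
  have a2 := mul_mem b1 (pow_mem a1 n)
  have a2' : s2 * t1 ^ n ∉ E ⊔ zpowers t1 := fun e =>
    b1' ((mul_mem_cancel_right (mem_sup_right (npow_mem_zpowers t1 _))).1 e)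
  generalize s2 * t1 ^ n = t2' at a2 a2' b2
  have rep : ∀ c, ∃ x y : ℕ, β (t1 ^ x * t2' ^ y) (t1 ^ x * t2' ^ y) = c := fun c => by
    obtain ⟨x, y, e⟩ := binary hp2 (an t1 a1 a1') (an t2' a2 fun e => a2' (mem_sup_left e)) c
    refine ⟨x, y, ?_⟩
    rw [sq _ (pow_mem a1 x) _ (pow_mem a2 y), bp _ a1 _ (pow_mem a1 x), bp _ a1 _ (pow_mem a2 y),
      bp _ a2 _ (pow_mem a2 y), bp' _ a1 _ a1, bp' _ a1 _ a2, bp' _ a2 _ a2, h3 _ a1 _ a2, b2]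
    linear_combination e
  refine ⟨?_, fun c => ?_⟩
  · by_contra! hc
    have l1 : E ⊔ zpowers t1 ≤ Q := sup_le hE (zpowers_le.2 a1)
    obtain ⟨s3, c1, c1'⟩ := out _ le_sup_left l1 t2' a2 (lt_of_le_of_lt
      (Nat.mul_le_mul_right _ (card_sup_le hn pw le_rfl hE a1)) hc)
    obtain ⟨i, c2⟩ := gs t1 a1 a1' s3 c1
    obtain ⟨j, c3⟩ := gs t2' a2 (fun e => a2' (mem_sup_left e)) _ (mul_mem c1 (pow_mem a1 i))
    have a3 := mul_mem (mul_mem c1 (pow_mem a1 i)) (pow_mem a2 j)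
    have c4 : β (s3 * t1 ^ i * t2' ^ j) t1 = 0 := by
      rw [h2 _ (mul_mem c1 (pow_mem a1 i)) _ (pow_mem a2 j) _ a1, c2, bp _ a2 _ a1, b2]; ring
    have i1 : ∀ i : ℕ, t1 ^ i ∈ E ⊔ zpowers t1 ⊔ zpowers t2' := fun i =>
      mem_sup_left (mem_sup_right (npow_mem_zpowers t1 _))
    have i2 : ∀ i : ℕ, t2' ^ i ∈ E ⊔ zpowers t1 ⊔ zpowers t2' := fun i =>
      mem_sup_right (npow_mem_zpowers _ _)
    have a3' : s3 * t1 ^ i * t2' ^ j ∉ E ⊔ zpowers t1 ⊔ zpowers t2' := fun e =>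
      c1' ((mul_mem_cancel_right (i1 i)).1 ((mul_mem_cancel_right (i2 j)).1 e))
    generalize s3 * t1 ^ i * t2' ^ j = t3 at a3 a3' c3 c4
    obtain ⟨x, y, e⟩ := rep (-β t3 t3)
    have a4 := mul_mem (pow_mem a1 x) (pow_mem a2 y)
    refine a3' ((mul_mem_cancel_right (mul_mem (i1 x) (i2 y))).1 (mem_sup_left (mem_sup_left ?_)))
    by_contra h
    refine an _ (mul_mem a3 a4) h ?_
    rw [sq _ a3 _ a4, e, h2' _ a3 _ (pow_mem a1 x) _ (pow_mem a2 y), bp' _ a3 _ a1, bp' _ a3 _ a2, c3, c4]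
    ring
  · obtain ⟨x, y, e⟩ := rep (2 * c)
    have a4 := mul_mem (pow_mem a1 x) (pow_mem a2 y)
    exact ⟨_, a4, mul_left_cancel₀ t2 (by rw [ph _ a4, e])⟩

end XE
end H24
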