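import Cfsg.Agent.H24.XE2

/-! Two families of groups of order `p ^ 6` given by relations. -/

set_option autoImplicit false
set_option linter.unusedSectionVars false

namespace H24
namespace XE
open Subgroup H25 H25.FS H4 H4.P5 H4.G3 H4.Mx
open scoped commutatorElement

variable {Γ Γ' : Type*} [Group Γ] [Finite Γ] [Group Γ'] [Finite Γ'] {p : ℕ} [hp : Fact p.Prime]
variable {S Q A B C D E H K L M N U V W X Y : Subgroup Γ} {a b d g h k q s t u v w x y z : Γ}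
variable {l : List Γ} {c e : ℤ}

/-- the subgroup generated by a list -/
def pc : List Γ → Subgroup Γ
  | [] => ⊥
  | g :: l => pc l ⊔ zpowers g

/-- polycyclic relations -/
def Pc (p : ℕ) : List Γ → Prop
  | [] => True
  | g :: l => Pc p l ∧ g ^ p ∈ pc l ∧ ∀ h ∈ l, ⁅g, h⁆ ∈ pc l

/-- irredundant -/
def Ir : List Γ → Prop
  | [] => True
  | g :: l => Ir l ∧ g ∉ pc l

theorem pc_le : pc l ≤ K ↔ ∀ g ∈ l, g ∈ K := by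
  induction l with
  | nil => simp [pc]
  | cons g l ih => simp [pc, ih, and_comm]

theorem mem_pc (h : g ∈ l) : g ∈ pc l := pc_le.1 le_rfl g h

theorem nz_pc (h : ∀ h ∈ l, ⁅g, h⁆ ∈ pc l) : g ∈ nz (pc l) :=
  nz_of_comm fun _ hy => ((pc_le.2 fun y hy => ⟨mem_pc hy, h y hy⟩ :
    pc l ≤ cmSub g (pc l) (pc l) (le_nz_self _)) hy).2

theorem Pc.card_le (h : Pc p l) : Nat.card (pc l) ≤ p ^ l.length := by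
  induction l with
  | nil => simp [pc]
  | cons g l ih =>
    refine (card_zp_le (X := ⊥) .of_bot (nz_pc h.2.2) h.2.1).trans ?_
    rw [List.length_cons, pow_succ]; exact Nat.mul_le_mul_right _ (ih h.1)

theorem Pc.card (h : Pc p l) (h' : Ir l) : Nat.card (pc l) = p ^ l.length := by
  induction l with
  | nil => simp [pc]
  | cons g l ih => rw [pc, card_sup_zpowers_prime hp.out (nz_pc h.2.2) h'.2 h.2.1, ih h.1 h'.1,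
      List.length_cons, pow_succ]

theorem map_pc (f : Γ →* Γ') : (pc l).map f = pc (l.map f) := by
  induction l with
  | nil => simp [pc]
  | cons g l ih => simp [pc, Subgroup.map_sup, ih]

theorem Pc.equiv_map (h : Pc p l) (f : Γ →* Γ') (c : Nat.card (pc (l.map f)) = p ^ l.length) :
    Nonempty (pc l ≃* pc (l.map f)) := by
  rw [← map_pc] at c ⊢
  exact ⟨MulEquiv.ofBijective (f.subgroupMap _) ((Nat.bijective_iff_surjective_and_card _).2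
    ⟨f.subgroupMap_surjective _, le_antisymm (c ▸ h.card_le)
      (Nat.card_le_card_of_surjective _ (f.subgroupMap_surjective _))⟩)⟩

theorem Pc.equiv {l : List (Γ × Γ')} (h : Pc p l) (c : Nat.card (pc (l.map Prod.fst)) = p ^ l.length)
    (c' : Nat.card (pc (l.map Prod.snd)) = p ^ l.length) :
    Nonempty (pc (l.map Prod.fst) ≃* pc (l.map Prod.snd)) := by
  obtain ⟨e⟩ := h.equiv_map (MonoidHom.fst Γ Γ') c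
  obtain ⟨e'⟩ := h.equiv_map (MonoidHom.snd Γ Γ') c'
  exact ⟨e.symm.trans e'⟩

theorem not_pc (h1 : ∀ g ∈ l, ⁅g, w⁆ = 1) (h2 : ⁅x, w⁆ ≠ 1) : x ∉ pc l := fun h =>
  h2 (comm_one ((pc_le.2 fun g hg => cz_of_commute (commutatorElement_eq_one_iff_commute.1 (h1 g hg)) :
    pc l ≤ cz (zpowers w)) h) (mem_zpowers w))

theorem not_pc' (h0 : ∀ g ∈ l, ⁅g, z⁆ = 1) (h1 : ∀ g ∈ l, ⁅w, g⁆ ∈ zpowers z) (h2 : ⁅w, x⁆ ∉ zpowers z) :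
    x ∉ pc l := fun h =>
  h2 ((pc_le.2 fun g hg => ⟨cz_le_nz _ (cz_of_commute (commutatorElement_eq_one_iff_commute.1 (h0 g hg))),
    h1 g hg⟩ : pc l ≤ cmSub w (nz (zpowers z)) (zpowers z) le_rfl) h).2

theorem c_symm (h : ⁅x, y⁆ = 1) : ⁅y, x⁆ = 1 := by rw [← commutatorElement_inv, h, inv_one]

theorem not_zp (h1 : ⁅w, z⁆ = 1) (h2 : ⁅w, x⁆ ≠ 1) : x ∉ zpowers z := fun h =>
  h2 (comm_one (cz_of_commute (commutatorElement_eq_one_iff_commute.1 h1)) h)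

theorem zpow_ne (h : z ^ p = 1) (h1 : z ≠ 1) (he : (e : ZMod p) ≠ 0) : z ^ e ≠ 1 := fun h' => he (by
  rw [ZMod.intCast_zmod_eq_zero_iff_dvd, ← orderOf_eq_prime h h1]; exact orderOf_dvd_iff_zpow_eq_one.2 h')

/-- relations of a Sylow subgroup of `SL₄(p)` or `SU₄(p)` -/
structure JA (p : ℕ) (e : ℤ) (x y v : Γ) : Prop where
  px : x ^ p = 1
  py : y ^ p = 1
  pv : v ^ p = 1
  pa : ⁅v, x⁆ ^ p = 1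
  pb : ⁅v, y⁆ ^ p = 1
  pz : ⁅x, ⁅v, x⁆⁆ ^ p = 1
  xy : ⁅x, y⁆ = 1
  xb : ⁅x, ⁅v, y⁆⁆ = 1
  ya : ⁅y, ⁅v, x⁆⁆ = 1
  yb : ⁅y, ⁅v, y⁆⁆ = ⁅x, ⁅v, x⁆⁆ ^ e
  va : ⁅v, ⁅v, x⁆⁆ = 1
  vb : ⁅v, ⁅v, y⁆⁆ = 1
  ab : ⁅⁅v, x⁆, ⁅v, y⁆⁆ = 1
  xz : ⁅x, ⁅x, ⁅v, x⁆⁆⁆ = 1
  yz : ⁅y, ⁅x, ⁅v, x⁆⁆⁆ = 1
  vz : ⁅v, ⁅x, ⁅v, x⁆⁆⁆ = 1
  az : ⁅⁅v, x⁆, ⁅x, ⁅v, x⁆⁆⁆ = 1
  bz : ⁅⁅v, y⁆, ⁅x, ⁅v, x⁆⁆⁆ = 1

abbrev lA (x y v : Γ) : List Γ := [x, y, v, ⁅v, x⁆, ⁅v, y⁆, ⁅x, ⁅v, x⁆⁆]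

theorem JA.pc (j : JA p e x y v) : Pc p (lA x y v) := by
  have i : ∀ {l : List Γ} {x v : Γ}, ⁅v, x⁆ ∈ l → ⁅x, v⁆ ∈ XE.pc l := fun h => by
    rw [← commutatorElement_inv]; exact inv_mem (mem_pc h)
  simp only [Pc, List.forall_mem_cons, j.px, j.py, j.pv, j.pa, j.pb, j.pz, j.xy, j.xb, j.ya, j.yb, j.va, j.vb,
    j.ab, j.xz, j.yz, j.vz, j.az, j.bz, one_mem, List.not_mem_nil, true_and, and_true, false_imp_iff,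
    imp_true_iff]
  exact ⟨⟨i (by simp), zpow_mem (mem_pc (by simp)) e⟩, i (by simp), mem_pc (by simp)⟩

theorem JA.card (j : JA p e x y v) (h : ⁅x, ⁅v, x⁆⁆ ≠ 1) (he : (e : ZMod p) ≠ 0) :
    Nat.card (XE.pc (lA x y v)) = p ^ 6 := by
  have h2 : ⁅y, ⁅v, y⁆⁆ ≠ 1 := j.yb ▸ zpow_ne j.pz h he
  refine j.pc.card ⟨⟨⟨⟨⟨⟨trivial, h⟩, not_pc (w := y) ?_ (mt c_symm h2)⟩, not_pc (w := x) ?_ (mt c_symm h)⟩,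
    not_pc' (w := x) (z := ⁅x, ⁅v, x⁆⁆) ?_ ?_ fun h' => not_zp j.xz h ?_⟩, not_pc (w := ⁅v, y⁆) ?_ h2⟩,
    not_pc (w := ⁅v, x⁆) ?_ h⟩
  · simpa using c_symm j.yz
  · simpa using ⟨c_symm j.xb, c_symm j.xz⟩
  · simpa using ⟨j.az, j.bz⟩
  · simp [j.xb, j.xz]
  · exact comm_symm h'
  · simpa using ⟨j.vb, j.ab, c_symm j.bz⟩
  · simpa using ⟨j.ya, j.va, c_symm j.ab, c_symm j.az⟩

theorem JA.prod {x' y' v' : Γ'} (j : JA p e x y v) (j' : JA p e x' y' v') : JA p e (x, x') (y, y') (v, v') :=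
  ⟨Prod.ext j.px j'.px, Prod.ext j.py j'.py, Prod.ext j.pv j'.pv, Prod.ext j.pa j'.pa, Prod.ext j.pb j'.pb,
    Prod.ext j.pz j'.pz, Prod.ext j.xy j'.xy, Prod.ext j.xb j'.xb, Prod.ext j.ya j'.ya, Prod.ext j.yb j'.yb,
    Prod.ext j.va j'.va, Prod.ext j.vb j'.vb, Prod.ext j.ab j'.ab, Prod.ext j.xz j'.xz, Prod.ext j.yz j'.yz,
    Prod.ext j.vz j'.vz, Prod.ext j.az j'.az, Prod.ext j.bz j'.bz⟩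

theorem JA.equiv {x' y' v' : Γ'} (j : JA p e x y v) (j' : JA p e x' y' v') (h : ⁅x, ⁅v, x⁆⁆ ≠ 1)
    (h' : ⁅x', ⁅v', x'⁆⁆ ≠ 1) (he : (e : ZMod p) ≠ 0) :
    Nonempty (XE.pc (lA x y v) ≃* XE.pc (lA x' y' v')) :=
  (j.prod j').pc.equiv (j.card h he) (j'.card h' he)

theorem JA.map (j : JA p e x y v) (f : Γ →* Γ') : JA p e (f x) (f y) (f v) := by
  constructor <;> simp only [← map_commutatorElement, ← map_pow, ← map_zpow, j.px, j.py, j.pv, j.pa, j.pb,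
    j.pz, j.xy, j.xb, j.ya, j.yb, j.va, j.vb, j.ab, j.xz, j.yz, j.vz, j.az, j.bz, map_one]

/-- relations of a Sylow subgroup of `G₂(p)` -/
structure JG (p : ℕ) (c : ℤ) (s q : Γ) : Prop where
  ps : s ^ p = 1
  p1 : q ^ p = 1
  p2 : ⁅s, q⁆ ^ p = 1
  p3 : ⁅s, ⁅s, q⁆⁆ ^ p = 1
  p4 : ⁅s, ⁅s, ⁅s, q⁆⁆⁆ ^ p = 1
  pz : ⁅q, ⁅s, ⁅s, ⁅s, q⁆⁆⁆⁆ ^ p = 1
  s4 : ⁅s, ⁅s, ⁅s, ⁅s, q⁆⁆⁆⁆ = 1
  c12 : ⁅q, ⁅s, q⁆⁆ = ⁅q, ⁅s, ⁅s, ⁅s, q⁆⁆⁆⁆ ^ c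
  c13 : ⁅q, ⁅s, ⁅s, q⁆⁆⁆ = ⁅q, ⁅s, ⁅s, ⁅s, q⁆⁆⁆⁆
  c23 : ⁅⁅s, q⁆, ⁅s, ⁅s, q⁆⁆⁆ = ⁅q, ⁅s, ⁅s, ⁅s, q⁆⁆⁆⁆⁻¹
  c24 : ⁅⁅s, q⁆, ⁅s, ⁅s, ⁅s, q⁆⁆⁆⁆ = 1
  c34 : ⁅⁅s, ⁅s, q⁆⁆, ⁅s, ⁅s, ⁅s, q⁆⁆⁆⁆ = 1
  sz : ⁅s, ⁅q, ⁅s, ⁅s, ⁅s, q⁆⁆⁆⁆⁆ = 1
  z1 : ⁅q, ⁅q, ⁅s, ⁅s, ⁅s, q⁆⁆⁆⁆⁆ = 1
  z2 : ⁅⁅s, q⁆, ⁅q, ⁅s, ⁅s, ⁅s, q⁆⁆⁆⁆⁆ = 1
  z3 : ⁅⁅s, ⁅s, q⁆⁆, ⁅q, ⁅s, ⁅s, ⁅s, q⁆⁆⁆⁆⁆ = 1
  z4 : ⁅⁅s, ⁅s, ⁅s, q⁆⁆⁆, ⁅q, ⁅s, ⁅s, ⁅s, q⁆⁆⁆⁆⁆ = 1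

abbrev lG (s q : Γ) : List Γ :=
  [s, q, ⁅s, q⁆, ⁅s, ⁅s, q⁆⁆, ⁅s, ⁅s, ⁅s, q⁆⁆⁆, ⁅q, ⁅s, ⁅s, ⁅s, q⁆⁆⁆⁆]

theorem JG.pc (j : JG p c s q) : Pc p (lG s q) := by
  simp only [Pc, List.forall_mem_cons, j.ps, j.p1, j.p2, j.p3, j.p4, j.pz, j.s4, j.c12, j.c13, j.c23, j.c24,
    j.c34, j.sz, j.z1, j.z2, j.z3, j.z4, one_mem, List.not_mem_nil, true_and, and_true, false_imp_iff,
    imp_true_iff]
  exact ⟨⟨inv_mem (mem_pc (by simp)), zpow_mem (mem_pc (by simp)) c, mem_pc (by simp), mem_pc (by simp)⟩,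
    mem_pc (by simp), mem_pc (by simp), mem_pc (by simp)⟩

theorem JG.card (j : JG p c s q) (h : ⁅q, ⁅s, ⁅s, ⁅s, q⁆⁆⁆⁆ ≠ 1) : Nat.card (XE.pc (lG s q)) = p ^ 6 := by
  have h2 : ⁅⁅s, q⁆, ⁅s, ⁅s, q⁆⁆⁆ ≠ 1 := j.c23 ▸ inv_ne_one.2 h
  have i : ∀ {x v z : Γ}, ⁅v, x⁆ ∈ zpowers z → ⁅x, v⁆ ∈ zpowers z := fun h => by
    rw [← commutatorElement_inv]; exact inv_mem h
  refine j.pc.card ⟨⟨⟨⟨⟨⟨trivial, h⟩, not_pc (w := q) ?_ (mt c_symm h)⟩,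
    not_pc (w := ⁅s, q⁆) ?_ (mt c_symm h2)⟩, not_pc (w := ⁅s, ⁅s, q⁆⁆) ?_ h2⟩,
    not_pc (w := ⁅s, ⁅s, ⁅s, q⁆⁆⁆) ?_ h⟩,
    not_pc' (w := ⁅s, ⁅s, q⁆⁆) (z := ⁅q, ⁅s, ⁅s, ⁅s, q⁆⁆⁆⁆) ?_ ?_ fun h' => not_zp j.z1 h (i h')⟩
  · simpa using c_symm j.z1
  · simpa using ⟨c_symm j.c24, c_symm j.z2⟩
  · simpa using ⟨c_symm j.c34, c_symm j.z3⟩
  · simpa using ⟨j.c24, j.c34, c_symm j.z4⟩
  · simpa using ⟨j.z1, j.z2, j.z3, j.z4⟩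
  · simp only [List.forall_mem_cons, j.c34, j.z3, one_mem, List.not_mem_nil, true_and, and_true,
      false_imp_iff, imp_true_iff, commutatorElement_self]
    exact ⟨i (j.c13 ▸ mem_zpowers _), i (j.c23 ▸ inv_mem (mem_zpowers _))⟩

theorem JG.prod {s' q' : Γ'} (j : JG p c s q) (j' : JG p c s' q') : JG p c (s, s') (q, q') :=
  ⟨Prod.ext j.ps j'.ps, Prod.ext j.p1 j'.p1, Prod.ext j.p2 j'.p2, Prod.ext j.p3 j'.p3, Prod.ext j.p4 j'.p4,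
    Prod.ext j.pz j'.pz, Prod.ext j.s4 j'.s4, Prod.ext j.c12 j'.c12, Prod.ext j.c13 j'.c13,
    Prod.ext j.c23 j'.c23, Prod.ext j.c24 j'.c24, Prod.ext j.c34 j'.c34, Prod.ext j.sz j'.sz,
    Prod.ext j.z1 j'.z1, Prod.ext j.z2 j'.z2, Prod.ext j.z3 j'.z3, Prod.ext j.z4 j'.z4⟩

theorem JG.equiv {s' q' : Γ'} (j : JG p c s q) (j' : JG p c s' q') (h : ⁅q, ⁅s, ⁅s, ⁅s, q⁆⁆⁆⁆ ≠ 1)
    (h' : ⁅q', ⁅s', ⁅s', ⁅s', q'⁆⁆⁆⁆ ≠ 1) : Nonempty (XE.pc (lG s q) ≃* XE.pc (lG s' q')) :=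
  (j.prod j').pc.equiv (j.card h) (j'.card h')

/-- conclusion of type `A` -/
def TA (p : ℕ) (S : Subgroup Γ) : Prop :=
  ∃ (e : ℤ) (x y v : Γ), JA p e x y v ∧ ⁅x, ⁅v, x⁆⁆ ≠ 1 ∧ (e : ZMod p) ≠ 0 ∧ pc (lA x y v) = S

/-- conclusion of type `G` -/
def TG (p : ℕ) (S : Subgroup Γ) : Prop :=
  5 ≤ p ∧ ∀ c : ℤ, ∃ s q : Γ, JG p c s q ∧ ⁅q, ⁅s, ⁅s, ⁅s, q⁆⁆⁆⁆ ≠ 1 ∧ pc (lG s q) = S

namespace XQ
variable (r : XQ p S Q z)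
include r

theorem exZ : ∃ χ, Ch p (zpowers z) ⊥ χ := exists_ch (r.pQ.to_le r.ZQ) bot_le (by simp [r.cZ])

theorem pow_l {χ : Γ → ZMod p} (o : Ch p (zpowers z) ⊥ χ) (hx : x ∈ Q) (hy : y ∈ Q) (n : ℕ) :
    χ ⁅x ^ n, y⁆ = n * χ ⁅x, y⁆ := by
  rw [commutator_pow_left (r.cen (r.qc hx hy) (r.QS hx)), o.pow (r.qc hx hy)]

theorem eq_of_ch {χ : Γ → ZMod p} (o : Ch p (zpowers z) ⊥ χ) (hx : x ∈ zpowers z) (hy : y ∈ zpowers z)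
    (h : χ x = χ y) : x = y :=
  mul_inv_eq_one.1 (o.mem (mul_mem hx (inv_mem hy)) (by rw [o.add _ hx _ (inv_mem hy), o.inv hy, h]; ring))

theorem typeA (c5 : Nat.card Q = p ^ 5) (pw : ∀ x ∈ Q, x ^ p = 1) (hv : v ∈ S) (pv : v ^ p = 1)
    (h1 : ∀ x ∈ Q, ⁅v, ⁅v, x⁆⁆ = 1) (h2 : ∀ x ∈ Q, ∀ y ∈ Q, ⁅⁅v, x⁆, ⁅v, y⁆⁆ = 1)
    (c1 : Nat.card (r.CC v) * p < Nat.card Q) (c2 : Nat.card Q ≤ Nat.card (r.CC v) * p * p) : TA p S := by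
  obtain ⟨χ, o⟩ := r.exZ
  have d : ∀ x ∈ Q, ⁅v, x⁆ ∈ Q := fun x hx => r.cm hv (r.QS hx)
  have sy : ∀ x ∈ Q, ∀ y ∈ Q, ⁅x, ⁅v, y⁆⁆ = ⁅y, ⁅v, x⁆⁆ := fun x hx y hy => by
    have := r.inv_form hv hx hy
    rw [h2 x hx y hy, one_mul, mul_eq_one_iff_inv_eq, commutatorElement_inv] at this
    exact this.symm
  have ad : ∀ x ∈ Q, ∀ y ∈ Q, ∀ w ∈ Q, χ ⁅x * y, w⁆ = χ ⁅x, w⁆ + χ ⁅y, w⁆ := fun x hx y hy w hw => by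
    rw [r.mul_l hx hy hw, o.add _ (r.qc hx hw) _ (r.qc hy hw)]
  obtain ⟨x, hx, hx'⟩ : ∃ x ∈ Q, ⁅x, ⁅v, x⁆⁆ ≠ 1 := by
    by_contra! h
    refine c1.not_ge ((card_le_of_le (show Q ≤ r.CC v from fun y hy =>
      r.mem_CC.2 ⟨hy, r.mem_Z (d y hy) fun x hx => c_symm ?_⟩)).trans (Nat.le_mul_of_pos_right _ hp.out.pos))
    have e := congrArg χ (h _ (mul_mem hx hy))
    rw [ad _ hx _ hy _ (d _ (mul_mem hx hy)), sy _ hx _ (mul_mem hx hy), sy _ hy _ (mul_mem hx hy),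
      ad _ hx _ hy _ (d _ hx), ad _ hx _ hy _ (d _ hy), h x hx, h y hy, sy _ hy _ hx, o.one] at e
    exact o.mem (r.qc hx (d y hy)) (mul_left_cancel₀ (two_ne r.p2) (by linear_combination e))
  have zx := r.qc hx (d x hx)
  have ne := o.ne zx hx'
  have xC : x ∉ r.CC v := fun h => hx' (r.z_r h.2 (r.QS hx))
  have qC : ∀ x ∈ Q, ∀ y ∈ Q, ⁅x, y⁆ ∈ r.CC v := fun x hx y hy => r.Z_CC hv (r.qc hx hy)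
  obtain ⟨y0, hy0, hy0'⟩ := exi_of_card ((card_sup_le qC (fun x hx => pw x hx ▸ one_mem _) le_rfl
    r.CC_le hx).trans_lt c1)
  obtain ⟨n, hn⟩ : ∃ n : ℕ, χ ⁅y0 * x ^ n, ⁅v, x⁆⁆ = 0 := ⟨(-χ ⁅y0, ⁅v, x⁆⁆ / χ ⁅x, ⁅v, x⁆⁆).val, by
    rw [ad _ hy0 _ (pow_mem hx _) _ (d x hx), r.pow_l o hx (d x hx), ZMod.natCast_zmod_val]; field_simp; ring⟩
  have hy1 := mul_mem hy0 (pow_mem hx n)
  have hy1' : y0 * x ^ n ∉ r.CC v ⊔ zpowers x := fun e =>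
    hy0' ((mul_mem_cancel_right (mem_sup_right (npow_mem_zpowers x _))).1 e)
  generalize y0 * x ^ n = y1 at hn hy1 hy1'
  have ne' : χ ⁅⁅v, x⁆, x⁆ ≠ 0 := o.ne (r.qc (d x hx) hx) (mt c_symm hx')
  obtain ⟨m, hm⟩ : ∃ m : ℕ, χ ⁅y1 * ⁅v, x⁆ ^ m, x⁆ = 0 := ⟨(-χ ⁅y1, x⁆ / χ ⁅⁅v, x⁆, x⁆).val, by
    rw [ad _ hy1 _ (pow_mem (d x hx) _) _ hx, r.pow_l o (d x hx) hx, ZMod.natCast_zmod_val]; field_simp; ring⟩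
  have hy := mul_mem hy1 (pow_mem (d x hx) m)
  have hy' : y1 * ⁅v, x⁆ ^ m ∉ r.CC v ⊔ zpowers x := fun e => hy1' ((mul_mem_cancel_right
    (mem_sup_left (pow_mem (r.mem_CC.2 ⟨d x hx, h1 x hx ▸ one_mem _⟩) m))).1 e)
  have hn' : χ ⁅y1 * ⁅v, x⁆ ^ m, ⁅v, x⁆⁆ = 0 := by
    rw [ad _ hy1 _ (pow_mem (d x hx) _) _ (d x hx), hn, r.pow_l o (d x hx) (d x hx)]; simp [o.one]
  generalize y1 * ⁅v, x⁆ ^ m = y at hm hy hy' hn'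
  have ya : ⁅y, ⁅v, x⁆⁆ = 1 := o.mem (r.qc hy (d x hx)) hn'
  obtain ⟨e, he⟩ := (r.gen zx hx').ge (r.qc hy (d y hy))
  have j : JA p e x y v := ⟨pw x hx, pw y hy, pv, pw _ (d x hx), pw _ (d y hy), r.zp zx,
    c_symm (o.mem (r.qc hy hx) hm), (sy _ hx _ hy).trans ya, ya, he.symm, h1 x hx, h1 y hy, h2 x hx y hy,
    r.z_r zx (r.QS hx), r.z_r zx (r.QS hy), r.z_r zx hv, r.z_r zx (r.QS (d x hx)), r.z_r zx (r.QS (d y hy))⟩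
  have e0 : (e : ZMod p) ≠ 0 := fun e0 => by
    have yb : ⁅y, ⁅v, y⁆⁆ = 1 := by
      rw [j.yb]; simpa using H4.zpow_congr (r.zp zx) (a' := 0) (by simpa using e0)
    have l1 : r.CC v ⊔ zpowers x ≤ Q := sup_le r.CC_le (zpowers_le.2 hx)
    have es := eq_sup_of_card r.pQ l1 (c2.trans (Nat.mul_le_mul_right _ (lt_card (r.pQ.to_le l1)
      (left_lt_sup.2 fun h => xC (h (mem_zpowers x)))))) hy hy'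
    refine hy' (mem_sup_left ⟨hy, r.zQ ⟨d y hy, ?_⟩⟩)
    rw [← es, cz_sup, cz_sup]
    exact ⟨⟨(r.d_cz hv hy).2, cz_of_commute (commutatorElement_eq_one_iff_commute.1 (c_symm j.xb))⟩,
      cz_of_commute (commutatorElement_eq_one_iff_commute.1 (c_symm yb))⟩
  refine ⟨e, x, y, v, j, hx', e0, eq_of_le_of_card_le (pc_le.2 ?_) (by rw [j.card hx' e0, r.card, c5, ← pow_succ])⟩
  simp only [List.forall_mem_cons, List.not_mem_nil, false_imp_iff, imp_true_iff, and_true]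
  exact ⟨r.QS hx, r.QS hy, hv, r.QS (d x hx), r.QS (d y hy), r.QS (r.ZQ zx)⟩

theorem typeG (c5 : Nat.card Q = p ^ 5) (pw : ∀ x ∈ Q, x ^ p = 1) (hs : s ∈ S) (ps : s ^ p = 1) (hq : q ∈ Q)
    (h1 : ⁅s, ⁅s, ⁅s, ⁅s, q⁆⁆⁆⁆ = 1) (h2 : ⁅q, ⁅s, ⁅s, ⁅s, q⁆⁆⁆⁆ ≠ 1) : TG p S := by
  obtain ⟨χ, o⟩ := r.exZ
  have d : ∀ x ∈ Q, ⁅s, x⁆ ∈ Q := fun x hx => r.cm hs (r.QS hx)
  have ad : ∀ x ∈ Q, ∀ y ∈ Q, ∀ w ∈ Q, χ ⁅x * y, w⁆ = χ ⁅x, w⁆ + χ ⁅y, w⁆ := fun x hx y hy w hw => by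
    rw [r.mul_l hx hy hw, o.add _ (r.qc hx hw) _ (r.qc hy hw)]
  have ad' : ∀ x ∈ Q, ∀ y ∈ Q, ∀ w ∈ Q, χ ⁅w, x * y⁆ = χ ⁅w, x⁆ + χ ⁅w, y⁆ := fun x hx y hy w hw => by
    rw [r.mul_r hx hy hw, o.add _ (r.qc hw hx) _ (r.qc hw hy)]
  have key : ∀ q ∈ Q, ⁅s, ⁅s, ⁅s, ⁅s, q⁆⁆⁆⁆ = 1 → ⁅q, ⁅s, ⁅s, q⁆⁆⁆ = ⁅q, ⁅s, ⁅s, ⁅s, q⁆⁆⁆⁆ ∧
      ⁅⁅s, q⁆, ⁅s, ⁅s, q⁆⁆⁆ = ⁅q, ⁅s, ⁅s, ⁅s, q⁆⁆⁆⁆⁻¹ ∧ ⁅⁅s, q⁆, ⁅s, ⁅s, ⁅s, q⁆⁆⁆⁆ = 1 ∧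
      ⁅⁅s, ⁅s, q⁆⁆, ⁅s, ⁅s, ⁅s, q⁆⁆⁆⁆ = 1 := fun q hq h1 => by
    have q2 := d q hq
    have q3 := d _ q2
    have q4 := d _ q3
    have a := r.inv_form hs hq q4
    have b := r.inv_form hs hq q3
    have c := r.inv_form hs hq q2
    have e := r.inv_form hs q2 q3
    simp only [h1, commutatorElement_one_right, one_mul, mul_one] at a
    simp only [a, one_mul, mul_one, commutatorElement_self] at b c e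
    have b' := eq_inv_of_mul_eq_one_left b
    rw [b'] at c
    exact ⟨(inv_mul_eq_one.1 c).symm, b', a, e⟩
  have q2 := d q hq
  have q3 := d _ q2
  have q4 := d _ q3
  have zq := r.qc hq q4
  have ne := o.ne zq h2
  obtain ⟨k13, k23, k24, k34⟩ := key q hq h1
  refine ⟨?_, fun c => ?_⟩
  · by_contra! h5
    have := hp.out.two_le
    have p4 : p ≠ 4 := by rintro rfl; exact absurd hp.out (by decide)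
    obtain rfl : p = 3 := by have := r.p2; omega
    have e : ⁅s, ⁅s, ⁅s, q⁆⁆⁆ * ⁅s, ⁅s, q⁆⁆ * (⁅s, ⁅s, q⁆⁆ * ⁅s, q⁆) * (⁅s, ⁅s, q⁆⁆ * ⁅s, q⁆) * ⁅s, q⁆ =
        ⁅s ^ 3, q⁆ := by
      rw [show s ^ 3 = s * s * s by simp [pow_succ]]; simp only [commutatorElement_def]; group
    have e2 := congrArg (fun u => χ ⁅q, u⁆) e
    simp only [ps, commutatorElement_one_left, commutatorElement_one_right, o.one] at e2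
    rw [ad' _ (mul_mem (mul_mem (mul_mem q4 q3) (mul_mem q3 q2)) (mul_mem q3 q2)) _ q2 _ hq,
      ad' _ (mul_mem (mul_mem q4 q3) (mul_mem q3 q2)) _ (mul_mem q3 q2) _ hq,
      ad' _ (mul_mem q4 q3) _ (mul_mem q3 q2) _ hq, ad' _ q4 _ q3 _ hq, ad' _ q3 _ q2 _ hq] at e2
    have h3 : (3 : ZMod 3) = 0 := rfl
    exact ne (by linear_combination e2 - (χ ⁅q, ⁅s, ⁅s, q⁆⁆⁆ + χ ⁅q, ⁅s, q⁆⁆) * h3)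
  obtain ⟨t, ht⟩ : ∃ t : ℕ, χ ⁅q, ⁅s, q⁆⁆ + 2 * t * χ ⁅q, ⁅s, ⁅s, ⁅s, q⁆⁆⁆⁆ = c * χ ⁅q, ⁅s, ⁅s, ⁅s, q⁆⁆⁆⁆ :=
    ⟨((c * χ ⁅q, ⁅s, ⁅s, ⁅s, q⁆⁆⁆⁆ - χ ⁅q, ⁅s, q⁆⁆) / (2 * χ ⁅q, ⁅s, ⁅s, ⁅s, q⁆⁆⁆⁆)).val, by
      have := two_ne r.p2
      rw [ZMod.natCast_zmod_val]; field_simp; ring⟩
  set a2 := ⁅s, q⁆ with ha2
  set a3 := ⁅s, a2⁆ with ha3
  set a4 := ⁅s, a3⁆ with ha4
  have c34 : Commute a4 a3 := commutatorElement_eq_one_iff_commute.1 (c_symm k34)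
  have cs4 : Commute s a4 := commutatorElement_eq_one_iff_commute.1 h1
  have e1 : ⁅s, a3 ^ t⁆ = a4 ^ t := by
    rw [commutatorElement_def, ← conj_pow, show s * a3 * s⁻¹ = a4 * a3 by rw [ha4, commutatorElement_def]; group,
      c34.mul_pow, mul_inv_cancel_right]
  have z4 := r.qc hq (pow_mem q4 t)
  have e2 : ⁅s, q * a3 ^ t⁆ = a2 * (⁅q, a4 ^ t⁆ * a4 ^ t) := by
    rw [← e1, ha2]; simp only [commutatorElement_def]; group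
  have e3 : ⁅s, ⁅s, q * a3 ^ t⁆⁆ = a3 := by
    have := ((r.cen z4 hs).mul_right (cs4.pow_right t)).eq
    rw [e2, ha3]
    calc _ = s * a2 * s⁻¹ * (s * (⁅q, a4 ^ t⁆ * a4 ^ t)) * s⁻¹ * (⁅q, a4 ^ t⁆ * a4 ^ t)⁻¹ * a2⁻¹ := by
          simp only [commutatorElement_def]; group
      _ = _ := by rw [this, commutatorElement_def]; group
  have hq' := mul_mem hq (pow_mem q3 t)
  have e4 : ⁅q * a3 ^ t, a4⁆ = ⁅q, a4⁆ := by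
    rw [r.mul_l hq (pow_mem q3 t) q4, commutatorElement_eq_one_iff_commute.2 (c34.symm.pow_left t), mul_one]
  obtain ⟨l13, l23, l24, l34⟩ := key _ hq' (by rw [e3]; exact h1)
  have zq' : ⁅q * a3 ^ t, ⁅s, ⁅s, ⁅s, q * a3 ^ t⁆⁆⁆⁆ ∈ zpowers z := r.qc hq' (d _ (d _ (d _ hq')))
  have l12 : ⁅q * a3 ^ t, ⁅s, q * a3 ^ t⁆⁆ = ⁅q * a3 ^ t, ⁅s, ⁅s, ⁅s, q * a3 ^ t⁆⁆⁆⁆ ^ c := by
    refine r.eq_of_ch o (r.qc hq' (d _ hq')) (zpow_mem zq' c) ?_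
    have u := mul_mem (r.ZQ z4) (pow_mem q4 t)
    have f1 : χ ⁅a3, a2⁆ = χ ⁅q, a4⁆ := by rw [← commutatorElement_inv, k23, inv_inv]
    have f2 : χ ⁅q, a4 ^ t⁆ = t * χ ⁅q, a4⁆ := by
      rw [← commutatorElement_inv, o.inv (r.qc (pow_mem q4 t) hq), r.pow_l o q4 hq, ← commutatorElement_inv,
        o.inv zq]; ring
    rw [o.zpow zq', e3, e4, e2, ad _ hq _ (pow_mem q3 t) _ (mul_mem q2 u), ad' _ q2 _ u _ hq,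
      r.pow_l o q3 (mul_mem q2 u), ad' _ q2 _ u _ q3, ad' _ (r.ZQ z4) _ (pow_mem q4 t) _ hq,
      ad' _ (r.ZQ z4) _ (pow_mem q4 t) _ q3, r.z_r z4 (r.QS hq), r.z_r z4 (r.QS q3),
      commutatorElement_eq_one_iff_commute.2 (c34.symm.pow_right t), o.one, f1, f2]
    linear_combination ht
  have h2' : ⁅q * a3 ^ t, ⁅s, ⁅s, ⁅s, q * a3 ^ t⁆⁆⁆⁆ ≠ 1 := by rw [e3, e4]; exact h2
  have h1' : ⁅s, ⁅s, ⁅s, ⁅s, q * a3 ^ t⁆⁆⁆⁆ = 1 := by rw [e3]; exact h1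
  generalize q * a3 ^ t = q' at hq' l13 l23 l24 l34 zq' l12 h2' h1'
  have j : JG p c s q' := ⟨ps, pw _ hq', pw _ (d _ hq'), pw _ (d _ (d _ hq')), pw _ (d _ (d _ (d _ hq'))),
    r.zp zq', h1', l12, l13, l23, l24, l34, r.z_r zq' hs, r.z_r zq' (r.QS hq'), r.z_r zq' (r.QS (d _ hq')),
    r.z_r zq' (r.QS (d _ (d _ hq'))), r.z_r zq' (r.QS (d _ (d _ (d _ hq'))))⟩
  refine ⟨s, q', j, h2', eq_of_le_of_card_le (pc_le.2 ?_) (by rw [j.card h2', r.card, c5, ← pow_succ])⟩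
  simp only [List.forall_mem_cons, List.not_mem_nil, false_imp_iff, imp_true_iff, and_true]
  exact ⟨hs, r.QS hq', r.QS (d _ hq'), r.QS (d _ (d _ hq')), r.QS (d _ (d _ (d _ hq'))), r.QS (r.ZQ zq')⟩

end XQ

end XE
end H24
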