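import Cfsg.Agent.H24.XE3

/-! An essential subgroup not normalizing the centre; the first case. -/

set_option autoImplicit false
set_option linter.unusedSectionVars false

namespace H24
namespace XE
open Subgroup H25 H25.FS H4 H4.P5 H4.G3 H4.Mx
open scoped commutatorElement

variable {Γ : Type*} [Group Γ] [Finite Γ] {p : ℕ} [hp : Fact p.Prime] {F : FS Γ}
variable {S Q A B C D E H K L M N U V W X Y : Subgroup Γ} {a b c d e g h k q s t u v w x y z : Γ}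

theorem conj_comm (a x y : Γ) : a⁻¹ * ⁅x, y⁆ * a = ⁅a⁻¹ * x * a, a⁻¹ * y * a⁆ := by
  simp only [commutatorElement_def]; group

theorem cz_of_one (h : ⁅x, y⁆ = 1) : x ∈ cz (zpowers y) :=
  cz_of_commute (commutatorElement_eq_one_iff_commute.1 h)

theorem cz_of_sup (hV : IsPGroup p V) (hU : U ≤ V) (hc : Nat.card V ≤ Nat.card U * p) (hx : x ∈ V)
    (h : x ∉ U) (h1 : y ∈ cz U) (h2 : y ∈ cz (zpowers x)) : y ∈ cz V := by
  rw [← eq_sup_of_card hV hU hc hx h, cz_sup]; exact ⟨h1, h2⟩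

theorem wa_zp {l : ℤ} (hk : k * z * k⁻¹ = z ^ l) (hu : u ∈ zpowers z) : Wa k ⊥ u l := by
  obtain ⟨i, rfl⟩ := hu
  exact wa_of_eq (by rw [← conj_zpow, hk, ← zpow_mul, ← zpow_mul, mul_comm])

theorem nz_zp {l : ℤ} (hk : k * z * k⁻¹ = z ^ l) : k ∈ nz (zpowers z) :=
  mem_nz_of_le (by rw [cj_zpowers, hk]; exact zpowers_le.2 (zpow_mem_zpowers z l))

theorem one_ne_neg (hp2 : p ≠ 2) : ((-1 : ℤ) : ZMod p) ≠ (1 : ℤ) := fun h =>
  two_ne hp2 (by push_cast at h; linear_combination -h)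

/-- an essential subgroup whose automorphisms move the centre -/
structure ES (F : FS Γ) (p : ℕ) (Q E : Subgroup Γ) (z : Γ) : Prop where
  sat : F.Sat p
  xq : XQ p F.S Q z
  ess : F.Ess E
  nB : ¬ F.A E ≤ nz (zpowers z)
  hx : F.Hx E ≤ nz (zpowers z)

theorem exists_ES (hF : F.Sat p) (r : XQ p F.S Q z) (h0 : F.core = ⊥) : ∃ E, ES F p Q E z := by
  have hZ : F.S ⊓ cz F.S = zpowers z := le_antisymm ((xs_center hF r.p2 h0 r.ge r.z1 r.zQ
    (fun h => (r.ab_lt r.ZQ le_rfl h).not_ge (Nat.le_mul_of_pos_right _ hp.out.pos)) r.QS r.nQ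
    r.card.le).le.trans r.zQ) (le_inf (r.ZQ.trans r.QS) r.Zc)
  have hS : F.A F.S ≤ nz (zpowers z) := fun a ha =>
    hZ ▸ mem_nz_inf (F.A_le_nz _ ha) (mem_nz_cz (F.A_le_nz _ ha))
  have hE : ∀ E, F.Ess E → zpowers z ≤ E := fun E hE =>
    (le_inf (r.ZQ.trans r.QS) (r.Zc.trans (cz_anti hE.le))).trans hE.centric.C_le
  obtain ⟨E, ⟨h1, h2⟩, h3⟩ := Set.exists_max_image {E | F.Ess E ∧ ¬ F.A E ≤ nz (zpowers z)}
    (fun E => Nat.card E) (Set.toFinite _) (by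
      by_contra hn
      refine r.z1 (mem_bot.1 (h0 ▸ Nm.le_core (hF.nm_iff_ess.2 ?_) (mem_zpowers z)))
      rintro P (rfl | hP)
      · exact ⟨r.ZQ.trans r.QS, hS⟩
      · exact ⟨hE P hP, by_contra fun h => hn ⟨P, hP, h⟩⟩)
  have key := hF.alperin (M := fun P g => Nat.card E < Nat.card P → zpowers z ≤ P → g ∈ nz (zpowers z))
    (fun P g h _ _ m1 m2 c hz => mul_mem (m2 (by rwa [card_cj])
      ((cj_eq_of_mem_nz (m1 c hz)).ge.trans (cj_mono g hz))) (m1 c hz))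
    (fun P g h _ m e c hz => (e.mono hz).mem_nz (m c hz))
    (by
      rintro P (rfl | hP) a ha R hR c -
      · exact hS ha
      · by_contra hn
        exact (c.trans_le (card_le_of_le hR)).not_ge (h3 P ⟨hP, fun h => hn (h ha)⟩))
  refine ⟨E, hF, r, h1, h2, (closure_le _).2 ?_⟩
  rintro a ⟨-, R, h, hR, H, ag⟩
  exact (ag.mono (hE E h1)).mem_nz (key R h H (H25.card_lt_of_lt hR) ((hE E h1).trans hR.le))

namespace ES
variable (o : ES F p Q E z)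
include o

theorem lc : Lc p E (F.N E) (F.A E) (nz (zpowers z)) :=
  let r := lc_of_ess o.sat o.ess
  ⟨r.pg, r.lt, r.NA, r.An, r.cA, r.syl, o.nB, fun a ha x hx hx' h => o.hx (r.hB a ha x hx hx' h)⟩

theorem pE : IsPGroup p E := o.lc.pE
theorem le : E ≤ F.S := o.ess.le
theorem zc : zpowers z ≤ cz E := o.xq.Zc.trans (cz_anti o.le)
theorem ZE : zpowers z ≤ E := (le_inf (o.xq.ZQ.trans o.xq.QS) o.zc).trans o.ess.centric.C_le
theorem vE (ha : a ∈ F.A E) : a * z * a⁻¹ ∈ E := conj_mem_of_mem_nz ha.1 (o.ZE (mem_zpowers z))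
theorem vc (ha : a ∈ F.A E) : a * z * a⁻¹ ∈ cz E := conj_mem_of_mem_nz (mem_nz_cz ha.1) (o.zc (mem_zpowers z))
theorem pv : (a * z * a⁻¹) ^ p = 1 := by rw [conj_pow, o.xq.ge.pow]; simp

theorem conjB (ha : a ∈ F.A E) (h : a ∉ nz (zpowers z)) (hx : x ∈ F.N E) (hx' : x ∉ E) :
    a⁻¹ * x * a ∉ nz (zpowers z) := fun e =>
  h (inv_mem_iff.1 (o.lc.conj (inv_mem ha) hx hx' (by rwa [inv_inv])))

theorem triv (h : a ∉ nz (zpowers z)) (hu : u ∈ zpowers z) (hu' : u ∈ zpowers (a * z * a⁻¹)) : u = 1 := by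
  by_contra hn
  refine h (inv_mem_iff.1 (mem_nz_of_le ?_))
  rw [← cj_zpowers] at hu'
  nth_rewrite 1 [← o.xq.gen hu hn]
  rw [cj_zpowers, inv_inv]
  exact zpowers_le.2 (mem_cj.1 hu')

theorem vZ (h : a ∉ nz (zpowers z)) : a * z * a⁻¹ ∉ zpowers z := fun e =>
  o.xq.z1 (by simpa using o.triv h e (mem_zpowers _))

theorem K1 (ha : a ∈ F.A E) (h : a ∉ nz (zpowers z)) (hu : u ∈ zpowers (a * z * a⁻¹)) (hu' : u ≠ 1)
    (hx : x ∈ F.S) (hc : ⁅x, u⁆ = 1) : x ∈ E := by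
  by_contra hn
  have h1 : E ≤ F.S ⊓ cz (zpowers u) :=
    le_inf o.le (le_cz_comm.1 (zpowers_le.2 (zpowers_le.2 (o.vc ha) hu)))
  obtain ⟨y, hy, y1, y2⟩ := exists_mem_nz_of_lt (o.sat.pg' inf_le_left)
    (lt_of_le_not_ge h1 fun e => hn (e ⟨hx, cz_of_one hc⟩))
  refine o.conjB ha h ⟨hy.1, y1⟩ y2 (cz_le_nz _ (mem_cz_zpowers.2 ?_))
  have := mem_cz.1 hy.2 _ (mem_zpowers_of_ne_one o.pv hu hu')
  calc _ = a⁻¹ * (y * (a * z * a⁻¹) * y⁻¹) * a := by group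
    _ = _ := by rw [this]; group

theorem v1 : a * z * a⁻¹ ≠ 1 := by simpa using o.xq.z1

theorem exE : ∃ x ∈ E, x ∉ Q := by
  by_contra! hn
  rcases (show E ≤ Q from hn).eq_or_lt with rfl | h
  · refine o.nB fun a ha => ?_
    rw [← le_antisymm o.xq.zQ (le_inf o.xq.ZQ o.zc)]
    exact mem_nz_inf ha.1 (mem_nz_cz ha.1)
  · have := o.xq.big.trans ((ess_ge o.sat o.xq.ge o.xq.QS o.ess h).2.trans (Nat.mul_le_mul_right _
      (Nat.mul_le_mul_right _ ((card_le_of_le o.xq.zQ).trans o.xq.cZ.le))))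
    rw [← pow_two, ← pow_succ, Nat.pow_le_pow_iff_right hp.out.one_lt] at this
    omega

theorem cE : Nat.card E = Nat.card (E ⊓ Q : Subgroup Γ) * p := by
  obtain ⟨x, h1, h2⟩ := o.exE
  exact le_antisymm (card_le_inf o.le o.xq.QS o.xq.card.le)
    (lt_card o.pE (lt_of_le_not_ge inf_le_left fun e => h2 (e h1).2))

theorem cm_of (h : ∀ x ∈ E, ∀ y ∈ E, ⁅x, y⁆ ∈ zpowers z) : Cm E := fun x hx y hy => by
  obtain ⟨a, ha, ha'⟩ := SetLike.not_le_iff_exists.1 o.nB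
  refine commutatorElement_eq_one_iff_mul_comm.1 (o.triv ha' (h x hx y hy) ?_)
  rw [← cj_zpowers, mem_cj, conj_comm]
  exact h _ (conj_mem_of_mem_nz' ha.1 hx) _ (conj_mem_of_mem_nz' ha.1 hy)

theorem cm_of' (hw : w ∈ E) (h : w ∉ Q) (hc : w ∈ cz E) : Cm E := by
  have e := eq_sup_of_card o.pE inf_le_left o.cE.le hw fun e => h e.2
  refine o.cm_of ?_
  nth_rewrite 1 [← e]
  nth_rewrite 2 [← e]
  exact comm_gen (e.le.trans (o.le.trans o.xq.nZ)) (fun u hu v hv => o.xq.qc hu.2 hv.2)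
    fun u hu => comm_symm (comm_one hc hu.1 ▸ one_mem _)

theorem ext (hk : k ∈ F.A E) (h : k ∈ nz (ai (F.N E) E)) : ∃ g ∈ F.A (F.N E), Agree E g k :=
  (o.sat.rec_fn o.ess.fn).ext_A hk (le_N o.le) (F.C_le_N E) le_rfl
    ((cj_mono k o.lc.N_ai).trans (cj_eq_of_mem_nz h).le)

theorem caseI (ha : a ∈ F.A E) (h : a ∉ nz (zpowers z)) (hv : a * z * a⁻¹ ∈ Q) : TA p F.S ∨ TG p F.S := by
  have r := o.xq
  have p0 := hp.out.pos
  have p1 := hp.out.one_lt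
  have vE := o.vE ha
  have vc := o.vc ha
  have K1 := fun u x => o.K1 (u := u) (x := x) ha h
  have triv := fun u => o.triv (u := u) h
  have pv : (a * z * a⁻¹) ^ p = 1 := o.pv
  have v1 : a * z * a⁻¹ ≠ 1 := o.v1
  have vZ := o.vZ h
  have cjZ : cj a (zpowers z) = zpowers (a * z * a⁻¹) := cj_zpowers a z
  have cE := o.cE
  set v := a * z * a⁻¹ with hvd
  set E0 := E ⊓ Q with hE0
  have c0 : Nat.card Q ≤ Nat.card E0 * p := (r.cz_le le_rfl hv).trans (Nat.mul_le_mul_right _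
    (card_le_of_le fun x hx => ⟨K1 v x (mem_zpowers v) v1 (r.QS hx.1) (comm_one hx.2 (mem_zpowers v)), hx.1⟩))
  obtain ⟨t, ht, ht'⟩ : ∃ t ∈ Q, t ∉ E := by
    by_contra! hn
    exact vZ (r.zQ ⟨hv, cz_anti hn vc⟩)
  have cQ : Nat.card Q = Nat.card E0 * p :=
    le_antisymm c0 (lt_card r.pQ (lt_of_le_not_ge inf_le_right fun e => ht' (e ht).1))
  have hN : F.S ≤ nz E := le_nz_of_card r.pg o.le (by rw [r.card, cE, cQ])
  have eN : F.N E = F.S := inf_eq_left.2 hN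
  have nE0 : F.S ≤ nz E0 := fun s hs => mem_nz_inf (hN hs) (r.nQ hs)
  have ZE0 : zpowers z ≤ E0 := le_inf o.ZE r.ZQ
  have nab : ¬ Cm E0 := fun h => (r.ab_lt ZE0 inf_le_right h).not_ge c0
  set E1 := cj a E0 with hE1
  have E1E : E1 ≤ E := (cj_mono a inf_le_left).trans (cj_eq_of_mem_nz ha.1).le
  have cE1 : Nat.card E ≤ Nat.card E1 * p := by rw [card_cj, cE]
  have q1 : ∀ x ∈ E1, ∀ y ∈ E1, ⁅x, y⁆ ∈ zpowers v := fun x hx y hy => by
    rw [← cjZ, mem_cj, conj_comm]; exact r.qc (mem_cj.1 hx).2 (mem_cj.1 hy).2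
  set Y := E0 ⊓ E1 with hY
  have cmY : Cm Y := fun x hx y hy =>
    commutatorElement_eq_one_iff_mul_comm.1 (triv _ (r.qc hx.1.2 hy.1.2) (q1 x hx.2 y hy.2))
  have YQ : Y ≤ Q := inf_le_left.trans inf_le_right
  have cY0 : Nat.card E0 ≤ Nat.card Y * p := card_le_inf inf_le_left E1E cE1
  have cY1 : Nat.card E1 ≤ Nat.card Y * p := by rw [card_cj]; exact cY0
  have cYZ := r.ab_le (X := Y ⊔ zpowers z) le_sup_right (sup_le YQ r.ZQ)
    (cm_sup_zpowers (cm_iff.1 cmY) (cz_anti (YQ.trans r.QS) r.zS))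
  have c1 := card_le_of_le (le_sup_left : Y ≤ Y ⊔ zpowers z)
  have y0 : 0 < Nat.card Y := Nat.card_pos
  have c2 : Nat.card Y ≤ p ^ 3 := Nat.le_of_mul_le_mul_left (calc
    _ ≤ Nat.card Q * p := (Nat.mul_le_mul c1 c1).trans cYZ
    _ ≤ Nat.card Y * p * p * p := by rw [cQ]; gcongr
    _ = _ := by ring) y0
  have c4 : Nat.card E0 = p ^ 4 := le_antisymm (cY0.trans (Nat.mul_le_mul_right _ c2))
    (Nat.le_of_mul_le_mul_right (cQ ▸ r.big) p0)
  have c5 : Nat.card Q = p ^ 5 := by rw [cQ, c4, ← pow_succ]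
  have c3 : Nat.card Y = p ^ 3 := le_antisymm c2 (Nat.le_of_mul_le_mul_right (c4.ge.trans cY0) p0)
  have ZY : zpowers z ≤ Y := le_sup_right.trans (eq_of_le_of_card_le le_sup_left (by
    rw [c3]; rw [c5] at cYZ; exact Nat.mul_self_le_mul_self_iff.1 (cYZ.trans_eq (by ring)))).ge
  set V := zpowers z ⊔ zpowers v with hV
  have Vc : V ≤ cz E := sup_le o.zc (zpowers_le.2 vc)
  have VY : V ≤ Y := sup_le ZY (zpowers_le.2 ⟨⟨vE, hv⟩, conj_mem_cj a (ZE0 (mem_zpowers z))⟩)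
  have cV : Nat.card V = p * p := by
    rw [hV, card_sup_zpowers_prime hp.out (r.nZ' hv) vZ (pv ▸ one_mem _), r.cZ]
  have eV0 : Q ⊓ cz E0 ≤ V := (eq_of_le_of_card_le (le_inf (VY.trans YQ) (Vc.trans (cz_anti inf_le_left)))
    (Nat.le_of_mul_le_mul_right (by rw [r.dual ZE0 inf_le_right, cQ, cV]; exact le_of_eq (by ring))
      (Nat.card_pos (α := E0)))).ge
  have eV : E ⊓ cz E = V := le_antisymm (fun w hw => eV0 ⟨by_contra fun hn =>
    nab ((o.cm_of' hw.1 hn hw.2).mono inf_le_left), cz_anti inf_le_left hw.2⟩)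
    (le_inf (VY.trans (inf_le_left.trans inf_le_left)) Vc)
  have nV : F.A E ≤ nz V := fun b hb => eV ▸ mem_nz_inf hb.1 (mem_nz_cz hb.1)
  have F2 : ∀ y ∈ Y, y ∉ V → ∀ u ∈ E0, ⁅y, u⁆ = 1 → u ∈ Y := fun y hy hy' u hu e => by_contra fun hn =>
    hy' (eV0 ⟨YQ hy, cz_of_sup (r.pQ.to_le inf_le_right) inf_le_left cY0 hu hn (cm_iff.1 cmY hy) (cz_of_one e)⟩)
  have F2' : ∀ y ∈ Y, y ∉ V → ∀ u ∈ E1, ⁅y, u⁆ = 1 → u ∈ Y := fun y hy hy' u hu e => by_contra fun hn =>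
    hy' (by
      have := cz_of_sup (o.pE.to_le E1E) inf_le_right cY1 hu hn (cm_iff.1 cmY hy) (cz_of_one e)
      rw [hE1, ← cj_cz] at this
      rw [← cj_eq_of_mem_nz (nV ha)]
      exact mem_cj.2 (eV0 ⟨(mem_cj.1 hy.2).2, mem_cj.1 this⟩))
  obtain ⟨y, hy, hy'⟩ : ∃ y ∈ Y, y ∉ V := exi_of_card (by rw [c3, cV]; nlinarith)
  have key : ∀ s ∈ E1, s ∉ Y → ∀ t ∈ Q, t ∉ E → ⁅s, t⁆ ∉ Y := fun s hs hs' t ht ht' e => by
    have f := r.inv_form (o.le (E1E hs)) (YQ hy) ht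
    have f1 := q1 s hs y hy.2
    rw [comm_one (zpowers_le.2 vc f1) e.1.1, cmY.comm hy e, one_mul, mul_one] at f
    exact ht' (K1 _ t f1 (fun e => hs' (F2' y hy hy' s hs (c_symm e))) (r.QS ht) (c_symm f))
  have cc : ∀ s ∈ E1, s ∉ Y → Nat.card (r.CC s) * p < Nat.card Q := fun s hs hs' =>
    (lt_card (r.pQ.to_le inf_le_right) (lt_of_le_not_ge
      (fun x hx => ⟨by_contra fun hn => key s hs hs' x hx.1 hn (ZY hx.2), hx.1⟩ : r.CC s ≤ E0)
      fun e => hs' (F2' y hy hy' s hs (c_symm (triv _ (e hy.1).2 (q1 s hs y hy.2)))))).trans_lt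
      (cQ ▸ lt_mul_of_one_lt_right Nat.card_pos p1)
  obtain ⟨s, hs, hs'⟩ : ∃ s ∈ E1, s ∉ Y := exi_of_card (by
    rw [card_cj, c3, c4]; exact Nat.pow_lt_pow_right p1 (by norm_num))
  have sS := o.le (E1E hs)
  have e0 : ⁅s, t⁆ ∈ E0 := ⟨comm_mem_l (E1E hs) (hN (r.QS ht)), r.cm sS (r.QS ht)⟩
  have es : Y ⊔ zpowers ⁅s, t⁆ = E0 :=
    eq_sup_of_card (r.pQ.to_le inf_le_right) inf_le_left cY0 e0 (key s hs hs' t ht ht')
  have pw0 : ∀ x ∈ E0, x ^ p = 1 := fun x hx => r.pw_sup YQ (fun y hy => triv _ (r.ge.pw y (YQ hy)) (by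
    rw [← cjZ, mem_cj, show a⁻¹ * y ^ p * a = (a⁻¹ * y * a) ^ p by simpa using (conj_pow (a := a⁻¹)).symm]
    exact r.ge.pw _ (mem_cj.1 hy.2).2)) e0.2 (r.pw_comm sS ht) x (es.ge hx)
  have pw1 : ∀ x ∈ E1, x ^ p = 1 := cj_pw pw0
  have tN : t ∈ F.N E := eN ▸ r.QS ht
  have tA := F.N_le_A E tN
  have pwQ : ∀ x ∈ Q, x ^ p = 1 := by
    have tz := mem_cz.1 (r.cZ' (r.QS ht)) z (mem_zpowers z)
    obtain ⟨τ, hτ, t1, t2⟩ := mx_torus (K := F.A E) (x := t) (y := a * t * a⁻¹) (l := -1) (m := -1)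
      (r.cen (mem_zpowers z) (r.QS hv)).symm r.ge.pow pv tA (mul_mem (mul_mem ha tA) (inv_mem ha)) tz
      (r.qc ht hv) (fun e => ht' (K1 v t (mem_zpowers v) v1 (r.QS ht) (mul_inv_eq_one.2 e)))
      (by calc _ = a * (t * z * t⁻¹) * a⁻¹ := by rw [hvd]; group
        _ = _ := by rw [tz])
      (by rw [← cjZ, mem_cj]
          convert r.qc ht (mem_cj.1 (ZY (mem_zpowers z)).2).2 using 1
          simp only [commutatorElement_def]; group)
      (fun e => ht' (o.K1 (inv_mem ha) (mt inv_mem_iff.1 h) (mem_zpowers _) o.v1 (r.QS ht) (by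
        calc _ = a⁻¹ * (a * t * a⁻¹ * z * (a * t * a⁻¹)⁻¹ * z⁻¹) * a := by
              simp only [commutatorElement_def]; group
          _ = _ := by rw [e]; group))) (by simp)
    have iv : ∀ w ∈ V, τ * w * τ⁻¹ = w⁻¹ := fun w hw => by
      obtain ⟨_, ⟨i, rfl⟩, _, ⟨j, rfl⟩, rfl⟩ := (mem_sup_of_le_nz_left (zpowers_le.2 (r.nZ' hv))).1 hw
      have := (((r.cen (mem_zpowers z) (r.QS hv)).zpow_left j).zpow_right i).eq
      simp only
      rw [← this, mul_inv_rev, this, ← conj_mul, ← conj_zpow, ← conj_zpow, t1, t2]; group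
    have n1 : F.A E ≤ nz (F.A E ⊓ cz V) := fun b hb => mem_nz_inf (le_nz_self _ hb) (mem_nz_cz (nV hb))
    have cN : Nat.card (F.N E) ≤ Nat.card E * p := by rw [eN, r.card, cE, cQ]
    obtain ⟨k, hk, k1⟩ := (o.lc.l1 cN).frat' inf_le_left (o.lc.syl.le.trans n1) hτ
      (nz_of_conj o.lc cN hτ.1 (n1 hτ) tN ht' (by
        rw [show τ * t * τ⁻¹ = ⁅τ, t⁆ * t by simp only [commutatorElement_def]; group]
        refine mul_mem (mem_sup_left ⟨comm_mem_l hτ (le_nz_self _ tA), mem_cz.2 fun w hw => ?_⟩)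
          (mem_sup_right (o.lc.N_ai tN))
        have f1 := iv _ (inv_mem (conj_mem_of_mem_nz' (nV hτ) (conj_mem_of_mem_nz' (nV tA) hw)))
        have f2 := iv _ (inv_mem hw)
        calc _ = τ * (t * (τ⁻¹ * (t⁻¹ * w * t) * τ)⁻¹⁻¹ * t⁻¹) * τ⁻¹ := by
              simp only [commutatorElement_def]; group
          _ = τ * w⁻¹ * τ⁻¹ := by rw [← f1]; group
          _ = _ := by rw [f2, inv_inv]))
    obtain ⟨g, hg, ag⟩ := o.ext (mul_mem hk.1 hτ) k1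
    rw [eN] at hg
    have iv' : ∀ w ∈ V, g * w * g⁻¹ = w ^ (-1 : ℤ) := fun w hw => by
      rw [ag w (eV.ge hw).1, zpow_neg_one, ← mem_cz.1 hk.2 _ (inv_mem hw), ← iv w hw]; group
    have g1 := iv' z (mem_sup_left (mem_zpowers z))
    have g2 := iv' v (mem_sup_right (mem_zpowers v))
    have gQ := r.nzQ sS (cc s hs hs') hg.1 (nz_zp g1)
    obtain ⟨i, hi⟩ := exists_wa r.pQ gQ (r.QS.trans nE0) inf_le_right le_rfl c0 ht (fun e => ht' e.1)
      (conj_mem_of_mem_nz gQ ht)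
    have zt := r.qc ht hv
    have e1 := (hi.comm gQ bot_le (le_nz_bot _) ht hv (wa_of_eq g2) (fun g hg => r.z_l zt (r.QS hg))
      (fun u hu => g2 ▸ c_symm (comm_one (zpow_mem vc _) hu.1)) fun u hu => by simp [mem_bot.1 hu]).eq gQ
      bot_le (le_nz_bot _) (r.ZQ zt) (wa_zp g1 zt)
      (fun e => ht' (K1 v t (mem_zpowers v) v1 (r.QS ht) e)) (r.zp zt)
    rw [← eq_sup_of_card r.pQ inf_le_right c0 ht fun e => ht' e.1]
    refine r.pw_sup inf_le_right pw0 ht (r.exp_of_wt g1 ht inf_le_right pw0 hi ?_)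
    rw [show (i : ZMod p) = (1 : ℤ) by push_cast at e1 ⊢; linear_combination -e1]
    exact one_ne_neg r.p2
  have q3 : ⁅s, ⁅s, t⁆⁆ ∈ Y := ⟨comm_mem_r (nE0 sS) e0,
    comm_mem_l hs (le_nz_of_card o.pE E1E cE1 e0.1)⟩
  by_cases hq : ⁅s, ⁅s, t⁆⁆ ∈ V
  swap
  · have f := q1 s hs _ q3.2
    exact .inr (r.typeG c5 pwQ sS (pw1 s hs) ht (c_symm (comm_one (zpowers_le.2 vc f) (E1E hs)))
      fun e => ht' (K1 _ t f (fun e => hs' (F2' _ q3 hq s hs (c_symm e))) (r.QS ht) e))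
  obtain ⟨C, C1, C2, C3⟩ := card_le_cm (p := p) (x := s) (X := E0) (W := zpowers z) (fun x hx => cm_gen
    (es.le.trans ((inf_le_left.trans o.lc.lt.le).trans (o.lc.NA.trans nV)))
    (fun u hu => mem_sup_right (q1 s hs u hu.2)) hq x (es.ge hx)) (Vc.trans (cz_anti inf_le_left)) le_sup_left
    (by rw [cV, r.cZ])
  obtain ⟨e, he, he'⟩ : ∃ e ∈ C, e ∉ V := exi_of_card (lt_of_mul_lt_mul_right (lt_of_lt_of_le (by
    rw [cV, c4]; nlinarith [Nat.mul_pos p0 (Nat.mul_pos p0 p0)]) C2) p0.le)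
  have e0' := C1 he
  have eZ := (C3 e e0').1 he
  obtain ⟨j, hj⟩ := adj r.ge.pow (r.qc (YQ hy) e0'.2) eZ (r.cen (mem_zpowers z) (r.QS (YQ hy)))
    (r.cen (mem_zpowers z) sS) fun f => hs' (by
      have eY := F2 y hy hy' e e0' (commutatorElement_eq_one_iff_mul_comm.2 f)
      exact F2' e eY he' s hs (c_symm (triv _ eZ (q1 s hs e eY.2))))
  have hs1 : s * y ^ j ∈ E1 := mul_mem hs (E1.zpow_mem hy.2 j)
  have hs2 : s * y ^ j ∉ Y := fun e => hs' ((mul_mem_cancel_right (zpow_mem hy j)).1 e)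
  generalize s * y ^ j = s' at hj hs1 hs2
  have VE : V ≤ E := eV.ge.trans inf_le_left
  have W0 : V ⊔ zpowers e ≤ E0 := sup_le (VY.trans inf_le_left) (zpowers_le.2 e0')
  have ec : e ∈ cz V := le_cz_comm.1 Vc e0'.1
  have sc : s' ∈ cz (V ⊔ zpowers e) := by
    rw [cz_sup]; exact ⟨le_cz_comm.1 Vc (E1E hs1), cz_of_commute hj⟩
  have cW0 : Nat.card (V ⊔ zpowers e : Subgroup Γ) = p * p * p := by
    rw [card_sup_zpowers_prime hp.out (cz_le_nz _ ec) he' (pw0 e e0' ▸ one_mem _), cV]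
  have cmW := cm_sup_zpowers (cm_iff.1 (cm_sup_zpowers (Vc.trans (cz_anti VE)) ec)) sc
  have cW := card_sup_zpowers_prime hp.out (cz_le_nz _ sc) (fun e => hs2 ⟨W0 e, hs1⟩) (pw1 s' hs1 ▸ one_mem _)
  have WE : V ⊔ zpowers e ⊔ zpowers s' ≤ E := sup_le (W0.trans inf_le_left) (zpowers_le.2 (E1E hs1))
  have sW : s' ∈ V ⊔ zpowers e ⊔ zpowers s' := mem_sup_right (mem_zpowers s')
  set W := V ⊔ zpowers e ⊔ zpowers s'
  have cEW : Nat.card E ≤ Nat.card W * p := by rw [cE, cW, cW0, c4]; exact le_of_eq (by ring)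
  have nW : F.S ≤ nz W := fun g hg => by
    by_contra hn
    obtain ⟨w, hw, hw'⟩ := SetLike.not_le_iff_exists.1 fun e => hn (mem_nz_of_le e)
    have l : cj g W ≤ E := (cj_mono g WE).trans (cj_eq_of_mem_nz (hN hg)).le
    have c := (card_le_inf l WE cEW).trans (Nat.mul_le_mul_right _ (card_le_of_le (K := V) fun x hx =>
      eV.le ⟨WE hx.2, cz_of_sup o.pE WE cEW (l hw) hw' (cm_iff.1 cmW hx.2)
        (cz_anti (zpowers_le.2 hw) (cj_cz g W ▸ cj_mono g (cm_iff.1 cmW) hx.1))⟩))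
    rw [card_cj, cW, cW0, cV] at c
    nlinarith [Nat.mul_pos p0 (Nat.mul_pos p0 p0)]
  have d : ∀ x ∈ Q, ⁅s', x⁆ ∈ W := fun x hx => comm_mem_l sW (nW (r.QS hx))
  refine .inl (r.typeA c5 pwQ (o.le (E1E hs1)) (pw1 s' hs1) (fun x hx => cmW.comm sW (d x hx))
    (fun x hx y hy => cmW.comm (d x hx) (d y hy)) (cc s' hs1 hs2) ?_)
  have := card_le_of_le (show V ⊔ zpowers e ≤ r.CC s' from fun x hx =>
    r.mem_CC.2 ⟨(W0 hx).2, comm_one sc hx ▸ one_mem _⟩)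
  rw [c5, show p ^ 5 = p * p * p * p * p by ring, ← cW0]
  gcongr

end ES

end XE
end H24
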