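import Cfsg.Agent.H24.XE4

/-! The second case: an elementary abelian essential subgroup of index `p`. -/

set_option autoImplicit false
set_option linter.unusedSectionVars false

namespace H24
namespace XE
open Subgroup H25 H25.FS H4 H4.P5 H4.G3 H4.Mx
open scoped commutatorElement

variable {Γ : Type*} [Group Γ] [Finite Γ] {p : ℕ} [hp : Fact p.Prime] {F : FS Γ}
variable {S Q A B C D E H K L M N O U V W X Y : Subgroup Γ} {a b e g k q s t u v w x y z : Γ}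

theorem comm_mul (v s t : Γ) : ⁅v, s * t⁆ = ⁅v, s⁆ * ⁅s, ⁅v, t⁆⁆ * ⁅v, t⁆ := by
  simp only [commutatorElement_def]; group

theorem conj_eq (v t : Γ) : t * v * t⁻¹ = ⁅v, t⁆⁻¹ * v := by simp only [commutatorElement_def]; group

/-- no conjugate of the centre lies in `Q` -/
structure E2 (F : FS Γ) (p : ℕ) (Q E : Subgroup Γ) (z : Γ) : Prop extends ES F p Q E z where
  out : ∀ a ∈ F.A E, a ∉ nz (zpowers z) → a * z * a⁻¹ ∉ Q

namespace E2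
variable (o : E2 F p Q E z)
include o

theorem cm : Cm E := by
  obtain ⟨a, ha, h⟩ := SetLike.not_le_iff_exists.1 o.nB
  exact o.cm_of' (o.vE ha) (o.out a ha h) (o.vc ha)

theorem nE (hU : U ≤ E) (hx : x ∈ E) : x ∈ nz U := cz_le_nz _ (cz_anti hU (cm_iff.1 o.cm hx))

theorem sup (hx : x ∈ E) (h : x ∉ Q) : E ⊓ Q ⊔ zpowers x = E :=
  eq_sup_of_card o.pE inf_le_left o.cE.le hx fun e => h e.2

theorem pw (hx : x ∈ E) : x ^ p = 1 := by
  obtain ⟨a, ha, h⟩ := SetLike.not_le_iff_exists.1 o.nB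
  have key : ∀ x ∈ E, x ^ p ∈ zpowers z := fun x hx => by
    obtain ⟨e, he, k, rfl⟩ := (mem_sup_zpowers' (o.nE inf_le_left (o.vE ha))).1
      ((o.sup (o.vE ha) (o.out a ha h)).ge hx)
    rw [Commute.mul_pow (o.cm _ he.1 _ (pow_mem (o.vE ha) k)), ← pow_mul, mul_comm k, pow_mul, o.pv, one_pow,
      mul_one]
    exact o.xq.ge.pw e he.2
  refine o.triv h (key x hx) ?_
  rw [← cj_zpowers, mem_cj, show a⁻¹ * x ^ p * a = (a⁻¹ * x * a) ^ p by simpa using (conj_pow (a := a⁻¹)).symm]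
  exact key _ (conj_mem_of_mem_nz' ha.1 hx)

theorem cs (hU : U ≤ E) (hx : x ∈ E) : Nat.card (U ⊔ zpowers x : Subgroup Γ) ≤ Nat.card U * p :=
  card_zp_le (X := ⊥) .of_bot (o.nE hU hx) (o.pw hx ▸ one_mem _)

theorem Z0 : zpowers z ≤ E ⊓ Q := le_inf o.ZE o.xq.ZQ

theorem tan (ha : a ∈ F.A E) (hb : b ∈ F.A E) (h : b * z * b⁻¹ ∈ cj a (E ⊓ Q)) : a⁻¹ * b ∈ nz (zpowers z) :=
  by_contra fun hn => o.out _ (mul_mem (inv_mem ha) hb) hn (by simpa [mul_assoc] using (mem_cj.1 h).2)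

theorem le_CC (hv : v ∈ E) : E ⊓ Q ≤ o.xq.CC v := fun _ hx => ⟨hx.2, o.cm.comm hv hx.1 ▸ one_mem _⟩

theorem cjE (ha : a ∈ F.A E) (hU : U ≤ E) : cj a U ≤ E := (cj_mono a hU).trans (cj_eq_of_mem_nz ha.1).le

theorem tv (ht : t ∈ F.N E) (ht' : t ∉ E) (hX : X ≤ E) (c : Nat.card E ≤ Nat.card X * p) (h1 : t ∈ cz X)
    (hv : v ∈ E) (h2 : v ∉ X) (h3 : w ∈ X) (h4 : ⁅t, v⁆ ∈ zpowers w) :
    G3.TV p E (F.N E) (F.A E) (nz (zpowers z)) X w t :=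
  ⟨o.lc, o.cm, fun _ => o.pw, hX, c, ht, ht', h1, h3, fun y hy =>
    cm_gen (U := X) (c := v) (fun u hu => o.nE (zpowers_le.2 (hX h3)) (sup_le hX (zpowers_le.2 hv) hu))
      (fun u hu => comm_one h1 hu ▸ one_mem _) h4 y ((eq_sup_of_card o.pE hX c hv h2).ge hy)⟩

end E2

/-- moreover no transvection with centre `z` -/
structure E3 (F : FS Γ) (p : ℕ) (Q E : Subgroup Γ) (z : Γ) : Prop extends E2 F p Q E z where
  cc : ∀ a ∈ F.A E, a ∉ nz (zpowers z) → ∀ x ∈ Q, ⁅a * z * a⁻¹, x⁆ ∈ zpowers z → x ∈ E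

namespace E3
variable (o : E3 F p Q E z)
include o

theorem mx : Q ⊓ cz (E ⊓ Q) ≤ E := by
  by_contra hn
  have r := o.xq
  obtain ⟨a, ha, h⟩ := SetLike.not_le_iff_exists.1 o.nB
  obtain ⟨u, hu, u1, u2⟩ := exists_mem_nz_of_not_le r.pg o.le (inf_le_left.trans r.QS) (fun x hx =>
    mem_nz_inf (r.nQ (o.le hx)) (mem_nz_cz (o.nE inf_le_left hx))) hn
  have uN : u ∈ F.N E := ⟨r.QS hu.1, u1⟩
  have hw : ⁅u, a * z * a⁻¹⁆ ∈ E ⊓ Q := ⟨comm_mem_r u1 (o.vE ha), r.cm uN.1 (o.le (o.vE ha))⟩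
  have hw' : ⁅u, a * z * a⁻¹⁆ ∉ zpowers z := fun e => u2 (o.cc a ha h u hu.1 (comm_symm e))
  have tv := o.tv uN u2 inf_le_left o.cE.le hu.2 (o.vE ha) (fun e => o.out a ha h e.2) hw (mem_zpowers _)
  generalize ⁅u, a * z * a⁻¹⁆ = w at hw hw' tv
  obtain ⟨e, -, -, τ, hτ, -, t0, t1, -, t2, t3⟩ := tv.torus (K := ⊤) ha h trivial trivial (l := -1) (m := -1)
    (by simp)
  have τB := o.lc.hB τ hτ u uN u2 (t3.mem_ai (zpow_mem (o.lc.N_ai uN) _))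
  have z0 := o.Z0 (mem_zpowers z)
  have e1 : ⁅τ, z⁆ = 1 := by_contra fun e => hw' (zpowers_le.2 (comm_mem_r τB (mem_zpowers z))
    (mem_zpowers_of_ne_one (o.pw hw.1) (comm_of_stab t2 z0) e))
  obtain ⟨x, hx, _, ⟨j, rfl⟩, e2⟩ := (mem_sup_of_le_nz_left (zpowers_le.2 (o.nE
    (inf_le_left.trans inf_le_left) hw.1))).1 ((tv.X_eq ha (tv.not_mem ha h).2).ge z0)
  have e3 : (w ^ j) ^ 2 = 1 := by
    have f := mem_cz.1 t0 x hx
    calc _ = x⁻¹ * (x * w ^ j) * (τ * x * τ⁻¹ * (τ * w * τ⁻¹) ^ j)⁻¹ * x := by rw [f, t1]; group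
      _ = x⁻¹ * ⁅τ, z⁆⁻¹ * x := by rw [← e2, conj_zpow]; simp only [commutatorElement_def]; group
      _ = _ := by rw [e1]; group
  have e4 : w ^ j = 1 := (pow_eq_one_iff_of_coprime ((Nat.coprime_primes Nat.prime_two hp.out).2
    r.p2.symm)).1 ⟨e3, o.pw (E.zpow_mem hw.1 j)⟩
  simp only [e4, mul_one] at e2
  exact h (by simpa using inv_mem (o.tan ha (one_mem _) (by simpa using e2 ▸ hx.2)))

theorem dd (ha : a ∈ F.A E) (hq : q ∈ Q) : ⁅a * z * a⁻¹, q⁆ ∈ E ⊓ Q :=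
  let h := o.xq.d_cz (o.le (o.vE ha)) hq
  ⟨o.mx ⟨h.1, cz_anti (o.le_CC (o.vE ha)) h.2⟩, h.1⟩

theorem QN : Q ≤ F.N E := fun q hq => ⟨o.xq.QS hq, by
  obtain ⟨a, ha, h⟩ := SetLike.not_le_iff_exists.1 o.nB
  have e := o.sup (o.vE ha) (o.out a ha h)
  exact nz_of_comm fun y hy => cm_gen (e.le.trans (le_nz_self E))
    (fun u hu => o.ZE (o.xq.qc hq hu.2)) (comm_symm (o.dd ha hq).1) y (e.ge hy)⟩

theorem QB : Q ≤ nz (zpowers z) := o.xq.nZ'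
theorem QA : Q ≤ F.A E := o.QN.trans (F.N_le_A E)

theorem eN : F.N E = F.S := by
  obtain ⟨x, h1, h2⟩ := o.exE
  exact le_antisymm inf_le_left ((o.xq.sup (o.le h1) h2).ge.trans
    (sup_le o.QN (zpowers_le.2 (o.lc.lt.le h1))))

theorem eC (ha : a ∈ F.A E) (h : a ∉ nz (zpowers z)) : o.xq.CC (a * z * a⁻¹) = E ⊓ Q :=
  le_antisymm (fun x hx => ⟨o.cc a ha h x hx.1 hx.2, hx.1⟩) (o.le_CC (o.vE ha))

theorem dual (ha : a ∈ F.A E) (h : a ∉ nz (zpowers z)) (he : e ∈ E ⊓ Q) :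
    ∃ q ∈ Q, (⁅a * z * a⁻¹, q⁆)⁻¹ * e ∈ zpowers z :=
  o.xq.dual2 (o.le (o.vE ha)) ⟨he.2, o.eC ha h ▸ cz_anti inf_le_left (cm_iff.1 o.cm he.1)⟩

theorem lt0 : Nat.card (E ⊓ Q : Subgroup Γ) * p < Nat.card Q :=
  o.xq.ab_lt o.Z0 inf_le_right (o.cm.mono inf_le_left)

theorem quad (ha : a ∈ F.A E) (h : a ∉ nz (zpowers z)) {χ : Γ → ZMod p} (r : Ch p E (cj a (E ⊓ Q)) χ) :
    Nat.card Q ≤ Nat.card (E ⊓ Q : Subgroup Γ) * p * p ∧ ∀ c, ∃ t ∈ Q, χ ⁅a * z * a⁻¹, t⁆ = c := by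
  have x := o.xq
  have vE := o.vE ha
  have z1 : ∀ s ∈ Q, ∀ t ∈ Q, ⁅s, ⁅a * z * a⁻¹, t⁆⁆ ∈ E := fun s hs t ht => o.ZE (x.qc hs (o.dd ha ht).2)
  refine qf (β := fun s t => χ ⁅s, ⁅a * z * a⁻¹, t⁆⁆) x.p2 x.pQ inf_le_right
    (fun s hs t ht => o.Z0 (x.qc hs ht)) (fun s hs => o.Z0 (x.ge.pw s hs)) (fun s hs t ht => ?_)
    (fun s hs s' hs' t ht => ?_) (fun s hs t ht => ?_) (fun t ht => ⟨fun e => ⟨by_contra fun hn => ?_, ht⟩,
      fun e => ?_⟩) (fun e he t ht => ?_) o.lt0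
  · rw [comm_mul, r.add _ (mul_mem (o.dd ha hs).1 (z1 s hs t ht)) _ (o.dd ha ht).1,
      r.add _ (o.dd ha hs).1 _ (z1 s hs t ht)]; ring
  · rw [x.mul_l hs hs' (o.dd ha ht).2, r.add _ (z1 s hs t ht) _ (z1 s' hs' t ht)]
  · have := x.inv_form (o.le vE) hs ht
    rw [o.cm.comm (o.dd ha hs).1 (o.dd ha ht).1, one_mul, mul_eq_one_iff_inv_eq, commutatorElement_inv] at this
    rw [this]
  · refine o.conjB ha h (o.QN ht) hn (mul_assoc a⁻¹ t a ▸ o.tan ha (mul_mem (o.QA ht) ha) ?_)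
    rw [show t * a * z * (t * a)⁻¹ = t * (a * z * a⁻¹) * t⁻¹ by group, conj_eq]
    exact mul_mem (inv_mem (r.mem (o.dd ha ht).1 e)) (conj_mem_cj a (o.Z0 (mem_zpowers z)))
  · rw [o.cm.comm vE e.1, r.one]
  · rw [o.cm.comm he.1 (o.dd ha ht).1, r.one]

theorem exc (ha : a ∈ F.A E) : ∃ χ, Ch p E (cj a (E ⊓ Q)) χ :=
  exists_ch o.pE (o.cjE ha inf_le_left) (by rw [card_cj, o.cE])

theorem cards : Nat.card Q = p ^ 5 ∧ Nat.card (E ⊓ Q : Subgroup Γ) = p ^ 3 := by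
  obtain ⟨a, ha, h⟩ := SetLike.not_le_iff_exists.1 o.nB
  obtain ⟨χ, r⟩ := o.exc ha
  have c1 := (o.quad ha h r).1
  have c2 := o.xq.dual o.Z0 inf_le_right
  rw [show Q ⊓ cz (E ⊓ Q) = E ⊓ Q from le_antisymm (le_inf o.mx inf_le_left)
    (le_inf inf_le_right ((cm_iff.1 (o.cm.mono inf_le_left))))] at c2
  have c3 : Nat.card (E ⊓ Q : Subgroup Γ) ≤ p ^ 3 := Nat.le_of_mul_le_mul_left
    (c2.le.trans ((Nat.mul_le_mul_right p c1).trans_eq (by ring))) Nat.card_pos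
  have c4 : Nat.card Q = p ^ 5 := le_antisymm (c1.trans ((Nat.mul_le_mul_right p
    (Nat.mul_le_mul_right p c3)).trans_eq (by ring))) o.xq.big
  exact ⟨c4, Nat.mul_self_inj.1 (by rw [c2, c4]; ring)⟩

/-- a single orbit -/
theorem so (ha : a ∈ F.A E) (h : a ∉ nz (zpowers z)) (hb : b ∈ F.A E) (h' : b ∉ nz (zpowers z)) :
    ∃ s ∈ Q, a⁻¹ * (s * b) ∈ nz (zpowers z) := by
  obtain ⟨χ, r⟩ := o.exc ha
  have vE := o.vE ha
  obtain ⟨n, hn⟩ := adj_pow o.pE inf_le_left o.cE.le (o.vE hb) (fun e => o.out b hb h' e.2) (inv_mem vE)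
  obtain ⟨q, hq, hu⟩ := o.dual ha h (inv_mem hn)
  obtain ⟨t, ht, e⟩ := (o.quad ha h r).2 (-χ (⁅a * z * a⁻¹, q⁆⁻¹ * ((a * z * a⁻¹)⁻¹ * (b * z * b⁻¹) ^ n)⁻¹))
  have hs := mul_mem ht (inv_mem hq)
  refine ⟨_, hs, o.tan ha (mul_mem (o.QA hs) hb) ?_⟩
  have n1 : (b * z * b⁻¹) ^ n ≠ 1 := fun e => o.out a ha h (by simpa [e] using Q.inv_mem hn.2)
  have v0 := r.zero vE (conj_mem_cj a (o.Z0 (mem_zpowers z)))
  have d1 := (o.dd ha ht).1
  have c1 := o.cm _ vE _ (E.inv_mem (o.dd ha hq).1)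
  have d2 := (o.dd ha hq).2
  generalize a * z * a⁻¹ = v at *
  set u := ⁅v, q⁆⁻¹ * (v⁻¹ * (b * z * b⁻¹) ^ n)⁻¹ with hud
  have c2 := (o.xq.cen hu (o.xq.QS hs)).inv_inv.eq
  have c3 := (o.xq.cen hu (o.xq.QS d2)).inv_inv.eq
  have e0 : (b * z * b⁻¹) ^ n = q * v * q⁻¹ * u⁻¹ := by
    calc _ = v * (u⁻¹ * ⁅v, q⁆⁻¹) := by rw [hud]; group
      _ = _ := by rw [← c3, ← mul_assoc, c1, conj_eq]
  have e1 : t * q⁻¹ * (b * z * b⁻¹) ^ n * (t * q⁻¹)⁻¹ = ⁅v, t⁆⁻¹ * v * u⁻¹ := by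
    rw [e0, ← mul_assoc, mul_assoc _ u⁻¹, ← c2, ← conj_eq]; group
  have e2 : t * q⁻¹ * (b * z * b⁻¹) ^ n * (t * q⁻¹)⁻¹ ∈ cj a (E ⊓ Q) := by
    have uE := inv_mem (o.ZE hu)
    rw [e1]
    refine r.mem (mul_mem (mul_mem (inv_mem d1) vE) uE) ?_
    rw [r.add _ (mul_mem (inv_mem d1) vE) _ uE, r.add _ (inv_mem d1) _ vE, r.inv d1, r.inv (o.ZE hu), e, v0]
    ring
  have := conj_mem_cj (t * q⁻¹) (mem_zpowers_of_ne_one o.pv (npow_mem_zpowers _ n) n1)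
  rw [cj_zpowers] at this
  convert zpowers_le.2 e2 this using 1
  group

theorem nz0 (hb : b ∈ F.A E) (h' : b ∈ nz (zpowers z)) : b ∈ nz (E ⊓ Q) := by
  by_contra hn
  obtain ⟨a, ha, h⟩ := SetLike.not_le_iff_exists.1 o.nB
  obtain ⟨χ, r⟩ := o.exc hb
  have zH : zpowers z ≤ cj b (E ⊓ Q) := (cj_eq_of_mem_nz h').ge.trans (cj_mono b o.Z0)
  obtain ⟨e, he, he'⟩ := SetLike.not_le_iff_exists.1 fun e : E ⊓ Q ≤ cj b (E ⊓ Q) =>
    hn (mem_nz.2 (eq_of_le_of_card_le e (card_cj b _).le).symm)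
  obtain ⟨q, hq, hu⟩ := o.dual ha h he
  have ne := r.ne (o.dd ha hq).1 fun f => he' ((mul_mem_cancel_left (inv_mem f)).1 (zH hu))
  have lin : ∀ n : ℕ, χ ⁅a * z * a⁻¹, q ^ n⁆ = n * χ ⁅a * z * a⁻¹, q⁆ := fun n => by
    induction n with
    | zero => simp [r.one]
    | succ n ih =>
      have z1 := o.xq.qc (pow_mem hq n) (o.dd ha hq).2
      rw [pow_succ, comm_mul, r.add _ (mul_mem (o.dd ha (pow_mem hq n)).1 (o.ZE z1)) _ (o.dd ha hq).1,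
        r.add _ (o.dd ha (pow_mem hq n)).1 _ (o.ZE z1), r.zero (o.ZE z1) (zH z1), ih]
      push_cast; ring
  obtain ⟨n, hn⟩ : ∃ n : ℕ, χ ⁅a * z * a⁻¹, q ^ n⁆ = χ (a * z * a⁻¹) :=
    ⟨(χ (a * z * a⁻¹) / χ ⁅a * z * a⁻¹, q⁆).val, by rw [lin, ZMod.natCast_zmod_val]; field_simp⟩
  have ht := pow_mem hq n
  have d1 := (o.dd ha ht).1
  have := o.tan hb (mul_mem (o.QA ht) ha) (by
    rw [show q ^ n * a * z * (q ^ n * a)⁻¹ = q ^ n * (a * z * a⁻¹) * (q ^ n)⁻¹ by group, conj_eq]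
    exact r.mem (mul_mem (inv_mem d1) (o.vE ha)) (by rw [r.add _ (inv_mem d1) _ (o.vE ha), r.inv d1, hn]; ring))
  exact h ((mul_mem_cancel_left (o.QB ht)).1 ((mul_mem_cancel_left (inv_mem h')).1 this))

theorem extS (hb : b ∈ F.A E) (h' : b ∈ nz (zpowers z)) : ∃ g ∈ nz Q, Agree E g b := by
  obtain ⟨a, ha, h⟩ := SetLike.not_le_iff_exists.1 o.nB
  have r := o.xq
  have n0 : F.N E ≤ nz (E ⊓ Q) := fun s hs => mem_nz_inf hs.2 (r.nQ hs.1)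
  obtain ⟨g, hg, ag⟩ := ext_chain o.sat o.ess.fn
    (fun i => match i with | 0 => E | 1 => E ⊓ Q | _ + 2 => zpowers z) 2 rfl hb
    (fun i hi => by
      interval_cases i
      exacts [hb.1, o.nz0 hb h', h'])
    (fun i hi => by
      interval_cases i
      exacts [inf_le_left, o.Z0])
    (fun i hi => by
      interval_cases i
      · exact fun s hs => mem_stab_of_card r.pg o.le inf_le_left o.cE.le hs.1 (n0 hs) hs.2
      · have e := r.sup (o.le (o.vE ha)) (o.out a ha h)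
        exact fun s hs => (stab_iff o.Z0).2 fun x hx => comm_symm (cm_gen (e.le.trans r.nZ)
          (fun u hu => r.qc hx.2 hu) (o.cm.comm hx.1 (o.vE ha) ▸ one_mem _) s (e.ge hs.1)))
    (inf_le_left.trans r.cZ')
  rw [o.eN] at hg
  exact ⟨g, r.nzQ (o.le (o.vE ha)) (o.eC ha h ▸ o.lt0) hg.1 ((ag.mono o.ZE).mem_nz h'), ag⟩

section line
variable (h1 : zpowers z ≤ L) (h2 : L ≤ E ⊓ Q) (c : Nat.card L = p * p)
  (n : ∀ b ∈ F.A E, b ∈ nz (zpowers z) → b ∈ nz L)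
include h1 h2 c n

theorem cP (ha : a ∈ F.A E) (hb : b ∈ F.A E) :
    Nat.card (zpowers (b * z * b⁻¹) ⊔ cj a L : Subgroup Γ) ≤ p * p * p := by
  rw [sup_comm, ← c, ← card_cj a L]
  exact o.cs (o.cjE ha (h2.trans inf_le_left)) (o.vE hb)

theorem vP : a * z * a⁻¹ ∈ cj a L := conj_mem_cj a (h1 (mem_zpowers z))

theorem plane (ha : a ∈ F.A E) (h : a ∉ nz (zpowers z)) (hg : g ∈ F.A E) (h' : g ∉ nz (zpowers z))
    (hw : g * z * g⁻¹ ∈ zpowers z ⊔ cj a L) : cj g L ≤ zpowers z ⊔ cj a L := by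
  obtain ⟨s, hs, hb⟩ := o.so ha h hg h'
  have hA := mul_mem (inv_mem ha) (mul_mem (o.QA hs) hg)
  have PE : zpowers z ⊔ cj a L ≤ E := sup_le o.ZE (o.cjE ha (h2.trans inf_le_left))
  have e := eq_sup_of_card (o.pE.to_le PE) inf_le_left (card_le_inf PE inf_le_left o.cE.le) hw
    fun e => o.out g hg h' e.2.2
  have hs' : s ∈ nz (zpowers z ⊔ cj a L) := nz_of_comm fun y hy => cm_gen (e.le.trans (le_nz_self _))
    (fun u hu => mem_sup_left (o.xq.qc hs hu.2.2)) (by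
      have := conj_mem_cj a (h1 (conj_mem_of_mem_nz hb (mem_zpowers z)))
      convert mul_mem (mem_sup_right this) (inv_mem hw) using 1
      simp only [commutatorElement_def]; group) y (e.ge hy)
  rw [← cj_eq_of_mem_nz (inv_mem hs'), ← cj_le_iff, cj_cj, show s * g = a * (a⁻¹ * (s * g)) by group,
    ← cj_cj a, cj_eq_of_mem_nz (n _ hA hb)]
  exact le_sup_right

theorem exu (ha : a ∈ F.A E) (h : a ∉ nz (zpowers z)) : ∃ u ∈ cj a L ⊓ (E ⊓ Q), u ∉ zpowers z := by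
  have := card_le_inf (o.cjE ha (h2.trans inf_le_left)) inf_le_left o.cE.le
  rw [card_cj, c] at this
  obtain ⟨u, hu, hu'⟩ := exi_of_card (H := ⊥) ((card_bot.trans_lt hp.out.one_lt).trans_le
    (Nat.le_of_mul_le_mul_right this hp.out.pos))
  exact ⟨u, hu, fun e => h (by simpa using inv_mem (o.tan ha (one_mem _) (by
    simpa using cj_mono a h2 (zpowers_le.2 hu.1 (mem_zpowers_of_ne_one o.xq.ge.pow e hu')))))⟩

theorem meet (ha : a ∈ F.A E) (h : a ∉ nz (zpowers z)) : L ≤ zpowers z ⊔ cj a L := by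
  obtain ⟨u, hu, hu'⟩ := o.exu h1 h2 c n ha h
  obtain ⟨t, ht, e⟩ := o.dual ha h hu.2
  have tE : t ∉ E := fun f => hu' (by simpa [o.cm.comm (o.vE ha) f] using e)
  have hc := mul_mem (o.QA ht) ha
  have PE : zpowers z ⊔ cj a L ≤ E := sup_le o.ZE (o.cjE ha (h2.trans inf_le_left))
  have e1 : t * a * z * (t * a)⁻¹ ∈ zpowers z ⊔ cj a L := by
    rw [show t * a * z * (t * a)⁻¹ = t * (a * z * a⁻¹) * t⁻¹ by group, conj_eq]
    exact mul_mem ((mul_mem_cancel_right (mem_sup_right hu.1)).1 (mem_sup_left e))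
      (mem_sup_right (o.vP h1 h2 c n))
  have e2 := eq_sup_of_card (o.pE.to_le PE) le_sup_right (by
    simpa [card_cj, c] using o.cP h1 h2 c n ha (one_mem _)) e1 fun f =>
      o.conjB ha h (o.QN ht) tE (mul_assoc a⁻¹ t a ▸ o.tan ha hc (cj_mono a h2 f))
  have e3 : zpowers z ⊔ cj ((t * a)⁻¹ * a) L = cj (t * a)⁻¹ (zpowers z ⊔ cj a L) := by
    rw [← e2, cj_sup, cj_cj, cj_zpowers, sup_comm]; congr 2; group
  have := o.plane h1 h2 c n (mul_mem (inv_mem hc) ha) (by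
    simpa [mul_assoc] using o.conjB ha h (inv_mem (o.QN ht)) (mt inv_mem_iff.1 tE)) (inv_mem hc)
    (fun f => h ((mul_mem_cancel_left (o.QB ht)).1 (inv_mem_iff.1 f)))
    (e3 ▸ conj_mem_cj _ (mem_sup_left (mem_zpowers z)))
  rwa [e3, cj_le_cj] at this

theorem no_line : False := by
  obtain ⟨a, ha, h⟩ := SetLike.not_le_iff_exists.1 o.nB
  obtain ⟨u, hu, hu'⟩ := o.exu h1 h2 c n ha h
  have r := o.xq
  have vP := o.vP (a := a) h1 h2 c n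
  have PE : zpowers z ⊔ cj a L ≤ E := sup_le o.ZE (o.cjE ha (h2.trans inf_le_left))
  have c1 : Nat.card (zpowers z ⊔ cj a L : Subgroup Γ) ≤ p * p * p := by
    simpa using o.cP h1 h2 c n ha (one_mem _)
  have c2 := lt_card (o.pE.to_le PE) (lt_of_le_not_ge (inf_le_left (b := E ⊓ Q))
    fun e => o.out a ha h (e (mem_sup_right vP)).2.2)
  have e1 := eq_of_le_of_card_le (le_inf (o.meet h1 h2 c n ha h) h2)
    (c ▸ Nat.le_of_mul_le_mul_right (c2.trans c1) hp.out.pos)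
  have nL : Q ≤ nz L := fun q hq => nz_of_comm fun y hy => h1 (r.qc hq (h2 hy).2)
  obtain ⟨s, hs, s1⟩ := Set.not_subset.1 fun e : (Q : Set Γ) ⊆ cz (zpowers u) ∪ cmSub (a * z * a⁻¹) Q L nL =>
    (SubgroupClass.subset_union.1 e).elim (fun e => hu' (r.zQ ⟨hu.2.2, zpowers_le.1 (le_cz_comm.1 e)⟩))
      fun e => by
        have := card_le_of_le (show E ⊓ Q ≤ L from fun x hx => by
          obtain ⟨q, hq, f⟩ := o.dual ha h hx
          exact (mul_mem_cancel_left (inv_mem (e hq).2)).1 (h1 f))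
        rw [o.cards.2, c] at this
        nlinarith [hp.out.one_lt, Nat.mul_pos hp.out.pos hp.out.pos]
  have s2 : ⁅s, u⁆ ≠ 1 := fun e => s1 (.inl (cz_of_one e))
  have sA := mul_mem (o.QA hs) ha
  have m := cj_mono a (o.meet h1 h2 c n (mul_mem (inv_mem ha) sA)
    (mul_assoc a⁻¹ s a ▸ o.conjB ha h (o.QN hs) fun e => s2 (o.cm.comm e hu.2.1)))
  rw [cj_sup, cj_cj, mul_inv_cancel_left, cj_zpowers] at m
  have e2 := eq_of_le_of_card_le (sup_le (zpowers_le.2 (zpowers_le.2 (mul_mem (mem_sup_right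
    (cj_cj s a L ▸ conj_mem_cj s hu.1)) (inv_mem (m hu.1)))
      (mem_zpowers_of_ne_one r.ge.pow (r.qc hs hu.2.2) s2))) m) ((o.cP h1 h2 c n sA ha).trans
      ((Nat.mul_le_mul_right p (c.ge.trans (card_le_of_le e1.le))).trans c2))
  refine s1 (.inr ⟨hs, e1.ge ⟨?_, o.dd ha hs⟩⟩)
  have := e2.ge (mem_sup_right (o.vP (a := s * a) h1 h2 c n))
  rw [show s * a * z * (s * a)⁻¹ = s * (a * z * a⁻¹) * s⁻¹ by group, conj_eq] at this
  exact (Subgroup.inv_mem_iff _).1 ((mul_mem_cancel_right (mem_sup_right vP)).1 this)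

end line

theorem pwQ : ∀ x ∈ Q, x ^ p = 1 := by
  by_contra! hn
  obtain ⟨x, hx, hx'⟩ := hn
  have r := o.xq
  obtain ⟨O, hO⟩ := r.exO
  have OQ : O ≤ Q := fun y hy => ((hO y).1 hy).1
  have EO : E ⊓ Q ≤ O := fun y hy => (hO y).2 ⟨hy.2, o.pw hy.1⟩
  have nO : nz Q ≤ nz O := fun g hg => mem_nz_of_conj_mem fun y hy =>
    (hO _).2 ⟨conj_mem_of_mem_nz hg (OQ hy), by rw [conj_pow, ((hO y).1 hy).2]; simp⟩
  have c1 : Nat.card Q = Nat.card O * p := le_antisymm ((card_le_of_le fun y hy => by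
    obtain ⟨n, hn⟩ := adj_pow (H := ⊥) (r.pQ.to_le r.ZQ) bot_le (by simp [r.cZ]) (r.ge.pw x hx) hx'
      (r.ge.pw y hy)
    refine (mul_mem_cancel_right (mem_sup_right (npow_mem_zpowers x n))).1 (mem_sup_left
      ((hO _).2 ⟨mul_mem hy (pow_mem hx n), ?_⟩))
    rwa [r.pw_mul hy (pow_mem hx n), ← pow_mul, mul_comm n, pow_mul]).trans
      (card_zp_le (X := ⊥) .of_bot (nO (le_nz_self Q hx)) (EO (o.Z0 (r.ge.pw x hx)))))
    (lt_card r.pQ (lt_of_le_not_ge OQ fun e => hx' ((hO x).1 (e hx)).2))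
  have l : Q ⊓ cz O ≤ E ⊓ Q := le_inf ((inf_le_inf_left _ (cz_anti EO)).trans o.mx) inf_le_left
  refine o.no_line (le_inf r.ZQ (r.Zc.trans (cz_anti (OQ.trans r.QS)))) l
    (Nat.eq_of_mul_eq_mul_right (Nat.card_pos (α := O)) (by rw [r.dual (o.Z0.trans EO) OQ, c1]; ring))
    fun b hb h => ?_
  obtain ⟨g, hg, ag⟩ := o.extS hb h
  exact (ag.mono (l.trans inf_le_left)).symm.mem_nz (mem_nz_inf hg (mem_nz_cz (nO hg)))

theorem typeA : TA p F.S := by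
  obtain ⟨a, ha, h⟩ := SetLike.not_le_iff_exists.1 o.nB
  exact o.xq.typeA o.cards.1 o.pwQ (o.le (o.vE ha)) o.pv (fun x hx => o.cm.comm (o.vE ha) (o.dd ha hx).1)
    (fun x hx y hy => o.cm.comm (o.dd ha hx).1 (o.dd ha hy).1) (o.eC ha h ▸ o.lt0)
    (by rw [o.eC ha h, o.cards.1, o.cards.2]; exact le_of_eq (by ring))

end E3

end XE
end H24
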