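import Cfsg.Agent.H24.XE3
import Cfsg.Agent.H11.SUMat
import Cfsg.Agent.H11.Pfaff

/-! Sylow subgroups of `SL₄(p)` and `SU₄(p)`. -/

set_option autoImplicit false
set_option linter.unusedSectionVars false
set_option linter.unnecessarySeqFocus false

namespace H24
namespace XE
open Subgroup H25 H4 H4.G3
open scoped commutatorElement MatrixGroups Matrix

variable {p : ℕ} [hp : Fact p.Prime]

theorem syl_of {G G' : Type*} [Group G] [Group G'] [Finite G'] {H K : Subgroup G} (hK : K ≤ H) (e : H ≃* G')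
    (c : Nat.card K = p ^ 6) {m : ℕ} (hm : Nat.card G' ∣ p ^ 6 * m) (h : ¬ p ∣ m) :
    ∃ P : Sylow p G', Nonempty (K ≃* P) := by
  let f := (subgroupOfEquivOfLe hK).symm.trans (e.subgroupMap (K.subgroupOf H))
  have c' := (Nat.card_congr f.toEquiv).symm.trans c
  obtain ⟨P, hP⟩ := (IsPGroup.of_card c').exists_le_sylow
  refine ⟨P, eq_of_le_of_card_le hP ?_ ▸ ⟨f⟩⟩
  obtain ⟨k, hk⟩ := IsPGroup.iff_card.1 P.isPGroup'
  rw [hk, c']
  exact Nat.le_of_dvd (pow_pos hp.out.pos 6) (Nat.Coprime.dvd_of_dvd_mul_right (Nat.Coprime.pow_left k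
    ((Nat.Prime.coprime_iff_not_dvd hp.out).2 h)) ((hk ▸ card_subgroup_dvd_card P.1).trans hm))

theorem nd_sub (k : ℕ) : ¬ p ∣ p ^ (k + 1) - 1 := fun h => hp.out.one_lt.ne' (Nat.dvd_one.1
  ((Nat.dvd_sub_iff_right (Nat.one_le_pow _ _ hp.out.pos) (dvd_pow_self p (by omega))).1 h))

theorem nd_add (k : ℕ) : ¬ p ∣ p ^ (k + 1) + 1 := fun h => hp.out.one_lt.ne' (Nat.dvd_one.1
  ((Nat.dvd_add_right (dvd_pow_self p (by omega))).1 h))

variable {K : Type*} [Field K]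

/-- unitriangular matrices -/
def uu (a b c d e f : K) : SL(4, K) :=
  ⟨!![1, a, d, f; 0, 1, b, e; 0, 0, 1, c; 0, 0, 0, 1], by
    simp [Matrix.det_succ_column_zero, Fin.sum_univ_succ, Fin.succAbove]⟩

theorem uu_mul (a b c d e f a' b' c' d' e' f' : K) : uu a b c d e f * uu a' b' c' d' e' f' =
    uu (a + a') (b + b') (c + c') (d + a * b' + d') (e + b * c' + e') (f + a * e' + d * c' + f') := by
  apply Subtype.ext
  rw [Matrix.SpecialLinearGroup.coe_mul]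
  ext i j
  fin_cases i <;> fin_cases j <;> simp [uu, Matrix.mul_apply, Fin.sum_univ_succ] <;> ring

theorem uu_one : uu (0 : K) 0 0 0 0 0 = 1 := by
  apply Subtype.ext
  ext i j
  fin_cases i <;> fin_cases j <;> simp [uu]

theorem uu_comm (a b c d e f a' b' c' d' e' f' : K) : ⁅uu a b c d e f, uu a' b' c' d' e' f'⁆ =
    uu 0 0 0 (a * b' - a' * b) (b * c' - b' * c)
      (a * e' + d * c' - a' * e - d' * c - (a * b' - a' * b) * (c + c')) := by
  rw [commutatorElement_def, mul_inv_eq_iff_eq_mul, mul_inv_eq_iff_eq_mul, uu_mul, uu_mul, uu_mul]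
  congr 1 <;> ring

theorem uu_pow {a b c d e f : K} (h1 : a * b = 0) (h2 : b * c = 0) (h3 : a * e + d * c = 0) (n : ℕ) :
    uu a b c d e f ^ n = uu (n * a) (n * b) (n * c) (n * d) (n * e) (n * f) := by
  induction n with
  | zero => simp [uu_one]
  | succ n ih =>
    rw [pow_succ, ih, uu_mul]
    push_cast
    congr 1
    exacts [by ring, by ring, by ring, by linear_combination n * h1, by linear_combination n * h2,
      by linear_combination n * h3]

theorem uu_zpow (f : K) (n : ℤ) : uu 0 0 0 0 0 f ^ n = uu 0 0 0 0 0 (n * f) := by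
  obtain ⟨m, rfl | rfl⟩ := n.eq_nat_or_neg
  · simpa using uu_pow (a := 0) (b := 0) (c := 0) (d := 0) (e := 0) (f := f) (by simp) (by simp) (by simp) m
  · rw [zpow_neg, zpow_natCast, uu_pow (by simp) (by simp) (by simp), inv_eq_iff_mul_eq_one, uu_mul]
    simp [uu_one]

theorem ja_model [CharP K p] (hp2 : p ≠ 2) {θ : K} {e : ℤ} (h : θ * θ = -e) (h0 : θ ≠ 0) :
    JA p e (uu 1 0 (-1) 0 0 0) (uu θ 0 θ 0 0 0) (uu 0 θ 0 0 0 0) ∧
      ⁅uu (1 : K) 0 (-1) 0 0 0, ⁅uu 0 θ 0 0 0 0, uu (1 : K) 0 (-1) 0 0 0⁆⁆ ≠ 1 := by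
  have q : ∀ a b c d e f : K, a * b = 0 → b * c = 0 → a * e + d * c = 0 → uu a b c d e f ^ p = 1 :=
    fun a b c d e f h1 h2 h3 => by rw [uu_pow h1 h2 h3]; simp [uu_one]
  refine ⟨⟨q _ _ _ _ _ _ ?_ ?_ ?_, q _ _ _ _ _ _ ?_ ?_ ?_, q _ _ _ _ _ _ ?_ ?_ ?_, ?_, ?_, ?_, ?_, ?_, ?_, ?_,
    ?_, ?_, ?_, ?_, ?_, ?_, ?_, ?_⟩, fun f => ?_⟩
  iterate 9 simp
  iterate 3 simp only [uu_comm]; exact q _ _ _ _ _ _ (by simp) (by simp) (by simp)
  iterate 3 simp [uu_comm, uu_one]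
  · simp only [uu_comm, mul_zero, zero_mul, sub_self, uu_zpow]
    congr 1
    linear_combination (2 * θ) * h
  iterate 8 simp [uu_comm, uu_one]
  rw [uu_comm, uu_comm] at f
  have := congrFun (congrFun (congrArg Subtype.val f) 0) 3
  simp [uu] at this
  refine hp2 ((Nat.prime_dvd_prime_iff_eq hp.out Nat.prime_two).1 ((CharP.cast_eq_zero_iff K p 2).1
    (mul_right_cancel₀ h0 ?_)))
  push_cast
  linear_combination -this

theorem su_model [Fintype K] (hK : Fintype.card K = p ^ 2) {θ : K} (h : θ ^ p = -θ)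
    (c : Nat.card (pc (lA (uu 1 0 (-1) 0 0 0) (uu θ 0 θ 0 0 0) (uu 0 θ 0 0 0 0))) = p ^ 6) :
    ∃ P : Sylow p (Cfsg.SU 4 K p),
      Nonempty (pc (lA (uu 1 0 (-1) 0 0 0) (uu θ 0 θ 0 0 0) (uu 0 θ 0 0 0 0)) ≃* P) := by
  have w1 : H11.frob hK θ = -θ := h
  obtain ⟨g0⟩ := H11.nonempty_suMat_equiv hK (M := !![0, 0, 0, 1; 0, 0, 1, 0; 0, 1, 0, 0; 1, 0, 0, 0])
    (by ext i j; fin_cases i <;> fin_cases j <;> simp [-H11.frob_apply])
    (by simp [Matrix.det_succ_column_zero, Fin.sum_univ_succ, Fin.succAbove]) (Fintype.card_fin 4)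
  have m : ∀ a b c : K, a * b = 0 → b * c = 0 → H11.frob hK a = -c → H11.frob hK b = -b → H11.frob hK c = -a →
      uu a b c 0 0 0 ∈ H11.suMat hK !![0, 0, 0, 1; 0, 0, 1, 0; 0, 1, 0, 0; 1, 0, 0, 0] :=
    fun a b c h1 h2 h3 h4 h5 => by
      rw [H11.mem_suMat]; ext i j
      fin_cases i <;> fin_cases j <;>
        simp [-H11.frob_apply, uu, Matrix.mul_apply, Fin.sum_univ_succ, h3, h4, h5, h2, mul_comm b a, h1]
  have m1 := m 1 0 (-1) (by simp) (by simp) (by simp) (by simp [-H11.frob_apply]) (by simp [-H11.frob_apply])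
  have m2 := m θ 0 θ (by simp) (by simp) w1 (by simp [-H11.frob_apply]) w1
  have m3 := m 0 θ 0 (by simp) (by simp) (by simp [-H11.frob_apply]) w1 (by simp [-H11.frob_apply])
  have cm : ∀ {H : Subgroup SL(4, K)} {a b}, a ∈ H → b ∈ H → ⁅a, b⁆ ∈ H := fun ha hb =>
    comm_mem_l ha (le_nz_self _ hb)
  refine syl_of (pc_le.2 (by
    simp only [List.forall_mem_cons, List.not_mem_nil, false_imp_iff, imp_true_iff, and_true]
    exact ⟨m1, m2, m3, cm m3 m1, cm m3 m2, cm m1 (cm m3 m1)⟩)) g0 c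
    (m := (p ^ 1 + 1) * (p ^ 2 - 1) * (p ^ 3 + 1) * (p ^ 4 - 1)) ?_
    (hp.out.not_dvd_mul (hp.out.not_dvd_mul (hp.out.not_dvd_mul (nd_add 0) (nd_sub 1)) (nd_add 2)) (nd_sub 3))
  have := H11.card_SU_mul hK (n := 4) (by norm_num)
  rw [H11.card_GU hK] at this
  simp only [Finset.prod_range_succ, Finset.prod_range_zero, show Even 0 by decide,
    show ¬ Even 1 by decide, show Even 2 by decide, show ¬ Even 3 by decide, if_true, if_false,
    one_mul] at this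
  exact Dvd.intro_left _ this

open QuadraticAlgebra in
theorem TA.out {Γ : Type*} [Group Γ] [Finite Γ] {S : Subgroup Γ} (hp2 : p ≠ 2) (h : TA p S) :
    (∃ P : Sylow p SL(4, ZMod p), Nonempty (S ≃* P)) ∨
      ∃ (K : Type) (_ : Field K) (_ : Fintype K), Fintype.card K = p ^ 2 ∧
        ∃ P : Sylow p (Cfsg.SU 4 K p), Nonempty (S ≃* P) := by
  obtain ⟨e, x, y, v, j, h1, he, rfl⟩ := h
  by_cases hs : ∃ θ : ZMod p, θ ^ 2 = -e + 0 * θ
  · obtain ⟨θ, hθ⟩ := hs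
    obtain ⟨j', h2⟩ := ja_model (θ := θ) (e := e) hp2 (by linear_combination hθ) (by
      rintro rfl; exact he (by linear_combination hθ))
    obtain ⟨f⟩ := j.equiv j' h1 h2 he
    obtain ⟨P, ⟨g⟩⟩ := syl_of le_top topEquiv (j'.card h2 he) (by rw [H11.card_sl_four, ZMod.card])
      (hp.out.not_dvd_mul (hp.out.not_dvd_mul (nd_sub 1) (nd_sub 2)) (nd_sub 3))
    exact .inl ⟨P, ⟨f.trans g⟩⟩
  haveI : Fact (∀ θ : ZMod p, θ ^ 2 ≠ -e + 0 * θ) := ⟨fun θ h => hs ⟨θ, h⟩⟩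
  let K := QuadraticAlgebra (ZMod p) (-e) 0
  have hK : Fintype.card K = p ^ 2 := by rw [H11.card_quadAlg, ZMod.card]
  haveI : CharP K p := charP_of_injective_algebraMap (algebraMap (ZMod p) K).injective p
  have w1 : (ω : K) ^ p = -ω := by
    have := H11.quadAlg_pow_card (ω : K)
    rw [ZMod.card] at this
    rw [this]; ext <;> simp
  obtain ⟨j', h2⟩ := ja_model (K := K) (θ := ω) (e := e) hp2
    (omega_mul_omega_eq_algebraMap.trans (by rw [map_zero, zero_mul, add_zero, map_neg, map_intCast]))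
    (fun h => by simpa using congrArg QuadraticAlgebra.im h)
  obtain ⟨f⟩ := j.equiv j' h1 h2 he
  obtain ⟨P, ⟨g⟩⟩ := su_model hK w1 (j'.card h2 he)
  exact .inr ⟨K, inferInstance, inferInstance, hK, P, ⟨f.trans g⟩⟩

end XE
end H24
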