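import Cfsg.Agent.H24.XE7
import Cfsg.Agent.H8.EAG2b

/-! Sylow subgroups of `G₂(p)`. -/

set_option autoImplicit false
set_option linter.unusedSectionVars false
set_option linter.unnecessarySeqFocus false

namespace H24
namespace XE
open Subgroup H25 H4 H4.G3 Cfsg.Lie
open scoped commutatorElement MatrixGroups Matrix

variable {p : ℕ} [hp : Fact p.Prime]

abbrev M8 := Matrix (Fin 8) (Fin 8) ℤ

/-- unipotent of degree three -/
abbrev U3 (A : M8) : Prop := (A - 1) * (A - 1) * (A - 1) = 0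

/-- reduction modulo `p` -/
def gm (p : ℕ) {A : M8} (h : U3 A) : GL (Fin 8) (ZMod p) :=
  Units.map (Int.castRingHom (ZMod p)).mapMatrix.toMonoidHom
    ⟨A, 1 - (A - 1) + (A - 1) * (A - 1), by rw [← sub_eq_zero, ← h]; noncomm_ring,
      by rw [← sub_eq_zero, ← h]; noncomm_ring⟩

variable {A B C : M8} {a : U3 A} {b : U3 B} {c : U3 C}

theorem gm_mul (h : A * B = C) : gm p a * gm p b = gm p c := by
  rw [gm, gm, gm, ← map_mul]; exact congrArg _ (Units.ext h)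

theorem gm_comm (c : U3 C) (h : A * B = C * B * A) : ⁅gm p a, gm p b⁆ = gm p c := by
  rw [commutatorElement_def, mul_inv_eq_iff_eq_mul, mul_inv_eq_iff_eq_mul, gm, gm, gm, ← map_mul, ← map_mul,
    ← map_mul]
  exact congrArg _ (Units.ext h)

theorem gm_one (h : A * B = B * A) : ⁅gm p a, gm p b⁆ = 1 := by
  rw [commutatorElement_eq_one_iff_mul_comm, gm, gm, ← map_mul, ← map_mul]
  exact congrArg _ (Units.ext h)

theorem gm_pow (h3 : 3 ≤ p) : gm p a ^ p = 1 := by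
  refine Units.ext ?_
  let φ := (Int.castRingHom (ZMod p)).mapMatrix (m := Fin 8)
  have e : (φ A - 1) ^ 3 = 0 := by
    rw [← map_one φ, ← map_sub, ← map_pow, pow_three', a, map_zero]
  show (gm p a ^ p).1 = 1
  rw [Units.val_pow_eq_pow_val, show (gm p a).1 = 1 + (φ A - 1) from (add_sub_cancel _ _).symm,
    add_pow_char_of_commute _ (Commute.one_left _), one_pow, pow_eq_zero_of_le h3 e, add_zero]

def gs : M8 := !![1, 0, 0, 0, 0, -1, 0, 0; 0, 1, 0, 0, 0, 0, 0, 0; 1, 0, 1, 0, 0, -1, 0, -1; 0, 0, 0, 1, 0, 0, 0, 0;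
  0, 0, 0, 1, 1, 0, 0, 0; 0, 0, 0, 0, 0, 1, 0, 0; 0, -1, 0, 0, 0, 0, 1, 0; 0, 0, 0, 0, 0, 1, 0, 1]
def g1 : M8 := !![1, 0, 0, 0, 0, 0, 0, 0; 0, 1, 1, 0, 0, 0, 0, 0; 0, 0, 1, 0, 0, 0, 0, 0; 0, 0, 0, 1, 0, 0, 0, 0;
  0, 0, 0, 0, 1, 0, 0, 0; 0, 0, 0, 0, -1, 1, 0, 0; 0, 0, 0, 0, 0, 0, 1, 0; 0, 0, 0, 0, 0, 0, 0, 1]
def g2 : M8 := !![1, 0, 0, -1, 1, 0, 0, 0; -1, 1, 0, 0, -1, -1, 0, 1; 0, 0, 1, -1, 1, 0, 0, 0; 0, 0, 0, 1, 0, 0, 0, 0;
  0, 0, 0, 0, 1, 0, 0, 0; 0, 0, 0, 1, 0, 1, 0, 0; 1, 0, -1, 0, 1, 1, 1, -1; 0, 0, 0, 1, -1, 0, 0, 1]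
def g3 : M8 := !![1, 0, 0, -2, 0, 0, 0, 0; 0, 1, 0, 3, 0, -2, 0, 0; 0, 0, 1, -6, 2, 0, 0, 0; 0, 0, 0, 1, 0, 0, 0, 0;
  0, 0, 0, 0, 1, 0, 0, 0; 0, 0, 0, 0, 0, 1, 0, 0; 2, 0, 0, -4, -3, 6, 1, -2; 0, 0, 0, 2, 0, 0, 0, 1]
def g4 : M8 := !![1, 0, 0, 0, 0, 0, 0, 0; 0, 1, 0, 0, 0, 0, 0, 0; 0, 0, 1, -6, 0, 0, 0, 0; 0, 0, 0, 1, 0, 0, 0, 0;
  0, 0, 0, 0, 1, 0, 0, 0; 0, 0, 0, 0, 0, 1, 0, 0; 0, 0, 0, 0, 0, 6, 1, 0; 0, 0, 0, 0, 0, 0, 0, 1]
def gw (n : ℤ) : M8 := !![1, 0, 0, 0, 0, 0, 0, 0; 0, 1, 0, -n, 0, 0, 0, 0; 0, 0, 1, 0, 0, 0, 0, 0;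
  0, 0, 0, 1, 0, 0, 0, 0; 0, 0, 0, 0, 1, 0, 0, 0; 0, 0, 0, 0, 0, 1, 0, 0; 0, 0, 0, 0, n, 0, 1, 0;
  0, 0, 0, 0, 0, 0, 0, 1]

theorem us : U3 gs := by decide +kernel
theorem u1 : U3 g1 := by decide +kernel
theorem u2 : U3 g2 := by decide +kernel
theorem u3 : U3 g3 := by decide +kernel
theorem u4 : U3 g4 := by decide +kernel
theorem w1 : U3 (gw 1) := by decide +kernel
theorem w2 : U3 (gw 2) := by decide +kernel
theorem w4 : U3 (gw 4) := by decide +kernel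
theorem w6 : U3 (gw 6) := by decide +kernel
theorem w6' : U3 (gw (-6)) := by decide +kernel
theorem w0 : U3 1 := by decide +kernel

theorem jg_model (h5 : 5 ≤ p) :
    ∃ c, JG p c (gm p us) (gm p u1) ∧ ⁅gm p u1, ⁅gm p us, ⁅gm p us, ⁅gm p us, gm p u1⁆⁆⁆⁆ ≠ 1 := by
  have h3 : 3 ≤ p := by omega
  have h6 : ((6 : ℕ) : ZMod p) ≠ 0 := fun h => by
    have := (ZMod.natCast_eq_zero_iff 6 p).1 h
    have h' := Nat.le_of_dvd (by norm_num) this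
    have := hp.out
    interval_cases p <;> first | omega | norm_num at this
  obtain ⟨c, hc⟩ := ZMod.intCast_surjective (((6 : ℕ) : ZMod p)⁻¹)
  have e2 : ⁅gm p us, gm p u1⁆ = gm p u2 := gm_comm _ (by decide +kernel)
  have e3 : ⁅gm p us, gm p u2⁆ = gm p u3 := gm_comm _ (by decide +kernel)
  have e4 : ⁅gm p us, gm p u3⁆ = gm p u4 := gm_comm _ (by decide +kernel)
  have e5 : ⁅gm p u1, gm p u4⁆ = gm p w6 := gm_comm _ (by decide +kernel)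
  have e6 : gm p w6 = gm p w1 ^ ((6 : ℕ) : ℤ) := by
    have f2 : gm p w1 * gm p w1 = gm p w2 := gm_mul (by decide +kernel)
    have f4 : gm p w2 * gm p w2 = gm p w4 := gm_mul (by decide +kernel)
    have f6 : gm p w4 * gm p w2 = gm p w6 := gm_mul (by decide +kernel)
    rw [← f6, ← f4, ← f2, zpow_natCast]; simp only [pow_succ, pow_zero, one_mul, mul_assoc]
  refine ⟨c, ?_, ?_⟩
  · constructor <;> try simp only [e2, e3, e4, e5]
    iterate 6 exact gm_pow h3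
    · exact gm_one (by decide +kernel)
    · rw [gm_comm w1 (by decide +kernel), e6, ← zpow_mul]
      exact ((H4.zpow_congr (gm_pow h3) (a' := 1) (by
        rw [Int.cast_mul, hc, Int.cast_natCast, mul_inv_cancel₀ h6, Int.cast_one])).trans (zpow_one _)).symm
    · exact gm_comm _ (by decide +kernel)
    · rw [gm_comm w6' (by decide +kernel)]
      exact eq_inv_of_mul_eq_one_left ((gm_mul (c := w0) (by decide +kernel)).trans (Units.ext (map_one _)))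
    iterate 7 exact gm_one (by decide +kernel)
  · rw [e2, e3, e4, e5]
    intro h
    have := congrArg (fun g : GL (Fin 8) (ZMod p) => g.1 6 4) h
    exact h6 (by simpa [gm, gw] using this)

theorem gs_mem : gm p us ∈ G2 (ZMod p) := fun x y => by
  have e : ∀ x : Fin 8 → ZMod p, Units.coeHom _ (gm p us) *ᵥ x = H8.xvL ![0, 1, 0] x := fun x => by
    apply H8.fin8_ext <;>
      simp [gm, gs, H8.xvL_apply, Matrix.mulVec, dotProduct, Fin.sum_univ_eight] <;> ring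
  rw [e, e, e]
  exact (H8.xv ![0, 1, 0]).2 x y

theorem g1_mem : gm p u1 ∈ G2 (ZMod p) := fun x y => by
  have e : ∀ x : Fin 8 → ZMod p, Units.coeHom _ (gm p u1) *ᵥ x =
      ![x 0, x 1 + x 2, x 2, x 3, x 4, x 5 - x 4, x 6, x 7] := fun x => by
    apply H8.fin8_ext <;> simp [gm, g1, Matrix.mulVec, dotProduct, Fin.sum_univ_eight] <;> ring
  rw [e, e, e]
  apply H8.fin8_ext <;> simp [H8.zornMul_eq] <;> ring

theorem card_G2_dvd : Nat.card (G2 (ZMod p)) ∣ p ^ 6 * ((p ^ 2 - 1) * (p ^ 3 - 1) * (p ^ 3 + 1)) := by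
  have e1 := (MulAction.stabilizer (H8.autZ (ZMod p)) (H8.e0 (ZMod p))).card_mul_index
  rw [MulAction.index_stabilizer, ← Nat.card_coe_set_eq,
    Nat.card_congr (Equiv.subtypeEquivRight fun _ => H8.mem_orbit_iff_idem), H8.card_idem, ZMod.card] at e1
  have e2 := card_dvd_of_injective _ (H8.stabSL_inj (F := ZMod p))
  have e3 : Nat.card SL(3, ZMod p) = p ^ 3 * ((p ^ 2 - 1) * (p ^ 3 - 1)) := by
    have h := H11.card_units_mul_card_sl (ι := Fin 3) (F := ZMod p)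
    have h1 := hp.out.one_lt
    rw [Matrix.card_GL_field, Fin.prod_univ_three, ZMod.card] at h
    refine Nat.eq_of_mul_eq_mul_left (show 0 < p - 1 by omega) (h.trans ?_)
    have a1 : 1 ≤ p ^ 2 := Nat.one_le_pow _ _ (by omega)
    have a2 : 1 ≤ p ^ 3 := Nat.one_le_pow _ _ (by omega)
    have b1 : p ^ 1 ≤ p ^ 3 := Nat.pow_le_pow_right (by omega) (by omega)
    have b2 : p ^ 2 ≤ p ^ 3 := Nat.pow_le_pow_right (by omega) (by omega)
    simp only [Fin.val_zero, Fin.val_one, Fin.val_two, pow_zero]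
    zify [a1, a2, b1, b2, h1.le]
    ring
  rw [Nat.card_congr (H8.g2Equiv _).toEquiv, ← e1]
  exact (Nat.mul_dvd_mul_right (e3 ▸ e2) _).trans (dvd_of_eq (by ring))

theorem TG.out {Γ : Type*} [Group Γ] [Finite Γ] {S : Subgroup Γ} (h : TG p S) :
    5 ≤ p ∧ ∃ P : Sylow p (G2 (ZMod p)), Nonempty (S ≃* P) := by
  obtain ⟨c, j', h2⟩ := jg_model h.1
  obtain ⟨s, q, j, h1, rfl⟩ := h.2 c
  obtain ⟨f⟩ := j.equiv j' h1 h2
  have cm : ∀ {a b}, a ∈ G2 (ZMod p) → b ∈ G2 (ZMod p) → ⁅a, b⁆ ∈ G2 (ZMod p) := fun ha hb =>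
    comm_mem_l ha (le_nz_self _ hb)
  obtain ⟨P, ⟨g⟩⟩ := syl_of (pc_le.2 (by
    simp only [List.forall_mem_cons, List.not_mem_nil, false_imp_iff, imp_true_iff, and_true]
    exact ⟨gs_mem, g1_mem, cm gs_mem g1_mem, cm gs_mem (cm gs_mem g1_mem),
      cm gs_mem (cm gs_mem (cm gs_mem g1_mem)), cm g1_mem (cm gs_mem (cm gs_mem (cm gs_mem g1_mem)))⟩))
    (MulEquiv.refl (G2 (ZMod p))) (j'.card h2) card_G2_dvd
    (hp.out.not_dvd_mul (hp.out.not_dvd_mul (nd_sub 1) (nd_sub 2)) (nd_add 2))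
  exact ⟨h.1, P, ⟨f.trans g⟩⟩

end XE
end H24
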